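import Cfsg.Agent.H49.Sp4Graph
import Cfsg.Agent.H55.PSpAut
import Cfsg.Agent.H55.PSpField

/-!
Automorphisms of PSp₄ in characteristic two.
-/

set_option autoImplicit false

namespace H49

namespace Sp4

open Matrix
open H48 (sf tv lagr upperSp)
open H55.Psp (ptv psmk KeepsTv conjPs fieldPs IsGood clSize)

variable {F : Type*} [Field F] [Fintype F] [CharP F 2]

local notation "ι" => (Fin 2 ⊕ Fin 2)
local notation "Sp" => Matrix.symplecticGroup (Fin 2) F

theorem tauHom_bijective : Function.Bijective (tauHom (F := F)) := by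
  have hinj : Function.Injective (tauHom (F := F)) := by
    intro g h e
    apply Subtype.ext
    have e' : (g : Matrix ι ι F).map (fun x => x ^ 2) = (h : Matrix ι ι F).map (fun x => x ^ 2) := by
      rw [← tauHom_tauHom, ← tauHom_tauHom, e]
    exact Matrix.map_injective (frobenius_inj F 2) e'
  exact ⟨hinj, Finite.injective_iff_surjective.1 hinj⟩

/-- The exceptional automorphism of Sp₄. -/
noncomputable def tauSp : MulAut (Matrix.symplecticGroup (Fin 2) F) := MulEquiv.ofBijective tauHom tauHom_bijective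

/-- The exceptional automorphism of PSp₄. -/
noncomputable def tauPs : MulAut (Cfsg.PSp 2 F) := H55.centreQuotAut tauSp

theorem tauPs_psmk (s : Sp) : tauPs (psmk s) = psmk (tauHom s) := rfl

/-- The Frobenius. -/
noncomputable def frobF : F ≃+* F := frobeniusEquiv F 2

theorem tauPs_sq : (tauPs : MulAut (Cfsg.PSp 2 F)) * tauPs = fieldPs frobF := by
  refine MulEquiv.ext fun x => ?_
  obtain ⟨s, rfl⟩ := H55.Psp.psmk_surjective x
  rw [MulAut.mul_apply, tauPs_psmk, tauPs_psmk, H55.Psp.fieldPs_psmk]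
  congr 1
  apply Subtype.ext
  rw [tauHom_tauHom]
  rfl

/-- The images of transvections. -/
def Long (x : Cfsg.PSp 2 F) : Prop :=
  ∃ (v : ι → F) (c : F), v ≠ 0 ∧ c ≠ 0 ∧ x = ptv v c

omit [Fintype F] [CharP F 2] in
theorem long_conj (g : Cfsg.PSp 2 F) {x : Cfsg.PSp 2 F} (h : Long x) : Long (g * x * g⁻¹) := by
  obtain ⟨v, c, hv, hc, rfl⟩ := h
  obtain ⟨s, rfl⟩ := H55.Psp.psmk_surjective g
  refine ⟨s • v, c, (smul_ne_zero_iff_ne s).2 hv, hc, ?_⟩
  rw [ptv, ptv, ← H48.tv_conj, map_mul, map_mul, map_inv]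

theorem lagr_ne_zero (i : Fin 2) : (lagr i : ι → F) ≠ 0 := fun e => by
  simpa [H48.lagr] using congrFun e (Sum.inl i)

/-- The base transvection. -/
def baseTv : Cfsg.PSp 2 F := ptv (lagr (0 : Fin 2)) 1

theorem exists_conj_base {x : Cfsg.PSp 2 F} (h : Long x) : ∃ g, x = g * baseTv * g⁻¹ := by
  obtain ⟨v, c, hv, hc, rfl⟩ := h
  obtain ⟨s, hs⟩ := FiniteField.isSquare_of_char_two
    (CharP.ringChar_of_prime_eq_zero Nat.prime_two (CharP.cast_eq_zero F 2)) c
  have hs0 : s ≠ 0 := fun e => hc (by rw [hs, e, mul_zero])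
  obtain ⟨g, -, hg⟩ := H48.witt_vec (lagr_ne_zero (F := F) 0) (smul_ne_zero hs0 hv)
  refine ⟨psmk g, ?_⟩
  rw [baseTv, ptv, ptv, ← map_inv, ← map_mul, ← map_mul, H48.tv_conj, hg, H48.tv_scale, mul_one, hs]

theorem long_base : Long (baseTv : Cfsg.PSp 2 F) := ⟨_, 1, lagr_ne_zero 0, one_ne_zero, rfl⟩

omit [Fintype F] [CharP F 2] in
theorem keepsTv_iff (α : MulAut (Cfsg.PSp 2 F)) : KeepsTv α ↔ ∀ x, Long x → Long (α x) := by
  constructor
  · rintro h _ ⟨v, c, hv, hc, rfl⟩
    obtain ⟨w, d, hw, hd, e⟩ := h v c hv hc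
    exact ⟨w, d, hw, hd, e⟩
  · intro h v c hv hc
    exact h _ ⟨v, c, hv, hc, rfl⟩

theorem keepsTv_of_base {α : MulAut (Cfsg.PSp 2 F)} (h : Long (α baseTv)) : KeepsTv α := by
  rw [keepsTv_iff]
  intro x hx
  obtain ⟨g, rfl⟩ := exists_conj_base hx
  rw [map_mul, map_mul, map_inv]
  exact long_conj _ h

omit [Fintype F] [CharP F 2] in
theorem keepsTv_mul {α β : MulAut (Cfsg.PSp 2 F)} (hα : KeepsTv α) (hβ : KeepsTv β) : KeepsTv (α * β) := by
  rw [keepsTv_iff] at *
  exact fun x hx => hα _ (hβ x hx)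

omit [CharP F 2] in
theorem keepsTv_inv {α : MulAut (Cfsg.PSp 2 F)} (hα : KeepsTv α) : KeepsTv α⁻¹ := by
  haveI : Finite (MulAut (Cfsg.PSp 2 F)) := Finite.of_injective _ DFunLike.coe_injective
  have hpow : ∀ n : ℕ, KeepsTv (α ^ n) := by
    intro n
    induction n with
    | zero => rw [pow_zero, keepsTv_iff]; exact fun x hx => hx
    | succ n ih => rw [pow_succ]; exact keepsTv_mul ih hα
  have e : α⁻¹ = α ^ (orderOf α - 1) := by
    refine inv_eq_of_mul_eq_one_right ?_
    rw [← pow_succ', Nat.sub_add_cancel (orderOf_pos α), pow_orderOf_eq_one]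
  rw [e]
  exact hpow _

omit [CharP F 2] in
theorem keepsTv_induced (g : Cfsg.GSp 2 F) (σ : F ≃+* F) : KeepsTv (conjPs g * fieldPs σ) := by
  intro v c hv hc
  obtain ⟨d, hd, e⟩ := H55.Psp.induced_ptv g σ v hc
  exact ⟨_, d, H55.Psp.semi_ne_zero _ σ hv, hd, e⟩

theorem tauHom_lagr (c : F) (B : {B : Matrix (Fin 2) (Fin 2) F // B.IsSymm})
    (h00 : B.1 0 0 = 0) (h11 : B.1 1 1 = 0) (h01 : B.1 0 1 = c) :
    tauHom (tv (lagr (0 : Fin 2)) c) = upperSp B := by
  have h10 : B.1 1 0 = c := (B.2.apply 0 1).trans h01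
  have h2 : (2 : F) = 0 := CharP.cast_eq_zero F 2
  apply Subtype.ext
  rw [coe_tauHom, H55.Psp.coe_upperSp]
  ext i j
  simp only [tauMat, of_apply, minorTwo, tv_apply]
  rcases i with i | i <;> rcases j with j | j <;> fin_cases i <;> fin_cases j <;>
    simp [pfst, psnd, usign, H48.lagr, h00, h11, h01, h10] <;> grind

/-- The centralisers of the mixed central elements are small. -/
theorem clSize_mixed {B : {B : Matrix (Fin 2) (Fin 2) F // B.IsSymm}} (h11 : B.1 1 1 = 0)
    (ha : B.1 0 0 ≠ 0) (hb : B.1 0 1 ≠ 0) :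
    Fintype.card F ^ 4 - 1 < clSize (psmk (upperSp B)) := by
  classical
  set a := B.1 0 0
  set b := B.1 0 1
  have h10 : B.1 1 0 = b := B.2.apply 0 1
  have h2 : (2 : F) = 0 := CharP.cast_eq_zero F 2
  set u := upperSp B with hu
  have hact : ∀ v : ι → F, u • v - v =
      Sum.elim ![a * v (Sum.inr 0) + b * v (Sum.inr 1), b * v (Sum.inr 0)] 0 := by
    intro v
    rw [H48.spSmulDef, hu, H55.Psp.coe_upperSp, fromBlocks_mulVec]
    funext k
    rcases k with k | k <;> fin_cases k <;>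
      simp [Function.comp_def, h10, h11, Matrix.mulVec, dotProduct, Fin.sum_univ_two, a, b, Matrix.vecHead, Matrix.vecTail]
  have hQ : ∀ v : ι → F, sf v (u • v - v) = a * (v (Sum.inr 0) * v (Sum.inr 0)) := by
    intro v
    rw [hact, sf_fin_two]
    simp
    linear_combination (b * v (Sum.inr 0) * v (Sum.inr 1)) * h2
  let C : Subgroup Sp := Subgroup.centralizer {u}
  have hcomm : ∀ g ∈ C, ∀ v : ι → F, u • g • v - g • v = g • (u • v - v) := by
    intro g hg v
    rw [Subgroup.mem_centralizer_singleton_iff] at hg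
    rw [smul_sub, ← mul_smul, ← mul_smul, hg]
  have hzero : ∀ g ∈ C, ∀ v : ι → F, v (Sum.inr 0) = 0 → (g • v) (Sum.inr 0) = 0 := by
    intro g hg v hv
    have h := hQ (g • v)
    rw [hcomm g hg, H48.sf_smul_smul, hQ, hv, mul_zero, mul_zero] at h
    exact mul_self_eq_zero.1 ((mul_eq_zero.1 h.symm).resolve_left ha)
  have he1 : ∀ g ∈ C, (g • (lagr 0 : ι → F)) (Sum.inr 0) = 0 ∧ (g • (lagr 0 : ι → F)) (Sum.inl 1) = 0 ∧
      (g • (lagr 0 : ι → F)) (Sum.inr 1) = 0 := by
    intro g hg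
    have hperp : ∀ v : ι → F, v (Sum.inr 0) = 0 → sf (g • (lagr 0 : ι → F)) v = 0 := fun v hv => by
      rw [H48.sf_smul_left, H48.sf_lagr, hzero _ (inv_mem hg) v hv, neg_zero]
    refine ⟨?_, ?_, ?_⟩
    · simpa [sf_fin_two] using hperp (Pi.single (Sum.inl 0) 1) (by simp)
    · simpa [sf_fin_two] using hperp (Pi.single (Sum.inr 1) 1) (by simp)
    · simpa [sf_fin_two] using hperp (Pi.single (Sum.inl 1) 1) (by simp)
  have he2 : ∀ g ∈ C, ∀ k : Fin 2, (g • (lagr 1 : ι → F)) (Sum.inr k) = 0 := by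
    intro g hg k
    have hf : u • (Pi.single (Sum.inr 0) 1 : ι → F) - Pi.single (Sum.inr 0) 1 =
        a • (lagr 0 : ι → F) + b • (lagr 1 : ι → F) := by
      rw [hact]
      funext i
      rcases i with i | i <;> fin_cases i <;> simp [H48.lagr]
    have h := congrFun (hcomm g hg (Pi.single (Sum.inr 0) 1)) (Sum.inr k)
    rw [hact, hf, smul_add, smul_comm g a, smul_comm g b] at h
    have h0 : (g • (lagr 0 : ι → F)) (Sum.inr k) = 0 := by
      fin_cases k
      exacts [(he1 g hg).1, (he1 g hg).2.2]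
    simpa [h0, hb] using h.symm
  let P₀ : Fin 2 → (ι → F) := lagr
  have hP₀ : P₀ ∈ H48.frames (Fin 2) F 2 := H48.lagr_comp_mem_frames id Function.injective_id
  have hG : Nat.card (H48.frames (Fin 2) F 2) ≤ (MulAction.stabilizer Sp P₀).index := by
    rw [MulAction.index_stabilizer, ← Nat.card_coe_set_eq]
    refine Nat.card_mono (Set.toFinite _) fun w hw => ?_
    obtain ⟨g, -, hg⟩ := H48.witt P₀ w hP₀.1 hw.1 (fun i j => (hP₀.2 i j).trans (hw.2 i j).symm)
    exact ⟨g, funext hg⟩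
  have hC : (MulAction.stabilizer C P₀).index ≤ (Fintype.card F - 1) * Fintype.card F ^ 2 := by
    rw [MulAction.index_stabilizer]
    let T : Finset (F × F × F) := (Finset.univ.erase (0 : F)) ×ˢ (Finset.univ : Finset (F × F))
    have hT : T.card = (Fintype.card F - 1) * Fintype.card F ^ 2 := by
      simp [T, Finset.card_product, sq]
    rw [← hT, ← Set.ncard_coe_finset]
    refine Set.ncard_le_ncard_of_injOn
      (fun P => (P 0 (Sum.inl 0), P 1 (Sum.inl 0), P 1 (Sum.inl 1))) ?_ ?_ (Finset.finite_toSet T)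
    · rintro _ ⟨⟨g, hg⟩, rfl⟩
      simp only [T, Finset.coe_product, Set.mem_prod, Finset.coe_erase, Set.mem_diff, Finset.coe_univ,
        Set.mem_univ, true_and, and_true, Set.mem_singleton_iff]
      intro e
      have h0 : g • (lagr 0 : ι → F) = 0 := by
        funext i
        obtain ⟨h1, h2, h3⟩ := he1 g hg
        rcases i with i | i <;> fin_cases i
        exacts [e, h2, h1, h3]
      exact (smul_ne_zero_iff_ne g).2 (lagr_ne_zero 0) h0
    · rintro _ ⟨⟨g, hg⟩, rfl⟩ _ ⟨⟨g', hg'⟩, rfl⟩ e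
      simp only [Prod.mk.injEq] at e
      funext k i
      obtain ⟨h1, h2, h3⟩ := he1 g hg
      obtain ⟨h1', h2', h3'⟩ := he1 g' hg'
      fin_cases k <;> rcases i with i | i <;> fin_cases i
      exacts [e.1, h2.trans h2'.symm, h1.trans h1'.symm, h3.trans h3'.symm, e.2.1, e.2.2,
        (he2 g hg 0).trans (he2 g' hg' 0).symm, (he2 g hg 1).trans (he2 g' hg' 1).symm]
  have hrel : (MulAction.stabilizer Sp P₀).index ≤ (MulAction.stabilizer C P₀).index * C.index := by
    have hsub : (MulAction.stabilizer Sp P₀).subgroupOf C = MulAction.stabilizer C P₀ := by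
      ext x; rfl
    rw [← hsub]
    have h := Subgroup.relIndex_mul_index (inf_le_right : MulAction.stabilizer Sp P₀ ⊓ C ≤ C)
    rw [Subgroup.inf_relIndex_right] at h
    rw [show ((MulAction.stabilizer Sp P₀).subgroupOf C).index = (MulAction.stabilizer Sp P₀).relIndex C from rfl, h]
    exact Nat.le_of_dvd (Nat.pos_of_ne_zero Subgroup.FiniteIndex.index_ne_zero)
      (Subgroup.index_dvd_of_le inf_le_left)
  have hcl : C.index = clSize (psmk u) := by
    rw [clSize, ← Subgroup.index_comap_of_surjective _ (H55.Psp.psmk_surjective (m := 2) (F := F))]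
    refine congrArg Subgroup.index (SetLike.ext fun g => ?_)
    rw [Subgroup.mem_comap, Subgroup.mem_centralizer_singleton_iff, Subgroup.mem_centralizer_singleton_iff]
    haveI := Fact.mk Nat.prime_two
    exact ⟨fun h => by rw [← map_mul, h, map_mul],
      fun h => H55.Psp.commute_of_psmk (p := 2) (by omega) (H55.Psp.upperSp_pow_char B) h⟩
  rw [← hcl]
  by_contra hnot
  have h := (hG.trans hrel).trans (Nat.mul_le_mul hC (not_lt.1 hnot))
  rw [H48.card_frames, Finset.prod_range_succ, Finset.prod_range_succ, Finset.prod_range_zero,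
    Fintype.card_fin, mul_comm ((Fintype.card F - 1) * Fintype.card F ^ 2)] at h
  simp only [pow_zero, pow_one, one_mul, Nat.sub_zero, show 2 * 2 = 4 from rfl, show 4 - 1 = 3 from rfl] at h
  set q := Fintype.card F
  have hq : 2 ≤ q := Fintype.one_lt_card
  have hpos : 0 < q ^ 4 - 1 := Nat.sub_pos_of_lt (Nat.one_lt_pow (by omega) (by omega))
  have h' := Nat.le_of_mul_le_mul_left h hpos
  have hlt : q < q ^ 2 := lt_self_pow₀ (by omega) (by omega)
  have hle : q ^ 2 ≤ q ^ 3 := Nat.pow_le_pow_right (by omega) (by omega)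
  have e : (q - 1) * q ^ 2 = q ^ 3 - q ^ 2 := by rw [Nat.sub_mul, one_mul, ← pow_succ']
  omega

/-- The elements with the class size of a transvection. -/
theorem long_or_short {x : Cfsg.PSp 2 F} (hx : IsGood 2 (Fintype.card F ^ (2 * 2) - 1) x) :
    Long x ∨ Long (tauPs⁻¹ x) := by
  haveI := Fact.mk Nat.prime_two
  obtain ⟨g, hg⟩ := H55.Psp.exists_conj_centralizes hx.2.1
  obtain ⟨y, hy⟩ := H55.Psp.psmk_surjective (g * x * g⁻¹)
  rw [← hy] at hg
  obtain ⟨B, hB, hyB⟩ := H55.Psp.exists_shape_of_centralizes (by omega) hg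
  have hgood : IsGood 2 (Fintype.card F ^ (2 * 2) - 1) (psmk (upperSp B)) := by
    rw [← hyB, hy]
    exact (H55.Psp.isGood_conj g x).2 hx
  have h11 : B.1 1 1 = 0 := hB 1 1 (by simp) (Or.inr ⟨by simp, by simp⟩)
  have hx' : x = g⁻¹ * psmk (upperSp B) * g := by rw [← hyB, hy]; group
  by_cases hb : B.1 0 1 = 0
  · left
    have hBs : B.1 = Matrix.single 0 0 (B.1 0 0) := by
      ext i j
      fin_cases i <;> fin_cases j <;> simp [hb, h11, (B.2.apply 0 1).trans hb]
    have ha : B.1 0 0 ≠ 0 := fun e => hgood.1 (by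
      rw [show B = (⟨0, Matrix.isSymm_zero⟩ : {B : Matrix (Fin 2) (Fin 2) F // B.IsSymm}) from
        Subtype.ext (by rw [hBs, e, Matrix.single_zero]),
        show upperSp (⟨0, Matrix.isSymm_zero⟩ : {B : Matrix (Fin 2) (Fin 2) F // B.IsSymm}) = 1 from
          Subtype.ext fromBlocks_one, map_one])
    have hlong : Long (psmk (upperSp B)) := by
      refine ⟨lagr 0, B.1 0 0, lagr_ne_zero 0, ha, ?_⟩
      rw [ptv, ← H55.Psp.upperSp_single_eq]
      exact congrArg psmk (congrArg upperSp (Subtype.ext hBs))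
    rw [hx']
    simpa using long_conj g⁻¹ hlong
  · right
    by_cases ha : B.1 0 0 = 0
    · have e : psmk (upperSp B) = tauPs (ptv (lagr 0) (B.1 0 1)) := by
        rw [ptv, tauPs_psmk, tauHom_lagr _ B ha h11 rfl]
      have hl : Long (ptv (lagr (0 : Fin 2)) (B.1 0 1) : Cfsg.PSp 2 F) :=
        ⟨_, _, lagr_ne_zero 0, hb, rfl⟩
      rw [hx', map_mul, map_mul, e, MulAut.inv_apply_self, map_inv]
      simpa using long_conj (tauPs⁻¹ g)⁻¹ hl
    · exact absurd hgood.2.2 (not_le.2 (clSize_mixed h11 ha hb))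

theorem not_keepsTv_tauPs : ¬ KeepsTv (tauPs : MulAut (Cfsg.PSp 2 F)) := by
  intro h
  haveI := Fact.mk Nat.prime_two
  obtain ⟨w, d, -, -, e⟩ := h (lagr 0) 1 (lagr_ne_zero 0) one_ne_zero
  let B : {B : Matrix (Fin 2) (Fin 2) F // B.IsSymm} :=
    ⟨Matrix.single 0 1 1 + Matrix.single 1 0 1, by
      simp [Matrix.IsSymm, Matrix.transpose_single, add_comm]⟩
  rw [ptv, tauPs_psmk, tauHom_lagr 1 B (by simp [B]) (by simp [B]) (by simp [B]), ptv] at e
  have e' := H55.Psp.eq_of_psmk_eq (p := 2) (k := 1) (by omega) (H55.Psp.upperSp_pow_char B)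
    (H55.Psp.T_pow_char w d) e
  have hval : ∀ i j, (upperSp B : Sp).1 i j = (tv w d : Sp).1 i j := fun i j => by rw [e']
  have h00 := hval (Sum.inl 0) (Sum.inr 0)
  have h01 := hval (Sum.inl 0) (Sum.inr 1)
  have h10 := hval (Sum.inl 1) (Sum.inr 0)
  rw [H55.Psp.coe_upperSp] at h00 h01 h10
  simp [tv_apply, usign, B] at h00 h01 h10
  rcases h00 with (h | h) | h <;> simp [h] at h01 h10

/-- Every automorphism is semilinear up to the exceptional one. -/
theorem exists_decomp (α : MulAut (Cfsg.PSp 2 F)) :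
    ∃ (e : ℕ) (g : Cfsg.GSp 2 F) (σ : F ≃+* F), α = tauPs ^ e * (conjPs g * fieldPs σ) := by
  haveI := Fact.mk Nat.prime_two
  have hgood : IsGood 2 (Fintype.card F ^ (2 * 2) - 1) (α baseTv) :=
    (H55.Psp.isGood_map α _).2 (H55.Psp.isGood_ptv (by omega) (lagr_ne_zero 0) one_ne_zero)
  rcases long_or_short hgood with h | h
  · have hk := keepsTv_of_base h
    obtain ⟨g, σ, e⟩ := H55.Psp.exists_induced le_rfl α hk (keepsTv_inv hk)
    exact ⟨0, g, σ, by rw [pow_zero, one_mul, e]⟩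
  · have hk : KeepsTv (tauPs⁻¹ * α) := keepsTv_of_base h
    obtain ⟨g, σ, e⟩ := H55.Psp.exists_induced le_rfl _ hk (keepsTv_inv hk)
    exact ⟨1, g, σ, by rw [pow_one, ← e, mul_inv_cancel_left]⟩

end Sp4

end H49
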