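import Mathlib

set_option autoImplicit false

namespace H49

open scoped MatrixGroups Matrix

variable {ι : Type*} [Fintype ι] [DecidableEq ι] {F : Type*} [Field F]

/-- The matrix of x ↦ x + (φ ⬝ x) v. -/
def trM (v φ : ι → F) : Matrix ι ι F := 1 + Matrix.vecMulVec v φ

theorem trM_mulVec (v φ x : ι → F) : trM v φ *ᵥ x = x + (φ ⬝ᵥ x) • v := by
  rw [trM, Matrix.add_mulVec, Matrix.one_mulVec]
  congr 1
  rw [Matrix.vecMulVec_mulVec]
  ext i
  simp [mul_comm]

theorem det_trM (v φ : ι → F) : (trM v φ).det = 1 + φ ⬝ᵥ v := by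
  rw [trM, Matrix.vecMulVec_eq Unit, Matrix.det_one_add_replicateCol_mul_replicateRow]

theorem trM_mul (v φ ψ : ι → F) (h : φ ⬝ᵥ v = 0) : trM v φ * trM v ψ = trM v (φ + ψ) := by
  apply Matrix.ext_of_mulVec_single
  intro j
  rw [← Matrix.mulVec_mulVec, trM_mulVec, trM_mulVec, trM_mulVec, dotProduct_add,
    dotProduct_smul, h, smul_zero, add_zero, add_dotProduct, add_smul]
  abel

theorem trM_zero (v : ι → F) : trM v 0 = 1 := by simp [trM, Matrix.vecMulVec_zero]

/-- Transvection as an element of GL. -/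
def tr (v φ : ι → F) (h : φ ⬝ᵥ v = 0) : GL ι F :=
  ⟨trM v φ, trM v (-φ), by rw [trM_mul v φ (-φ) h, add_neg_cancel, trM_zero],
    by rw [trM_mul v (-φ) φ (by simp [h]), neg_add_cancel, trM_zero]⟩

theorem tr_val (v φ : ι → F) (h : φ ⬝ᵥ v = 0) : (tr v φ h : Matrix ι ι F) = trM v φ := rfl

theorem tr_mulVec (v φ : ι → F) (h : φ ⬝ᵥ v = 0) (x : ι → F) :
    (tr v φ h : Matrix ι ι F) *ᵥ x = x + (φ ⬝ᵥ x) • v := trM_mulVec v φ x

theorem tr_mul (v φ ψ : ι → F) (h : φ ⬝ᵥ v = 0) (h' : ψ ⬝ᵥ v = 0) :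
    tr v φ h * tr v ψ h' = tr v (φ + ψ) (by simp [add_dotProduct, h, h']) :=
  Units.ext (trM_mul v φ ψ h)

theorem gl_ext_mulVec {g h : GL ι F}
    (e : ∀ x, (g : Matrix ι ι F) *ᵥ x = (h : Matrix ι ι F) *ᵥ x) : g = h :=
  Units.ext (Matrix.ext_of_mulVec_single fun j => e _)

theorem gl_inv_mulVec (g : GL ι F) (x : ι → F) :
    ((g⁻¹ : GL ι F) : Matrix ι ι F) *ᵥ ((g : Matrix ι ι F) *ᵥ x) = x := by
  rw [Matrix.mulVec_mulVec, ← Units.val_mul, inv_mul_cancel, Units.val_one, Matrix.one_mulVec]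

theorem gl_mulVec_inv (g : GL ι F) (x : ι → F) :
    (g : Matrix ι ι F) *ᵥ (((g⁻¹ : GL ι F) : Matrix ι ι F) *ᵥ x) = x := by
  rw [Matrix.mulVec_mulVec, ← Units.val_mul, mul_inv_cancel, Units.val_one, Matrix.one_mulVec]

theorem gl_mulVec_injective (g : GL ι F) :
    Function.Injective ((g : Matrix ι ι F) *ᵥ ·) :=
  Function.LeftInverse.injective (g := (((g⁻¹ : GL ι F) : Matrix ι ι F) *ᵥ ·)) (gl_inv_mulVec g)

theorem tr_mem_SL (v φ : ι → F) (h : φ ⬝ᵥ v = 0) :
    Matrix.GeneralLinearGroup.det (tr v φ h) = 1 := by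
  apply Units.ext
  simp [tr_val, det_trM, h]

/-- Elementary transvection. -/
def elem (i j : ι) (hij : i ≠ j) (c : F) : GL ι F :=
  tr (Pi.single i 1) (Pi.single j c) (by simp [hij])

theorem elem_mulVec (i j : ι) (hij : i ≠ j) (c : F) (x : ι → F) (k : ι) :
    ((elem i j hij c : GL ι F) : Matrix ι ι F).mulVec x k = x k + (if k = i then c * x j else 0) := by
  rw [elem, tr_mulVec]
  by_cases hk : k = i <;> simp [hk, Pi.single_apply]

/-- The diagonal element with a at i and a⁻¹ at j as a product of elementary transvections. -/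
theorem diag_pair_mem (K : Subgroup (GL ι F)) (hK : ∀ i j hij c, elem i j hij c ∈ K)
    (i j : ι) (hij : i ≠ j) (a : F) (ha : a ≠ 0) (g : GL ι F)
    (hg : (g : Matrix ι ι F) = Matrix.diagonal fun k => if k = i then a else if k = j then a⁻¹ else 1) :
    g ∈ K := by
  have hji : j ≠ i := hij.symm
  have : g = elem i j hij a * elem j i hji (-a⁻¹) * elem i j hij a * elem i j hij (-1) *
      elem j i hji 1 * elem i j hij (-1) := by
    refine gl_ext_mulVec fun x => funext fun k => ?_
    simp only [Units.val_mul, ← Matrix.mulVec_mulVec, elem_mulVec]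
    rw [hg, Matrix.mulVec_diagonal]
    by_cases hki : k = i
    · subst hki
      simp [hij, hij.symm]
      field_simp
      ring
    · by_cases hkj : k = j
      · subst hkj
        simp [hki, hij]
        field_simp
        ring
      · simp [hki, hkj]
  rw [this]
  exact mul_mem (mul_mem (mul_mem (mul_mem (mul_mem (hK ..) (hK ..)) (hK ..)) (hK ..)) (hK ..)) (hK ..)

/-- A subgroup of GL containing all elementary transvections contains SL. -/
theorem sl_le_of_elem_mem [Nontrivial ι] (K : Subgroup (GL ι F))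
    (hK : ∀ i j hij c, elem i j hij c ∈ K) (g : GL ι F) (hg : (g : Matrix ι ι F).det = 1) :
    g ∈ K := by
  let S : Matrix.SpecialLinearGroup ι F := ⟨g, hg⟩
  have h : Matrix.SpecialLinearGroup.toGL S ∈ K := by
    refine Matrix.SpecialLinearGroup.diagonal_transvection_induction'
      (fun M => Matrix.SpecialLinearGroup.toGL M ∈ K) S ?_ ?_ ?_
    · intro i j hij c hc
      exact diag_pair_mem K hK i j hij c hc _ (Matrix.SpecialLinearGroup.diag2n_coe hij c hc)
    · intro i j hij a
      have : Matrix.SpecialLinearGroup.toGL (Matrix.SpecialLinearGroup.transvection hij a) =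
          elem i j hij a := by
        refine gl_ext_mulVec fun x => funext fun k => ?_
        rw [elem_mulVec]
        show ((Matrix.SpecialLinearGroup.transvection hij a).1.mulVec x) k = _
        rw [Matrix.SpecialLinearGroup.transvection_coe, Matrix.add_mulVec, Matrix.one_mulVec]
        by_cases hk : k = i
        · subst hk; simp [Matrix.single_mulVec, Pi.single_apply]
        · simp [hk, Matrix.single_mulVec, Pi.single_apply]
      rw [this]; exact hK ..
    · intro A B hA hB
      rw [map_mul]; exact mul_mem hA hB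
  have e : Matrix.SpecialLinearGroup.toGL S = g := Units.ext rfl
  rwa [e] at h

end H49
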