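import Cfsg.Agent.H49.AltForm

set_option autoImplicit false

namespace H49

open scoped MatrixGroups Matrix
open Cfsg.Geo (IsSymplecticForm)

variable {ι : Type} [Fintype ι] [DecidableEq ι] {F : Type*} [Field F]
variable {f : (ι → F) → (ι → F) → F}

theorem tr_conj (g : GL ι F) (v φ : ι → F) (h : φ ⬝ᵥ v = 0) (x : ι → F) :
    ((g * tr v φ h * g⁻¹ : GL ι F) : Matrix ι ι F) *ᵥ x =
      x + (φ ⬝ᵥ (((g⁻¹ : GL ι F) : Matrix ι ι F) *ᵥ x)) • ((g : Matrix ι ι F) *ᵥ v) := by
  rw [Units.val_mul, Units.val_mul, ← Matrix.mulVec_mulVec, ← Matrix.mulVec_mulVec, tr_mulVec,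
    Matrix.mulVec_add, gl_mulVec_inv, Matrix.mulVec_smul]

theorem fvec_add (hf : IsSymplecticForm f) (w w' : ι → F) :
    fvec f (w + w') = fvec f w + fvec f w' :=
  funext fun j => hf.bilinear.add_right _ _ _

theorem fvec_smul (hf : IsSymplecticForm f) (a : F) (w : ι → F) :
    fvec f (a • w) = a • fvec f w :=
  funext fun j => hf.bilinear.smul_right _ _ _

theorem tr_congr {v φ ψ : ι → F} (h : φ ⬝ᵥ v = 0) (h' : ψ ⬝ᵥ v = 0) (e : φ = ψ) :
    tr v φ h = tr v ψ h' := by subst e; rfl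

/-- A functional on F^ι is f(·, w) for a unique w. -/
theorem exists_fvec (hf : IsSymplecticForm f) (φ : ι → F) : ∃ w, fvec f w = φ := by
  let L : (ι → F) →ₗ[F] (ι → F) :=
    { toFun := fvec f, map_add' := fvec_add hf, map_smul' := fun a w => fvec_smul hf a w }
  have hinj : Function.Injective L := by
    refine (injective_iff_map_eq_zero L).mpr fun w hw => ?_
    by_contra hne
    obtain ⟨x, hx⟩ := (hf.nondegenerate w hne).1
    apply hx
    rw [← fvec_dot hf w x]
    have : fvec f w = 0 := hw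
    rw [this, zero_dotProduct]
  exact (LinearMap.injective_iff_surjective.mp hinj) φ

theorem str_eq_tr (hf : IsSymplecticForm f) (v : ι → F) (c : F) (h : fvec f (c • v) ⬝ᵥ v = 0) :
    str hf v c = tr v (fvec f (c • v)) h :=
  tr_congr _ _ (fvec_smul hf c v).symm

/-- In a group containing all symplectic transvections, one further transvection with centre v
gives all transvections with centre v. -/
theorem tr_center_mem (hf : IsSymplecticForm f) (K : Subgroup (GL ι F))
    (hK : ∀ v c, str hf v c ∈ K) (v w₀ : ι → F)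
    (hw₀v : fvec f w₀ ⬝ᵥ v = 0) (hw₀ : tr v (fvec f w₀) hw₀v ∈ K) (hne : ∀ c : F, w₀ ≠ c • v)
    (φ : ι → F) (hφ : φ ⬝ᵥ v = 0) : tr v φ hφ ∈ K := by
  let P : (ι → F) → Prop := fun w => ∃ h : fvec f w ⬝ᵥ v = 0, tr v (fvec f w) h ∈ K
  have hadd : ∀ w w', P w → P w' → P (w + w') := by
    rintro w w' ⟨h, hm⟩ ⟨h', hm'⟩
    refine ⟨by rw [fvec_add hf, add_dotProduct, h, h', add_zero], ?_⟩
    rw [show tr v (fvec f (w + w')) _ = tr v (fvec f w) h * tr v (fvec f w') h' from ?_]
    · exact mul_mem hm hm'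
    · rw [tr_mul]; exact tr_congr _ _ (fvec_add hf w w')
  have hneg : ∀ w, P w → P (-w) := by
    rintro w ⟨h, hm⟩
    have e : fvec f (-w) = -fvec f w := by simpa using fvec_smul hf (-1) w
    refine ⟨by rw [e, neg_dotProduct, h, neg_zero], ?_⟩
    rw [show tr v (fvec f (-w)) _ = (tr v (fvec f w) h)⁻¹ from ?_]
    · exact inv_mem hm
    · apply eq_inv_of_mul_eq_one_left
      rw [tr_mul]
      apply Units.ext
      simp [tr_val, e, trM_zero]
  have hline : ∀ c : F, P (c • v) := fun c =>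
    ⟨by rw [fvec_dot hf, hf.bilinear.smul_right, hf.alternating, mul_zero],
      by rw [← str_eq_tr hf]; exact hK v c⟩
  -- conjugation by a symplectic transvection fixing v
  have hconj : ∀ w z : ι → F, ∀ c : F, f v z = 0 → P w → P (w + (c * f w z) • z) := by
    rintro w z c hz ⟨h, hm⟩
    have hzv : (str hf z c : Matrix ι ι F) *ᵥ v = v := by
      rw [str_mulVec, hz, mul_zero, zero_smul, add_zero]
    have hmem := str_mem_isoGrp hf z c
    have hd : fvec f (w + (c * f w z) • z) ⬝ᵥ v = 0 := by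
      rw [fvec_dot hf, hf.bilinear.add_right, hf.bilinear.smul_right, hz, mul_zero, add_zero,
        ← fvec_dot hf, h]
    refine ⟨hd, ?_⟩
    have : tr v (fvec f (w + (c * f w z) • z)) hd =
        str hf z c * tr v (fvec f w) h * (str hf z c)⁻¹ := by
      refine gl_ext_mulVec fun x => ?_
      rw [tr_mulVec, tr_conj, hzv, fvec_dot hf, fvec_dot hf]
      congr 2
      rw [← hmem (((str hf z c)⁻¹ : GL ι F) *ᵥ x) w]
      show f x _ = f ((str hf z c : Matrix ι ι F) *ᵥ _) ((str hf z c : Matrix ι ι F) *ᵥ w)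
      rw [gl_mulVec_inv, str_mulVec hf z c w]
    rw [this]
    exact mul_mem (mul_mem (hK z c) hm) (inv_mem (hK z c))
  have hsub : ∀ w, P w → ∀ z, f v z = 0 → f w z ≠ 0 → ∀ a : F, P (a • z) := by
    intro w hw z hz hwz a
    have := hadd _ _ (hneg w hw) (hconj w z (a / f w z) hz hw)
    rwa [div_mul_cancel₀ a hwz, neg_add_cancel_left] at this
  have hall : ∀ z, f v z = 0 → P z := by
    intro z hz
    by_cases hwz : f w₀ z = 0
    · -- find z₀ orthogonal to v but not to w₀
      have hv : v = 0 ∨ v ≠ 0 := em _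
      obtain ⟨z₀, hz₀v, hz₀w⟩ : ∃ z₀, f v z₀ = 0 ∧ f w₀ z₀ ≠ 0 := by
        have hw0ne : w₀ ≠ 0 := fun e => hne 0 (by simpa using e)
        rcases hv with rfl | hv
        · obtain ⟨x, hx⟩ := (hf.nondegenerate w₀ hw0ne).2
          exact ⟨x, sf_zero_left hf x, hx⟩
        · by_contra hcon
          simp only [not_exists, not_and, not_not] at hcon
          obtain ⟨u, hu⟩ := (hf.nondegenerate v hv).2
          apply hne (f w₀ u / f v u)
          by_contra hd
          have hd' : w₀ - (f w₀ u / f v u) • v ≠ 0 := sub_ne_zero.mpr hd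
          obtain ⟨x, hx⟩ := (hf.nondegenerate _ hd').2
          apply hx
          have h1 := hcon (x - (f v x / f v u) • u)
            (by rw [sf_sub_right hf, hf.bilinear.smul_right, div_mul_cancel₀ _ hu, sub_self])
          rw [sf_sub_right hf, hf.bilinear.smul_right] at h1
          rw [sf_sub_left hf, hf.bilinear.smul_left]
          field_simp at h1 ⊢
          linear_combination h1
      have h1 := hsub w₀ ⟨hw₀v, hw₀⟩ (z + z₀) (by rw [hf.bilinear.add_right, hz, hz₀v, add_zero])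
        (by rw [hf.bilinear.add_right, hwz, zero_add]; exact hz₀w) 1
      have h2 := hsub w₀ ⟨hw₀v, hw₀⟩ z₀ hz₀v hz₀w 1
      rw [one_smul] at h1 h2
      simpa using hadd _ _ h1 (hneg _ h2)
    · simpa using hsub w₀ ⟨hw₀v, hw₀⟩ z hz hwz 1
  obtain ⟨w, rfl⟩ := exists_fvec hf φ
  obtain ⟨h, hm⟩ := hall w (by rw [← fvec_dot hf]; exact hφ)
  exact hm

/-- A group containing all symplectic transvections and an element that is not a similarity
contains SL. -/
theorem sl_le_of_not_similar [Nontrivial ι] (hf : IsSymplecticForm f) (K : Subgroup (GL ι F))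
    (hK : ∀ v c, str hf v c ∈ K) (g : GL ι F) (hg : g ∈ K)
    (hns : g ∉ Cfsg.Geo.similarityGroup f) (s : GL ι F) (hs : (s : Matrix ι ι F).det = 1) :
    s ∈ K := by
  -- some transvection with centre v₀ in K is not symplectic
  obtain ⟨v₀, w₀, h₀, hm₀, hne₀⟩ : ∃ (v₀ w₀ : ι → F) (h : fvec f w₀ ⬝ᵥ v₀ = 0),
      v₀ ≠ 0 ∧ tr v₀ (fvec f w₀) h ∈ K ∧ ∀ c : F, w₀ ≠ c • v₀ := by
    by_contra hcon
    simp only [not_exists, not_and, not_forall, not_not] at hcon
    apply hns
    -- f(g x, g v) = d v * f x v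
    have hd : ∀ v : ι → F, ∃ d : F, ∀ x,
        f ((g : Matrix ι ι F) *ᵥ x) ((g : Matrix ι ι F) *ᵥ v) = d * f x v := by
      intro v
      rcases eq_or_ne v 0 with rfl | hv
      · exact ⟨1, fun x => by simp [sf_zero_right hf]⟩
      obtain ⟨w, hw⟩ := exists_fvec hf (fun j => fvec f v ⬝ᵥ
        (((g⁻¹ : GL ι F) : Matrix ι ι F) *ᵥ Pi.single j 1))
      have hw' : ∀ x, f x w = f (((g⁻¹ : GL ι F) : Matrix ι ι F) *ᵥ x) v := by
        intro x
        rw [← fvec_dot hf w x, hw, ← fvec_dot hf v, Matrix.dotProduct_mulVec]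
        congr 1
        ext j
        rw [Matrix.dotProduct_mulVec, dotProduct_single, mul_one]
      have h' : fvec f w ⬝ᵥ ((g : Matrix ι ι F) *ᵥ v) = 0 := by
        rw [fvec_dot hf, hw', gl_inv_mulVec, hf.alternating]
      have hgv : (g : Matrix ι ι F) *ᵥ v ≠ 0 := fun e =>
        hv (gl_mulVec_injective g (by simpa using e))
      have hmem : tr _ (fvec f w) h' ∈ K := by
        have e : tr _ (fvec f w) h' = g * str hf v 1 * g⁻¹ := by
          refine gl_ext_mulVec fun x => ?_
          rw [tr_mulVec, str, tr_conj, smul_dotProduct, one_smul, fvec_dot hf, fvec_dot hf, hw']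
        rw [e]; exact mul_mem (mul_mem hg (hK v 1)) (inv_mem hg)
      obtain ⟨c, hc⟩ := hcon _ w h' hgv hmem
      have hx : ∀ x, c * f ((g : Matrix ι ι F) *ᵥ x) ((g : Matrix ι ι F) *ᵥ v) = f x v := by
        intro x
        rw [← hf.bilinear.smul_right, ← hc, hw', gl_inv_mulVec]
      have hc0 : c ≠ 0 := by
        rintro rfl
        obtain ⟨x, hx'⟩ := (hf.nondegenerate v hv).1
        exact hx' (by rw [← hx x, zero_mul])
      exact ⟨c⁻¹, fun x => by rw [← hx x, inv_mul_cancel_left₀ hc0]⟩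
    choose d hd using hd
    have hsame : ∀ x v, f x v ≠ 0 → d x = d v := by
      intro x v h
      have h1 := hd v x
      have h2 := hd x v
      rw [hf.skew v x] at h2
      rw [hf.skew ((g : Matrix ι ι F) *ᵥ v), h1] at h2
      have : (d v - d x) * f x v = 0 := by linear_combination -h2
      rcases mul_eq_zero.mp this with h3 | h3
      · exact (sub_eq_zero.mp h3).symm
      · exact absurd h3 h
    have hconst : ∀ a b : ι → F, a ≠ 0 → b ≠ 0 → d a = d b := by
      intro a b ha hb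
      obtain ⟨u, h1, h2⟩ := exists_not_orth hf ha hb
      rw [← hsame u a h1, hsame u b h2]
    obtain ⟨i⟩ := (inferInstance : Nonempty ι)
    have hi : (Pi.single i (1 : F) : ι → F) ≠ 0 := by simp
    have hd0 : d (Pi.single i 1) ≠ 0 := by
      intro h0
      have hgv : (g : Matrix ι ι F) *ᵥ Pi.single i 1 ≠ 0 := fun e =>
        hi (gl_mulVec_injective g (by simpa using e))
      obtain ⟨x, hx⟩ := (hf.nondegenerate _ hgv).1
      apply hx
      have := hd (Pi.single i 1) (((g⁻¹ : GL ι F) : Matrix ι ι F) *ᵥ x)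
      rwa [gl_mulVec_inv, h0, zero_mul] at this
    refine ⟨Units.mk0 _ hd0, fun u v => ?_⟩
    rcases eq_or_ne v 0 with rfl | hv
    · simp [sf_zero_right hf]
    · rw [hd v u, hconst v _ hv hi]; rfl
  have hall : ∀ (v φ : ι → F) (h : φ ⬝ᵥ v = 0), v ≠ 0 → tr v φ h ∈ K := by
    intro v φ h hv
    obtain ⟨k, hk, hkv⟩ := exists_str_apply hf K hK hm₀ hv
    have h' : (fun j => φ ⬝ᵥ ((k : Matrix ι ι F) *ᵥ Pi.single j 1)) ⬝ᵥ v₀ = 0 := by
      rw [show (fun j => φ ⬝ᵥ ((k : Matrix ι ι F) *ᵥ Pi.single j 1)) = φ ᵥ* (k : Matrix ι ι F) from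
        funext fun j => by rw [Matrix.dotProduct_mulVec, dotProduct_single, mul_one],
        ← Matrix.dotProduct_mulVec, hkv, h]
    have hin := tr_center_mem hf K hK v₀ w₀ h₀ hne₀.1 hne₀.2 _ h'
    have : tr v φ h = k * tr v₀ _ h' * k⁻¹ := by
      refine gl_ext_mulVec fun x => ?_
      rw [tr_mulVec, tr_conj, hkv]
      congr 2
      rw [show (fun j => φ ⬝ᵥ ((k : Matrix ι ι F) *ᵥ Pi.single j 1)) = φ ᵥ* (k : Matrix ι ι F) from
        funext fun j => by rw [Matrix.dotProduct_mulVec, dotProduct_single, mul_one],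
        ← Matrix.dotProduct_mulVec, gl_mulVec_inv]
    rw [this]
    exact mul_mem (mul_mem hk hin) (inv_mem hk)
  exact sl_le_of_elem_mem K (fun i j hij c => hall _ _ _ (by simp)) s hs

end H49
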