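import Cfsg.Agent.H49.RegularNorm

set_option autoImplicit false

namespace H49

open Matrix

variable {F : Type*} [Field F] [Finite F] {m : ℕ}

theorem two_ne_zero_of_odd {F : Type*} [Field F] [Fintype F] (h : Odd (Fintype.card F)) : (2 : F) ≠ 0 := by
  intro e
  haveI := ringChar.charP F
  have h2 : (ringChar F) ∣ 2 := by
    rw [← CharP.cast_eq_zero_iff F (ringChar F)]; exact_mod_cast e
  have hp : (ringChar F).Prime := CharP.char_is_prime F _
  rw [(Nat.prime_dvd_prime_iff_eq hp Nat.prime_two).1 h2] at hp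
  obtain ⟨n, -, hn⟩ := FiniteField.card F (ringChar F)
  rw [(Nat.prime_dvd_prime_iff_eq (CharP.char_is_prime F (ringChar F)) Nat.prime_two).1 h2] at hn
  rw [hn] at h
  exact Nat.not_even_iff_odd.2 h ((Nat.even_pow).2 ⟨even_two, n.ne_zero⟩)

theorem card_regular_centralizer (h2 : (2 : F) ≠ 0)
    (u : Matrix.symplecticGroup (Fin m) F) (d : RegData (u : Matrix (Fin m ⊕ Fin m) (Fin m ⊕ Fin m) F)) :
    Nat.card (Subgroup.centralizer ({u} : Set (Matrix.symplecticGroup (Fin m) F))) =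
      2 * Nat.card F ^ m := by
  rw [← d.card_norm_ker h2]
  refine Nat.card_congr
    { toFun := fun g => ⟨⟨Units.mk (g.1 : Matrix (Fin m ⊕ Fin m) (Fin m ⊕ Fin m) F) (adjS g.1.1)
          (mem_sp_iff_adjS'.1 g.1.2) (mem_sp_iff_adjS.1 g.1.2),
          congrArg Subtype.val (Subgroup.mem_centralizer_singleton_iff.1 g.2)⟩,
        MonoidHom.mem_ker.2 (Subtype.ext (Units.ext (mem_sp_iff_adjS.1 g.1.2)))⟩
      invFun := fun g => ⟨⟨((g.1 : (Matrix (Fin m ⊕ Fin m) (Fin m ⊕ Fin m) F)ˣ) : Matrix _ _ F),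
          mem_sp_iff_adjS.2 (by
            rw [← d.normHom_val, MonoidHom.mem_ker.1 g.2]; rfl)⟩,
        Subgroup.mem_centralizer_singleton_iff.2 (Subtype.ext (d.mem_unitGrp.1 g.1.2))⟩
      left_inv := fun g => rfl
      right_inv := fun g => Subtype.ext (Subtype.ext (Units.ext rfl)) }

end H49
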