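import Mathlib
import Cfsg.Agent.H37.SL2Gen

/-!
Subgroups of `SL₂` of an extension field containing the unipotent groups of the ground field.
-/

set_option autoImplicit false
set_option linter.unusedSectionVars false

namespace H49

open Matrix
open scoped MatrixGroups

variable {F : Type*} [Field F] [Fintype F] {E : Type*} [Field E] [Fintype E] [Algebra F E]

theorem geom_sum_le (p : ℕ) (hp : 3 ≤ p) : ∀ f, 2 * (∑ i ∈ Finset.Ico 1 f, p ^ i) ≤ p ^ f
  | 0 => by simp
  | n + 1 => by
    rcases Nat.eq_zero_or_pos n with rfl | hn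
    · simp
    rw [Finset.sum_Ico_succ_top hn, mul_add, pow_succ]
    have := geom_sum_le p hp n
    have h := Nat.mul_le_mul_left (p ^ n) hp
    simp only [Nat.succ_eq_add_one, zero_add] at *
    omega

theorem mem_range_of_pow_card {z : E} (hz : z ^ Fintype.card F = z) : z ∈ (algebraMap F E).range := by
  classical
  set q := Fintype.card F
  have hq : 1 < q := Fintype.one_lt_card
  set P : Polynomial E := Polynomial.X ^ q - Polynomial.X with hP
  have hP0 : P ≠ 0 := FiniteField.X_pow_card_sub_X_ne_zero E hq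
  let T : Finset E := Finset.univ.image (algebraMap F E)
  have hT : T ⊆ P.roots.toFinset := fun x hx => by
    obtain ⟨c, -, rfl⟩ := Finset.mem_image.1 hx
    rw [Multiset.mem_toFinset, Polynomial.mem_roots hP0]
    simp [hP, ← map_pow, FiniteField.pow_card, q]
  have hcard : T.card = q := by
    rw [Finset.card_image_of_injective _ (algebraMap F E).injective, Finset.card_univ]
  have hle : P.roots.toFinset.card ≤ q := by
    refine (Multiset.toFinset_card_le _).trans ((Polynomial.card_roots' P).trans ?_)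
    rw [hP, FiniteField.X_pow_card_sub_X_natDegree_eq E hq]
  have heq := Finset.eq_of_subset_of_card_le hT (hle.trans hcard.ge)
  have hzmem : z ∈ P.roots.toFinset := by
    rw [Multiset.mem_toFinset, Polynomial.mem_roots hP0]
    simp [hP, hz]
  rw [← heq] at hzmem
  obtain ⟨c, -, hc⟩ := Finset.mem_image.1 hzmem
  exact ⟨c, hc⟩

/-- Some multiple of an element outside the ground field generates a larger field. -/
theorem exists_big_multiple (h2 : (2 : F) ≠ 0) {lam : E} (hlam : lam ∉ (algebraMap F E).range) :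
    ∃ μ : F, μ ≠ 0 ∧ Fintype.card F < Nat.card (Subfield.closure ({algebraMap F E μ * lam} : Set E)) := by
  classical
  by_contra hcon
  simp only [not_exists, not_and, not_lt] at hcon
  obtain ⟨p, hpF⟩ := CharP.exists F
  haveI := hpF
  haveI : Fact p.Prime := ⟨CharP.char_is_prime F p⟩
  haveI : CharP E p := charP_of_injective_algebraMap (algebraMap F E).injective p
  obtain ⟨f, -, hf⟩ := FiniteField.card F p
  have hp3 : 3 ≤ p := by
    have h := (Fact.out : p.Prime).two_le
    rcases Nat.eq_or_lt_of_le h with rfl | h'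
    · exact absurd (CharP.cast_eq_zero F 2) (by exact_mod_cast h2)
    · omega
  let roots : ℕ → Finset E := fun i => Finset.univ.filter fun z => z ^ p ^ i = z
  have hmem : ∀ μ : F, μ ≠ 0 → algebraMap F E μ * lam ∈ (Finset.Ico 1 (f : ℕ)).biUnion roots := by
    intro μ hμ
    set z := algebraMap F E μ * lam with hz
    set K := Subfield.closure ({z} : Set E) with hK
    haveI : Fintype K := Fintype.ofFinite K
    haveI : CharP K p := K.subtype.charP K.subtype_injective p
    obtain ⟨i, -, hi⟩ := FiniteField.card K p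
    have hle := hcon μ hμ
    rw [Nat.card_eq_fintype_card, hi, hf] at hle
    have hif : (i : ℕ) ≤ f := (Nat.pow_le_pow_iff_right (by omega)).1 hle
    have hzi : z ^ p ^ (i : ℕ) = z := by
      have h := FiniteField.pow_card (⟨z, Subfield.subset_closure rfl⟩ : K)
      rw [hi] at h
      exact congrArg Subtype.val h
    refine Finset.mem_biUnion.2 ⟨i, Finset.mem_Ico.2 ⟨i.pos, ?_⟩, by simp [roots, hzi]⟩
    rcases Nat.lt_or_eq_of_le hif with h | h
    · exact h
    exfalso
    rw [h, ← hf] at hzi
    obtain ⟨c, hc⟩ := mem_range_of_pow_card hzi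
    exact hlam ⟨c / μ, by rw [map_div₀, hc, hz, mul_div_cancel_left₀ _ (by simpa using hμ)]⟩
  have hsub : (Finset.univ.filter fun μ : F => μ ≠ 0).image (fun μ => algebraMap F E μ * lam) ⊆
      (Finset.Ico 1 (f : ℕ)).biUnion roots := fun x hx => by
    obtain ⟨μ, hμ, rfl⟩ := Finset.mem_image.1 hx
    exact hmem μ (Finset.mem_filter.1 hμ).2
  have h1 := (Finset.card_le_card hsub).trans Finset.card_biUnion_le
  have hl0 : lam ≠ 0 := fun e => hlam ⟨0, by rw [map_zero, e]⟩
  rw [Finset.card_image_of_injective _ (fun a b hab => (algebraMap F E).injective (mul_right_cancel₀ hl0 hab))] at h1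
  have h3 : ∀ i ∈ Finset.Ico 1 (f : ℕ), (roots i).card ≤ p ^ i := by
    intro i hi
    have hq : 1 < p ^ i := Nat.one_lt_pow (by have := (Finset.mem_Ico.1 hi).1; omega) (by omega)
    set P : Polynomial E := Polynomial.X ^ p ^ i - Polynomial.X with hP
    have hP0 : P ≠ 0 := FiniteField.X_pow_card_sub_X_ne_zero E hq
    refine (Finset.card_le_card (t := P.roots.toFinset) fun z hz => ?_).trans
      ((Multiset.toFinset_card_le _).trans ((Polynomial.card_roots' P).trans ?_))
    · rw [Multiset.mem_toFinset, Polynomial.mem_roots hP0]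
      simp [hP, (Finset.mem_filter.1 hz).2]
    · rw [hP, FiniteField.X_pow_card_sub_X_natDegree_eq E hq]
  have h4 := h1.trans (Finset.sum_le_sum h3)
  rw [Finset.filter_ne' Finset.univ (0 : F), Finset.card_erase_of_mem (Finset.mem_univ _), Finset.card_univ, hf] at h4
  have h5 := geom_sum_le p hp3 f
  have h6 : p ≤ p ^ (f : ℕ) := Nat.le_self_pow f.pos.ne' p
  omega

/-- A subgroup containing the ground-field unipotents with a multiplier outside has a large torus element. -/
theorem exists_torus (h2 : (2 : F) ≠ 0) {lam : E} (hlam : lam ∉ (algebraMap F E).range) (G : Subgroup SL(2, E))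
    (hU : ∀ c : F, H37.upper2 (algebraMap F E c * lam) ∈ G) (hL : ∀ c : F, H37.lower2 (algebraMap F E c) ∈ G) :
    (∃ m ∈ G, (m : Matrix (Fin 2) (Fin 2) E) 1 0 = 0 ∧
        (m : Matrix (Fin 2) (Fin 2) E) 0 0 ^ 2 ∉ (algebraMap F E).range) ∨
      (Fintype.card F = 3 ∧ lam ^ 2 = -1) := by
  classical
  obtain ⟨μ, hμ, hbig⟩ := exists_big_multiple h2 hlam
  set z := algebraMap F E μ * lam with hz
  set K := Subfield.closure ({z} : Set E) with hK
  haveI : Fintype K := Fintype.ofFinite K
  rw [Nat.card_eq_fintype_card] at hbig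
  let z' : K := ⟨z, Subfield.subset_closure rfl⟩
  have hl0 : lam ≠ 0 := fun e => hlam ⟨0, by rw [map_zero, e]⟩
  have hz0 : z' ≠ 0 := fun e => mul_ne_zero (by simpa using hμ) hl0 (congrArg Subtype.val e)
  have h2E : (2 : E) ≠ 0 := by
    rw [← map_ofNat (algebraMap F E) 2]; exact (map_ne_zero _).2 h2
  have h2K : (2 : K) ≠ 0 := fun e => h2E (by
    have := congrArg (K.subtype) e
    rwa [map_ofNat, map_zero] at this)
  obtain ⟨p, hpF⟩ := CharP.exists F
  haveI := hpF
  haveI : Fact p.Prime := ⟨CharP.char_is_prime F p⟩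
  haveI : CharP E p := charP_of_injective_algebraMap (algebraMap F E).injective p
  haveI : CharP K p := K.subtype.charP K.subtype_injective p
  have hp3 : 3 ≤ p := by
    have h := (Fact.out : p.Prime).two_le
    rcases Nat.eq_or_lt_of_le h with rfl | h'
    · exact absurd (CharP.cast_eq_zero F 2) (by exact_mod_cast h2)
    · omega
  obtain ⟨f, -, hf⟩ := FiniteField.card F p
  obtain ⟨i, -, hi⟩ := FiniteField.card K p
  have hfi : (f : ℕ) < i := by
    rw [hf, hi] at hbig
    exact (Nat.pow_lt_pow_iff_right (by omega)).1 hbig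
  have h3card : 3 * Fintype.card F ≤ Fintype.card K := by
    rw [hf, hi]
    calc 3 * p ^ (f : ℕ) ≤ p * p ^ (f : ℕ) := Nat.mul_le_mul_right _ hp3
      _ = p ^ ((f : ℕ) + 1) := (pow_succ' p f).symm
      _ ≤ _ := Nat.pow_le_pow_right (by omega) hfi
  have hgen : Subfield.closure ({z'} : Set K) = ⊤ := by
    refine top_unique fun x _ => ?_
    have hx : (x : E) ∈ (Subfield.closure ({z'} : Set K)).map K.subtype := by
      refine (Subfield.closure_le.2 ?_ : K ≤ _) x.2
      rintro _ rfl
      exact ⟨z', Subfield.subset_closure rfl, rfl⟩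
    obtain ⟨y, hy, hyx⟩ := hx
    exact K.subtype_injective hyx ▸ hy
  by_cases h9 : Fintype.card K = 9 ∧ z' ^ 2 = -1
  · refine Or.inr ?_
    have hp : p = 3 := by
      have : p ∣ 9 := by rw [← h9.1, hi]; exact dvd_pow_self p i.pos.ne'
      have h33 : p ∣ 3 ^ 2 := by simpa using this
      exact (Nat.prime_dvd_prime_iff_eq Fact.out Nat.prime_three).1 ((Fact.out : p.Prime).dvd_of_dvd_pow h33)
    have hcard : Fintype.card F = 3 := by
      have h1 : p ^ 2 = p ^ (i : ℕ) := by rw [← hi, h9.1, hp]; norm_num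
      have := Nat.pow_right_injective (by omega : 2 ≤ p) h1
      have hf1 : (f : ℕ) = 1 := by have := f.pos; omega
      rw [hf, hp, hf1, pow_one]
    refine ⟨hcard, ?_⟩
    have hμ2 : μ ^ 2 = 1 := by
      have := FiniteField.pow_card_sub_one_eq_one μ hμ
      rwa [hcard] at this
    have := congrArg Subtype.val h9.2
    push_cast at this
    rw [show ((z' : K) : E) = z from rfl, hz, mul_pow, ← map_pow, hμ2, map_one, one_mul] at this
    exact this
  refine Or.inl ?_
  have htop := H37.two_unipotents_eq_top h2K hz0 hgen h9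
  let φ : SL(2, K) →* SL(2, E) := Matrix.SpecialLinearGroup.map K.subtype
  have hle : H37.twoUnip z' ≤ G.comap φ := by
    refine (Subgroup.closure_le _).2 ?_
    rintro x (rfl | rfl)
    · have h := hL 1
      rw [map_one] at h
      show φ (H37.lower2 1) ∈ G
      convert h using 1
      ext a b
      fin_cases a <;> fin_cases b <;> simp [φ]
    · show φ (H37.upper2 z') ∈ G
      convert hU μ using 1
      ext a b
      fin_cases a <;> fin_cases b <;> simp [φ, z', hz]
  obtain ⟨τ, hτ⟩ := IsCyclic.exists_generator (α := Kˣ)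
  let m : SL(2, K) := ⟨!![(τ : K), 0; 0, (τ⁻¹ : Kˣ)], by simp [Matrix.det_fin_two_of]⟩
  refine ⟨φ m, hle (htop ▸ Subgroup.mem_top m), (rfl : ((0 : K) : E) = 0), ?_⟩
  rintro ⟨c, hc⟩
  have hτ0 : ((τ : K) : E) ≠ 0 := fun e => τ.ne_zero (Subtype.ext e)
  have hc' : ((τ : K) : E) ^ 2 = algebraMap F E c := by rw [hc]; rfl
  have hc0 : c ≠ 0 := fun e => pow_ne_zero 2 hτ0 (by rw [hc', e, map_zero])
  have hpow : τ ^ (2 * (Fintype.card F - 1)) = 1 := by
    refine Units.ext (Subtype.ext ?_)
    push_cast
    rw [pow_mul, hc', ← map_pow, FiniteField.pow_card_sub_one_eq_one c hc0, map_one]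
  have hdvd := orderOf_dvd_of_pow_eq_one hpow
  rw [orderOf_eq_card_of_forall_mem_zpowers hτ, Nat.card_eq_fintype_card, Fintype.card_units] at hdvd
  have hq := Fintype.one_lt_card (α := F)
  have := Nat.le_of_dvd (by omega) hdvd
  omega

end H49
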