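import Cfsg.Agent.H49.ShortRoot

/-!
Overgroups of the symplectic group over a subfield of prime index.
-/

set_option autoImplicit false

namespace H49

open Matrix
open H48 (sf tv)

variable {m : ℕ} {F : Type*} [Field F]

local notation "V" => (Fin m ⊕ Fin m → F)
local notation "Sp" => Matrix.symplecticGroup (Fin m) F
local notation "ι" => (Fin m ⊕ Fin m)

/-- The hyperbolic pair of a coordinate. -/
def hpair (x : Fin m ⊕ Fin m) : Fin m := Sum.elim id id x

/-- Unit vectors. -/
def uvec (x : Fin m ⊕ Fin m) : Fin m ⊕ Fin m → F := Pi.single x 1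

/-- The sign of a coordinate. -/
def usign (x : Fin m ⊕ Fin m) : F := Sum.elim (fun _ => 1) (fun _ => -1) x

theorem usign_mul_self (x : ι) : usign (F := F) x * usign x = 1 := by
  rcases x with i | i <;> simp [usign]

theorem hpair_swap (x : ι) : hpair x.swap = hpair x := by rcases x with i | i <;> rfl

theorem sf_uvec (v : V) (x : ι) : sf v (uvec x) = usign x * v x.swap := by
  rw [H48.sf_apply]
  rcases x with i | i
  · rw [Finset.sum_eq_single i]
    · simp [uvec, usign]
    · intro j _ hj; simp [uvec, hj]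
    · simp
  · rw [Finset.sum_eq_single i]
    · simp [uvec, usign]
    · intro j _ hj; simp [uvec, hj]
    · simp

theorem apply_eq_sf (v : V) (x : ι) : v x = usign x.swap * sf v (uvec x.swap) := by
  rw [sf_uvec, Sum.swap_swap, ← mul_assoc, usign_mul_self, one_mul]

theorem sf_uvec_uvec_eq_zero {x y : ι} (h : hpair x ≠ hpair y) : sf (uvec (F := F) x) (uvec y) = 0 := by
  rw [sf_uvec, uvec, Pi.single_apply, if_neg, mul_zero]
  intro e
  exact h (by rw [← e, hpair_swap])

theorem sf_uvec_swap (x : ι) : sf (uvec (F := F) x.swap) (uvec x) = usign x := by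
  rw [sf_uvec, uvec, Pi.single_eq_same, mul_one]

theorem sum_uvec (v : V) : v = ∑ x, v x • uvec x := by
  conv_lhs => rw [pi_eq_sum_univ' v]
  rfl

/-- All entries in the subfield. -/
def IsRat (F₀ : Subfield F) (g : Matrix.symplecticGroup (Fin m) F) : Prop :=
  ∀ i j, (g : Matrix (Fin m ⊕ Fin m) (Fin m ⊕ Fin m) F) i j ∈ F₀

variable {F₀ : Subfield F}

theorem uvec_rat (x y : ι) : uvec (F := F) x y ∈ F₀ := by
  rw [uvec, Pi.single_apply]
  split_ifs
  exacts [one_mem _, zero_mem _]

theorem usign_rat (x : ι) : usign (F := F) x ∈ F₀ := by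
  rcases x with i | i
  · exact one_mem _
  · exact neg_mem (one_mem _)

theorem sf_rat {u v : V} (hu : ∀ i, u i ∈ F₀) (hv : ∀ i, v i ∈ F₀) : sf u v ∈ F₀ := by
  rw [H48.sf_apply]
  exact sum_mem fun i _ => sub_mem (mul_mem (hu _) (hv _)) (mul_mem (hu _) (hv _))

theorem IsRat.smul {g : Sp} (hg : IsRat F₀ g) {v : V} (hv : ∀ i, v i ∈ F₀) (i : ι) : (g • v) i ∈ F₀ := by
  rw [H48.spSmulDef, Matrix.mulVec, dotProduct]
  exact sum_mem fun j _ => mul_mem (hg i j) (hv j)

theorem IsRat.mul {g h : Sp} (hg : IsRat F₀ g) (hh : IsRat F₀ h) : IsRat F₀ (g * h) := fun i j => by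
  show ((g : Matrix ι ι F) * (h : Matrix ι ι F)) i j ∈ F₀
  rw [Matrix.mul_apply]
  exact sum_mem fun k _ => mul_mem (hg i k) (hh k j)

theorem isRat_tv {v : V} (hv : ∀ i, v i ∈ F₀) {c : F} (hc : c ∈ F₀) : IsRat F₀ (tv v c) := by
  intro i j
  have h : (tv v c : Matrix ι ι F) i j = (tv v c • (Pi.single j 1 : V)) i := by
    rw [H48.spSmulDef, mulVec_single_one]
    rfl
  rw [h, H48.tv_smul, Pi.add_apply, Pi.smul_apply, smul_eq_mul]
  exact add_mem (uvec_rat j i) (mul_mem (mul_mem hc (sf_rat (uvec_rat j) hv)) (hv i))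

theorem isRat_sroot {u v : V} (hu : ∀ i, u i ∈ F₀) (hv : ∀ i, v i ∈ F₀) {c : F} (hc : c ∈ F₀) :
    IsRat F₀ (sroot u v c) :=
  (isRat_tv (fun i => add_mem (hu i) (hv i)) hc).mul
    ((isRat_tv hu (neg_mem hc)).mul (isRat_tv hv (neg_mem hc)))

/-- Minus one on a hyperbolic pair. -/
def negPair (i : Fin m) : Matrix.symplecticGroup (Fin m) F :=
  ⟨Matrix.diagonal fun x => if hpair x = i then -1 else 1, by
    rw [H48.mem_symplectic_iff]
    intro u v
    rw [H48.sf_apply, H48.sf_apply]
    refine Finset.sum_congr rfl fun j _ => ?_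
    simp only [mulVec_diagonal, hpair, Sum.elim_inl, Sum.elim_inr, id]
    by_cases hj : j = i <;> simp [hj]⟩

theorem negPair_smul (i : Fin m) (v : V) (x : ι) :
    (negPair (F := F) i • v) x = (if hpair x = i then -1 else 1) * v x := by
  exact mulVec_diagonal (fun x : ι => if hpair x = i then (-1 : F) else 1) v x

theorem isRat_negPair (i : Fin m) : IsRat F₀ (negPair (F := F) i) := by
  intro x y
  show Matrix.diagonal _ x y ∈ F₀
  rw [Matrix.diagonal_apply]
  split_ifs
  exacts [neg_mem (one_mem _), one_mem _, zero_mem _]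

/-- An index avoiding a small set. -/
theorem exists_fresh (s : Finset (Fin m)) (h : s.card < m) : ∃ p, p ∉ s := by
  by_contra hcon
  simp only [not_exists, not_not] at hcon
  have := Finset.card_le_card (s := (Finset.univ : Finset (Fin m))) (t := s) fun p _ => hcon p
  simp at this
  omega

theorem sroot_scale_right (x y : V) (h : sf x y = 0) (a c : F) :
    sroot x (a • y) c = sroot x y (a * c) := by
  refine H48.sp_ext fun w => ?_
  rw [sroot_smul (by rw [map_smul, h, smul_zero]), sroot_smul h, map_smul, smul_eq_mul]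
  module

theorem sroot_scale_left (x y : V) (h : sf x y = 0) (a c : F) :
    sroot (a • x) y c = sroot x y (a * c) := by
  have h' := H48.sf_eq_zero_comm h
  rw [sroot_comm _ _ (by rw [map_smul, LinearMap.smul_apply, h, smul_zero]), sroot_scale_right y x h',
    sroot_comm y x h']

theorem sroot_mul_left {x x' y : V} (h : sf x y = 0) (h' : sf x' y = 0) (hx : sf x x' = 0) (c : F) :
    sroot (x + x') y c = sroot x y c * sroot x' y c := by
  refine H48.sp_ext fun w => ?_
  have hyx := H48.sf_eq_zero_comm h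
  simp only [mul_smul, sroot_smul h, sroot_smul h', sroot_smul (show sf (x + x') y = 0 by simp [h, h']),
    map_add, LinearMap.add_apply, map_smul, LinearMap.smul_apply, smul_eq_mul, H48.sf_self, hyx, h',
    H48.sf_eq_zero_comm hx, mul_zero, add_zero]
  module

theorem sroot_add_coeff {x y : V} (h : sf x y = 0) (c d : F) :
    sroot x y (c + d) = sroot x y c * sroot x y d := by
  refine H48.sp_ext fun w => ?_
  have hyx := H48.sf_eq_zero_comm h
  simp only [mul_smul, sroot_smul h, map_add, LinearMap.add_apply, map_smul, LinearMap.smul_apply,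
    smul_eq_mul, H48.sf_self, hyx, h, mul_zero, add_zero]
  module

theorem sroot_zero (x y : V) : sroot x y 0 = 1 := by simp [sroot]

variable (K : Subgroup (Matrix.symplecticGroup (Fin m) F))

/-- The commutator of two short root elements. -/
theorem sroot_chain {x y w z : V} {a b : F} (hxy : sf x y = 0) (hwz : sf w z = 0) (hxw : sf x w = 0)
    (hxz : sf x z = 0) (hyz : sf y z = 0) (hA : sroot x y a ∈ K) (hB : sroot w z b ∈ K) :
    sroot x z (a * b * sf w y) ∈ K := by
  have hwx := H48.sf_eq_zero_comm hxw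
  have hzx := H48.sf_eq_zero_comm hxz
  have hzy := H48.sf_eq_zero_comm hyz
  have e : sroot x y a * sroot w z b * (sroot x y a)⁻¹ = sroot w z b * sroot x z (a * b * sf w y) := by
    rw [sroot_conj, sroot_smul hxy, sroot_smul hxy]
    simp only [hwx, hzx, hzy, mul_zero, zero_smul, add_zero]
    rw [sroot_mul_left hwz (by simp [hxz]) (by simp [hwx]), sroot_scale_left x z hxz]
    congr 2
    ring
  have : sroot x z (a * b * sf w y) = (sroot w z b)⁻¹ * (sroot x y a * sroot w z b * (sroot x y a)⁻¹) := by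
    rw [e, inv_mul_cancel_left]
  rw [this]
  exact mul_mem (inv_mem hB) (mul_mem (mul_mem hA hB) (inv_mem hA))

/-- Two commuting moves of a transvection centre give a short root element. -/
theorem double_move {v : V} (hv : tv v 1 ∈ K) {h k : Sp} (hh : h ∈ K) (hk : k ∈ K)
    (h1 : sf v (h • v - v) = 0) (h2 : sf v (k • v - v) = 0) (h3 : k • (h • v - v) = h • v - v) :
    sf (k • v - v) (h • v - v) = 0 ∧ sroot (k • v - v) (h • v - v) 1 ∈ K := by
  set δ := h • v - v with hδ
  set δ' := k • v - v with hδ'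
  have hkv : k • v = v + δ' := by rw [hδ', add_sub_cancel]
  have h4 : sf δ' δ = 0 := by
    have := H48.sf_smul_smul k v δ
    rw [h3, h1, hkv, map_add, LinearMap.add_apply, h1, zero_add] at this
    exact this
  refine ⟨h4, ?_⟩
  have hE : sroot v δ 1 * tv δ 1 ∈ K := by
    have e : sroot v δ 1 * tv δ 1 = h * tv v 1 * h⁻¹ * (tv v 1)⁻¹ := by
      rw [H48.tv_conj, H48.tv_inv, show h • v = v + δ by rw [hδ, add_sub_cancel], sroot, mul_assoc, mul_assoc,
        H48.tv_mul δ (-1) 1, neg_add_cancel, H48.tv_zero, mul_one]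
    rw [e]
    exact mul_mem (mul_mem (mul_mem hh hv) (inv_mem hh)) (inv_mem hv)
  have hE' : k * (sroot v δ 1 * tv δ 1) * k⁻¹ = sroot δ' δ 1 * (sroot v δ 1 * tv δ 1) := by
    calc k * (sroot v δ 1 * tv δ 1) * k⁻¹ = (k * sroot v δ 1 * k⁻¹) * (k * tv δ 1 * k⁻¹) := by group
      _ = sroot (δ' + v) δ 1 * tv δ 1 := by rw [sroot_conj, H48.tv_conj, h3, hkv, add_comm v δ']
      _ = _ := by rw [sroot_mul_left h4 h1 (H48.sf_eq_zero_comm h2), mul_assoc]
  have e : sroot δ' δ 1 = k * (sroot v δ 1 * tv δ 1) * k⁻¹ * (sroot v δ 1 * tv δ 1)⁻¹ := by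
    rw [hE', mul_inv_cancel_right]
  rw [e]
  exact mul_mem (mul_mem (mul_mem hk hE) (inv_mem hk)) (inv_mem hE)

/-- The scalars of the short root elements of all coordinate pairs. -/
def shortScalars : Set F :=
  {c | ∀ x y : ι, hpair x ≠ hpair y → sroot (uvec x) (uvec y) c ∈ K}

variable {K} (hm : 5 ≤ m) (hK : ∀ g : Matrix.symplecticGroup (Fin m) F, IsRat F₀ g → g ∈ K)
include hK

theorem sroot_uvec_mem (x y : ι) {c : F} (hc : c ∈ F₀) : sroot (uvec x) (uvec y) c ∈ K :=
  hK _ (isRat_sroot (uvec_rat x) (uvec_rat y) hc)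

theorem sroot_step {x y z : ι} {c : F} (hxy : hpair x ≠ hpair y) (hxz : hpair x ≠ hpair z)
    (hyz : hpair y ≠ hpair z) (h : sroot (uvec x) (uvec y) c ∈ K) :
    sroot (uvec x) (uvec z) c ∈ K := by
  have h' := sroot_chain K (w := uvec y.swap) (z := uvec z) (b := usign y)
    (sf_uvec_uvec_eq_zero hxy) (sf_uvec_uvec_eq_zero (by rwa [hpair_swap]))
    (sf_uvec_uvec_eq_zero (by rwa [hpair_swap])) (sf_uvec_uvec_eq_zero hxz) (sf_uvec_uvec_eq_zero hyz) h
    (sroot_uvec_mem hK _ _ (usign_rat y))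
  rwa [sf_uvec_swap, mul_assoc, usign_mul_self, mul_one] at h'

include hm

theorem sroot_move {x y z : ι} {c : F} (hxy : hpair x ≠ hpair y) (hxz : hpair x ≠ hpair z)
    (h : sroot (uvec x) (uvec y) c ∈ K) : sroot (uvec x) (uvec z) c ∈ K := by
  by_cases hyz : hpair y = hpair z
  · obtain ⟨p, hp⟩ := exists_fresh {hpair x, hpair y} (lt_of_le_of_lt Finset.card_le_two (by omega))
    simp only [Finset.mem_insert, Finset.mem_singleton, not_or] at hp
    refine sroot_step hK (y := Sum.inl p) (Ne.symm hp.1) hxz (fun e => hp.2 (hyz ▸ e)) ?_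
    exact sroot_step hK hxy (Ne.symm hp.1) (Ne.symm hp.2) h
  · exact sroot_step hK hxy hxz hyz h

theorem mem_shortScalars_of {x y : ι} {c : F} (hxy : hpair x ≠ hpair y)
    (h : sroot (uvec x) (uvec y) c ∈ K) : c ∈ shortScalars K := by
  intro x' y' hxy'
  obtain ⟨p, hp⟩ := exists_fresh {hpair x, hpair x'} (lt_of_le_of_lt Finset.card_le_two (by omega))
  simp only [Finset.mem_insert, Finset.mem_singleton, not_or] at hp
  have h1 := sroot_move hm hK (z := Sum.inl p) hxy (Ne.symm hp.1) h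
  rw [sroot_comm _ _ (sf_uvec_uvec_eq_zero (x := x) (y := Sum.inl p) (Ne.symm hp.1))] at h1
  have h2 := sroot_move hm hK (x := Sum.inl p) (y := x) (z := x') hp.1 hp.2 h1
  rw [sroot_comm _ _ (sf_uvec_uvec_eq_zero (x := Sum.inl p) (y := x') hp.2)] at h2
  exact sroot_move hm hK (x := x') (y := Sum.inl p) (z := y') (Ne.symm hp.2) hxy' h2

/-- The short scalars form a subfield. -/
theorem exists_shortField [Finite F] :
    ∃ S : Subfield F, (∀ c, c ∈ S ↔ c ∈ shortScalars K) ∧ F₀ ≤ S := by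
  haveI := Fintype.ofFinite F
  have hrat : ∀ c ∈ F₀, c ∈ shortScalars K := fun c hc x y _ => sroot_uvec_mem hK x y hc
  have hneg : ∀ c, c ∈ shortScalars K → -c ∈ shortScalars K := fun c hc x y hxy => by
    have h := sroot_add_coeff (sf_uvec_uvec_eq_zero (F := F) hxy) c (-c)
    rw [add_neg_cancel, sroot_zero] at h
    rw [eq_inv_of_mul_eq_one_right h.symm]
    exact inv_mem (hc x y hxy)
  have hmul : ∀ a b, a ∈ shortScalars K → b ∈ shortScalars K → a * b ∈ shortScalars K := by
    intro a b ha hb x z hxz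
    obtain ⟨p, hp⟩ := exists_fresh {hpair x, hpair z} (lt_of_le_of_lt Finset.card_le_two (by omega))
    simp only [Finset.mem_insert, Finset.mem_singleton, not_or] at hp
    have h := sroot_chain K (x := uvec x) (y := uvec (Sum.inl p)) (w := uvec (Sum.inr p)) (z := uvec z)
      (sf_uvec_uvec_eq_zero (Ne.symm hp.1)) (sf_uvec_uvec_eq_zero hp.2)
      (sf_uvec_uvec_eq_zero (Ne.symm hp.1)) (sf_uvec_uvec_eq_zero hxz) (sf_uvec_uvec_eq_zero hp.2)
      (ha x _ (Ne.symm hp.1)) (hb _ z hp.2)
    rwa [show (Sum.inr p : ι) = (Sum.inl p : ι).swap from rfl, sf_uvec_swap,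
      show usign (F := F) (Sum.inl p : ι) = 1 from rfl, mul_one] at h
  let R : Subring F :=
    { carrier := shortScalars K
      mul_mem' := fun ha hb => hmul _ _ ha hb
      one_mem' := hrat 1 (one_mem _)
      zero_mem' := hrat 0 (zero_mem _)
      add_mem' := fun {a b} ha hb x y hxy => by
        rw [sroot_add_coeff (sf_uvec_uvec_eq_zero hxy)]
        exact mul_mem (ha x y hxy) (hb x y hxy)
      neg_mem' := fun ha => hneg _ ha }
  refine ⟨{ R with inv_mem' := fun c hc => ?_ }, fun c => Iff.rfl, hrat⟩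
  rcases eq_or_ne c 0 with rfl | hc0
  · rw [_root_.inv_zero]; exact R.zero_mem
  · have h : c ^ (Fintype.card F - 2) * c = 1 := by
      have : Fintype.card F - 2 + 1 = Fintype.card F - 1 := by
        have := Fintype.one_lt_card (α := F)
        omega
      rw [← pow_succ, this, FiniteField.pow_card_sub_one_eq_one c hc0]
    rw [inv_eq_of_mul_eq_one_left h]
    exact R.pow_mem hc _

/-- Short root elements with two extra coordinates to spare. -/
theorem coord_mul_mem {δ δ' : V} (h0 : sf δ' δ = 0) (hs : sroot δ' δ 1 ∈ K) {x y : ι}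
    (hx : sf δ (uvec x) = 0) (p q : Fin m) (hpq : p ≠ q) (hpx : hpair x ≠ p) (hpy : hpair y ≠ p)
    (hqy : hpair y ≠ q) (hp : ∀ z, hpair z = p → sf δ (uvec z) = 0 ∧ sf δ' (uvec z) = 0)
    (hq : ∀ z, hpair z = q → sf δ (uvec z) = 0) :
    sf δ' (uvec x) * sf δ (uvec y) ∈ shortScalars K := by
  have hs' : sroot δ δ' 1 ∈ K := by rw [sroot_comm _ _ (H48.sf_eq_zero_comm h0)]; exact hs
  have hzp := hp (Sum.inl p) rfl
  have h1 := sroot_chain K (w := uvec x) (z := uvec (Sum.inl p)) (b := 1) (H48.sf_eq_zero_comm h0)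
    (sf_uvec_uvec_eq_zero hpx) hx hzp.1 hzp.2 hs' (sroot_uvec_mem hK _ _ (one_mem _))
  rw [sroot_comm _ _ hzp.1] at h1
  have h2 := sroot_chain K (w := uvec y) (z := uvec (Sum.inl q)) (b := 1) (H48.sf_eq_zero_comm hzp.1)
    (sf_uvec_uvec_eq_zero hqy) (sf_uvec_uvec_eq_zero (Ne.symm hpy : p ≠ hpair y))
    (sf_uvec_uvec_eq_zero (show hpair (Sum.inl p : ι) ≠ hpair (Sum.inl q : ι) from hpq))
    (hq (Sum.inl q) rfl) h1 (sroot_uvec_mem hK _ _ (one_mem _))
  have h3 := mem_shortScalars_of hm hK (x := Sum.inl p) (y := Sum.inl q) (show p ≠ q from hpq) h2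
  convert h3 using 1
  rw [H48.sf_swap δ' (uvec x), H48.sf_swap δ (uvec y)]
  ring

end H49
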