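import Cfsg.Agent.H49.StabMax

/-!
Overgroups of the symplectic group over an extension field of prime degree inside the symplectic group.
-/

set_option autoImplicit false

namespace H49

open Matrix
open H48 (sf tv)

variable {m : ℕ} {F : Type*} [Field F] {E : Type*} [Field E] [Algebra F E]

local notation "V" => (Fin m ⊕ Fin m → F)
local notation "Sp" => Matrix.symplecticGroup (Fin m) F

/-- An extension field acting self-adjointly, with the form over it. -/
structure ExtStr (ρ : E →ₐ[F] Module.End F (Fin m ⊕ Fin m → F)) (τ : E →ₗ[F] F)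
    (φ : (Fin m ⊕ Fin m → F) → (Fin m ⊕ Fin m → F) → E) : Prop where
  sa : ∀ c x y, sf (ρ c x) y = sf x (ρ c y)
  alt : ∀ c x, sf (ρ c x) x = 0
  nz : τ ≠ 0
  spec : ∀ c x y, τ (c * φ x y) = sf (ρ c x) y
  prime : (Module.finrank F E).Prime
  big : 5 ≤ m

theorem tau_ext {τ : E →ₗ[F] F} (hτ : τ ≠ 0) {a b : E} (h : ∀ c, τ (c * a) = τ (c * b)) : a = b := by
  by_contra hne
  apply hτ
  refine LinearMap.ext fun e => ?_
  have h1 := h (e / (a - b))
  have : e = e / (a - b) * a - e / (a - b) * b := by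
    rw [← mul_sub, div_mul_cancel₀ _ (sub_ne_zero.2 hne)]
  rw [LinearMap.zero_apply, this, map_sub, h1, sub_self]

theorem tau_dual_surjective [FiniteDimensional F E] {τ : E →ₗ[F] F} (hτ : τ ≠ 0) (f : E →ₗ[F] F) :
    ∃ a : E, ∀ c, τ (a * c) = f c := by
  let T : E →ₗ[F] Module.Dual F E := (LinearMap.mul F E).compr₂ τ
  have hT : Function.Injective T := fun a b e => tau_ext hτ fun c => by
    rw [mul_comm c a, mul_comm c b]; exact LinearMap.congr_fun e c
  obtain ⟨a, ha⟩ := (LinearMap.injective_iff_surjective_of_finrank_eq_finrank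
    Subspace.dual_finrank_eq.symm).1 hT f
  exact ⟨a, fun c => LinearMap.congr_fun ha c⟩

/-- The form over the extension field exists. -/
theorem exists_extForm [FiniteDimensional F E] (ρ : E →ₐ[F] Module.End F (Fin m ⊕ Fin m → F))
    {τ : E →ₗ[F] F} (hτ : τ ≠ 0) :
    ∃ φ : (Fin m ⊕ Fin m → F) → (Fin m ⊕ Fin m → F) → E, ∀ c x y, τ (c * φ x y) = sf (ρ c x) y := by
  have key : ∀ x y : Fin m ⊕ Fin m → F, ∃ a : E, ∀ c, τ (c * a) = sf (ρ c x) y := by
    intro x y
    obtain ⟨a, ha⟩ := tau_dual_surjective hτ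
      (((sf (l := Fin m) (F := F)).flip y).comp ((LinearMap.applyₗ (R := F) x).comp ρ.toLinearMap))
    exact ⟨a, fun c => by rw [mul_comm, ha]; rfl⟩
  choose φ hφ using key
  exact ⟨φ, fun c x y => hφ x y c⟩

/-- The line over the extension field. -/
def eline (ρ : E →ₐ[F] Module.End F (Fin m ⊕ Fin m → F)) (v : Fin m ⊕ Fin m → F) :
    Submodule F (Fin m ⊕ Fin m → F) :=
  LinearMap.range ((LinearMap.applyₗ (R := F) v).comp ρ.toLinearMap)

theorem mem_eline {ρ : E →ₐ[F] Module.End F V} {v x : V} : x ∈ eline ρ v ↔ ∃ c, ρ c v = x := Iff.rfl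

/-- The image of a line. -/
def gline (ρ : E →ₐ[F] Module.End F (Fin m ⊕ Fin m → F)) (g : Matrix.symplecticGroup (Fin m) F)
    (v : Fin m ⊕ Fin m → F) : Submodule F (Fin m ⊕ Fin m → F) :=
  (eline ρ v).map (DistribMulAction.toLinearEquiv F (Fin m ⊕ Fin m → F) g).toLinearMap

theorem mem_gline {ρ : E →ₐ[F] Module.End F V} {g : Sp} {v x : V} :
    x ∈ gline ρ g v ↔ ∃ c, g • ρ c v = x := by
  simp only [gline, Submodule.mem_map, mem_eline]
  constructor
  · rintro ⟨y, ⟨c, rfl⟩, rfl⟩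
    exact ⟨c, rfl⟩
  · rintro ⟨c, rfl⟩
    exact ⟨_, ⟨c, rfl⟩, rfl⟩

namespace ExtStr

variable {ρ : E →ₐ[F] Module.End F (Fin m ⊕ Fin m → F)} {τ : E →ₗ[F] F} {φ : (Fin m ⊕ Fin m → F) → (Fin m ⊕ Fin m → F) → E} (d : ExtStr ρ τ φ)
include d

theorem phi_ext {x y : V} {a : E} (h : ∀ c, τ (c * a) = sf (ρ c x) y) : φ x y = a :=
  tau_ext d.nz fun c => by rw [d.spec, h]

theorem add_left (x x' y : V) : φ (x + x') y = φ x y + φ x' y :=
  d.phi_ext fun c => by rw [mul_add, map_add, d.spec, d.spec, map_add, map_add, LinearMap.add_apply]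

theorem add_right (x y y' : V) : φ x (y + y') = φ x y + φ x y' :=
  d.phi_ext fun c => by rw [mul_add, map_add, d.spec, d.spec, map_add]

theorem rho_left (a : E) (x y : V) : φ (ρ a x) y = a * φ x y :=
  d.phi_ext fun c => by rw [← mul_assoc, d.spec, map_mul, Module.End.mul_apply]

theorem rho_right (a : E) (x y : V) : φ x (ρ a y) = a * φ x y :=
  d.phi_ext fun c => by
    rw [← mul_assoc, d.spec, mul_comm c a, map_mul, Module.End.mul_apply, d.sa]

theorem phi_self (x : V) : φ x x = 0 :=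
  d.phi_ext fun c => by rw [mul_zero, map_zero, d.alt]

theorem phi_swap (x y : V) : φ y x = - φ x y :=
  d.phi_ext fun c => by rw [mul_neg, map_neg, d.spec, d.sa, ← H48.sf_swap]

theorem phi_zero_left (y : V) : φ 0 y = 0 :=
  d.phi_ext fun c => by rw [mul_zero, map_zero, map_zero, map_zero, LinearMap.zero_apply]

theorem phi_zero_right (x : V) : φ x 0 = 0 :=
  d.phi_ext fun c => by rw [mul_zero, map_zero, map_zero]

theorem sub_left (x x' y : V) : φ (x - x') y = φ x y - φ x' y :=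
  eq_sub_of_add_eq (by rw [← d.add_left, sub_add_cancel])

theorem sub_right (x y y' : V) : φ x (y - y') = φ x y - φ x y' :=
  eq_sub_of_add_eq (by rw [← d.add_right, sub_add_cancel])

theorem sf_eq (x y : V) : sf x y = τ (φ x y) := by
  have := d.spec 1 x y
  rwa [one_mul, map_one, Module.End.one_apply, eq_comm] at this

theorem spec_right (c : E) (x y : V) : τ (c * φ x y) = sf x (ρ c y) := by rw [d.spec, d.sa]

theorem sf_eq_zero {x y : V} (h : φ x y = 0) : sf x y = 0 := by rw [d.sf_eq, h, map_zero]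

theorem phi_zero_comm {x y : V} (h : φ x y = 0) : φ y x = 0 := by rw [d.phi_swap, h, neg_zero]

theorem exists_phi_ne {x : V} (hx : x ≠ 0) : ∃ y, φ x y ≠ 0 := by
  obtain ⟨y, hy⟩ := H48.exists_sf_ne hx
  exact ⟨y, fun h => hy (d.sf_eq_zero h)⟩

theorem exists_phi_eq {x : V} (hx : x ≠ 0) (p : E) : ∃ y, φ x y = p := by
  obtain ⟨y, hy⟩ := d.exists_phi_ne hx
  exact ⟨ρ (p / φ x y) y, by rw [d.rho_right, div_mul_cancel₀ _ hy]⟩

/-- The double orthogonal of a line. -/
theorem mem_eline_of_perp {v x : V} (hv : v ≠ 0) (h : ∀ y, φ v y = 0 → φ x y = 0) : x ∈ eline ρ v := by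
  obtain ⟨y₀, hy₀⟩ := d.exists_phi_eq hv 1
  refine mem_eline.2 ⟨φ x y₀, ?_⟩
  rw [eq_comm, ← sub_eq_zero]
  by_contra hne
  obtain ⟨y, hy⟩ := d.exists_phi_ne hne
  apply hy
  have h1 := h (y - ρ (φ v y) y₀) (by rw [d.sub_right, d.rho_right, hy₀, mul_one, sub_self])
  rw [d.sub_right, d.rho_right, sub_eq_zero] at h1
  rw [d.sub_left, d.rho_left, h1]
  ring

/-- A vector orthogonal to the first and to neither of the other two. -/
theorem exists_avoid {z a b : V} (ha : a ∉ eline ρ z) (hb : b ∉ eline ρ z) :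
    ∃ y, φ z y = 0 ∧ φ a y ≠ 0 ∧ φ b y ≠ 0 := by
  have one : ∀ u : V, u ∉ eline ρ z → ∃ y, φ z y = 0 ∧ φ u y ≠ 0 := by
    intro u hu
    by_cases hz : z = 0
    · obtain ⟨y, hy⟩ := d.exists_phi_ne (x := u) fun e => hu (by rw [e]; exact Submodule.zero_mem _)
      exact ⟨y, by rw [hz, d.phi_zero_left], hy⟩
    by_contra hcon
    simp only [not_exists, not_and, not_not] at hcon
    exact hu (d.mem_eline_of_perp hz hcon)
  obtain ⟨y₁, h₁, k₁⟩ := one a ha
  obtain ⟨y₂, h₂, k₂⟩ := one b hb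
  by_cases c₁ : φ b y₁ = 0
  · by_cases c₂ : φ a y₂ = 0
    · exact ⟨y₁ + y₂, by rw [d.add_right, h₁, h₂, add_zero], by rw [d.add_right, c₂, add_zero]; exact k₁,
        by rw [d.add_right, c₁, zero_add]; exact k₂⟩
    · exact ⟨y₂, h₂, c₂, k₂⟩
  · exact ⟨y₁, h₁, k₁, c₁⟩

theorem not_mem_eline_symm {v x : V} (hx : x ∉ eline ρ v) (hv : v ≠ 0) : v ∉ eline ρ x := by
  intro h
  obtain ⟨c, hc⟩ := mem_eline.1 h
  have hc0 : c ≠ 0 := fun e => hv (by rw [← hc, e, map_zero, LinearMap.zero_apply])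
  refine hx (mem_eline.2 ⟨c⁻¹, ?_⟩)
  rw [← hc, ← Module.End.mul_apply, ← map_mul, inv_mul_cancel₀ hc0, map_one, Module.End.one_apply]

theorem rho_eq_zero {c : E} {v : V} (h : ρ c v = 0) : c = 0 ∨ v = 0 := by
  by_contra hne
  simp only [not_or] at hne
  apply hne.2
  have := congrArg (ρ c⁻¹) h
  rwa [← Module.End.mul_apply, ← map_mul, inv_mul_cancel₀ hne.1, map_one, Module.End.one_apply, map_zero] at this

theorem rho_inj {a b : E} {v : V} (hv : v ≠ 0) (h : ρ a v = ρ b v) : a = b := by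
  have : ρ (a - b) v = 0 := by rw [map_sub, LinearMap.sub_apply, h, sub_self]
  exact sub_eq_zero.1 ((d.rho_eq_zero this).resolve_right hv)

theorem finrank_eline {v : V} (hv : v ≠ 0) : Module.finrank F (eline ρ v) = Module.finrank F E :=
  LinearMap.finrank_range_of_inj fun _ _ h => d.rho_inj hv h

theorem finrank_gline {g : Sp} {v : V} (hv : v ≠ 0) : Module.finrank F (gline ρ g v) = Module.finrank F E := by
  rw [gline, LinearEquiv.finrank_map_eq, d.finrank_eline hv]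

/-- An additive map preserving all lines is a scalar. -/
theorem scalar_of_lines (J : V → V) (hadd : ∀ x y, J (x + y) = J x + J y) (h : ∀ x, J x ∈ eline ρ x) :
    ∃ e, ∀ x, J x = ρ e x := by
  have indep : ∀ v w, v ≠ 0 → w ∉ eline ρ v → ∀ a b, J v = ρ a v → J w = ρ b w → a = b := by
    intro v w hv hw a b ha hb
    obtain ⟨c, hc⟩ := mem_eline.1 (h (v + w))
    rw [hadd, ha, hb, map_add] at hc
    have h1 : ρ (c - b) w = ρ (a - c) v := by
      rw [map_sub, map_sub, LinearMap.sub_apply, LinearMap.sub_apply]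
      linear_combination (norm := module) hc
    by_cases hcb : c - b = 0
    · rw [hcb, map_zero, LinearMap.zero_apply] at h1
      have := (d.rho_eq_zero h1.symm).resolve_right hv
      rw [sub_eq_zero] at hcb this
      rw [this, hcb]
    · exfalso
      refine hw (mem_eline.2 ⟨(c - b)⁻¹ * (a - c), ?_⟩)
      rw [map_mul, Module.End.mul_apply, ← h1, ← Module.End.mul_apply, ← map_mul, inv_mul_cancel₀ hcb,
        map_one, Module.End.one_apply]
  have := d.big
  haveI : Nonempty (Fin m ⊕ Fin m) := ⟨Sum.inl ⟨0, by omega⟩⟩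
  obtain ⟨v, hv⟩ := exists_ne (0 : Fin m ⊕ Fin m → F)
  obtain ⟨w, hw⟩ := d.exists_phi_ne hv
  have hwv : w ∉ eline ρ v := fun e => by
    obtain ⟨c, rfl⟩ := mem_eline.1 e
    rw [d.rho_right, d.phi_self, mul_zero] at hw
    exact hw rfl
  obtain ⟨e, he⟩ := mem_eline.1 (h v)
  refine ⟨e, fun x => ?_⟩
  obtain ⟨a, ha⟩ := mem_eline.1 (h x)
  by_cases hx0 : x = 0
  · subst hx0
    rw [map_zero] at ha
    rw [map_zero, ← ha]
  by_cases hx : x ∈ eline ρ v
  · have hw0 : w ≠ 0 := fun e => hwv (by rw [e]; exact Submodule.zero_mem _)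
    obtain ⟨b, hb⟩ := mem_eline.1 (h w)
    have hxw : x ∉ eline ρ w := fun hxw => by
      obtain ⟨p, hp⟩ := mem_eline.1 hxw
      obtain ⟨q, hq⟩ := mem_eline.1 hx
      apply hwv
      refine mem_eline.2 ⟨p⁻¹ * q, ?_⟩
      have hp0 : p ≠ 0 := fun e => hx0 (by rw [← hp, e, map_zero, LinearMap.zero_apply])
      rw [map_mul, Module.End.mul_apply, hq, ← hp, ← Module.End.mul_apply, ← map_mul, inv_mul_cancel₀ hp0,
        map_one, Module.End.one_apply]
    rw [← ha, ← indep w x hw0 hxw b a hb.symm ha.symm, ← indep v w hv hwv e b he.symm hb.symm]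
  · rw [← ha, ← indep v x hv hx e a he.symm ha.symm]

variable {M : Subgroup (Matrix.symplecticGroup (Fin m) F)}
  (hH : ∀ g : Matrix.symplecticGroup (Fin m) F, (∀ c w, g • ρ c w = ρ c (g • w)) → g ∈ M)
include hH

/-- Transvections over the extension field. -/
theorem root_mem (v : V) (a : E) :
    ∃ s ∈ M, (∀ x, s • x = x + ρ (a * φ x v) v) ∧ ∀ c x, s • ρ c x = ρ c (s • x) := by
  let T : V →ₗ[F] V :=
    { toFun := fun x => x + ρ (a * φ x v) v
      map_add' := fun x y => by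
        rw [d.add_left, mul_add, map_add, LinearMap.add_apply]
        abel
      map_smul' := fun t x => by
        have : φ (t • x) v = t • φ x v := by
          have h := d.rho_left (algebraMap F E t) x v
          rwa [AlgHom.commutes, Module.algebraMap_end_apply, ← Algebra.smul_def] at h
        rw [this, mul_smul_comm, map_smul, LinearMap.smul_apply, smul_add]
        rfl }
  have hT : ∀ x, T x = x + ρ (a * φ x v) v := fun x => rfl
  have hmem : LinearMap.toMatrix' T ∈ Matrix.symplecticGroup (Fin m) F := by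
    rw [H48.mem_symplectic_iff]
    intro x y
    rw [LinearMap.toMatrix'_mulVec, LinearMap.toMatrix'_mulVec, hT, hT]
    simp only [map_add, LinearMap.add_apply]
    have e1 : sf (ρ (a * φ x v) v) y = τ (a * φ x v * φ v y) := (d.spec _ _ _).symm
    have e2 : sf x (ρ (a * φ y v) v) = τ (a * φ y v * φ x v) := (d.spec_right _ _ _).symm
    have e3 : sf (ρ (a * φ x v) v) (ρ (a * φ y v) v) = 0 :=
      d.sf_eq_zero (by rw [d.rho_left, d.rho_right, d.phi_self, mul_zero, mul_zero])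
    rw [e1, e2, e3, add_zero, add_assoc, ← map_add,
      show a * φ x v * φ v y + a * φ y v * φ x v = 0 by rw [d.phi_swap v y]; ring, map_zero, add_zero]
  let s : Sp := ⟨_, hmem⟩
  have hs : ∀ x, s • x = x + ρ (a * φ x v) v := fun x => by
    rw [H48.spSmulDef]
    exact LinearMap.toMatrix'_mulVec T x
  have hc : ∀ c x, s • ρ c x = ρ c (s • x) := fun c x => by
    rw [hs, hs, map_add, d.rho_left, mul_left_comm, map_mul, Module.End.mul_apply]
  exact ⟨s, hH s hc, hs, hc⟩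

/-- Transitivity fixing a vector. -/
theorem exists_move {z a b : V} (ha : a ∉ eline ρ z) (hb : b ∉ eline ρ z) (hza : φ z a = 0) (hzb : φ z b = 0) :
    ∃ h ∈ M, (∀ c x, h • ρ c x = ρ c (h • x)) ∧ h • a = b ∧ h • z = z := by
  have step : ∀ a b, φ z a = 0 → φ z b = 0 → φ a b ≠ 0 →
      ∃ h ∈ M, (∀ c x, h • ρ c x = ρ c (h • x)) ∧ h • a = b ∧ h • z = z := by
    intro a b hza hzb hab
    obtain ⟨s, hsM, hs, hc⟩ := d.root_mem hH (b - a) (φ a b)⁻¹
    refine ⟨s, hsM, hc, ?_, ?_⟩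
    · rw [hs, d.sub_right, d.phi_self, sub_zero, inv_mul_cancel₀ hab, map_one, Module.End.one_apply,
        add_sub_cancel]
    · rw [hs, d.sub_right, hza, hzb, sub_zero, mul_zero, map_zero, LinearMap.zero_apply, add_zero]
  obtain ⟨y, hzy, hay, hby⟩ := d.exists_avoid ha hb
  obtain ⟨h₁, hM₁, hc₁, ha₁, hz₁⟩ := step a y hza hzy hay
  obtain ⟨h₂, hM₂, hc₂, ha₂, hz₂⟩ := step y b hzy hzb (fun e => hby (d.phi_zero_comm e))
  exact ⟨h₂ * h₁, mul_mem hM₂ hM₁, fun c x => by rw [mul_smul, mul_smul, hc₁, hc₂],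
    by rw [mul_smul, ha₁, ha₂], by rw [mul_smul, hz₁, hz₂]⟩

/-- Transitivity on non-zero vectors. -/
theorem exists_move₀ {a b : V} (ha : a ≠ 0) (hb : b ≠ 0) :
    ∃ h ∈ M, (∀ c x, h • ρ c x = ρ c (h • x)) ∧ h • a = b := by
  have h0 : ∀ u : V, u ≠ 0 → u ∉ eline ρ 0 := fun u hu e => hu (by
    obtain ⟨c, rfl⟩ := mem_eline.1 e
    exact map_zero _)
  obtain ⟨h, hM, hc, hab, -⟩ :=
    d.exists_move hH (h0 a ha) (h0 b hb) (d.phi_zero_left a) (d.phi_zero_left b)
  exact ⟨h, hM, hc, hab⟩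

/-- One transvection gives everything. -/
theorem top_of_tv [Fintype F] {z : V} {k : F} (hz : z ≠ 0) (hk : k ≠ 0) (h : tv z k ∈ M) : M = ⊤ := by
  refine eq_top_of_ctr M fun v => ?_
  by_cases hv : v = 0
  · intro c; rw [hv, H48.tv_zero_left]; exact one_mem _
  have hsq : ∀ a : F, tv v (a * a * k) ∈ M := by
    intro a
    rw [← H48.tv_scale]
    by_cases ha : a = 0
    · rw [ha, zero_smul, H48.tv_zero_left]; exact one_mem _
    obtain ⟨g, hg, -, hgz⟩ := d.exists_move₀ hH hz (smul_ne_zero ha hv)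
    rw [← hgz, ← H48.tv_conj]
    exact mul_mem (mul_mem hg h) (inv_mem hg)
  intro c
  by_cases h2 : (2 : F) = 0
  · obtain ⟨a, ha⟩ : IsSquare (c / k) := FiniteField.isSquare_of_char_two (by
      exact ringChar.eq_iff.2 (CharTwo.of_one_ne_zero_of_two_eq_zero one_ne_zero h2)) _
    have := hsq a
    rwa [← ha, div_mul_cancel₀ c hk] at this
  · have := mul_mem (hsq ((c / k + 1) / 2)) (inv_mem (hsq ((c / k - 1) / 2)))
    rw [H48.tv_inv, H48.tv_mul] at this
    convert this using 2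
    field_simp
    ring

/-- An element of the subgroup not normalising the field moves some line to a non-orthogonal one. -/
theorem exists_pair [Fintype F] [Fintype E] {g : Sp} (hg : g ∈ M)
    (hnot : ¬ ∀ c, ∃ e, ∀ x, ρ c (g • x) = g • ρ e x) :
    ∃ g' ∈ M, ∃ v w : V, v ≠ 0 ∧ w ≠ 0 ∧ g' • v ∈ eline ρ w ∧ ∃ a, φ (g' • ρ a v) w ≠ 0 := by
  by_contra hcon
  have hP : ∀ g ∈ M, ∀ v a c, sf (ρ c (g • ρ a v)) (g • v) = 0 := by
    intro g hg v a c
    by_contra h
    have hv : v ≠ 0 := by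
      intro e; apply h; simp [e]
    refine hcon ⟨g, hg, v, g • v, hv, (smul_ne_zero_iff_ne g).2 hv,
      mem_eline.2 ⟨1, by rw [map_one, Module.End.one_apply]⟩, a, fun e => h ?_⟩
    rw [← d.spec, e, mul_zero, map_zero]
  -- conjugates of the field commute with it
  obtain ⟨J, hJ⟩ : ∃ J : Sp → E → V → V, ∀ g c x, J g c x = g⁻¹ • ρ c (g • x) := ⟨_, fun _ _ _ => rfl⟩
  have Jsa : ∀ g c x y, sf (J g c x) y = sf x (J g c y) := fun g c x y => by
    rw [hJ, hJ, H48.sf_smul_left, inv_inv, d.sa, H48.sf_smul_left]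
  have Jalt : ∀ g ∈ M, ∀ c a v, sf (J g c (ρ a v)) v = 0 := fun g hg c a v => by
    rw [hJ, H48.sf_smul_left, inv_inv]
    exact hP g hg v a c
  have Jadd : ∀ g c x y, J g c (x + y) = J g c x + J g c y := fun g c x y => by
    rw [hJ, hJ, hJ, smul_add, map_add, smul_add]
  have Jcomm : ∀ g ∈ M, ∀ c a v, J g c (ρ a v) = ρ a (J g c v) := by
    intro g hg c a u
    rw [← sub_eq_zero]
    refine H48.eq_zero_of_sf fun v => ?_
    have h1 := Jalt g hg c a (u + v)
    rw [map_add (ρ a), Jadd, map_add sf, LinearMap.add_apply, map_add, map_add, Jalt g hg c a u,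
      Jalt g hg c a v, zero_add, add_zero] at h1
    rw [map_sub, LinearMap.sub_apply, d.sa, Jsa g c u, H48.sf_swap (J g c (ρ a v)) u]
    linear_combination h1
  have Jphi : ∀ g ∈ M, ∀ c x y, φ (J g c x) y = φ x (J g c y) := fun g hg c x y =>
    d.phi_ext fun e => by rw [d.spec, ← Jcomm g hg, Jsa]
  have Jself : ∀ g ∈ M, ∀ c v, φ (J g c v) v = 0 := fun g hg c v =>
    d.phi_ext fun e => by rw [mul_zero, map_zero, ← Jcomm g hg, Jalt g hg]
  -- conjugates commute with each other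
  have key : ∀ s v, ((2 : F) ≠ 0 → J g s v ∈ eline ρ v) ∧ ((2 : F) = 0 → J g s (J g s v) ∈ eline ρ v) := by
    intro s v
    have hrel : ∀ y, ρ (φ y v) (J g s (J g s v)) + ρ (φ y (J g s (J g s v))) v =
        (2 : F) • ρ (φ y (J g s v)) (J g s v) := by
      intro y
      obtain ⟨u, huM, hu, -⟩ := d.root_mem hH v 1
      have hu' : ∀ x, u⁻¹ • x = x - ρ (φ x v) v := fun x => by
        rw [inv_smul_eq_iff, hu, d.sub_left, d.rho_left, d.phi_self, mul_zero, sub_zero, one_mul]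
        abel
      have hconj : ∀ x, u • J g s (u⁻¹ • x) =
          J g s x - ρ (φ x v) (J g s v) + ρ (φ x (J g s v)) v := by
        intro x
        have hsub : J g s (x - ρ (φ x v) v) = J g s x - ρ (φ x v) (J g s v) := by
          rw [← Jcomm g hg]
          exact eq_sub_of_add_eq (by rw [← Jadd, sub_add_cancel])
        rw [hu', hsub, hu, d.sub_left, d.rho_left, Jself g hg, mul_zero, sub_zero, one_mul, Jphi g hg]
      have hg' : g * u⁻¹ * g⁻¹ ∈ M := mul_mem (mul_mem hg (inv_mem huM)) (inv_mem hg)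
      have h1 := Jcomm _ hg' s s (g • y)
      simp only [hJ, _root_.mul_inv_rev, inv_inv, mul_smul, inv_smul_smul] at h1
      have h2 : g • (u • J g s (u⁻¹ • J g s y)) = ρ s (g • (u • J g s (u⁻¹ • y))) := by
        simpa [hJ, mul_smul] using h1
      have h3 : u • J g s (u⁻¹ • J g s y) = J g s (u • J g s (u⁻¹ • y)) := by
        rw [hJ g s (u • _), ← h2, inv_smul_smul]
      have hsub : ∀ p q : V, J g s (p - q) = J g s p - J g s q := fun p q =>
        eq_sub_of_add_eq (by rw [← Jadd, sub_add_cancel])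
      rw [hconj, hconj, Jadd, hsub, Jcomm g hg, Jcomm g hg, Jphi g hg, Jphi g hg] at h3
      linear_combination (norm := module) h3
    refine ⟨fun h2 => ?_, fun h2 => ?_⟩
    · by_contra hmem
      obtain ⟨y, hy1, hy2⟩ : ∃ y, φ y v = 0 ∧ φ y (J g s v) = 1 := by
        obtain ⟨y, hvy, hJy, -⟩ := d.exists_avoid hmem hmem
        refine ⟨ρ (φ y (J g s v))⁻¹ y, by rw [d.rho_left, d.phi_zero_comm hvy, mul_zero], ?_⟩
        rw [d.rho_left, inv_mul_cancel₀ fun e => hJy (d.phi_zero_comm e)]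
      have h := hrel y
      rw [hy1, hy2, map_zero, LinearMap.zero_apply, zero_add, map_one, Module.End.one_apply] at h
      apply hmem
      rw [← Submodule.smul_mem_iff _ h2, ← h]
      exact mem_eline.2 ⟨_, rfl⟩
    · by_cases hv : v = 0
      · have hz : J g s 0 = 0 := by rw [hJ, smul_zero, map_zero, smul_zero]
        rw [hv, hz, hz]
        exact Submodule.zero_mem _
      obtain ⟨y₀, hy₀⟩ := d.exists_phi_eq hv (-1)
      have h := hrel y₀
      rw [d.phi_swap v y₀, hy₀, neg_neg, map_one, Module.End.one_apply, h2, zero_smul] at h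
      rw [eq_neg_of_add_eq_zero_left h]
      exact Submodule.neg_mem _ (mem_eline.2 ⟨_, rfl⟩)
  apply hnot
  intro c
  obtain ⟨e, he⟩ : ∃ e, ∀ x, J g c x = ρ e x := by
    by_cases h2 : (2 : F) = 0
    · haveI : CharP E 2 := CharTwo.of_one_ne_zero_of_two_eq_zero one_ne_zero (by
        rw [← map_ofNat (algebraMap F E) 2, h2, map_zero])
      obtain ⟨s, rfl⟩ := FiniteField.isSquare_of_char_two (ringChar.eq_iff.2 ‹CharP E 2›) c
      have hJJ : ∀ x, J g (s * s) x = J g s (J g s x) := fun x => by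
        rw [hJ, hJ g s (J g s x), hJ, smul_inv_smul, map_mul, Module.End.mul_apply]
      exact d.scalar_of_lines (J g (s * s)) (Jadd g _) fun x => by rw [hJJ]; exact (key s x).2 h2
    · exact d.scalar_of_lines (J g c) (Jadd g c) fun x => (key c x).1 h2
  exact ⟨e, fun x => by rw [← he, hJ, smul_inv_smul]⟩

omit d hH in
theorem gline_inf (g₁ g₂ : Sp) (v₁ v₂ : V) :
    Module.finrank F ↥(gline ρ (g₂⁻¹ * g₁) v₁ ⊓ eline ρ v₂) =
      Module.finrank F ↥(gline ρ g₁ v₁ ⊓ gline ρ g₂ v₂) := by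
  have e : gline ρ g₁ v₁ ⊓ gline ρ g₂ v₂ =
      (gline ρ (g₂⁻¹ * g₁) v₁ ⊓ eline ρ v₂).map (DistribMulAction.toLinearEquiv F V g₂).toLinearMap := by
    rw [Submodule.map_inf _ (LinearEquiv.injective _), gline, gline, gline, ← Submodule.map_comp]
    congr 2
    refine LinearMap.ext fun x => ?_
    show g₁ • x = g₂ • (g₂⁻¹ * g₁) • x
    rw [mul_smul, smul_inv_smul]
  rw [e, LinearEquiv.finrank_map_eq]

/-- A subgroup of axis transvections on some line. -/
theorem exists_axis [Fintype F] [Fintype E] {g : Sp} (hg : g ∈ M)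
    (hnot : ¬ ∀ c, ∃ e, ∀ x, ρ c (g • x) = g • ρ e x) :
    ∃ g' ∈ M, ∃ (v : V) (h : E), v ≠ 0 ∧ h ≠ 0 ∧
      (∀ z, τ (h * z) = 0 → ∃ a ∈ M, ∀ c, a • ρ c v = ρ (c + τ (h * c) • z) v) ∧
      ∀ z ξ, z ≠ 0 → τ (h * z) = 0 → τ (h * ξ) ≠ 0 → g' • ρ ξ v ∉ eline ρ (g' • ρ z v) := by
  classical
  set r := Module.finrank F E with hr
  let P : ℕ → Prop := fun n => ∃ g ∈ M, ∃ v w : V, v ≠ 0 ∧ w ≠ 0 ∧ gline ρ g v ≠ eline ρ w ∧
    Module.finrank F ↥(gline ρ g v ⊓ eline ρ w) = n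
  obtain ⟨g₁, hg₁, v₁, w₁, hv₁, hw₁, hmem₁, a₁, ha₁⟩ := d.exists_pair hH hg hnot
  set n₀ := Module.finrank F ↥(gline ρ g₁ v₁ ⊓ eline ρ w₁)
  have hn₀ : 0 < n₀ := by
    refine Nat.pos_of_ne_zero fun e => ?_
    have : g₁ • v₁ ∈ gline ρ g₁ v₁ ⊓ eline ρ w₁ :=
      ⟨mem_gline.2 ⟨1, by rw [map_one, Module.End.one_apply]⟩, hmem₁⟩
    rw [Submodule.finrank_eq_zero.1 e, Submodule.mem_bot, smul_eq_zero_iff_eq] at this
    exact hv₁ this
  have hP₀ : P n₀ := ⟨g₁, hg₁, v₁, w₁, hv₁, hw₁, fun e => ha₁ (by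
    have : g₁ • ρ a₁ v₁ ∈ eline ρ w₁ := e ▸ mem_gline.2 ⟨a₁, rfl⟩
    obtain ⟨c, hc⟩ := mem_eline.1 this
    rw [← hc, d.rho_left, d.phi_self, mul_zero]), rfl⟩
  have hbound : ∀ n, P n → n ≤ r := by
    rintro n ⟨g, -, v, w, hv, -, -, rfl⟩
    exact (Submodule.finrank_mono inf_le_left).trans (d.finrank_gline hv).le
  set D := Nat.findGreatest P r with hD
  have hPD : P D := Nat.findGreatest_spec (hbound _ hP₀) hP₀
  have hDpos : 0 < D := hn₀.trans_le (Nat.le_findGreatest (hbound _ hP₀) hP₀)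
  have hmax : ∀ n, P n → n ≤ D := fun n hn => Nat.le_findGreatest (hbound n hn) hn
  have hpair : ∀ g₁ ∈ M, ∀ g₂ ∈ M, ∀ v : V, v ≠ 0 → gline ρ g₁ v ≠ gline ρ g₂ v →
      Module.finrank F ↥(gline ρ g₁ v ⊓ gline ρ g₂ v) ≤ D := by
    intro g₁ hg₁ g₂ hg₂ v hv hne
    refine hmax _ ⟨g₂⁻¹ * g₁, mul_mem (inv_mem hg₂) hg₁, v, v, hv, hv, fun e => hne ?_, gline_inf g₁ g₂ v v⟩
    have := congrArg (Submodule.map (DistribMulAction.toLinearEquiv F V g₂).toLinearMap) e
    rw [gline, ← Submodule.map_comp] at this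
    refine Eq.trans ?_ this
    rw [gline]
    congr 1
    refine LinearMap.ext fun x => ?_
    show g₁ • x = g₂ • (g₂⁻¹ * g₁) • x
    rw [mul_smul, smul_inv_smul]
  -- a non-orthogonal maximal pair
  obtain ⟨g, hgM, v, w, hv, hw, hne, hdim, l₀, hl₀, hl₀w⟩ : ∃ g ∈ M, ∃ v w : V, v ≠ 0 ∧ w ≠ 0 ∧
      gline ρ g v ≠ eline ρ w ∧ Module.finrank F ↥(gline ρ g v ⊓ eline ρ w) = D ∧
      ∃ l ∈ gline ρ g v, φ l w ≠ 0 := by
    obtain ⟨g, hgM, v, w, hv, hw, hne, hdim⟩ := hPD
    by_cases hex : ∃ l ∈ gline ρ g v, φ l w ≠ 0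
    · exact ⟨g, hgM, v, w, hv, hw, hne, hdim, hex⟩
    simp only [not_exists, not_and, not_not] at hex
    obtain ⟨l, hl, hlw⟩ : ∃ l ∈ gline ρ g v, l ∉ eline ρ w := by
      by_contra hcon
      simp only [not_exists, not_and, not_not] at hcon
      exact hne (Submodule.eq_of_le_of_finrank_eq hcon (by rw [d.finrank_gline hv, d.finrank_eline hw]))
    obtain ⟨y, hwy, hly, -⟩ := d.exists_avoid hlw hlw
    set p := φ l y with hp
    obtain ⟨lam, hlam⟩ : ∃ lam, τ (lam * (p * p)) ≠ 0 := by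
      by_contra hcon
      simp only [not_exists, not_not] at hcon
      apply d.nz
      refine LinearMap.ext fun e => ?_
      rw [LinearMap.zero_apply, ← hcon (e / (p * p)), div_mul_cancel₀ _ (mul_ne_zero hly hly)]
    obtain ⟨u, huM, hu, -⟩ := d.root_mem hH y lam
    obtain ⟨b, hb⟩ := mem_gline.1 hl
    have hsf : sf (u • l) l ≠ 0 := by
      rw [hu, map_add, LinearMap.add_apply, H48.sf_self, zero_add, ← d.spec, d.phi_swap l y, ← hp]
      rw [show lam * p * -p = -(lam * (p * p)) by ring, map_neg]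
      exact neg_ne_zero.2 hlam
    set g' := g⁻¹ * (u * g)
    have hg' : g' ∈ M := mul_mem (inv_mem hgM) (mul_mem huM hgM)
    have hphi : φ (g' • ρ b v) v ≠ 0 := by
      intro e
      apply hsf
      have h1 : sf (g' • ρ b v) (ρ b v) = 0 := d.sf_eq_zero (by rw [d.rho_right, e, mul_zero])
      rw [show g' • ρ b v = g⁻¹ • u • g • ρ b v by simp [g', mul_smul], H48.sf_smul_left, inv_inv, hb] at h1
      exact h1
    have hne' : gline ρ g' v ≠ eline ρ v := fun e => hphi (by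
      obtain ⟨c, hc⟩ := mem_eline.1 (e ▸ mem_gline.2 ⟨b, rfl⟩ : g' • ρ b v ∈ eline ρ v)
      rw [← hc, d.rho_left, d.phi_self, mul_zero])
    refine ⟨g', hg', v, v, hv, hv, hne', le_antisymm (hmax _ ⟨g', hg', v, v, hv, hv, hne', rfl⟩) ?_,
      _, mem_gline.2 ⟨b, rfl⟩, hphi⟩
    rw [gline_inf, ← hdim]
    refine Submodule.finrank_mono fun x hx => ⟨?_, hx.1⟩
    obtain ⟨hx1, hx2⟩ := hx
    obtain ⟨c, hc⟩ := mem_gline.1 hx1
    obtain ⟨c', hc'⟩ := mem_eline.1 hx2
    refine mem_gline.2 ⟨c, ?_⟩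
    rw [mul_smul, hc, hu, ← hc', d.rho_left, hwy, mul_zero, mul_zero, map_zero, LinearMap.zero_apply, add_zero]
  set L := gline ρ g v with hL
  let Z₀ : Submodule F E := L.comap ((LinearMap.applyₗ (R := F) w).comp ρ.toLinearMap)
  have hZ₀ : ∀ e, e ∈ Z₀ ↔ ρ e w ∈ L := fun e => Iff.rfl
  have hZtop : ¬ ∀ e, e ∈ Z₀ := fun hall => hne (Submodule.eq_of_le_of_finrank_eq (fun x hx => by
      obtain ⟨e, rfl⟩ := mem_eline.1 hx
      exact hall e) (by rw [d.finrank_eline hw, d.finrank_gline hv])).symm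
  let Y : Submodule F V :=
    { carrier := {x | x ∈ L ∧ φ x w = 0}
      add_mem' := fun {x y} hx hy => ⟨L.add_mem hx.1 hy.1, by rw [d.add_left, hx.2, hy.2, add_zero]⟩
      zero_mem' := ⟨L.zero_mem, d.phi_zero_left w⟩
      smul_mem' := fun t x hx => ⟨L.smul_mem t hx.1, by
        have h := d.rho_left (algebraMap F E t) x w
        rw [AlgHom.commutes, Module.algebraMap_end_apply] at h
        rw [h, hx.2, mul_zero]⟩ }
  have hYZ : L ⊓ eline ρ w ≤ Y := fun x hx => ⟨hx.1, by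
    obtain ⟨c, rfl⟩ := mem_eline.1 hx.2
    rw [d.rho_left, d.phi_self, mul_zero]⟩
  -- roots stabilising L
  have hstab : ∀ lam : E, ∀ Y' : Submodule F V, D < Module.finrank F Y' →
      (∀ x ∈ Y', x ∈ L ∧ ρ (lam * φ x w) w ∈ L) → ∀ l ∈ L, ρ (lam * φ l w) w ∈ L := by
    intro lam Y' hY' hsub l hl
    obtain ⟨s, hsM, hs, -⟩ := d.root_mem hH w lam
    have heq : gline ρ (s * g) v = L := by
      by_contra hne'
      have hle : Y' ≤ gline ρ (s * g) v ⊓ L := fun x hx => by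
        obtain ⟨hxL, hx'⟩ := hsub x hx
        obtain ⟨c, hc⟩ := mem_gline.1 (L.sub_mem hxL hx')
        refine ⟨mem_gline.2 ⟨c, ?_⟩, hxL⟩
        rw [mul_smul, hc, hs, d.sub_left, d.rho_left, d.phi_self, mul_zero, sub_zero, sub_add_cancel]
      have := (Submodule.finrank_mono hle).trans (hpair _ (mul_mem hsM hgM) g hgM v hv hne')
      omega
    obtain ⟨c, hc⟩ := mem_gline.1 hl
    have h1 : s • l ∈ L := heq ▸ mem_gline.2 ⟨c, by rw [mul_smul, hc]⟩
    rwa [hs, L.add_mem_iff_right hl] at h1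
  have hYdim : Module.finrank F Y ≤ D := by
    by_contra hlt
    apply hZtop
    intro e
    have := hstab (e / φ l₀ w) Y (by omega) (fun x hx => ⟨hx.1, by
      rw [hx.2, mul_zero, map_zero, LinearMap.zero_apply]; exact L.zero_mem⟩) l₀ hl₀
    rwa [div_mul_cancel₀ _ hl₀w] at this
  have hY : L ⊓ eline ρ w = Y := Submodule.eq_of_le_of_finrank_le hYZ (hYdim.trans hdim.ge)
  -- the multiplier ring
  have hmult : ∀ z ∈ Z₀, ∀ p ∈ L, φ p w ≠ 0 → ∀ l ∈ L, z * (φ l w / φ p w) ∈ Z₀ := by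
    intro z hz p hp hpw l hl
    have hYlt : Y < Y ⊔ Submodule.span F {p} := lt_of_le_of_ne le_sup_left fun e => hpw
      (e ▸ Submodule.mem_sup_right (Submodule.mem_span_singleton_self p) : p ∈ Y).2
    have := hstab (z / φ p w) (Y ⊔ Submodule.span F {p}) (by
      have := Submodule.finrank_lt_finrank_of_lt hYlt
      rw [← hY, hdim] at this
      rwa [← hY]) (fun x hx => by
      obtain ⟨y, hy, q, hq, rfl⟩ := Submodule.mem_sup.1 hx
      obtain ⟨t, rfl⟩ := Submodule.mem_span_singleton.1 hq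
      refine ⟨L.add_mem hy.1 (L.smul_mem t hp), ?_⟩
      have h := d.rho_left (algebraMap F E t) p w
      rw [AlgHom.commutes, Module.algebraMap_end_apply, ← Algebra.smul_def] at h
      rw [d.add_left, hy.2, zero_add, h, mul_smul_comm, div_mul_cancel₀ _ hpw, map_smul, LinearMap.smul_apply]
      exact L.smul_mem t hz) l hl
    rw [hZ₀]
    rwa [show z / φ p w * φ l w = z * (φ l w / φ p w) by ring] at this
  let R : Subalgebra F E :=
    { carrier := {e | ∀ z ∈ Z₀, z * e ∈ Z₀}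
      mul_mem' := fun {a b} ha hb z hz => by rw [← mul_assoc]; exact hb _ (ha z hz)
      add_mem' := fun {a b} ha hb z hz => by rw [mul_add]; exact Z₀.add_mem (ha z hz) (hb z hz)
      algebraMap_mem' := fun t z hz => by
        rw [mul_comm, ← Algebra.smul_def]; exact Z₀.smul_mem t hz }
  obtain ⟨z₁, hz₁, hz₁0⟩ : ∃ z ∈ Z₀, z ≠ 0 := by
    obtain ⟨x, hx, hx0⟩ := Submodule.exists_mem_ne_zero_of_ne_bot
      (show L ⊓ eline ρ w ≠ ⊥ from fun e => by rw [e, finrank_bot] at hdim; omega)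
    obtain ⟨c, hc⟩ := mem_eline.1 hx.2
    exact ⟨c, by rw [hZ₀, hc]; exact hx.1, fun e => hx0 (by rw [← hc, e, map_zero, LinearMap.zero_apply])⟩
  haveI := Subalgebra.isSimpleOrder_of_finrank_prime F E d.prime
  have hR : R = ⊥ := by
    rcases IsSimpleOrder.eq_bot_or_eq_top R with h | h
    · exact h
    exfalso
    apply hZtop
    intro e
    have he : e / z₁ ∈ R := h ▸ Algebra.mem_top
    have := he z₁ hz₁
    rwa [mul_div_cancel₀ _ hz₁0] at this
  have hline : ∀ l ∈ L, ∃ t : F, φ l w = algebraMap F E t * φ l₀ w := by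
    intro l hl
    have : φ l w / φ l₀ w ∈ R := fun z hz => hmult z hz l₀ hl₀ hl₀w l hl
    rw [hR, Algebra.mem_bot] at this
    obtain ⟨t, ht⟩ := this
    exact ⟨t, by rw [ht, div_mul_cancel₀ _ hl₀w]⟩
  choose! tf htf using hline
  have hmemL : ∀ c, g • ρ c v ∈ L := fun c => mem_gline.2 ⟨c, rfl⟩
  have hinj := RingHom.injective (algebraMap F E)
  have halg : ∀ (t : F) (x : V), φ (t • x) w = algebraMap F E t * φ x w := fun t x => by
    have h := d.rho_left (algebraMap F E t) x w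
    rwa [AlgHom.commutes, Module.algebraMap_end_apply] at h
  let η : E →ₗ[F] F :=
    { toFun := fun c => tf (g • ρ c v)
      map_add' := fun a b => by
        apply hinj
        refine mul_right_cancel₀ hl₀w ?_
        rw [map_add (algebraMap F E), add_mul, ← htf _ (hmemL _), ← htf _ (hmemL _), ← htf _ (hmemL _), ← d.add_left,
          ← smul_add, map_add ρ, LinearMap.add_apply]
      map_smul' := fun t a => by
        apply hinj
        refine mul_right_cancel₀ hl₀w ?_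
        rw [RingHom.id_apply, smul_eq_mul, map_mul, mul_assoc, ← htf _ (hmemL _), ← htf _ (hmemL _), ← halg,
          map_smul, LinearMap.smul_apply, smul_comm] }
  have hη : ∀ c, φ (g • ρ c v) w = algebraMap F E (η c) * φ l₀ w := fun c => htf _ (hmemL c)
  obtain ⟨h, hh⟩ := tau_dual_surjective d.nz η
  have hker : ∀ z, τ (h * z) = 0 → ∃ z', ρ z' w = g • ρ z v := by
    intro z hz
    have : g • ρ z v ∈ Y := ⟨hmemL z, by rw [hη, ← hh, hz, map_zero, zero_mul]⟩
    rw [← hY] at this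
    exact mem_eline.1 this.2
  refine ⟨g, hgM, v, h, hv, ?_, ?_, ?_⟩
  · intro e
    obtain ⟨c, hc⟩ := mem_gline.1 hl₀
    have h1 := hη c
    rw [← hh, e, zero_mul, map_zero, map_zero, zero_mul, hc] at h1
    exact hl₀w h1
  · intro z hz
    obtain ⟨z', hz'⟩ := hker z hz
    obtain ⟨s, hsM, hs, -⟩ := d.root_mem hH w (z' / φ l₀ w)
    refine ⟨g⁻¹ * s * g, mul_mem (mul_mem (inv_mem hgM) hsM) hgM, fun c => ?_⟩
    rw [mul_smul, mul_smul, inv_smul_eq_iff, hs, hη, ← hh,
      show z' / φ l₀ w * (algebraMap F E (τ (h * c)) * φ l₀ w) = τ (h * c) • z' by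
        rw [Algebra.smul_def]; field_simp,
      map_smul, LinearMap.smul_apply, hz', map_add, LinearMap.add_apply, map_smul, LinearMap.smul_apply,
      smul_add, smul_comm g]
  · intro z ξ hz0 hz hξ hmem
    obtain ⟨z', hz'⟩ := hker z hz
    obtain ⟨c, hc⟩ := mem_eline.1 hmem
    apply hξ
    have h1 := hη ξ
    rw [← hc, ← hz', d.rho_left, d.rho_left, d.phi_self, mul_zero, mul_zero, eq_comm, mul_eq_zero] at h1
    rw [hh]
    exact hinj ((h1.resolve_right hl₀w).trans (map_zero _).symm)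

/-- The symmetric maps obtained from an axis transvection. -/
theorem sym_mem {v : V} {h z : E} (hz : τ (h * z) = 0)
    (ha : ∃ a ∈ M, ∀ c, a • ρ c v = ρ (c + τ (h * c) • z) v) (hh : h ≠ 0) (ξ : E) :
    ∃ s ∈ M, ∀ x, s • x = x + ρ (τ (z * φ x v) • ξ + τ (ξ * φ x v) • z +
      (τ (h * ξ) * τ (z * φ x v)) • z) v := by
  obtain ⟨a, haM, ha⟩ := ha
  obtain ⟨u, huM, hu, -⟩ := d.root_mem hH v (ξ / h)
  refine ⟨a * u * a⁻¹ * u⁻¹, mul_mem (mul_mem (mul_mem haM huM) (inv_mem haM)) (inv_mem huM), fun x => ?_⟩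
  set P := φ x v with hP
  set x₁ := x - ρ (ξ / h * P) v with hx₁
  have hx₁v : φ x₁ v = P := by rw [hx₁, d.sub_left, d.rho_left, d.phi_self, mul_zero, sub_zero]
  have h1 : u⁻¹ • x = x₁ := by
    rw [inv_smul_eq_iff, hu, hx₁v, hx₁]
    abel
  have h2 : φ (a⁻¹ • x₁) v = P + τ (z * P) • h := by
    refine d.phi_ext fun e => ?_
    rw [d.sa, H48.sf_smul_left, inv_inv, ha, ← d.spec_right, hx₁v, add_mul, map_add, smul_mul_assoc, map_smul,
      smul_eq_mul, mul_add, map_add, mul_smul_comm, map_smul, smul_eq_mul, mul_comm e h]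
    ring
  rw [mul_smul, mul_smul, mul_smul, h1, hu, h2, smul_add, smul_inv_smul, ha,
    show ξ / h * (P + τ (z * P) • h) = ξ / h * P + τ (z * P) • ξ by
      rw [mul_add, mul_smul_comm, div_mul_cancel₀ _ hh],
    show h * (ξ / h * P + τ (z * P) • ξ) = ξ * P + τ (z * P) • (h * ξ) by
      rw [mul_add, mul_smul_comm, ← mul_assoc, mul_div_cancel₀ _ hh],
    map_add τ, map_smul τ, smul_eq_mul, hx₁]
  simp only [map_add, map_sub, map_smul, LinearMap.add_apply, LinearMap.sub_apply, LinearMap.smul_apply,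
    add_smul, mul_comm (τ (z * P))]
  abel

omit hH in
/-- A transvection centred on the line. -/
theorem tv_eq {v : V} (z : E) (k : F) (x : V) :
    tv (ρ z v) k • x = x + ρ ((k * τ (z * φ x v)) • z) v := by
  rw [H48.tv_smul, d.spec_right, map_smul, LinearMap.smul_apply]

omit hH in
/-- Separating values of the functional on an independent pair. -/
theorem exists_tau_pair [Fintype E] {a b : E} (hb : ∀ t : F, b ≠ t • a) :
    ∃ c : E, τ (c * a) = 0 ∧ τ (c * b) = 1 := by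
  obtain ⟨f, hfb, hfa⟩ := Submodule.exists_dual_map_eq_bot_of_notMem (p := Submodule.span F {a}) (x := b)
    (fun e => by
      obtain ⟨t, ht⟩ := Submodule.mem_span_singleton.1 e
      exact hb t ht.symm) inferInstance
  obtain ⟨c, hc⟩ := tau_dual_surjective d.nz ((f b)⁻¹ • f)
  have hfa' : f a = 0 := (Submodule.mem_bot F).1
    (hfa ▸ Submodule.mem_map_of_mem (Submodule.mem_span_singleton_self a))
  exact ⟨c, by rw [hc, LinearMap.smul_apply, hfa', smul_zero],
    by rw [hc, LinearMap.smul_apply, smul_eq_mul, inv_mul_cancel₀ hfb]⟩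

omit hH in
/-- A kernel element of a map into a smaller space. -/
theorem exists_ker [Fintype E] {W : Type*} [AddCommGroup W] [Module F W] [FiniteDimensional F W]
    (η : E →ₗ[F] W) (hW : Module.finrank F W < Module.finrank F E) : ∃ e, η e = 0 ∧ e ≠ 0 := by
  obtain ⟨e, he, he0⟩ := Submodule.exists_mem_ne_zero_of_ne_bot (LinearMap.ker_ne_bot_of_finrank_lt hW)
  exact ⟨e, he, he0⟩

/-- The main theorem. -/
theorem eq_top_of_not_normal [Fintype F] [Fintype E] {g : Sp} (hg : g ∈ M)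
    (hnot : ¬ ∀ c, ∃ e, ∀ x, ρ c (g • x) = g • ρ e x) : M = ⊤ := by
  classical
  obtain ⟨g', hg', v, h, hv, hh, haxis, hout⟩ := d.exists_axis hH hg hnot
  -- finishing with a transvection
  have fin : ∀ z : E, z ≠ 0 → ∀ k : F, k ≠ 0 → (∃ s ∈ M, ∀ x, s • x = x + ρ ((k * τ (z * φ x v)) • z) v) →
      M = ⊤ := by
    rintro z hz k hk ⟨s, hsM, hs⟩
    refine d.top_of_tv hH (z := ρ z v) (fun e => hz ((d.rho_eq_zero e).resolve_right hv)) hk ?_
    rwa [show tv (ρ z v) k = s from H48.sp_ext fun x => by rw [d.tv_eq, hs]]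
  have compose : ∀ s₁ ∈ M, ∀ s₂ ∈ M, ∀ D₁ D₂ : E → E, (∀ x, s₁ • x = x + ρ (D₁ (φ x v)) v) →
      (∀ x, s₂ • x = x + ρ (D₂ (φ x v)) v) → ∃ s ∈ M, ∀ x, s • x = x + ρ (D₁ (φ x v) + D₂ (φ x v)) v := by
    intro s₁ h₁ s₂ h₂ D₁ D₂ e₁ e₂
    refine ⟨s₁ * s₂, mul_mem h₁ h₂, fun x => ?_⟩
    rw [mul_smul, e₂, e₁, d.add_left, d.rho_left, d.phi_self, mul_zero, add_zero, map_add ρ, LinearMap.add_apply]
    abel
  obtain ⟨ξ₀, hξ₀⟩ : ∃ ξ, τ (h * ξ) ≠ 0 := by
    by_contra hcon
    simp only [not_exists, not_not] at hcon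
    exact hh (tau_ext d.nz fun c => by rw [mul_zero, map_zero, mul_comm, hcon])
  have hlt : Module.finrank F F < Module.finrank F E := by
    rw [Module.finrank_self]; exact d.prime.one_lt
  obtain ⟨z₀, hz₀, hz₀0⟩ := d.exists_ker (τ.comp (LinearMap.mulLeft F h)) hlt
  change τ (h * z₀) = 0 at hz₀
  by_cases hs : ∃ s : F, s ≠ 0 ∧ s ≠ 1
  · obtain ⟨s, hs0, hs1⟩ := hs
    have hsz : τ (h * (s • z₀)) = 0 := by rw [mul_smul_comm, map_smul, hz₀, smul_zero]
    obtain ⟨s₁, hM₁, e₁⟩ := d.sym_mem hH hsz (haxis _ hsz) hh ξ₀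
    obtain ⟨s₂, hM₂, e₂⟩ := d.sym_mem hH hz₀ (haxis _ hz₀) hh (-(s • ξ₀))
    obtain ⟨s₃, hM₃, e₃⟩ := compose s₁ hM₁ s₂ hM₂
      (fun P => τ (s • z₀ * P) • ξ₀ + τ (ξ₀ * P) • (s • z₀) + (τ (h * ξ₀) * τ (s • z₀ * P)) • (s • z₀))
      (fun P => τ (z₀ * P) • -(s • ξ₀) + τ (-(s • ξ₀) * P) • z₀ + (τ (h * -(s • ξ₀)) * τ (z₀ * P)) • z₀) e₁ e₂
    refine fin z₀ hz₀0 (τ (h * ξ₀) * (s * (s - 1))) (mul_ne_zero hξ₀ (mul_ne_zero hs0 (sub_ne_zero.2 hs1)))
      ⟨s₃, hM₃, fun x => ?_⟩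
    rw [e₃]
    congr 3
    simp only [smul_mul_assoc, mul_smul_comm, neg_mul, mul_neg, map_neg, map_smul, smul_eq_mul]
    module
  simp only [not_exists, not_and, not_not] at hs
  have h2 : (2 : F) = 0 := by
    by_contra h2
    have : (2 : F) = 1 := hs 2 h2
    exact one_ne_zero (show (1 : F) = 0 by linear_combination this)
  by_cases hr : 3 ≤ Module.finrank F E
  · -- change the axis
    have haxis' : ∀ h' : E, h' ≠ 0 → ∀ z, τ (h' * z) = 0 →
        ∃ a ∈ M, ∀ c, a • ρ c v = ρ (c + τ (h' * c) • z) v := by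
      intro h' hh' z hz
      obtain ⟨t, htM, htc, htv⟩ := d.exists_move₀ hH hv (b := ρ (h / h') v) fun e =>
        div_ne_zero hh hh' ((d.rho_eq_zero e).resolve_right hv)
      have hz' : τ (h * (z * (h' / h))) = 0 := by
        rw [show h * (z * (h' / h)) = h' * z by field_simp]; exact hz
      obtain ⟨a, haM, ha⟩ := haxis _ hz'
      refine ⟨t * a * t⁻¹, mul_mem (mul_mem htM haM) (inv_mem htM), fun c => ?_⟩
      have h1 : t⁻¹ • ρ c v = ρ (c * (h' / h)) v := by
        rw [inv_smul_eq_iff, htc, htv, ← Module.End.mul_apply, ← map_mul]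
        congr 2
        field_simp
      rw [mul_smul, mul_smul, h1, ha, htc, htv, ← Module.End.mul_apply, ← map_mul,
        show h * (c * (h' / h)) = h' * c by field_simp]
      congr 2
      rw [Algebra.smul_def, Algebra.smul_def]
      field_simp
    obtain ⟨ξ, hξ⟩ : ∃ ξ : E, ∀ t : F, ξ ≠ t • (1 : E) := by
      by_contra hcon
      simp only [not_exists, not_forall, not_not] at hcon
      have : Module.finrank F E ≤ 1 := finrank_le_one (1 : E) fun w => (hcon w).imp fun t ht => ht.symm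
      omega
    obtain ⟨h₁, h1z, h1ξ⟩ := d.exists_tau_pair hξ
    obtain ⟨h₀, he, hh₀⟩ := d.exists_ker
      ((τ.comp (LinearMap.mulRight F (1 : E))).prod (τ.comp (LinearMap.mulRight F ξ)))
      (by rw [Module.finrank_prod, Module.finrank_self]; omega)
    have h0z : τ (h₀ * 1) = 0 := congrArg Prod.fst he
    have h0ξ : τ (h₀ * ξ) = 0 := congrArg Prod.snd he
    have hh₁ : h₁ ≠ 0 := fun e => by rw [e, zero_mul, map_zero] at h1ξ; exact zero_ne_one h1ξ
    obtain ⟨s₁, hM₁, e₁⟩ := d.sym_mem hH h1z (haxis' h₁ hh₁ 1 h1z) hh₁ ξ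
    obtain ⟨s₂, hM₂, e₂⟩ := d.sym_mem hH h0z (haxis' h₀ hh₀ 1 h0z) hh₀ (-ξ)
    obtain ⟨s₃, hM₃, e₃⟩ := compose s₁ hM₁ s₂ hM₂
      (fun P => τ (1 * P) • ξ + τ (ξ * P) • 1 + (τ (h₁ * ξ) * τ (1 * P)) • 1)
      (fun P => τ (1 * P) • -ξ + τ (-ξ * P) • 1 + (τ (h₀ * -ξ) * τ (1 * P)) • 1) e₁ e₂
    refine fin 1 one_ne_zero 1 one_ne_zero ⟨s₃, hM₃, fun x => ?_⟩
    rw [e₃]
    congr 3
    simp only [h1ξ, mul_neg, neg_mul, map_neg, h0ξ]
    module
  -- degree two over the field with two elements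
  have hr2 : Module.finrank F E = 2 := by have := d.prime.two_le; omega
  obtain ⟨s₀, hM₀, e₀⟩ := d.sym_mem hH hz₀ (haxis _ hz₀) hh ξ₀
  rw [hs _ hξ₀] at e₀
  set Z := g' • ρ z₀ v with hZ
  set l := g' • ρ ξ₀ v with hl
  have hlZ : l ∉ eline ρ Z := hout z₀ ξ₀ hz₀0 hz₀ hξ₀
  have hsfZl : sf Z l = 0 := by
    rw [hZ, hl, H48.sf_smul_smul]
    exact d.sf_eq_zero (by rw [d.rho_left, d.rho_right, d.phi_self, mul_zero, mul_zero])
  have hZ0 : Z ≠ 0 := (smul_ne_zero_iff_ne g').2 fun e => hz₀0 ((d.rho_eq_zero e).resolve_right hv)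
  clear_value Z l
  obtain ⟨G, hGM, hG⟩ : ∃ G ∈ M, ∀ x, G • x = x + sf x Z • (l + Z) + sf x l • Z := by
    refine ⟨g' * s₀ * g'⁻¹, mul_mem (mul_mem hg' hM₀) (inv_mem hg'), fun x => ?_⟩
    rw [mul_smul, mul_smul, e₀, smul_add, smul_inv_smul, d.spec_right, d.spec_right, H48.sf_smul_left,
      H48.sf_smul_left, inv_inv, ← hZ, ← hl, one_mul]
    simp only [map_add, map_smul, LinearMap.add_apply, LinearMap.smul_apply, smul_add, smul_comm g', ← hZ, ← hl]
    module
  have hF : ∀ y, φ Z y = 0 → φ l y ≠ 0 →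
      ∃ S ∈ M, ∀ x, S • x = x + sf x Z • y + (sf x y + sf x Z * sf l y) • Z := by
    intro y hZy hly
    obtain ⟨u, huM, hu, -⟩ := d.root_mem hH y (φ l y)⁻¹
    have hul : u • l = l + y := by rw [hu, inv_mul_cancel₀ hly, map_one, Module.End.one_apply]
    have huZ : u • Z = Z := by rw [hu, hZy, mul_zero, map_zero, LinearMap.zero_apply, add_zero]
    refine ⟨u * G * u⁻¹ * G, mul_mem (mul_mem (mul_mem huM hGM) (inv_mem huM)) hGM, fun x => ?_⟩
    have hG' : ∀ w, (u * G * u⁻¹) • w = w + sf w Z • (l + y + Z) + sf w (l + y) • Z := by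
      intro w
      rw [mul_smul, mul_smul, hG, smul_add, smul_add, smul_inv_smul, smul_comm u, smul_comm u, smul_add, hul,
        huZ, H48.sf_smul_left, H48.sf_smul_left, inv_inv, huZ, hul]
    rw [mul_smul, hG', hG]
    simp only [map_add, map_smul, LinearMap.add_apply, LinearMap.smul_apply, smul_eq_mul, H48.sf_self,
      hsfZl, H48.sf_eq_zero_comm hsfZl, d.sf_eq_zero hZy, mul_zero, add_zero]
    match_scalars <;> ring_nf <;> simp [h2]
  obtain ⟨y, hZy, hly, hyZ⟩ : ∃ y, φ Z y = 0 ∧ φ l y ≠ 0 ∧ y ∉ eline ρ Z := by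
    obtain ⟨y₀, hy₀, hly₀, -⟩ := d.exists_avoid hlZ hlZ
    by_cases hy₀Z : y₀ ∈ eline ρ Z
    swap
    · exact ⟨y₀, hy₀, hly₀, hy₀Z⟩
    let η : V →ₗ[F] E × E :=
      { toFun := fun w => (φ Z w, φ l w)
        map_add' := fun a b => by rw [Prod.mk_add_mk, ← d.add_right, ← d.add_right]
        map_smul' := fun t a => by
          have h1 := d.rho_right (algebraMap F E t) Z a
          have h2 := d.rho_right (algebraMap F E t) l a
          rw [AlgHom.commutes, Module.algebraMap_end_apply, ← Algebra.smul_def] at h1 h2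
          rw [h1, h2]; rfl }
    obtain ⟨y₁, hy₁, hy₁Z⟩ : ∃ y₁ ∈ LinearMap.ker η, y₁ ∉ eline ρ Z := by
      by_contra hcon
      simp only [not_exists, not_and, not_not] at hcon
      have h1 := Submodule.finrank_mono (show LinearMap.ker η ≤ eline ρ Z from hcon)
      have h2 := LinearMap.finrank_range_add_finrank_ker η
      have h3 := Submodule.finrank_le (LinearMap.range η)
      rw [d.finrank_eline hZ0, hr2] at h1
      rw [Module.finrank_prod, hr2] at h3
      rw [Module.finrank_pi, Fintype.card_sum, Fintype.card_fin] at h2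
      have := d.big
      omega
    have hy₁' : η y₁ = 0 := hy₁
    refine ⟨y₀ + y₁, ?_, ?_, fun h => hy₁Z ((Submodule.add_mem_iff_right _ hy₀Z).1 h)⟩
    · rw [d.add_right, hy₀, show φ Z y₁ = 0 from congrArg Prod.fst hy₁', add_zero]
    · rw [d.add_right, show φ l y₁ = 0 from congrArg Prod.snd hy₁', add_zero]; exact hly₀
  -- two vectors on the line of y with different values
  obtain ⟨b, hb, hb0⟩ := d.exists_ker (τ.comp (LinearMap.mulRight F (φ l y))) hlt
  change τ (b * φ l y) = 0 at hb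
  obtain ⟨c, hc⟩ : ∃ c, τ (c * φ l y) ≠ 0 := by
    by_contra hcon
    simp only [not_exists, not_not] at hcon
    exact hly (tau_ext d.nz fun c => by rw [mul_zero, map_zero, hcon])
  have hc0 : c ≠ 0 := fun e => hc (by rw [e, zero_mul, map_zero])
  have hline : ∀ e, e ≠ 0 → ρ e y ∉ eline ρ Z ∧ φ Z (ρ e y) = 0 ∧ φ l (ρ e y) ≠ 0 := by
    intro e he
    refine ⟨fun hmem => hyZ ?_, by rw [d.rho_right, hZy, mul_zero], by rw [d.rho_right]; exact mul_ne_zero he hly⟩
    obtain ⟨p, hp⟩ := mem_eline.1 hmem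
    refine mem_eline.2 ⟨e⁻¹ * p, ?_⟩
    rw [map_mul, Module.End.mul_apply, hp, ← Module.End.mul_apply, ← map_mul, inv_mul_cancel₀ he, map_one,
      Module.End.one_apply]
  obtain ⟨hbZ, hb1, hb2⟩ := hline b hb0
  obtain ⟨hcZ, hc1, hc2⟩ := hline c hc0
  obtain ⟨Sb, hSbM, hSb⟩ := hF _ hb1 hb2
  obtain ⟨Sc, hScM, hSc⟩ := hF _ hc1 hc2
  obtain ⟨t, htM, -, htb, htZ⟩ := d.exists_move hH hbZ hcZ hb1 hc1
  refine d.top_of_tv hH hZ0 (one_ne_zero (α := F)) ?_
  have he : tv Z (1 : F) = t * Sb * t⁻¹ * Sc := by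
    refine H48.sp_ext fun x => ?_
    have hS' : ∀ w, (t * Sb * t⁻¹) • w = w + sf w Z • ρ c y + (sf w (ρ c y)) • Z := by
      intro w
      rw [mul_smul, mul_smul, hSb, ← d.spec_right b l y, hb, mul_zero, add_zero, smul_add, smul_add,
        smul_inv_smul, smul_comm t, smul_comm t, htb, htZ, H48.sf_smul_left, H48.sf_smul_left, inv_inv, htb, htZ]
    rw [mul_smul, hS', hSc, ← d.spec_right c l y, hs _ hc, H48.tv_smul]
    simp only [map_add, map_smul, LinearMap.add_apply, LinearMap.smul_apply, smul_eq_mul, H48.sf_self,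
      d.sf_eq_zero hc1, H48.sf_eq_zero_comm (d.sf_eq_zero hc1), mul_zero, add_zero, mul_one, one_mul]
    match_scalars <;> ring_nf <;> simp [h2]
  rw [he]
  exact mul_mem (mul_mem (mul_mem htM hSbM) (inv_mem htM)) hScM

end ExtStr

end H49
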