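import Cfsg.Agent.H49.OrthExt3Central

/-!
Three dimensions over the extension: a moved line gives the commutator subgroup.
-/

set_option autoImplicit false
set_option linter.unusedSectionVars false

namespace H49

open H43

section negation

variable {K : Type*} [Field K] {U : Type*} [AddCommGroup U] [Module K U] [FiniteDimensional K U]
  {q : QuadraticForm K U}

theorem hscale_conj (g : orthGroup q) {c c' : U} (h : HypPair q c c') {l : K} (hl : l ≠ 0) :
    g * hscale q c c' l * g⁻¹ = hscale q (g.1 c) (g.1 c') l := by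
  have h' : HypPair q (g.1 c) (g.1 c') :=
    ⟨by rw [orth_qmap]; exact h.left, by rw [orth_qmap]; exact h.right, by rw [orth_polB_map]; exact h.pair⟩
  refine orth_ext fun x => ?_
  obtain ⟨y, rfl⟩ : ∃ y, g.1 y = x := ⟨(g⁻¹).1 x, orth_apply_inv_self g x⟩
  rw [orth_mul_apply, orth_mul_apply, orth_inv_apply_self, hscale_apply h hl, hscale_apply h' hl, orth_polB_map,
    orth_polB_map, map_add, map_add, map_smul, map_smul]

theorem hscale_neg_sq {c c' : U} (h : HypPair q c c') : hscale q c c' (-1) * hscale q c c' (-1) = 1 := by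
  refine orth_ext fun x => ?_
  have h1 : (-1 : K) ≠ 0 := neg_ne_zero.2 one_ne_zero
  rw [orth_mul_apply, orth_one_apply, hscale_apply h h1 x]
  simp only [map_add, map_smul, hscale_left h h1, hscale_right h h1, hscale_apply h h1 x, inv_neg, inv_one]
  module

theorem hscale_smul_pair {c c' : U} (h : HypPair q c c') {l : K} (hl : l ≠ 0) {k : K} (hk : k ≠ 0) :
    hscale q (k • c) (k⁻¹ • c') l = hscale q c c' l := by
  have h' : HypPair q (k • c) (k⁻¹ • c') :=
    ⟨by rw [qmap_smul, h.left, mul_zero], by rw [qmap_smul, h.right, mul_zero], by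
      simp only [map_smul, LinearMap.smul_apply, h.pair, smul_eq_mul, mul_one, mul_inv_cancel₀ hk, inv_mul_cancel₀ hk]⟩
  refine orth_ext fun x => ?_
  rw [hscale_apply h hl, hscale_apply h' hl, map_smul, map_smul, smul_smul, smul_smul, smul_eq_mul, smul_eq_mul]
  match_scalars <;> field_simp

end negation

namespace OExt

variable {F : Type*} [Field F] [Fintype F] {E : Type*} [Field E] [Fintype E] [Algebra F E]
  {V : Type*} [AddCommGroup V] [Module F V] [Module E V] [IsScalarTower F E V]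
  [FiniteDimensional F V] [FiniteDimensional E V]
  {Q : QuadraticForm F V} {Qe : QuadraticForm E V} {τ : E →ₗ[F] F} (d : OExt Q Qe τ)
include d

variable {M : Subgroup (orthGroup Q)} (hH : ∀ h : orthGroup Qe, d.res (h * h) ∈ M)
include hH

/-- With all negations of hyperbolic planes: a moved line orthogonal to a line, meeting it in a hyperplane. -/
theorem exists_adjacent₃ (h3 : Module.finrank E V = 3)
    (hS : ∀ p p' : V, HypPair Qe p p' → d.res (hscale Qe p p' (-1)) ∈ M)
    {g : orthGroup Q} (hg : g ∈ M) {v : V} (hv : Qe v = 0) {c : E}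
    (hmove : g.1 (c • v) ∉ fline (E := E) F (g.1 v)) :
    ∃ g' ∈ M, ∃ v u y : V, Qe v = 0 ∧ Qe u = 0 ∧ v ≠ 0 ∧ u ≠ 0 ∧ y ∈ d.gl g' v ∧ polB Qe y u = 0 ∧
      y ∉ fline (E := E) F u ∧ (∀ l ∈ d.gl g' v, ∃ t : F, l - t • y ∈ fline (E := E) F u) := by
  classical
  have hr5 := d.five_le h3
  set r := Module.finrank F E with hr
  let P : ℕ → Prop := fun n => ∃ g ∈ M, ∃ v u : V, Qe v = 0 ∧ Qe u = 0 ∧ v ≠ 0 ∧ u ≠ 0 ∧
    d.gl g v ≠ fline (E := E) F u ∧ Module.finrank F ↥(d.gl g v ⊓ fline (E := E) F u) = n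
  obtain ⟨g₁, hg₁, v₁, u₁, a1, a2, a3, a4, a5, a6⟩ := d.exists_meet₃ hH h3 hg hv hmove
  set n₀ := Module.finrank F ↥(d.gl g₁ v₁ ⊓ fline (E := E) F u₁)
  have hn₀ : 0 < n₀ := Nat.pos_of_ne_zero fun e => a6 (Submodule.finrank_eq_zero.1 e)
  have hP₀ : P n₀ := ⟨g₁, hg₁, v₁, u₁, a1, a2, a3, a4, a5, rfl⟩
  have hbound : ∀ n, P n → n ≤ r := by
    rintro n ⟨g, -, v, u, -, -, hv, -, -, rfl⟩
    exact (Submodule.finrank_mono inf_le_left).trans (d.finrank_gl hv).le
  set D := Nat.findGreatest P r with hD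
  have hPD : P D := Nat.findGreatest_spec (hbound _ hP₀) hP₀
  have hDpos : 0 < D := hn₀.trans_le (Nat.le_findGreatest (hbound _ hP₀) hP₀)
  have hmax : ∀ n, P n → n ≤ D := fun n hn => Nat.le_findGreatest (hbound n hn) hn
  have hpair : ∀ g₁ ∈ M, ∀ g₂ ∈ M, ∀ v : V, Qe v = 0 → v ≠ 0 → d.gl g₁ v ≠ d.gl g₂ v →
      Module.finrank F ↥(d.gl g₁ v ⊓ d.gl g₂ v) ≤ D := by
    intro g₁ hg₁ g₂ hg₂ v hv hv0 hne
    obtain ⟨h1, h2, h3'⟩ := d.pull hg₁ hg₂ hne
    exact hmax _ ⟨_, h1, v, v, hv, hv, hv0, hv0, h2, h3'⟩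
  obtain ⟨g, hgM, v, u, hv, hu, hv0, hu0, hne, hdim, y₀, hy₀, hy₀u, hy₀U⟩ : ∃ g ∈ M, ∃ v u : V, Qe v = 0 ∧
      Qe u = 0 ∧ v ≠ 0 ∧ u ≠ 0 ∧ d.gl g v ≠ fline (E := E) F u ∧
      Module.finrank F ↥(d.gl g v ⊓ fline (E := E) F u) = D ∧
      ∃ y ∈ d.gl g v, polB Qe y u = 0 ∧ y ∉ fline (E := E) F u := by
    obtain ⟨g, hgM, v, u, hv, hu, hv0, hu0, hne, hdim⟩ := hPD
    set L := d.gl g v with hL
    set U := fline (E := E) F u with hU
    by_cases hex : ∃ y ∈ L, polB Qe y u = 0 ∧ y ∉ U
    · exact ⟨g, hgM, v, u, hv, hu, hv0, hu0, hne, hdim, hex⟩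
    simp only [not_exists, not_and, not_not] at hex
    obtain ⟨l, hl, hlu⟩ : ∃ l ∈ L, polB Qe l u ≠ 0 := by
      by_contra hcon
      simp only [not_exists, not_and, not_not] at hcon
      exact hne (Submodule.eq_of_le_of_finrank_eq (fun y hy => hex y hy (hcon y hy))
        (by rw [d.finrank_gl hv0, d.finrank_fline hu0]))
    set β := polB Qe l u with hβ
    obtain ⟨u'', hu''⟩ : ∃ x, x = β⁻¹ • (l + (-(Qe l / β)) • u) := ⟨_, rfl⟩
    have hp : HypPair Qe u u'' := by
      refine ⟨hu, ?_, ?_⟩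
      · rw [hu'', qmap_smul, qmap_add_smul, hu, ← hβ]
        field_simp
        ring
      · rw [hu'', map_smul, map_add, map_smul, polB_self, hu, polB_comm u l, ← hβ]
        simp [hlu]
    have hlp : l = β • u'' + (Qe l / β) • u := by
      rw [hu'', smul_inv_smul₀ hlu, add_assoc, ← add_smul, neg_add_cancel, zero_smul, add_zero]
    have h1 : (-1 : E) ≠ 0 := neg_ne_zero.2 one_ne_zero
    set s := hscale Qe u u'' (-1) with hs
    have hsu : ∀ e : E, s.1 (e • u) = -(e • u) := fun e => by
      rw [map_smul, hs, hscale_left hp h1, neg_one_smul, smul_neg]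
    have hsl : s.1 l = -l := by
      conv_lhs => rw [hlp]
      conv_rhs => rw [hlp]
      rw [map_add, map_smul, map_smul, hs, hscale_left hp h1, hscale_right hp h1, inv_neg, inv_one]
      module
    have hσM : d.res s ∈ M := hS u u'' hp
    -- the negation stabilises the image
    have hfix : d.gl (d.res s * g) v = L := by
      by_contra hne'
      have hle : (L ⊓ U) ⊔ Submodule.span F {l} ≤ d.gl (d.res s * g) v ⊓ d.gl g v := by
        refine sup_le (fun x hx => ?_) (by
          rw [Submodule.span_le, Set.singleton_subset_iff]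
          refine ⟨?_, hl⟩
          rw [d.gl_mul]
          exact ⟨-l, L.neg_mem hl, by show s.1 (-l) = l; rw [map_neg, hsl, neg_neg]⟩)
        obtain ⟨e, rfl⟩ := mem_fline.1 hx.2
        refine ⟨?_, hx.1⟩
        rw [d.gl_mul]
        exact ⟨-(e • u), L.neg_mem hx.1, by show s.1 (-(e • u)) = e • u; rw [map_neg, hsu, neg_neg]⟩
      have hlt : L ⊓ U < (L ⊓ U) ⊔ Submodule.span F {l} := lt_of_le_of_ne le_sup_left fun e => hlu (by
        obtain ⟨e', he'⟩ := mem_fline.1
          ((e ▸ Submodule.mem_sup_right (Submodule.mem_span_singleton_self l) : l ∈ L ⊓ U)).2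
        rw [hβ, ← he', map_smul, LinearMap.smul_apply, polB_self, hu, mul_zero, smul_zero])
      have := (Submodule.finrank_lt_finrank_of_lt hlt).trans_le ((Submodule.finrank_mono hle).trans
        (hpair _ (mul_mem hσM hgM) g hgM v hv hv0 hne'))
      omega
    have hstab : ∀ x ∈ L, s.1 x ∈ L := fun x hx => by
      rw [← hfix, d.gl_mul]; exact ⟨x, hx, rfl⟩
    have hneg : ∀ x ∈ L, s.1 x = -x := by
      intro x hx
      have hsum := L.add_mem hx (hstab x hx)
      have hsu1 : s.1 u = -u := by simpa using hsu 1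
      have hsu0 : polB Qe (s.1 x) u = -polB Qe x u := by
        conv_lhs => arg 2; rw [show u = -(-u) from (neg_neg u).symm, ← hsu1]
        rw [map_neg, orth_polB_map]
      obtain ⟨e, he⟩ := mem_fline.1 (hex _ hsum (by rw [map_add, LinearMap.add_apply, hsu0, add_neg_cancel]))
      have hss : s.1 (s.1 x) = x := by
        rw [← orth_mul_apply, hs, hscale_neg_sq hp, orth_one_apply]
      have h2 := congrArg s.1 he
      rw [hsu, map_add, hss] at h2
      have h3' : (2 : E) • (e • u) = 0 := by linear_combination (norm := module) he - h2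
      rw [smul_eq_zero] at h3'
      rw [h3'.resolve_left d.twoE, eq_comm] at he
      exact eq_neg_of_add_eq_zero_right he
    obtain ⟨w, t₀, ht₀, hwq, huw, hu''w, hdec⟩ := d.exists_unit h3 hp
    have hLw : ∀ x ∈ L, polB Qe x w = 0 := by
      intro x hx
      have hsw : s.1 w = w := hscale_fix hp h1 (by rw [polB_comm]; exact huw) (by rw [polB_comm]; exact hu''w)
      have h := orth_polB_map s x w
      rw [hneg x hx, hsw, map_neg, LinearMap.neg_apply] at h
      have h2 : (2 : E) * polB Qe x w = 0 := by linear_combination -h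
      exact (mul_eq_zero.1 h2).resolve_left d.twoE
    obtain ⟨x₀, hx₀, hx₀0⟩ := Submodule.exists_mem_ne_zero_of_ne_bot
      (show L ⊓ U ≠ ⊥ from fun e => by rw [e, finrank_bot] at hdim; omega)
    obtain ⟨z, hz⟩ := mem_fline.1 hx₀.2
    have hz0 : z ≠ 0 := fun e => hx₀0 (by rw [← hz, e, zero_smul])
    obtain ⟨t, a, ht, hta⟩ := d.exists_scalar_sq (by omega) (div_ne_zero hz0 hlu)
    have ha : a ≠ 0 := fun e => div_ne_zero hz0 hlu (by rw [hta, e]; simp)
    have hwa : polB Qe u (a • w) = 0 := by rw [map_smul, huw, smul_zero]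
    set T := d.res (eichler Qe u (a • w)) with hT
    have hTM : T ∈ M := d.root_mem hH hu hwa
    have hdiff : T.1 l - l = (β * a) • w - (Qe (a • w) * β) • u := by
      rw [hT, d.res_apply, eichler_apply hu hwa, map_smul, hLw l hl, smul_zero, zero_smul, ← hβ]
      module
    have hnot : T.1 l ∉ L := by
      intro h
      have h0 := hLw _ (L.sub_mem h hl)
      rw [hdiff, map_sub, LinearMap.sub_apply, map_smul, LinearMap.smul_apply, map_smul, LinearMap.smul_apply,
        huw, smul_zero, sub_zero, polB_self, hwq, smul_eq_mul] at h0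
      exact mul_ne_zero (mul_ne_zero hlu ha) (mul_ne_zero d.twoE (smul_ne_zero ht₀ one_ne_zero)) h0
    have hzperp : ∀ x ∈ L, τ (z * polB Qe x u) = 0 := fun x hx => by
      have h := polB_eq_zero_of_singular (fun y hy => d.gl_singular hv hy) hx hx₀.1
      rwa [← hz, d.polB_eq, map_smul, smul_eq_mul] at h
    have hperp : ∀ x ∈ L, polB Q x (T.1 l) = 0 := by
      intro x hx
      have e1 : polB Qe x (T.1 l - l) = -((t₀ * t⁻¹) • (z * polB Qe x u)) := by
        rw [hdiff, map_sub, map_smul, map_smul, hLw x hx, smul_zero, zero_sub, qmap_smul, hwq, smul_eq_mul]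
        congr 1
        have e2 : (a * a) * β = t⁻¹ • z := by
          rw [div_eq_iff hlu, smul_mul_assoc] at hta
          rw [hta, smul_smul, inv_mul_cancel₀ ht, one_smul]
        simp only [Algebra.smul_def, map_mul, mul_one] at e2 ⊢
        linear_combination (algebraMap F E t₀ * polB Qe x u) * e2
      rw [show T.1 l = (T.1 l - l) + l by abel, map_add,
        polB_eq_zero_of_singular (fun y hy => d.gl_singular hv hy) hx hl, add_zero, d.polB_eq, e1, map_neg, map_smul,
        hzperp x hx, smul_zero, neg_zero]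
    obtain ⟨g', hg', y', hne', hdim', hy', hy'u, hy'U⟩ := d.pull_prop (mul_mem hTM hgM) hgM
      (show T.1 l ∈ d.gl (T * g) v by rw [d.gl_mul]; exact ⟨l, hl, rfl⟩) hnot hperp
    refine ⟨g', hg', v, v, hv, hv, hv0, hv0, hne', le_antisymm (hmax _ ⟨g', hg', v, v, hv, hv, hv0, hv0, hne', rfl⟩) ?_,
      y', hy', hy'u, hy'U⟩
    rw [hdim', ← hdim]
    refine Submodule.finrank_mono fun x hx => ?_
    obtain ⟨e, rfl⟩ := mem_fline.1 hx.2
    refine ⟨?_, hx.1⟩
    rw [d.gl_mul]
    exact ⟨e • u, hx.1, d.eichler_line hu hwa e⟩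
  refine d.adjacent_of_max hH hDpos hpair hgM hv hu hv0 hu0 hne hdim hy₀ hy₀u hy₀U fun hval l hl => ?_
  set L := d.gl g v with hL
  set U := fline (E := E) F u with hU
  by_contra hlu
  obtain ⟨u', hp⟩ := exists_hypPair d.nde hu hu0
  obtain ⟨w, t₀, ht₀, hwq, huw, hu'w, hdec⟩ := d.exists_unit h3 hp
  have hwq2 : (2 : E) * Qe w ≠ 0 := mul_ne_zero d.twoE (by rw [hwq]; exact smul_ne_zero ht₀ one_ne_zero)
  have hcoord : ∀ x, polB Qe x u = 0 → polB Qe x w = 0 → x ∈ U := by
    intro x hxu hxw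
    obtain ⟨a, b, k, hk⟩ := hdec x
    rw [← hk] at hxu hxw
    simp only [map_add, map_smul, LinearMap.add_apply, LinearMap.smul_apply, polB_self, hu, hp.pair,
      polB_comm u' u, polB_comm w u, huw, hu'w, smul_eq_mul, mul_zero, mul_one, zero_add, add_zero] at hxu hxw
    exact mem_fline.2 ⟨a, by
      rw [← hk, hxu, (mul_eq_zero.1 hxw).resolve_right hwq2, zero_smul, zero_smul, add_zero, add_zero]⟩
  set Y₀ := polB Qe y₀ w with hY₀
  have hY₀0 : Y₀ ≠ 0 := fun e => hy₀U (hcoord y₀ hy₀u e)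
  have hroot : ∀ z : E, z • u ∈ L → ∀ x ∈ L, ∀ b, b = z / Y₀ →
      x + polB Qe x u • b • w - polB Qe x (b • w) • u - (Qe (b • w) * polB Qe x u) • u ∈ L := by
    intro z hz x hx b hb
    have := hval (b • w) (by rw [map_smul, huw, smul_zero]) z hz
      (by rw [map_smul, smul_eq_mul, hb, ← hY₀, div_mul_cancel₀ _ hY₀0]) x hx
    rwa [eichlerLin_apply] at this
  -- the multipliers of the trace of the line
  let S : Subalgebra F E :=
    { carrier := {e | ∀ z : E, z • u ∈ L → (z * e) • u ∈ L}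
      mul_mem' := fun {a b} ha hb z hz => by rw [← mul_assoc]; exact hb _ (ha z hz)
      add_mem' := fun {a b} ha hb z hz => by rw [mul_add, add_smul]; exact L.add_mem (ha z hz) (hb z hz)
      algebraMap_mem' := fun t z hz => by
        rw [mul_comm, ← Algebra.smul_def, smul_assoc]; exact L.smul_mem t hz }
  obtain ⟨x₁, hx₁, hx₁0⟩ := Submodule.exists_mem_ne_zero_of_ne_bot
    (show L ⊓ U ≠ ⊥ from fun e => by rw [e, finrank_bot] at hdim; omega)
  obtain ⟨z₁, hz₁⟩ := mem_fline.1 hx₁.2
  have hz₁0 : z₁ ≠ 0 := fun e => hx₁0 (by rw [← hz₁, e, zero_smul])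
  have hz₁L : z₁ • u ∈ L := hz₁ ▸ hx₁.1
  haveI := Subalgebra.isSimpleOrder_of_finrank_prime F E d.prime
  have hS : S = ⊥ := by
    rcases IsSimpleOrder.eq_bot_or_eq_top S with h | h
    · exact h
    refine absurd (Submodule.eq_of_le_of_finrank_eq (fun x hx => ?_) (by rw [d.finrank_fline hu0, d.finrank_gl hv0])).symm hne
    obtain ⟨e, rfl⟩ := mem_fline.1 hx
    have := (show e / z₁ ∈ S by rw [h]; exact Algebra.mem_top) z₁ hz₁L
    rwa [mul_div_cancel₀ _ hz₁0] at this
  have hY : ∀ m ∈ L, polB Qe m u = 0 → ∃ t : F, polB Qe m w = t • Y₀ := by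
    intro m hm hmu
    have hmem : polB Qe m w / Y₀ ∈ S := by
      intro z hz
      have h := L.sub_mem hm (hroot z hz m hm _ rfl)
      rw [hmu, zero_smul, mul_zero, zero_smul, sub_zero, add_zero, sub_sub_cancel, map_smul, smul_eq_mul] at h
      rwa [mul_div_assoc', ← div_mul_eq_mul_div]
    rw [hS, Algebra.mem_bot] at hmem
    obtain ⟨t, ht⟩ := hmem
    exact ⟨t, by rw [Algebra.smul_def, ht, div_mul_cancel₀ _ hY₀0]⟩
  -- the values of the product
  have hprod : ∀ x ∈ L, ∀ z : E, z • u ∈ L → ∃ t : F, polB Qe x u * z = t • (Y₀ * Y₀ / (2 * Qe w)) := by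
    intro x hx z hz
    have hm := L.sub_mem (hroot z hz x hx _ rfl) hx
    obtain ⟨t, ht⟩ := hY _ hm (by
      simp only [map_add, map_sub, map_smul, LinearMap.add_apply, LinearMap.sub_apply, LinearMap.smul_apply,
        polB_self, hu, polB_comm w u, huw, smul_eq_mul, mul_zero, add_zero, sub_zero, sub_self])
    refine ⟨t, ?_⟩
    simp only [map_add, map_sub, map_smul, LinearMap.add_apply, LinearMap.sub_apply, LinearMap.smul_apply,
      polB_self, huw, smul_eq_mul, mul_zero, sub_zero] at ht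
    rw [add_sub_cancel_left, Algebra.smul_def] at ht
    rw [Algebra.smul_def]
    have hw' : Qe w ≠ 0 := fun e => hwq2 (by rw [e, mul_zero])
    have := d.twoE
    field_simp at ht ⊢
    linear_combination ht
  by_cases hD2 : 2 ≤ D
  · obtain ⟨x₂, hx₂, hx₂'⟩ : ∃ x ∈ L ⊓ U, x ∉ Submodule.span F ({x₁} : Set V) := by
      by_contra hcon
      simp only [not_exists, not_and, not_not] at hcon
      have := Submodule.finrank_mono (show L ⊓ U ≤ Submodule.span F ({x₁} : Set V) from hcon)
      rw [hdim, finrank_span_singleton hx₁0] at this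
      omega
    obtain ⟨z₂, hz₂⟩ := mem_fline.1 hx₂.2
    obtain ⟨t₁, ht₁⟩ := hprod l hl z₁ hz₁L
    obtain ⟨t₂, ht₂⟩ := hprod l hl z₂ (hz₂ ▸ hx₂.1)
    have ht₁0 : t₁ ≠ 0 := fun e => mul_ne_zero hlu hz₁0 (by rw [ht₁, e, zero_smul])
    apply hx₂'
    rw [Submodule.mem_span_singleton]
    refine ⟨t₂ / t₁, ?_⟩
    rw [← hz₁, ← hz₂, ← smul_assoc]
    congr 1
    refine mul_left_cancel₀ hlu ?_
    rw [mul_smul_comm, ht₁, ht₂, smul_smul, div_mul_cancel₀ _ ht₁0]
  -- the kernel of the pairing is small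
  have hD1 : D = 1 := by omega
  let φ : L →ₗ[F] E := (((polB Qe).flip u).restrictScalars F).domRestrict L
  have h1 := LinearMap.finrank_range_add_finrank_ker φ
  rw [show Module.finrank F L = Module.finrank F E from d.finrank_gl hv0] at h1
  have h2 : Module.finrank F (LinearMap.range φ) ≤ 1 := by
    refine (Submodule.finrank_mono (t := Submodule.span F {Y₀ * Y₀ / (2 * Qe w) / z₁}) ?_).trans
      ((finrank_span_le_card _).trans (le_of_eq (by simp)))
    rintro _ ⟨x, rfl⟩
    obtain ⟨t, ht⟩ := hprod x x.2 z₁ hz₁L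
    refine Submodule.mem_span_singleton.2 ⟨t, ?_⟩
    show t • _ = polB Qe (x : V) u
    rw [← mul_div_cancel_right₀ (polB Qe (x : V) u) hz₁0, ht, smul_div_assoc]
  have h4 : Module.finrank F (LinearMap.ker φ) ≤ D + 1 := by
    have hle : (LinearMap.ker φ).map L.subtype ≤ (L ⊓ U) ⊔ Submodule.span F {y₀} := by
      rintro _ ⟨m, hm, rfl⟩
      have hmu : polB Qe (m : V) u = 0 := hm
      obtain ⟨t, ht⟩ := hY m m.2 hmu
      refine Submodule.mem_sup.2 ⟨(m : V) - t • y₀, ⟨L.sub_mem m.2 (L.smul_mem t hy₀), hcoord _ ?_ ?_⟩, t • y₀,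
        Submodule.smul_mem _ t (Submodule.mem_span_singleton_self y₀), sub_add_cancel _ _⟩
      · rw [map_sub, LinearMap.sub_apply, d.be_smul_left, hmu, hy₀u, smul_zero, sub_zero]
      · rw [map_sub, LinearMap.sub_apply, d.be_smul_left, ht, ← hY₀, sub_self]
    have h5 := Submodule.finrank_mono hle
    rw [← (Submodule.equivMapOfInjective L.subtype (Submodule.injective_subtype L) _).finrank_eq] at h5
    have h6 := Submodule.finrank_add_le_finrank_add_finrank (L ⊓ U) (Submodule.span F {y₀})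
    rw [hdim, finrank_span_singleton (fun e => hy₀U (by rw [e]; exact Submodule.zero_mem _))] at h6
    omega
  omega

/-- Planes within all lines give the commutator subgroup. -/
theorem commutator_le_of_planes (h3 : Module.finrank E V = 3)
    (hline : ∀ p, ∀ hp : Qe p = 0, ∀ x y : E, y • p ∈ oPair Q M (d.qs hp x)) : commutator (orthGroup Q) ≤ M := by
  classical
  have hr := d.five_le h3
  have hnd := trForm_nondeg d.nz d.two
  have hcross : ∀ {u p : V}, HypPair Qe u p → ∀ {x y : E}, τ (x * y) = 0 →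
      ∀ hu' : Q (y • u) = 0, x • p ∈ oPair Q M hu' := by
    intro u p hup x y hxy hQy
    by_cases hx : x = 0
    · rw [hx, zero_smul]; exact Submodule.zero_mem _
    by_cases hy : y = 0
    · exact mem_oPair_zero (by rw [hy, zero_smul]) _
    obtain ⟨α, hα, hαx⟩ : ∃ α, τ (y * α) = 0 ∧ α ∉ Submodule.span F ({x} : Set E) := by
      by_contra hcon
      simp only [not_exists, not_and, not_not] at hcon
      have h1 := Submodule.finrank_mono (show LinearMap.ker (τ.comp (LinearMap.mulLeft F y)) ≤ Submodule.span F {x}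
        from hcon)
      have h2 := LinearMap.finrank_range_add_finrank_ker (τ.comp (LinearMap.mulLeft F y))
      have h4 := Submodule.finrank_le (LinearMap.range (τ.comp (LinearMap.mulLeft F y)))
      rw [Module.finrank_self] at h4
      rw [finrank_span_singleton hx] at h1
      omega
    obtain ⟨γ, hγ, hγα⟩ := exists_orth_polB_eq hnd hαx 1
    have hxγ : τ (x * γ) = 0 := by
      have h := hγ x (Submodule.mem_span_singleton_self x)
      rw [polB_trForm, mul_eq_zero] at h
      exact h.resolve_left d.two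
    have hγα' : τ (γ * α) ≠ 0 := by
      intro e
      rw [polB_trForm, mul_comm α, e, mul_zero] at hγα
      exact zero_ne_one hγα
    refine oPair_rule (d.qs hup.right x) hQy ?_ (hline p hup.right x α) (oPair_congr rfl hQy (hline u hup.left y γ))
      ?_ ?_ ?_
    · rw [d.polB_eq]; simpa [polB_comm p u, hup.pair, mul_comm] using hxy
    · rw [d.polB_eq]; simpa [hup.pair, mul_comm] using hα
    · rw [d.polB_eq]; simpa [polB_comm p u, hup.pair, mul_comm] using hxγ
    · rw [d.polB_eq]; simpa [hup.pair, mul_comm] using hγα'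
  have hfull : ∀ {u : V} (hu : Qe u = 0), u ≠ 0 → ∀ x, polB Q u x = 0 → x ∈ oPair Q M (d.q_zero hu) := by
    intro u hu hu0 v hv
    obtain ⟨u', hp⟩ := exists_hypPair d.nde hu hu0
    obtain ⟨w, t₀, ht₀, hwq, huw, hu'w, hdec⟩ := d.exists_unit h3 hp
    have hQ1 : Q ((1 : E) • u) = 0 := d.qs hu 1
    refine oPair_congr (one_smul E u) (d.q_zero hu) (hy := hQ1) ?_
    obtain ⟨a, b, k, rfl⟩ := hdec v
    have hb : τ b = 0 := by
      rw [d.polB_eq] at hv
      simpa [polB_self, hu, hp.pair, huw] using hv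
    refine add_mem (add_mem (hline u hu 1 a) (hcross hp (by rw [mul_one]; exact hb) hQ1)) ?_
    obtain ⟨x₀, hx₀0, hx₀⟩ := d.exists_ker 1
    rw [one_mul] at hx₀
    set s := k / x₀ with hs
    obtain ⟨p, hpdef⟩ : ∃ p, p = u' + s • w - Qe (s • w) • u := ⟨_, rfl⟩
    have hps : HypPair Qe u p := by
      refine ⟨hu, ?_, ?_⟩
      · rw [hpdef, qmap_sub, qmap_add, map_add (polB Qe), LinearMap.add_apply, hp.right, qmap_smul (Qe (s • w)) u, hu]
        simp [polB_comm u' u, hp.pair, polB_comm w u, huw, hu'w]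
      · simp [hpdef, polB_self, hu, hp.pair, huw]
    have e : k • w = x₀ • p - x₀ • u' + (x₀ * Qe (s • w)) • u := by
      have e' : k = x₀ * s := by rw [hs, mul_div_cancel₀ _ hx₀0]
      rw [hpdef, e']
      module
    rw [e]
    exact add_mem (sub_mem (hcross hps (by rw [mul_one]; exact hx₀) hQ1) (hcross hp (by rw [mul_one]; exact hx₀) hQ1))
      (hline u hu 1 _)
  have hDs : ∀ y, ∀ hy : Q y = 0, ∀ z, polB Q y z = 0 → z ∈ oPair Q M hy := by
    intro y hy z hz
    by_cases hy0 : y = 0
    · exact mem_oPair_zero hy0 z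
    by_cases hqy : Qe y = 0
    · exact hfull hqy hy0 z hz
    set S := Submodule.span F {p : V | Qe p = 0 ∧ polB Q y p = 0} with hSdef
    have hS : S ≤ oPair Q M hy := by
      rw [hSdef, Submodule.span_le]
      rintro p ⟨hp, hyp⟩
      by_cases hp0 : p = 0
      · rw [hp0]; exact Submodule.zero_mem _
      exact oPair_symm (d.q_zero hp) hy (hfull hp hp0 y (by rw [polB_comm]; exact hyp))
    apply hS
    rw [← LinearMap.BilinForm.orthogonal_orthogonal d.nd (polB_isRefl Q) S]
    intro η hη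
    change polB Q η z = 0
    suffices h : η ∈ Submodule.span F ({y} : Set V) by
      obtain ⟨t, rfl⟩ := Submodule.mem_span_singleton.1 h
      rw [map_smul, LinearMap.smul_apply, hz, smul_zero]
    obtain ⟨u, hu0, hu⟩ := exists_singular Qe (by omega)
    obtain ⟨u', hp⟩ := exists_hypPair d.nde hu hu0
    obtain ⟨w, t₀, ht₀, hwq, huw, hu'w, hdec⟩ := d.exists_unit h3 hp
    obtain ⟨P, hP⟩ : ∃ P : E → V, ∀ s, P s = u' + s • w - Qe (s • w) • u := ⟨_, fun _ => rfl⟩
    have hPq : ∀ s, Qe (P s) = 0 := fun s => by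
      rw [hP, qmap_sub, qmap_add, map_add (polB Qe), LinearMap.add_apply, hp.right, qmap_smul (Qe (s • w)) u, hu]
      simp [polB_comm u' u, hp.pair, polB_comm w u, huw, hu'w]
    have hex : ∀ s, ∃ t : F, polB Qe (η - t • y) (P s) = 0 := by
      intro s
      set a := polB Qe y (P s) with ha
      set b := polB Qe η (P s) with hb
      have hker : ∀ x, τ (x * a) = 0 → τ (x * b) = 0 := by
        intro x hx
        have h := hη _ (Submodule.subset_span (show x • P s ∈ {p : V | Qe p = 0 ∧ polB Q y p = 0} from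
          ⟨by rw [qmap_smul, hPq, mul_zero], by rw [d.polB_eq, map_smul, smul_eq_mul, ← ha, hx]⟩))
        change polB Q (x • P s) η = 0 at h
        rwa [polB_comm, d.polB_eq, map_smul, smul_eq_mul, ← hb] at h
      by_cases ha0 : a = 0
      · refine ⟨0, ?_⟩
        rw [zero_smul, sub_zero, ← hb]
        exact functional_ext d.nz fun c => hker c (by rw [ha0, mul_zero, map_zero])
      obtain ⟨t, ht⟩ : ∃ t : F, t • a = b := by
        by_contra hcon
        simp only [not_exists] at hcon
        obtain ⟨x, hx, hxb⟩ := exists_orth_polB_eq hnd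
          (show b ∉ Submodule.span F ({a} : Set E) from fun h => by
            obtain ⟨t, ht⟩ := Submodule.mem_span_singleton.1 h
            exact hcon t ht) 1
        have h1 := hx a (Submodule.mem_span_singleton_self a)
        rw [polB_trForm, mul_comm a, mul_eq_zero] at h1
        rw [polB_trForm, mul_comm b, hker x (h1.resolve_left d.two), mul_zero] at hxb
        exact zero_ne_one hxb
      refine ⟨t, ?_⟩
      rw [map_sub, LinearMap.sub_apply, d.be_smul_left, ← ha, ← hb, ht, sub_self]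
    choose tf htf using hex
    have hcard : Fintype.card F * 2 < Fintype.card E := by
      rw [Module.card_eq_pow_finrank (K := F) (V := E)]
      calc Fintype.card F * 2 < Fintype.card F * Fintype.card F :=
            Nat.mul_lt_mul_of_pos_left (by have := d.card_three; omega) Fintype.card_pos
        _ = Fintype.card F ^ 2 := (sq _).symm
        _ ≤ _ := Nat.pow_le_pow_right Fintype.card_pos (by omega)
    obtain ⟨t, ht⟩ := Fintype.exists_lt_card_fiber_of_mul_lt_card tf hcard
    obtain ⟨a, b, c, ha, hb, hc, hab, hac, hbc⟩ := Finset.two_lt_card_iff.1 ht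
    set η' := η - t • y with hη'
    have hval : ∀ s, tf s = t →
        polB Qe η' u' + polB Qe η' w * s - Qe w * polB Qe η' u * (s * s) = 0 := by
      intro s hs
      have h := htf s
      rw [hs, ← hη', hP, map_sub, map_add, map_smul, map_smul, qmap_smul, smul_eq_mul, smul_eq_mul] at h
      linear_combination h
    have ea := hval a (Finset.mem_filter.1 ha).2
    have eb := hval b (Finset.mem_filter.1 hb).2
    have ec := hval c (Finset.mem_filter.1 hc).2
    have k1 : polB Qe η' w - Qe w * polB Qe η' u * (a + b) = 0 :=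
      mul_left_cancel₀ (sub_ne_zero.2 hab) (by rw [mul_zero]; linear_combination ea - eb)
    have k2 : polB Qe η' w - Qe w * polB Qe η' u * (a + c) = 0 :=
      mul_left_cancel₀ (sub_ne_zero.2 hac) (by rw [mul_zero]; linear_combination ea - ec)
    have k3 : Qe w * polB Qe η' u = 0 :=
      mul_left_cancel₀ (sub_ne_zero.2 hbc) (by rw [mul_zero]; linear_combination k2 - k1)
    have k4 : polB Qe η' w = 0 := by linear_combination k1 + (a + b) * k3
    have k5 : polB Qe η' u' = 0 := by linear_combination ea - a * k4 + (a * a) * k3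
    have hw0 : Qe w ≠ 0 := by rw [hwq]; exact smul_ne_zero ht₀ one_ne_zero
    have k6 : polB Qe η' u = 0 := (mul_eq_zero.1 k3).resolve_left hw0
    have h0 : η' = 0 := by
      refine eq_zero_of_polB_eq_zero d.nde fun x => ?_
      obtain ⟨i, j, k, rfl⟩ := hdec x
      simp [k4, k5, k6]
    rw [sub_eq_zero] at h0
    exact Submodule.mem_span_singleton.2 ⟨t, h0.symm⟩
  rw [commutator_eq_closure_singular d.nd (by have := d.big'; omega), Subgroup.closure_le]
  rintro _ ⟨u, w, hu, hw, huw, rfl⟩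
  have := (hDs u hu w huw).2 1
  rwa [one_smul] at this

/-- With all negations of hyperbolic planes, a moved line gives the commutator subgroup. -/
theorem commutator_le_of_negations (h3 : Module.finrank E V = 3)
    (hS : ∀ p p' : V, HypPair Qe p p' → d.res (hscale Qe p p' (-1)) ∈ M)
    {g : orthGroup Q} (hg : g ∈ M) {v : V} (hv : Qe v = 0) {c : E}
    (hmove : g.1 (c • v) ∉ fline (E := E) F (g.1 v)) : commutator (orthGroup Q) ≤ M := by
  obtain ⟨u, hu, e, hu0, he, l, hl, hul, hlU⟩ := d.exists_start hH (d.exists_adjacent₃ hH h3 hS hg hv hmove)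
  exact d.commutator_le_of_planes hH h3 fun p hp x y => d.line_planes hH hu hu0 he hl hul hlU hp x y

/-- In three dimensions over the extension, a moved line gives the commutator subgroup. -/
theorem commutator_le_of_moves₃ (h3 : Module.finrank E V = 3) {g : orthGroup Q} (hg : g ∈ M) {v : V} (hv : Qe v = 0)
    {c : E} (hmove : g.1 (c • v) ∉ fline (E := E) F (g.1 v)) : commutator (orthGroup Q) ≤ M := by
  obtain ⟨v, hv, hv0, C, hC, hC1, hCfix⟩ := d.exists_central₃ hH h3 hg hv hmove
  obtain ⟨v', hp⟩ := exists_hypPair d.nde hv hv0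
  have h1 : (-1 : E) ≠ 0 := neg_ne_zero.2 one_ne_zero
  obtain ⟨s, hsdef⟩ : ∃ s, s = hscale Qe v v' (-1) := ⟨_, rfl⟩
  obtain ⟨σ, hσ⟩ : ∃ σ, σ = d.res s := ⟨_, rfl⟩
  have hσσ : σ * σ = 1 := by rw [hσ, ← map_mul, hsdef, hscale_neg_sq hp, map_one]
  have hσi : σ⁻¹ = σ := inv_eq_of_mul_eq_one_right hσσ
  -- the element commutes with the negation
  have hσC : σ * C * σ = C := by
    obtain ⟨δ, hδ, hadd, hker⟩ := d.central_form hv0 hCfix
    refine orth_ext fun x => ?_
    have hsx : polB Qe v (s.1 x + x) = 0 := by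
      have h := orth_polB_map s v x
      rw [hsdef, hscale_left hp h1, neg_one_smul, map_neg, LinearMap.neg_apply, ← hsdef] at h
      rw [map_add]
      linear_combination -h
    have hδs : δ (s.1 x) + δ x = 0 := by rw [← hadd]; exact hker _ hsx
    have hss : s.1 (s.1 x) = x := by rw [← orth_mul_apply, hsdef, hscale_neg_sq hp, orth_one_apply]
    rw [orth_mul_apply, orth_mul_apply, hσ, d.res_apply, d.res_apply, hδ, hδ, map_add, hss, map_smul,
      eq_neg_of_add_eq_zero_left hδs, hsdef, hscale_left hp h1, neg_one_smul, neg_smul, smul_neg, neg_neg]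
  -- the largest part of the overgroup invariant under the negation
  let M₀ : Subgroup (orthGroup Q) := M ⊓ M.comap (MulAut.conj σ).toMonoidHom
  have hmem : ∀ x, x ∈ M₀ ↔ x ∈ M ∧ σ * x * σ ∈ M := fun x => by
    show x ∈ M ∧ σ * x * σ⁻¹ ∈ M ↔ _
    rw [hσi]
  have hconj : ∀ x ∈ M₀, σ * x * σ ∈ M₀ := fun x hx => by
    obtain ⟨h1', h2⟩ := (hmem x).1 hx
    refine (hmem _).2 ⟨h2, ?_⟩
    rwa [← mul_assoc, ← mul_assoc, hσσ, one_mul, mul_assoc, hσσ, mul_one]
  have hC0 : C ∈ M₀ := (hmem C).2 ⟨hC, by rw [hσC]; exact hC⟩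
  have hcancel : ∀ y : orthGroup Q, σ * (σ * y) = y := fun y => by rw [← mul_assoc, hσσ, one_mul]
  let M₁ : Subgroup (orthGroup Q) :=
    { carrier := {x | x ∈ M₀ ∨ x * σ ∈ M₀}
      one_mem' := Or.inl M₀.one_mem
      mul_mem' := fun {x y} hx hy => by
        rcases hx with hx | hx <;> rcases hy with hy | hy
        · exact Or.inl (M₀.mul_mem hx hy)
        · exact Or.inr (by rw [mul_assoc]; exact M₀.mul_mem hx hy)
        · refine Or.inr ?_
          have := M₀.mul_mem hx (hconj y hy)
          rwa [show x * σ * (σ * y * σ) = x * y * σ by simp only [mul_assoc, hcancel]] at this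
        · refine Or.inl ?_
          have := M₀.mul_mem hx (hconj _ hy)
          rwa [show x * σ * (σ * (y * σ) * σ) = x * y by simp only [mul_assoc, hcancel, hσσ, mul_one]] at this
      inv_mem' := fun {x} hx => by
        rcases hx with hx | hx
        · exact Or.inl (M₀.inv_mem hx)
        · refine Or.inr ?_
          have := hconj _ (M₀.inv_mem hx)
          rwa [mul_inv_rev, hσi, hcancel] at this }
  have hle : M₀ ≤ M₁ := fun x hx => Or.inl hx
  have hσ1 : σ ∈ M₁ := Or.inr (by rw [hσσ]; exact M₀.one_mem)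
  have hH1 : ∀ h : orthGroup Qe, d.res (h * h) ∈ M₁ := fun h => hle ((hmem _).2 ⟨hH h, by
    have hs2 : s * s = 1 := by rw [hsdef, hscale_neg_sq hp]
    have e : s * (h * h) * s = (s * h * s) * (s * h * s) := by
      rw [show s * h * s * (s * h * s) = s * h * (s * s) * (h * s) by simp only [mul_assoc], hs2, mul_one]
      simp only [mul_assoc]
    rw [hσ, ← map_mul, ← map_mul, e]
    exact hH _⟩)
  have hS : ∀ p p' : V, HypPair Qe p p' → d.res (hscale Qe p p' (-1)) ∈ M₁ := by
    intro p p' hpp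
    obtain ⟨t, ht, k, hk, htv⟩ := d.exists_transport hH1 hv hv0 hpp.left hpp.left_ne_zero
    obtain ⟨p'', hp''⟩ : ∃ x, x = k • t.1 v' := ⟨_, rfl⟩
    have hpp' : HypPair Qe p p'' := by
      refine ⟨hpp.left, by rw [hp'', qmap_smul, orth_qmap, hp.right, mul_zero], ?_⟩
      rw [hp'', map_smul, ← LinearMap.smul_apply, ← map_smul, ← htv, orth_polB_map, hp.pair]
    have e1 : t * s * t⁻¹ = hscale Qe p p'' (-1) := by
      rw [hsdef, hscale_conj t hp h1, htv, ← hscale_smul_pair hpp' h1 hk, hp'', inv_smul_smul₀ hk]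
    have hw : polB Qe p (p' - p'') = 0 := by rw [map_sub, hpp.pair, hpp'.pair, sub_self]
    have e2 : (eichler Qe p (p' - p'')).1 p'' = p' := by
      rw [eichler_apply hpp.left hw, polB_comm p'' p, hpp'.pair, map_sub, polB_self, hpp'.right, qmap_sub, hpp.right,
        hpp'.right, polB_comm p' p'']
      module
    have e3 : (eichler Qe p (p' - p'')).1 p = p := by
      simpa using d.eichler_line hpp.left hw 1
    have e4 : eichler Qe p (p' - p'') * (t * s * t⁻¹) * (eichler Qe p (p' - p''))⁻¹ = hscale Qe p p' (-1) := by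
      rw [e1, hscale_conj _ hpp' h1, e2, e3]
    rw [← e4]
    simp only [map_mul, map_inv]
    rw [← hσ]
    exact mul_mem (mul_mem (d.root_mem hH1 hpp.left hw) (mul_mem (mul_mem ht hσ1) (inv_mem ht)))
      (inv_mem (d.root_mem hH1 hpp.left hw))
  obtain ⟨v₁, hv₁, c₁, hmove₁⟩ := d.central_not_normal hv hv0 hC1 hCfix
  have h := d.commutator_le_of_negations hH1 h3 hS (hle hC0) hv₁ hmove₁
  -- the commutator subgroup is perfect
  have hperfect := H43.commutator_perfect (Q := Q) d.nd (by have := d.big'; omega)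
  rw [← hperfect, Subgroup.commutator_le]
  intro x hx y hy
  have hx1 := h hx
  have hy1 := h hy
  suffices hz : x * y * x⁻¹ * y⁻¹ ∈ M₀ from ((hmem _).1 hz).1
  have hi : ∀ {z : orthGroup Q}, z ∈ M₀ → z⁻¹ ∈ M₀ := fun h => M₀.inv_mem h
  rcases hx1 with hx1 | hx1 <;> rcases hy1 with hy1 | hy1
  · exact mul_mem (mul_mem (mul_mem hx1 hy1) (hi hx1)) (hi hy1)
  · have := mul_mem (mul_mem hx1 (mul_mem hy1 (hconj _ (hi hx1)))) (hi hy1)
    rwa [show x * (y * σ * (σ * x⁻¹ * σ)) * (y * σ)⁻¹ = x * y * x⁻¹ * y⁻¹ by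
      rw [mul_inv_rev, hσi]; simp only [mul_assoc, hcancel]] at this
  · have := mul_mem (mul_mem (mul_mem hx1 (hconj _ hy1)) (hi hx1)) (hi hy1)
    rwa [show x * σ * (σ * y * σ) * (x * σ)⁻¹ * y⁻¹ = x * y * x⁻¹ * y⁻¹ by
      rw [mul_inv_rev, hσi]; simp only [mul_assoc, hcancel]] at this
  · have := mul_mem (mul_mem (mul_mem hx1 (hconj _ hy1)) (hconj _ (hi hx1))) (hi hy1)
    rwa [show x * σ * (σ * (y * σ) * σ) * (σ * (x * σ)⁻¹ * σ) * (y * σ)⁻¹ = x * y * x⁻¹ * y⁻¹ by
      rw [mul_inv_rev, mul_inv_rev, hσi]; simp only [mul_assoc, hcancel]] at this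

end OExt

end H49
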