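import Cfsg.Agent.H49.OrthExtLines

/-!
An element moving a line of the extension gives the commutator subgroup; isometries preserving the lines
normalise the extension.
-/

set_option autoImplicit false
set_option linter.unusedSectionVars false

namespace H49

open H43

namespace OExt

variable {F : Type*} [Field F] [Fintype F] {E : Type*} [Field E] [Fintype E] [Algebra F E]
  {V : Type*} [AddCommGroup V] [Module F V] [Module E V] [IsScalarTower F E V]
  [FiniteDimensional F V] [FiniteDimensional E V]
  {Q : QuadraticForm F V} {Qe : QuadraticForm E V} {τ : E →ₗ[F] F} (d : OExt Q Qe τ)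
include d

/-- Some vector of the orthogonal of a hyperbolic pair pairs with a given one. -/
theorem exists_sing_pair {u u' : V} (hp : HypPair Qe u u') (h5 : 5 ≤ Module.finrank E V) {x : V}
    (hx : x ∈ (polB Qe).orthogonal (Submodule.span E {u, u'})) (hx0 : x ≠ 0) :
    ∃ a ∈ (polB Qe).orthogonal (Submodule.span E {u, u'}), Qe a = 0 ∧ polB Qe x a ≠ 0 := by
  by_contra hcon
  simp only [not_exists, not_and, not_not] at hcon
  obtain ⟨z, hz, -, hxz⟩ := exists_aniso_orth d.nde (hyp_inf_orth hp) hx hx0 d.twoE
  apply hxz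
  have := finrank_hyp_orth d.nde hp
  have h1 := finrank_orth_add d.nde (Submodule.span E {u, u'})
  exact LinearMap.mem_ker.1 (Submodule.span_le.2 (fun a ha => hcon a ha.1 ha.2)
    (span_singular_nondeg d.nde (hyp_inf_orth hp) (by omega) hz))

variable {M : Subgroup (orthGroup Q)} (hH : ∀ h : orthGroup Qe, d.res (h * h) ∈ M)
include hH

/-- The plane over a line, five dimensions or more over the extension. -/
theorem core_five (h5 : 5 ≤ Module.finrank E V) {u u' : V} (hp : HypPair Qe u u') {e : E} {l : V}
    (hl : l ∈ oPair Q M (d.qs hp.left e)) (hlW : l ∈ (polB Qe).orthogonal (Submodule.span E {u, u'}))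
    (hl0 : l ≠ 0) {w : V} (hw : w ∈ (polB Qe).orthogonal (Submodule.span E {u, u'})) :
    w ∈ oPair Q M (d.qs hp.left e) := by
  set W := (polB Qe).orthogonal (Submodule.span E {u, u'}) with hW
  set D := oPair Q M (d.qs hp.left e)
  have hline : ∀ x ∈ W, x ∈ D → ∀ a ∈ W, Qe a = 0 → polB Qe x a ≠ 0 → ∀ c : E, c • a ∈ D := by
    intro x hxW hxD a haW ha hxa c
    obtain ⟨a1, a2⟩ := mem_orth_pair.1 haW
    have ha0 : a ≠ 0 := fun e => hxa (by simp [e])
    -- an anisotropic vector orthogonal to the plane
    obtain ⟨b, hb, hbq⟩ : ∃ b ∈ (polB Qe).orthogonal (Submodule.span E (Set.range ![u, u', a])), Qe b ≠ 0 := by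
      by_contra hcon
      simp only [not_exists, not_and, not_not] at hcon
      set S := (polB Qe).orthogonal (Submodule.span E (Set.range ![u, u', a])) with hSdef
      have hu0 : u ≠ 0 := hp.left_ne_zero
      have hinf : S ⊓ (E ∙ u) = ⊥ := by
        rw [eq_bot_iff]
        rintro y ⟨hy, hy'⟩
        obtain ⟨s, rfl⟩ := Submodule.mem_span_singleton.1 hy'
        have h1 : polB Qe u' (s • u) = 0 := (mem_orth_range _ _).1 hy 1
        rw [map_smul, polB_comm u' u, hp.pair, smul_eq_mul, mul_one] at h1
        rw [Submodule.mem_bot, h1, zero_smul]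
      have hsing : ∀ y ∈ S ⊔ (E ∙ u), Qe y = 0 := by
        intro y hy
        obtain ⟨y₁, hy₁, y₂, hy₂, rfl⟩ := Submodule.mem_sup.1 hy
        obtain ⟨s, rfl⟩ := Submodule.mem_span_singleton.1 hy₂
        have h1 : polB Qe u y₁ = 0 := (mem_orth_range _ _).1 hy₁ 0
        rw [qmap_add_smul, hcon y₁ hy₁, hp.left, polB_comm y₁ u, h1]
        ring
      have h1 := two_mul_finrank_singular_le d.nde _ hsing
      have h2 := Submodule.finrank_sup_add_finrank_inf_eq S (E ∙ u)
      have h3 := finrank_orth_add d.nde (Submodule.span E (Set.range ![u, u', a]))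
      have h4 := finrank_span_tuple (F := E) ![u, u', a]
      rw [hinf, finrank_bot, finrank_span_singleton hu0, add_zero] at h2
      rw [← hSdef] at h3
      omega
    have b1 : polB Qe u b = 0 := (mem_orth_range _ _).1 hb 0
    have b2 : polB Qe u' b = 0 := (mem_orth_range _ _).1 hb 1
    have b3 : polB Qe a b = 0 := (mem_orth_range _ _).1 hb 2
    set k := Qe b * polB Qe x a with hk
    have hk0 : k ≠ 0 := mul_ne_zero hbq hxa
    let P : Submodule F E :=
      { carrier := {z | (z * k) • a ∈ D}
        add_mem' := fun {p q} hp hq => by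
          show ((p + q) * k) • a ∈ D
          rw [add_mul, add_smul]; exact add_mem hp hq
        zero_mem' := by
          show ((0 : E) * k) • a ∈ D
          rw [zero_mul, zero_smul]; exact Submodule.zero_mem _
        smul_mem' := fun t p hp => by
          show ((t • p) * k) • a ∈ D
          rw [smul_mul_assoc, smul_assoc]; exact Submodule.smul_mem _ t hp }
    have hP : ∀ t : E, t * t ∈ P := by
      intro t
      have hmove : ∀ s : E, x + polB Qe x a • s • b - polB Qe x (s • b) • a -
          (Qe (s • b) * polB Qe x a) • a ∈ D := by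
        intro s
        have hs : polB Qe a (s • b) = 0 := by rw [map_smul, b3, smul_zero]
        have hfix : (d.res (eichler Qe a (s • b))).1 (e • u) = e • u := by
          rw [d.res_apply, eichler_fix ha hs]
          · rw [map_smul, LinearMap.smul_apply, a1, smul_zero]
          · simp [b1]
        have := oPair_fix (d.root_mem hH ha hs) hfix hxD
        rwa [d.res_apply, eichler_apply ha hs] at this
      have h1 := sub_mem (sub_mem (add_mem (hmove t) (hmove (-t))) hxD) hxD
      rw [neg_smul, qmap_neg, map_neg, qmap_smul] at h1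
      have h2 : (-(2 : F)) • ((t * t * k) • a) ∈ D := by
        convert h1 using 1
        rw [← algebraMap_smul E (-(2 : F)), map_neg, map_ofNat, hk]
        module
      show (t * t * k) • a ∈ D
      exact (Submodule.smul_mem_iff D (neg_ne_zero.2 d.two)).1 h2
    have : (c / k * k) • a ∈ D := d.span_squares hP (c / k)
    rwa [div_mul_cancel₀ _ hk0] at this
  obtain ⟨a₀, ha₀W, ha₀, hla₀⟩ := d.exists_sing_pair hp h5 hlW hl0
  have hA := hline l hlW hl a₀ ha₀W ha₀ hla₀
  have ha₀0 : a₀ ≠ 0 := fun e => hla₀ (by simp [e])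
  obtain ⟨a', hp', ha'⟩ := exists_hypPair_orth d.nde (W := Submodule.span E {u, u'}) ha₀ (fun h => ha₀0 (by
    rw [← Submodule.mem_bot E, ← hyp_inf_orth hp]; exact ⟨h, ha₀W⟩)) ha₀W
  have ha'W : a' ∈ W := ha'
  have ha₀D : a₀ ∈ D := by have := hA 1; rwa [one_smul] at this
  have hA' := hline a₀ ha₀W ha₀D a' ha'W hp'.right (by rw [hp'.pair]; exact one_ne_zero)
  have ha'D : a' ∈ D := by have := hA' 1; rwa [one_smul] at this
  have hall : ∀ a ∈ W, Qe a = 0 → ∀ c : E, c • a ∈ D := by
    intro a haW ha c
    by_cases e1 : polB Qe a₀ a = 0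
    swap
    · exact hline a₀ ha₀W ha₀D a haW ha e1 c
    by_cases e2 : polB Qe a' a = 0
    swap
    · exact hline a' ha'W ha'D a haW ha e2 c
    have h1 := hline a' ha'W ha'D (a + a₀) (add_mem haW ha₀W)
      (by rw [qmap_add, ha, ha₀, polB_comm a a₀, e1]; simp)
      (by rw [map_add, e2, zero_add, polB_comm, hp'.pair]; exact one_ne_zero) c
    rw [smul_add] at h1
    exact ((Submodule.add_mem_iff_left _ (hA c)).1 h1)
  have h := finrank_hyp_orth d.nde hp
  have h' := finrank_orth_add d.nde (Submodule.span E {u, u'})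
  have key : ∀ x ∈ Submodule.span E {z : V | z ∈ W ∧ Qe z = 0}, ∀ c : E, c • x ∈ D := by
    intro x hx
    induction hx using Submodule.span_induction with
    | mem z hz => exact hall z hz.1 hz.2
    | zero => intro c; rw [smul_zero]; exact Submodule.zero_mem _
    | add p q _ _ hp hq => intro c; rw [smul_add]; exact add_mem (hp c) (hq c)
    | smul s p _ hp => intro c; rw [smul_smul]; exact hp _
  have := key w (span_singular_nondeg d.nde (hyp_inf_orth hp) (by omega) hw) 1
  rwa [one_smul] at this

/-- The plane over a line, four dimensions over the extension. -/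
theorem core_four (h4 : Module.finrank E V = 4) {u u' : V} (hp : HypPair Qe u u')
    (hr : 3 ≤ Module.finrank F E ∨
      ∀ w ∈ (polB Qe).orthogonal (Submodule.span E {u, u'}), Qe w = 0 → w = 0)
    {e : E} (he : e ≠ 0) {l : V}
    (hl : l ∈ oPair Q M (d.qs hp.left e)) (hlW : l ∈ (polB Qe).orthogonal (Submodule.span E {u, u'}))
    (hl0 : l ≠ 0) (hline : ∀ p, ∀ hp : Qe p = 0, ∀ x y : E, y • p ∈ oPair Q M (d.qs hp x))
    {w : V} (hw : w ∈ (polB Qe).orthogonal (Submodule.span E {u, u'})) :
    w ∈ oPair Q M (d.qs hp.left e) := by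
  set W := (polB Qe).orthogonal (Submodule.span E {u, u'}) with hW
  have hW2 : Module.finrank E W = 2 := by
    have := finrank_hyp_orth d.nde hp
    rw [← hW] at this
    omega
  -- an orthogonal basis of the plane
  obtain ⟨z, hz, hzq, -⟩ := exists_aniso_orth d.nde (hyp_inf_orth hp) hlW hl0 d.twoE
  obtain ⟨z', hz', hz'P⟩ := exists_orth_notMem (Q := Qe) d.nde (W := Submodule.span E (Set.range ![u, u', z]))
    (P := ⊥) (by
      rw [finrank_bot, add_zero]
      have := finrank_span_tuple (F := E) ![u, u', z]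
      omega)
  have hz'0 : z' ≠ 0 := fun h => hz'P ((Submodule.mem_bot E).2 h)
  have hz'W : z' ∈ W := mem_orth_pair.2 ⟨(mem_orth_range _ _).1 hz' 0, (mem_orth_range _ _).1 hz' 1⟩
  have hzz' : polB Qe z z' = 0 := (mem_orth_range _ _).1 hz' 2
  have hspan : Submodule.span E {z, z'} = W := by
    have hli : LinearIndependent E ![z, z'] := by
      rw [LinearIndependent.pair_iff]
      intro p q hpq
      have hp0 : p = 0 := by
        have := congrArg (polB Qe z) hpq
        rw [map_add, map_smul, map_smul, hzz', polB_self, smul_zero, add_zero, map_zero, smul_eq_mul,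
          mul_eq_zero] at this
        exact this.resolve_right (mul_ne_zero d.twoE hzq)
      rw [hp0, zero_smul, zero_add, smul_eq_zero] at hpq
      exact ⟨hp0, hpq.resolve_right hz'0⟩
    refine Submodule.eq_of_le_of_finrank_eq ?_ ?_
    · rw [Submodule.span_le, Set.insert_subset_iff, Set.singleton_subset_iff]
      exact ⟨hz, hz'W⟩
    · have h := finrank_span_eq_card hli
      rw [Matrix.range_cons, Matrix.range_cons, Matrix.range_empty, Set.union_empty, Set.singleton_union,
        Fintype.card_fin] at h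
      rw [h, hW2]
  have hcoord : ∀ x ∈ W, ∃ p q : E, p • z + q • z' = x := fun x hx => by
    rw [← hspan] at hx
    exact Submodule.mem_span_pair.1 hx
  have hz'q : Qe z' ≠ 0 := by
    intro h0
    apply hz'0
    refine eq_zero_of_polB_eq_zero d.nde fun y => ?_
    obtain ⟨p, q, hpq⟩ := hcoord _ (hyp_proj_mem hp y)
    have h1 : polB Qe z' u = 0 := by rw [polB_comm]; exact (mem_orth_pair.1 hz'W).1
    have h2 : polB Qe z' u' = 0 := by rw [polB_comm]; exact (mem_orth_pair.1 hz'W).2
    have h3 : polB Qe z' y = polB Qe z' (p • z + q • z') := by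
      rw [hpq, map_sub, map_sub, map_smul, map_smul, h1, h2, smul_zero, smul_zero, sub_zero, sub_zero]
    rw [h3, map_add, map_smul, map_smul, polB_comm z' z, hzz', polB_self, h0, mul_zero, smul_zero, smul_zero,
      add_zero]
  obtain ⟨h, hM, hfix, κ, hκ, hsum⟩ := d.exists_rot hH hzq hz'q hzz' (hr.imp_right fun hani => by
    rintro ⟨s, hs⟩
    apply hz'0
    have hs' : s * s * Qe z + Qe z' = 0 := by
      rw [← hs]; field_simp; ring
    have hw := hani (z' + s • z) (add_mem hz'W (W.smul_mem s hz)) (by
      rw [qmap_add_smul, polB_comm z' z, hzz']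
      linear_combination hs')
    have h1 := congrArg (fun y => polB Qe z y) hw
    simp only [map_add, map_smul, map_zero, hzz', polB_self, smul_eq_mul, zero_add, mul_eq_zero] at h1
    rcases h1 with h1 | h1
    · rw [h1, zero_smul, add_zero] at hw; exact hw
    · exact absurd h1 (by simp [hzq, d.twoE]))
  have b1 : ∀ x ∈ W, polB Qe u x = 0 ∧ polB Qe u' x = 0 := fun x hx => mem_orth_pair.1 hx
  have hu : h.1 u = u := hfix u (b1 z hz).1 (b1 z' hz'W).1
  have hu' : h.1 u' = u' := hfix u' (b1 z hz).2 (b1 z' hz'W).2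
  have hui : (h⁻¹).1 u = u := by conv_lhs => rw [← hu, orth_inv_apply_self]
  have hWmap : ∀ x ∈ W, h.1 x ∈ W := by
    intro x hx
    refine mem_orth_pair.2 ⟨?_, ?_⟩
    · conv_lhs => rw [← hu]
      rw [orth_polB_map]; exact (b1 x hx).1
    · conv_lhs => rw [← hu']
      rw [orth_polB_map]; exact (b1 x hx).2
  set D := oPair Q M (d.qs hp.left e) with hD
  have hDmap : ∀ x ∈ D, h.1 x ∈ D := fun x hx => by
    have := oPair_fix hM (by rw [d.res_apply, map_smul, hu]) hx
    rwa [d.res_apply] at this
  have hDinv : ∀ x ∈ D, (h⁻¹).1 x ∈ D := fun x hx => by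
    have := oPair_fix (g := d.res h⁻¹) (by rw [map_inv]; exact inv_mem hM) (by rw [d.res_apply, map_smul, hui]) hx
    rwa [d.res_apply] at this
  -- the part inside the plane is a space over the extension
  let S : Subalgebra F E :=
    { carrier := {c | ∀ x ∈ W, x ∈ D → c • x ∈ D}
      mul_mem' := fun {a b} ha hb x hxW hxD => by
        rw [← smul_smul]; exact ha _ (W.smul_mem b hxW) (hb x hxW hxD)
      add_mem' := fun {a b} ha hb x hxW hxD => by
        rw [add_smul]; exact add_mem (ha x hxW hxD) (hb x hxW hxD)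
      algebraMap_mem' := fun t x hxW hxD => by
        rw [algebraMap_smul]; exact Submodule.smul_mem _ t hxD }
  haveI := Subalgebra.isSimpleOrder_of_finrank_prime F E d.prime
  have hS : S = ⊤ := by
    rcases IsSimpleOrder.eq_bot_or_eq_top S with h' | h'
    · exfalso
      apply hκ
      rw [← h']
      intro x hxW hxD
      obtain ⟨p, q, rfl⟩ := hcoord x hxW
      rw [← hsum]
      exact add_mem (hDmap _ hxD) (hDinv _ hxD)
    · exact h'
  have hsc : ∀ x ∈ W, x ∈ D → ∀ c : E, c • x ∈ D := fun x hxW hxD c =>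
    (show c ∈ S by rw [hS]; exact Algebra.mem_top) x hxW hxD
  have finish : ∀ x y : V, x ∈ W → x ∈ D → y ∈ W → (∀ c : E, c • y ∈ D) → LinearIndependent E ![x, y] →
      w ∈ D := by
    intro x y hxW hxD hyW hyD hli
    have hsp : Submodule.span E {x, y} = W := by
      refine Submodule.eq_of_le_of_finrank_eq ?_ ?_
      · rw [Submodule.span_le, Set.insert_subset_iff, Set.singleton_subset_iff]
        exact ⟨hxW, hyW⟩
      · have h := finrank_span_eq_card hli
        rw [Matrix.range_cons, Matrix.range_cons, Matrix.range_empty, Set.union_empty, Set.singleton_union,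
          Fintype.card_fin] at h
        rw [h, hW2]
    rw [← hsp] at hw
    obtain ⟨p, q, rfl⟩ := Submodule.mem_span_pair.1 hw
    exact add_mem (hsc x hxW hxD p) (hyD q)
  by_cases hlq : Qe l = 0
  · -- the other singular line of the plane
    obtain ⟨l', hp', hl'⟩ := exists_hypPair_orth d.nde (W := Submodule.span E {u, u'}) hlq (fun h => hl0 (by
      rw [← Submodule.mem_bot E, ← hyp_inf_orth hp]; exact ⟨h, hlW⟩)) hlW
    have hl'W : l' ∈ W := hl'
    refine finish l l' hlW hl hl'W (fun c => ?_) hp'.linearIndependent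
    obtain ⟨β, hβ, hcβ⟩ := d.exists_ker c
    obtain ⟨γ, hγ⟩ := d.exists_tau_ne hβ
    have hQ' : Q (c • l') = 0 := d.qs hp'.right c
    have h1 : polB Qe u l' = 0 := (b1 l' hl'W).1
    refine oPair_symm hQ' (d.qs hp.left e) (oPair_rule (d.qs hp.left e) hQ' ?_ (hsc l hlW hl β)
      (hline l' hp'.right c γ) ?_ ?_ ?_)
    · rw [d.polB_eq]; simp [h1]
    · rw [d.polB_eq]
      simpa [polB_comm l' l, hp'.pair, mul_comm] using hcβ
    · rw [d.polB_eq]; simp [h1]
    · rw [d.polB_eq]
      simpa [polB_comm l' l, hp'.pair, mul_comm] using hγ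
  · refine finish (h.1 l) l (hWmap l hlW) (hDmap l hl) hlW (hsc l hlW hl) ?_
    rw [LinearIndependent.pair_iff]
    intro p q hpq
    have hp0 : p = 0 := by
      by_contra hp0
      have hμ : h.1 l = (-(q / p)) • l := by
        rw [← smul_right_inj hp0]
        rw [smul_smul, mul_neg, mul_div_cancel₀ _ hp0, neg_smul]
        exact eq_neg_of_add_eq_zero_left hpq
      set μ := -(q / p)
      have h1 : μ * μ = 1 := by
        have := orth_qmap h l
        rw [hμ, qmap_smul] at this
        exact mul_right_cancel₀ hlq (this.trans (one_mul _).symm)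
      have h2 : (h⁻¹).1 l = μ • l := by
        apply h.1.injective
        rw [orth_apply_inv_self, map_smul, hμ, smul_smul, h1, one_smul]
      obtain ⟨a, b, hab⟩ := hcoord l hlW
      have h3 := hsum a b
      rw [hab, hμ, h2, ← add_smul] at h3
      have h4 := d.smul_inj hl0 h3
      apply hκ
      rw [← h4]
      have hμbot : μ ∈ (⊥ : Subalgebra F E) := by
        rcases mul_self_eq_one_iff.1 h1 with e' | e' <;> rw [e']
        · exact one_mem _
        · exact neg_mem (one_mem _)
      exact add_mem hμbot hμbot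
    rw [hp0, zero_smul, zero_add, smul_eq_zero] at hpq
    exact ⟨hp0, hpq.resolve_right hl0⟩

/-- Every singular vector is linked to its whole orthogonal over the extension. -/
theorem perp_mem (h4' : 4 ≤ Module.finrank E V)
    (hmin : 5 ≤ Module.finrank E V ∨ 3 ≤ Module.finrank F E ∨
      ∀ p q : V, p ≠ 0 → Qe p = 0 → Qe q = 0 → polB Qe p q = 0 → q ∈ Submodule.span E ({p} : Set V))
    {u : V} (hu : Qe u = 0) (hu0 : u ≠ 0) {e : E} (he : e ≠ 0) {l : V}
    (hl : l ∈ oPair Q M (d.qs hu e)) (hul : polB Qe u l = 0) (hlU : l ∉ fline (E := E) F u)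
    {p : V} (hp : Qe p = 0) (hp0 : p ≠ 0) {x : V} (hx : polB Qe p x = 0) : x ∈ oPair Q M (d.q_zero hp) := by
  obtain ⟨u', hpair⟩ := exists_hypPair d.nde hu hu0
  have hline : ∀ p, ∀ hp : Qe p = 0, ∀ x y : E, y • p ∈ oPair Q M (d.qs hp x) := fun p hp x y =>
    d.line_planes hH hu hu0 he hl hul hlU hp x y
  set W := (polB Qe).orthogonal (Submodule.span E {u, u'}) with hW
  have hproj : ∀ y, polB Qe u y = 0 → y - polB Qe y u' • u ∈ W := fun y hy => by
    have := hyp_proj_mem hpair y
    rwa [polB_comm y u, hy, zero_smul, sub_zero] at this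
  set l₀ := l - polB Qe l u' • u with hl₀def
  have hl₀W : l₀ ∈ W := hproj l hul
  have hl₀ : l₀ ∈ oPair Q M (d.qs hu e) := sub_mem hl (hline u hu e _)
  have hl₀0 : l₀ ≠ 0 := fun h => hlU (mem_fline.2 ⟨_, (sub_eq_zero.1 h).symm⟩)
  have hbig := d.big
  have hWD : ∀ (c : E), ∀ w ∈ W, w ∈ oPair Q M (d.qs hu c) := by
    by_cases h5 : 5 ≤ Module.finrank E V
    · intro c w hw
      have key : ∀ z ∈ Submodule.span E {z : V | z ∈ W ∧ Qe z = 0}, ∀ s : E,
          s • z ∈ oPair Q M (d.qs hu c) := by
        intro z hz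
        induction hz using Submodule.span_induction with
        | mem a ha =>
          intro s
          obtain ⟨a1, a2⟩ := mem_orth_pair.1 (W.smul_mem s ha.1)
          exact d.spread_sing hH hpair he (by rw [polB_comm]; exact a1) (by rw [polB_comm]; exact a2)
            (d.q_zero (by rw [qmap_smul, ha.2, mul_zero]))
            (d.core_five hH h5 hpair hl₀ hl₀W hl₀0 (W.smul_mem s ha.1)) c
        | zero => intro s; rw [smul_zero]; exact Submodule.zero_mem _
        | add a b _ _ ha hb => intro s; rw [smul_add]; exact add_mem (ha s) (hb s)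
        | smul t a _ ha => intro s; rw [smul_smul]; exact ha _
      have h1 := finrank_hyp_orth d.nde hpair
      have h2 := finrank_orth_add d.nde (Submodule.span E {u, u'})
      have := key w (span_singular_nondeg d.nde (hyp_inf_orth hpair) (by omega) hw) 1
      rwa [one_smul] at this
    · have h4 : Module.finrank E V = 4 := by omega
      have hr : 3 ≤ Module.finrank F E ∨ ∀ w ∈ W, Qe w = 0 → w = 0 :=
        (hmin.resolve_left h5).imp_right fun hno w hw hw0 => by
          obtain ⟨w1, w2⟩ := mem_orth_pair.1 hw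
          obtain ⟨s, rfl⟩ := Submodule.mem_span_singleton.1 (hno u w hu0 hu hw0 w1)
          rw [map_smul, polB_comm u' u, hpair.pair, smul_eq_mul, mul_one] at w2
          rw [w2, zero_smul]
      intro c w hw
      -- the singular vectors of the trace form span the plane
      set P := (Submodule.span E {u, u'}).restrictScalars F with hP
      have hPnd : P ⊓ (polB Q).orthogonal P = ⊥ := by
        rw [eq_bot_iff]
        rintro x ⟨hx1, hx2⟩
        exact (Submodule.mem_bot F).2 ((Submodule.mem_bot E).1
          ((hyp_inf_orth hpair).le ⟨hx1, (d.mem_orth_restrict _ x).1 hx2⟩))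
      have hPdim : Module.finrank F P + 3 ≤ Module.finrank F V := by
        have h1 := finrank_span_eq_card hpair.linearIndependent
        rw [Matrix.range_cons, Matrix.range_cons, Matrix.range_empty, Set.union_empty, Set.singleton_union,
          Fintype.card_fin] at h1
        rw [hP, finrank_restrict, h1, d.finrank_eq, h4]
        have := d.prime.two_le
        omega
      have hwF : w ∈ (polB Q).orthogonal P := (d.mem_orth_restrict _ w).2 hw
      suffices key : ∀ z ∈ Submodule.span F {z : V | z ∈ (polB Q).orthogonal P ∧ Q z = 0},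
          z ∈ oPair Q M (d.qs hu c) from key w (span_singular_nondeg d.nd hPnd hPdim hwF)
      intro z hz
      induction hz using Submodule.span_induction with
      | mem a ha =>
        have haW : a ∈ W := (d.mem_orth_restrict _ a).1 ha.1
        obtain ⟨a1, a2⟩ := mem_orth_pair.1 haW
        exact d.spread_sing hH hpair he (by rw [polB_comm]; exact a1) (by rw [polB_comm]; exact a2)
          ha.2 (d.core_four hH h4 hpair hr he hl₀ hl₀W hl₀0 hline haW) c
      | zero => exact Submodule.zero_mem _
      | add a b _ _ ha hb => exact add_mem ha hb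
      | smul t a _ ha => exact Submodule.smul_mem _ t ha
  obtain ⟨g, hg, k, hk, hgu⟩ := d.exists_transport hH hu hu0 hp hp0
  set x' := (g⁻¹).1 x with hx'
  have hux' : polB Qe u x' = 0 := by
    rw [← orth_polB_map g, hx', orth_apply_inv_self, hgu, map_smul, LinearMap.smul_apply, hx, smul_zero]
  have hx'D : x' ∈ oPair Q M (d.qs hu k⁻¹) := by
    have := add_mem (hWD k⁻¹ _ (hproj x' hux')) (hline u hu k⁻¹ (polB Qe x' u'))
    rwa [sub_add_cancel] at this
  have h1 := oPair_map' hg (show (d.res g).1 (k⁻¹ • u) = p by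
    rw [d.res_apply, map_smul, hgu, smul_smul, inv_mul_cancel₀ hk, one_smul]) (d.q_zero hp) hx'D
  rwa [d.res_apply, hx', orth_apply_inv_self] at h1

/-- An element moving a line gives the whole commutator subgroup. -/
theorem commutator_le_of_moves (h4 : 4 ≤ Module.finrank E V)
    (hmin : 5 ≤ Module.finrank E V ∨ 3 ≤ Module.finrank F E ∨
      ∀ p q : V, p ≠ 0 → Qe p = 0 → Qe q = 0 → polB Qe p q = 0 → q ∈ Submodule.span E ({p} : Set V))
    {g : orthGroup Q} (hg : g ∈ M) {v : V} (hv : Qe v = 0) {c : E}
    (hmove : g.1 (c • v) ∉ fline (E := E) F (g.1 v)) : commutator (orthGroup Q) ≤ M := by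
  obtain ⟨u₀, hu₀, e₀, hu₀0, he₀, l, hl, hul, hlU⟩ := d.exists_start hH (d.exists_adjacent hH h4 hg hv hmove)
  have hperp : ∀ p, ∀ hp : Qe p = 0, p ≠ 0 → ∀ x, polB Qe p x = 0 → x ∈ oPair Q M (d.q_zero hp) :=
    fun p hp hp0 x hx => d.perp_mem hH h4 hmin hu₀ hu₀0 he₀ hl hul hlU hp hp0 hx
  have hbig := h4
  have hDs : ∀ y, ∀ hy : Q y = 0, ∀ z, polB Qe y z = 0 → z ∈ oPair Q M hy := by
    intro y hy z hz
    by_cases hy0 : y = 0
    · exact mem_oPair_zero hy0 z
    by_cases hqy : Qe y = 0
    · exact hperp y hqy hy0 z hz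
    have key : ∀ x ∈ Submodule.span E {x : V | x ∈ (polB Qe).orthogonal (E ∙ y) ∧ Qe x = 0}, ∀ s : E,
        s • x ∈ oPair Q M hy := by
      intro x hx
      induction hx using Submodule.span_induction with
      | mem a ha =>
        intro s
        by_cases hs : s • a = 0
        · rw [hs]; exact Submodule.zero_mem _
        have hqa : Qe (s • a) = 0 := by rw [qmap_smul, ha.2, mul_zero]
        exact oPair_symm (d.q_zero hqa) hy (hperp _ hqa hs y (by
          rw [polB_comm, map_smul, mem_orth_singleton.1 ha.1, smul_zero]))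
      | zero => intro s; rw [smul_zero]; exact Submodule.zero_mem _
      | add a b _ _ ha hb => intro s; rw [smul_add]; exact add_mem (ha s) (hb s)
      | smul t a _ ha => intro s; rw [smul_smul]; exact ha _
    have := key z (span_singular_nondeg d.nde (singleton_inf_orth hqy d.twoE)
      (by rw [finrank_span_singleton hy0]; omega) (mem_orth_singleton.2 hz)) 1
    rwa [one_smul] at this
  rw [commutator_eq_closure_singular d.nd (by have := d.big'; omega), Subgroup.closure_le]
  rintro _ ⟨u, w, hu, hw, huw, rfl⟩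
  suffices h : w ∈ oPair Q M hu by
    have := h.2 1
    rwa [one_smul] at this
  by_cases hwu : polB Qe w u = 0
  · exact hDs u hu w (by rw [polB_comm]; exact hwu)
  have hu0 : u ≠ 0 := fun e => hwu (by simp [e])
  have hw0 : w ≠ 0 := fun e => hwu (by simp [e])
  obtain ⟨a, ha, haP⟩ := exists_orth_notMem d.nd (W := fline (E := E) F u ⊔ (F ∙ w))
    (P := fline (E := E) F w ⊔ (F ∙ u)) (by
      have h1 := Submodule.finrank_add_le_finrank_add_finrank (fline (E := E) F u) (F ∙ w)
      have h2 := Submodule.finrank_add_le_finrank_add_finrank (fline (E := E) F w) (F ∙ u)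
      rw [d.finrank_fline hu0, finrank_span_singleton hw0] at h1
      rw [d.finrank_fline hw0, finrank_span_singleton hu0] at h2
      have h3 := d.finrank_eq
      have h4 := Nat.mul_le_mul_left (Module.finrank F E) hbig
      have h5 := d.prime.two_le
      omega)
  obtain ⟨b, hb, hab⟩ := exists_orth_polB_eq d.nd haP 1
  have hua : polB Qe u a = 0 := d.mem_orth_line.1 fun x hx => ha x (Submodule.mem_sup_left hx)
  have hwb : polB Qe w b = 0 := d.mem_orth_line.1 fun x hx => hb x (Submodule.mem_sup_left hx)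
  refine oPair_symm hw hu (oPair_rule hu hw huw (hDs u hu a hua) (hDs w hw b hwb)
    (ha w (Submodule.mem_sup_right (Submodule.mem_span_singleton_self w)))
    (hb u (Submodule.mem_sup_right (Submodule.mem_span_singleton_self u))) ?_)
  rw [polB_comm, hab]
  exact one_ne_zero

omit hH in
/-- An isometry preserving the singular lines normalises the extension. -/
theorem normal_of_lines {g : orthGroup Q}
    (h : ∀ v, Qe v = 0 → ∀ c : E, g.1 (c • v) ∈ fline (E := E) F (g.1 v)) (c : E) :
    ∃ c' : E, ∀ x, g.1 (c • x) = c' • g.1 x := by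
  have hbig := d.big
  choose! f hf using fun v (hv : Qe v = 0) c => mem_fline.1 (h v hv c)
  have hsurj : ∀ v, Qe v = 0 → ∀ s : E, ∃ s' : E, g.1 (s' • v) = s • g.1 v := by
    intro v hv s
    by_cases hv0 : v = 0
    · exact ⟨0, by simp [hv0]⟩
    have heq : d.gl g v = fline (E := E) F (g.1 v) := by
      refine Submodule.eq_of_le_of_finrank_eq (fun x hx => ?_) ?_
      · obtain ⟨k, rfl⟩ := d.mem_gl.1 hx
        exact h v hv k
      · rw [d.finrank_gl hv0, d.finrank_fline fun e => hv0 (g.1.map_eq_zero_iff.1 e)]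
    obtain ⟨s', hs'⟩ := d.mem_gl.1 (show s • g.1 v ∈ d.gl g v by rw [heq]; exact mem_fline.2 ⟨s, rfl⟩)
    exact ⟨s', hs'⟩
  -- two lines at a non-zero angle have the same multiplier
  have step₀ : ∀ u v, Qe u = 0 → Qe v = 0 → polB Qe u v ≠ 0 →
      (∃ w, polB Qe u w = 0 ∧ polB Qe v w = 0 ∧ Qe w = polB Qe u v) → f u c = f v c := by
    intro u v hu hv huv
    rintro ⟨w, w1, w2', hwq⟩
    set β := polB Qe u v with hβ
    set z := u + w - v with hz
    set z' := u - w - v with hz'
    have hzq : Qe z = 0 := by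
      rw [hz, qmap_sub, qmap_add, map_add (polB Qe), LinearMap.add_apply, hu, hv, hwq, w1, ← hβ, polB_comm w v, w2']
      ring
    have hz'q : Qe z' = 0 := by
      rw [hz', qmap_sub, qmap_sub, map_sub (polB Qe), LinearMap.sub_apply, hu, hv, hwq, w1, ← hβ, polB_comm w v,
        w2']
      ring
    have hind : ∀ p q r : E, p • g.1 u + q • g.1 v + r • g.1 z = 0 → p = 0 ∧ q = 0 ∧ r = 0 := by
      intro p q r hpqr
      obtain ⟨p', hp'⟩ := hsurj u hu p
      obtain ⟨q', hq'⟩ := hsurj v hv q
      obtain ⟨r', hr'⟩ := hsurj z hzq r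
      rw [← hp', ← hq', ← hr', ← map_add, ← map_add, g.1.map_eq_zero_iff] at hpqr
      have hr0 : r' = 0 := by
        have := congrArg (polB Qe w) hpqr
        simp only [hz, map_add, map_sub, map_smul, map_zero, polB_comm w u, w1, polB_comm w v, w2', polB_self, hwq,
          smul_eq_mul, mul_zero, zero_add, sub_zero, mul_eq_zero] at this
        exact this.resolve_right fun h => h.elim d.twoE huv
      rw [hr0, zero_smul, add_zero] at hpqr
      have hq0 : q' = 0 := by
        have := congrArg (polB Qe u) hpqr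
        simp only [map_add, map_smul, map_zero, polB_self, hu, ← hβ, smul_eq_mul, mul_zero, zero_add,
          mul_eq_zero] at this
        exact this.resolve_right huv
      rw [hq0, zero_smul, add_zero, smul_eq_zero] at hpqr
      have hu0 : u ≠ 0 := fun e => huv (by simp [hβ, e])
      have hv0 : v ≠ 0 := fun e => huv (by simp [hβ, e])
      have hz0 : z ≠ 0 := fun e => by
        have := congrArg (polB Qe w) e
        simp only [hz, map_add, map_sub, map_zero, polB_comm w u, w1, polB_comm w v, w2', polB_self, hwq, zero_add,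
          sub_zero, mul_eq_zero] at this
        exact this.elim d.twoE huv
      rw [hpqr.resolve_right hu0, zero_smul, map_zero, eq_comm, smul_eq_zero] at hp'
      rw [hq0, zero_smul, map_zero, eq_comm, smul_eq_zero] at hq'
      rw [hr0, zero_smul, map_zero, eq_comm, smul_eq_zero] at hr'
      exact ⟨hp'.resolve_right (fun e => hu0 (g.1.map_eq_zero_iff.1 e)),
        hq'.resolve_right (fun e => hv0 (g.1.map_eq_zero_iff.1 e)),
        hr'.resolve_right (fun e => hz0 (g.1.map_eq_zero_iff.1 e))⟩
    have e1 : g.1 z' = g.1 u + g.1 u - g.1 v - g.1 v - g.1 z := by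
      rw [← map_add, ← map_sub, ← map_sub, ← map_sub, hz, hz']
      congr 1
      abel
    have e2 : g.1 (c • z') = g.1 (c • u) + g.1 (c • u) - g.1 (c • v) - g.1 (c • v) - g.1 (c • z) := by
      rw [← map_add, ← map_sub, ← map_sub, ← map_sub, hz, hz']
      congr 1
      module
    rw [← hf z' hz'q c, ← hf u hu c, ← hf v hv c, ← hf z hzq c, e1] at e2
    obtain ⟨k1, k2, k3⟩ := hind (2 * f z' c - 2 * f u c) (2 * f v c - 2 * f z' c) (f z c - f z' c) (by
      linear_combination (norm := module) e2)
    rw [← mul_sub, mul_eq_zero] at k1 k2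
    exact (sub_eq_zero.1 (k1.resolve_left d.twoE)).symm.trans (sub_eq_zero.1 (k2.resolve_left d.twoE)).symm
  have step : ∀ u v, Qe u = 0 → Qe v = 0 → polB Qe u v ≠ 0 → f u c = f v c := by
    intro u v hu hv huv
    set β := polB Qe u v with hβ
    have hp : HypPair Qe u (β⁻¹ • v) :=
      ⟨hu, by rw [qmap_smul, hv, mul_zero], by rw [map_smul, ← hβ, smul_eq_mul, inv_mul_cancel₀ huv]⟩
    have horth : ∀ w ∈ (polB Qe).orthogonal (Submodule.span E {u, β⁻¹ • v}),
        polB Qe u w = 0 ∧ polB Qe v w = 0 := by
      intro w hw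
      obtain ⟨w1, w2⟩ := mem_orth_pair.1 hw
      rw [map_smul, LinearMap.smul_apply, smul_eq_mul, mul_eq_zero] at w2
      exact ⟨w1, w2.resolve_left (inv_ne_zero huv)⟩
    have hrank := finrank_hyp_orth d.nde hp
    by_cases h4 : 4 ≤ Module.finrank E V
    · obtain ⟨⟨w, hwW⟩, hw⟩ := exists_qmap_eq (hp.restrict_nondeg d.nde) (by omega) β huv
      exact step₀ u v hu hv huv ⟨w, (horth w hwW).1, (horth w hwW).2, hw⟩
    · have hr : 3 ≤ Module.finrank F E := by
        have h1 := d.finrank_eq
        have h2 := d.big'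
        rw [show Module.finrank E V = 3 by omega] at h1
        omega
      obtain ⟨x, hx, hx0⟩ := Submodule.exists_mem_ne_zero_of_ne_bot
        (p := (polB Qe).orthogonal (Submodule.span E {u, β⁻¹ • v})) (fun e => by
          rw [e, finrank_bot] at hrank
          omega)
      obtain ⟨w, hw, hwq, -⟩ := exists_aniso_orth d.nde (hyp_inf_orth hp) hx hx0 d.twoE
      obtain ⟨t, a, ht, hta⟩ := d.exists_scalar_sq hr (div_ne_zero huv hwq)
      have ht' : algebraMap F E t ≠ 0 := (map_ne_zero _).2 ht
      have hv' : Qe (t⁻¹ • v) = 0 := by rw [d.qe_smul, hv, smul_zero]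
      have hb : polB Qe u (t⁻¹ • v) = t⁻¹ • β := by rw [d.be_smul_right]
      obtain ⟨h1, h2⟩ := horth (a • w) (Submodule.smul_mem _ a hw)
      have e1 := step₀ u (t⁻¹ • v) hu hv' (by rw [hb]; exact smul_ne_zero (inv_ne_zero ht) huv)
        ⟨a • w, h1, by rw [d.be_smul_left, h2, smul_zero], by
          rw [qmap_smul, hb, (div_eq_iff hwq).1 hta, smul_mul_assoc, smul_smul, inv_mul_cancel₀ ht, one_smul]⟩
      rw [e1]
      have hv0 : v ≠ 0 := fun e => huv (by simp [hβ, e])
      have hgv : t⁻¹ • g.1 v ≠ 0 := smul_ne_zero (inv_ne_zero ht) (fun e => hv0 (g.1.map_eq_zero_iff.1 e))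
      refine d.smul_inj hgv ?_
      have h3 := hf (t⁻¹ • v) hv' c
      rw [smul_comm c t⁻¹ v, map_smul, map_smul, ← hf v hv c] at h3
      rw [h3, smul_comm]
  have hsame : ∀ u v, Qe u = 0 → Qe v = 0 → u ≠ 0 → v ≠ 0 → f u c = f v c := by
    intro u v hu hv hu0 hv0
    by_cases huv : polB Qe u v = 0
    swap
    · exact step u v hu hv huv
    obtain ⟨y₁, h1⟩ := exists_polB_eq d.nde hu0 1
    obtain ⟨y₂, h2⟩ := exists_polB_eq d.nde hv0 1
    obtain ⟨y, hyu, hyv⟩ : ∃ y, polB Qe u y ≠ 0 ∧ polB Qe v y ≠ 0 := by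
      by_cases e1 : polB Qe v y₁ = 0
      swap
      · exact ⟨y₁, by rw [h1]; exact one_ne_zero, e1⟩
      by_cases e2 : polB Qe u y₂ = 0
      swap
      · exact ⟨y₂, e2, by rw [h2]; exact one_ne_zero⟩
      refine ⟨y₁ + y₂, ?_, ?_⟩
      · rw [map_add, h1, e2, add_zero]; exact one_ne_zero
      · rw [map_add, h2, e1, zero_add]; exact one_ne_zero
    set k := y + (-(Qe y / polB Qe u y)) • u with hk
    have hkq : Qe k = 0 := by
      rw [hk, qmap_add_smul, hu, polB_comm y u]
      field_simp
      ring
    have hku : polB Qe u k ≠ 0 := by rw [hk, map_add, map_smul, polB_self, hu]; simpa using hyu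
    have hkv : polB Qe v k ≠ 0 := by
      rw [hk, map_add, map_smul, polB_comm v u, huv, smul_zero, add_zero]
      exact hyv
    exact (step u k hu hkq hku).trans (step v k hv hkq hkv).symm
  obtain ⟨v₀, hv₀0, hv₀⟩ := exists_singular Qe (by omega)
  refine ⟨f v₀ c, fun x => ?_⟩
  suffices key : ∀ x ∈ Submodule.span E {v : V | Qe v = 0}, ∀ s : E,
      g.1 (c • s • x) = f v₀ c • g.1 (s • x) by
    have := key x (mem_span_all_singular d.nde hv₀0 hv₀ x) 1
    rwa [one_smul] at this
  intro x hx
  induction hx using Submodule.span_induction with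
  | mem v hv =>
    intro s
    by_cases hsv : s • v = 0
    · simp [hsv]
    have hq : Qe (s • v) = 0 := by rw [qmap_smul, show Qe v = 0 from hv, mul_zero]
    rw [← hf _ hq c, hsame _ v₀ hq hv₀ hsv hv₀0]
  | zero => simp
  | add a b _ _ ha hb => intro s; simp only [smul_add, map_add, ha s, hb s]
  | smul t a _ ha => intro s; rw [smul_smul s t a]; exact ha _

omit hH in
/-- Some element of the commutator subgroup does not normalise the extension. -/
theorem exists_not_normal :
    ∃ g ∈ commutator (orthGroup Q), ∃ c : E, ¬ ∃ c' : E, ∀ x, g.1 (c • x) = c' • g.1 x := by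
  have hbig := d.big
  obtain ⟨u, hu0, hu⟩ := exists_singular Qe (by omega)
  obtain ⟨v, hp⟩ := exists_hypPair d.nde hu hu0
  obtain ⟨k, hk0, hk⟩ := d.exists_ker 1
  rw [one_mul] at hk
  have hQu : Q u = 0 := d.q_zero hu
  have huk : polB Q u (k • v) = 0 := by
    rw [d.polB_eq, map_smul, hp.pair, smul_eq_mul, mul_one, hk]
  refine ⟨eichler Q u (k • v),
    by rw [commutator_eq_eichlerSub d.nd (by have := d.big'; omega)]; exact eichler_mem hQu huk, ?_⟩
  by_contra hcon
  have hQkv : Q (k • v) = 0 := d.qs hp.right k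
  have hT : ∀ s : E, (eichler Q u (k • v)).1 (s • v) = (s + τ s • k) • v := by
    intro s
    rw [eichler_apply hQu huk, hQkv, d.polB_eq, d.polB_eq]
    simp only [map_smul, LinearMap.smul_apply, polB_self, hp.right, polB_comm v u, hp.pair, smul_eq_mul, mul_one,
      mul_zero, map_zero, zero_mul, zero_smul, sub_zero]
    rw [add_smul, smul_assoc]
  obtain ⟨x, hx, hx0⟩ := Submodule.exists_mem_ne_zero_of_ne_bot
    (p := (polB Qe).orthogonal (Submodule.span E {u, v})) (fun e => by
      have := finrank_hyp_orth d.nde hp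
      rw [e, finrank_bot] at this
      omega)
  obtain ⟨x1, x2⟩ := mem_orth_pair.1 hx
  have hfix : ∀ s : E, (eichler Q u (k • v)).1 (s • x) = s • x := by
    intro s
    rw [eichler_fix hQu huk]
    · rw [d.polB_eq]; simp [polB_comm x u, x1]
    · rw [d.polB_eq]; simp [polB_comm x v, x2]
  have hv0 : v ≠ 0 := hp.symm.left_ne_zero
  have key : ∀ s : E, τ s • (1 : E) = τ 1 • s := by
    intro s
    obtain ⟨c', hc'⟩ := Classical.not_not.1 (not_exists.1 hcon s)
    have h1 := hc' x
    rw [hfix] at h1
    have hx' : (eichler Q u (k • v)).1 x = x := by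
      have := hfix 1
      rwa [one_smul] at this
    rw [hx'] at h1
    have hsc : s = c' := d.smul_inj hx0 h1
    subst hsc
    have h2 := hc' v
    have h3 := hT 1
    rw [one_smul] at h3
    rw [hT, h3, smul_smul] at h2
    have h4 := d.smul_inj hv0 h2
    rw [mul_add, mul_one, mul_smul_comm, add_right_inj] at h4
    apply mul_right_cancel₀ hk0
    rw [smul_mul_assoc, one_mul, h4, smul_mul_assoc]
  have h1 := key k
  rw [hk, zero_smul, eq_comm, smul_eq_zero] at h1
  obtain ⟨s, hs⟩ := d.exists_tau_ne (a := 1) one_ne_zero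
  rw [mul_one] at hs
  have h2 := key s
  rw [h1.resolve_right hk0, zero_smul, smul_eq_zero] at h2
  exact hs (h2.resolve_right one_ne_zero)

end OExt

end H49
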