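import Mathlib
import Cfsg.Prelude.Def_GeometricClasses
import Cfsg.Agent.H49.OrthExtSpread
import Cfsg.Agent.H49.OrthExt3
import Cfsg.Agent.H45.OrthTransfer

/-!
The normaliser of an extension field of self-adjoint matrices in the commutator subgroup of an orthogonal
group: properness and maximality.
-/

set_option autoImplicit false
set_option linter.unusedSectionVars false

namespace H49

open H43
open scoped Matrix

section squares

variable {F : Type*} [Field F] [Finite F] {V : Type*} [AddCommGroup V] [Module F V]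
  [FiniteDimensional F V] {Q : QuadraticForm F V}

/-- Squares of isometries lie in the commutator subgroup. -/
theorem sq_mem_commutator (hQ : (polB Q).Nondegenerate) (h2 : (2 : F) ≠ 0) (g : orthGroup Q) :
    g * g ∈ commutator (orthGroup Q) := by
  have hgen := closure_reflSet (Q := Q) hQ (reflGenerates_of_two_ne_zero h2)
  have hall : ∀ y ∈ Subgroup.closure (reflSet Q), Abelianization.of (y * y) = 1 := by
    intro y hy
    induction hy using Subgroup.closure_induction with
    | mem x hx =>
      obtain ⟨w, -, rfl⟩ := hx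
      rw [refl_sq, map_one]
    | one => simp
    | mul a b _ _ ha hb =>
      rw [map_mul] at ha hb
      rw [map_mul, map_mul, mul_mul_mul_comm, ha, hb, one_mul]
    | inv a _ ha => rw [← _root_.mul_inv_rev, map_inv, ha, inv_one]
  rw [← Abelianization.ker_of]
  exact hall g (by rw [hgen]; trivial)

end squares

variable {F : Type*} [Field F] [Fintype F] {ι : Type} [Fintype ι] [DecidableEq ι]

/-- The normaliser of a self-adjoint extension field of codimension at least three is maximal,
down to dimension eight; of the eight-dimensional spaces with a quadratic field only minus type. -/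
theorem extension_normalizer_maximal' (q : QuadraticForm F (ι → F)) (hq : (polB q).Nondegenerate)
    (h2 : (2 : F) ≠ 0) (hbig : Fintype.card ι = 8 ∨ 10 ≤ Fintype.card ι) (r : ℕ) (hr : r.Prime) (hnr : 3 * r ≤ Fintype.card ι)
    (hminus : r = 2 → Fintype.card ι = 8 →
      ∀ U : Submodule F (ι → F), Module.finrank F U = 4 → ∃ x ∈ U, q x ≠ 0)
    (K : Subalgebra F (Matrix ι ι F)) (hK : Cfsg.Geo.IsFieldSubalgebra r K)
    (hsa : Cfsg.Geo.IsSelfAdjointFor (QuadraticMap.polar ⇑q) K) :
    Cfsg.Geo.IsMaximalIn (Cfsg.Geo.omegaGL ⇑q)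
      (Cfsg.Geo.subalgebraNormalizer K ⊓ Cfsg.Geo.omegaGL ⇑q) := by
  classical
  haveI : Nonempty ι := Fintype.card_pos_iff.1 (by omega)
  have hF : IsField K := by
    refine ⟨⟨0, 1, zero_ne_one⟩, fun a b => Subtype.ext (hK.comm _ a.2 _ b.2), fun {a} ha => ?_⟩
    obtain ⟨y, hy, hxy⟩ := hK.inv _ a.2 fun e => ha (Subtype.ext e)
    exact ⟨⟨y, hy⟩, Subtype.ext hxy⟩
  letI : Field K := hF.toField
  haveI : Fintype K := Fintype.ofFinite _
  haveI : Module.Finite F K := Module.Finite.of_finite
  have hsmul : ∀ (c : K) (x : ι → F), c • x = (c : Matrix ι ι F) *ᵥ x := fun c x => rfl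
  haveI : IsScalarTower F K (ι → F) := ⟨fun t c x => by
    rw [hsmul, hsmul, K.coe_smul, Matrix.smul_mulVec]⟩
  haveI : Module.Finite K (ι → F) := Module.Finite.of_finite
  have hrank : Module.finrank F K = r := hK.finrank_eq
  obtain ⟨τ, hτ⟩ : ∃ τ : K →ₗ[F] F, τ ≠ 0 := exists_ne 0
  have hsa' : ∀ (c : K) (x y : ι → F), polB q (c • x) y = polB q x (c • y) := fun c x y => hsa _ c.2 x y
  -- the form over the extension
  have key : ∀ x y : ι → F, ∃ a : K, ∀ c : K, τ (a * c) = polB q (c • x) y := fun x y =>
    tau_dual_surjective hτ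
      { toFun := fun c => polB q (c • x) y
        map_add' := fun a b => by rw [add_smul, map_add, LinearMap.add_apply]
        map_smul' := fun t a => by rw [smul_assoc, map_smul, LinearMap.smul_apply, RingHom.id_apply] }
  choose φ hφ using key
  have huniq : ∀ x y (a : K), (∀ c : K, τ (a * c) = polB q (c • x) y) → φ x y = a := fun x y a h =>
    sub_eq_zero.1 (functional_ext hτ fun c => by
      rw [mul_sub, map_sub, mul_comm c, mul_comm c, hφ, h, sub_self])
  let Φ : LinearMap.BilinForm K (ι → F) := LinearMap.mk₂ K φ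
    (fun x x' y => huniq _ _ _ fun c => by
      rw [add_mul, map_add, hφ, hφ, smul_add, map_add, LinearMap.add_apply])
    (fun e x y => huniq _ _ _ fun c => by
      rw [smul_eq_mul, mul_comm e, mul_assoc, hφ, smul_smul, mul_comm c e])
    (fun x y y' => huniq _ _ _ fun c => by rw [add_mul, map_add, hφ, hφ, map_add])
    (fun e x y => huniq _ _ _ fun c => by
      rw [smul_eq_mul, mul_comm e, mul_assoc, hφ, ← hsa', smul_smul])
  have hΦ : ∀ x y, Φ x y = φ x y := fun x y => rfl
  have hsymm : ∀ x y, φ x y = φ y x := fun x y => huniq _ _ _ fun c => by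
    rw [hφ, polB_comm, ← hsa']
  let Qe : QuadraticForm K (ι → F) := (2 : K)⁻¹ • Φ.toQuadraticMap
  have h2K : (2 : K) ≠ 0 := by
    rw [← map_ofNat (algebraMap F K) 2]
    exact (map_ne_zero _).2 h2
  have hQe : ∀ x, Qe x = (2 : K)⁻¹ * φ x x := fun x => rfl
  have hpol : ∀ x y, polB Qe x y = φ x y := fun x y => by
    rw [polB_apply, QuadraticMap.polar, hQe, hQe, hQe]
    have h : φ (x + y) (x + y) = φ x x + φ x y + (φ y x + φ y y) := by
      simp only [← hΦ, map_add, LinearMap.add_apply]
      abel
    rw [h, hsymm y x]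
    field_simp
    ring
  have d : OExt q Qe τ := by
    refine ⟨fun x => ?_, ?_, hτ, by rw [hrank]; exact hr, h2, ?_,
      by rw [Module.finrank_pi]; omega, fun h3 => ?_⟩
    · have h1 := hφ x x 1
      rw [mul_one, one_smul, polB_self] at h1
      rw [hQe, ← map_ofNat (algebraMap F K) 2, ← map_inv₀, ← Algebra.smul_def, map_smul, h1, smul_eq_mul,
        inv_mul_cancel_left₀ h2]
    · have key : ∀ x : ι → F, (∀ y, polB Qe x y = 0) → x = 0 := fun x hx => eq_zero_of_polB_eq_zero hq fun y => by
        have h1 := hφ x y 1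
        rw [one_smul, mul_one, ← hpol, hx, map_zero] at h1
        exact h1.symm
      exact ⟨key, fun x hx => key x fun y => by rw [polB_comm]; exact hx y⟩
    · have h := Module.finrank_mul_finrank F K (ι → F)
      rw [hrank, Module.finrank_pi] at h
      exact Nat.le_of_mul_le_mul_left (by rw [h, mul_comm]; omega) hr.pos
    · have h := Module.finrank_mul_finrank F K (ι → F)
      rw [hrank, Module.finrank_pi, h3] at h
      rw [Module.finrank_pi]
      omega
  set N := (Cfsg.Geo.subalgebraNormalizer K).comap (H45.toGL q) with hN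
  have hmat : ∀ (g : orthGroup q) (c c' : K), (∀ x, g.1 (c • x) = c' • g.1 x) →
      (H45.toGL q g).1 * c.1 = c'.1 * (H45.toGL q g).1 := fun g c c' h => Matrix.ext_iff_mulVec.2 fun x => by
    rw [← Matrix.mulVec_mulVec, ← Matrix.mulVec_mulVec, H45.toGL_apply, H45.toGL_apply, ← hsmul, ← hsmul]
    exact h x
  have hnorm : ∀ g : orthGroup q, (∀ c : K, ∃ c' : K, ∀ x, g.1 (c • x) = c' • g.1 x) → g ∈ N := by
    intro g hg
    choose f hf using hg
    set U := H45.toGL q g
    have hinj : Function.Injective f := fun a b e => by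
      have h := hmat g a _ (hf a)
      rw [e, ← hmat g b _ (hf b)] at h
      exact Subtype.ext ((Units.mul_right_inj U).1 h)
    intro k
    constructor
    · intro hk
      rw [hmat g ⟨k, hk⟩ _ (hf _), mul_assoc, Units.mul_inv, mul_one]
      exact (f _).2
    · intro hk
      obtain ⟨c, hc⟩ := Finite.injective_iff_surjective.1 hinj ⟨_, hk⟩
      have h := hmat g c _ (hf c)
      rw [hc, mul_assoc, mul_assoc, Units.inv_mul, mul_one] at h
      rw [← (Units.mul_right_inj U).1 h]
      exact c.2
  refine H45.isMaximalIn_of_orth q _ N (fun g _ => Iff.rfl) ⟨lt_of_le_of_ne inf_le_right fun heq => ?_,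
    fun M hHM hMC => ?_⟩
  · obtain ⟨g, hg, c, hc⟩ := d.exists_not_normal
    apply hc
    have hgN : g ∈ N := by
      rw [← heq] at hg
      exact hg.1
    refine ⟨⟨_, (hgN c.1).1 c.2⟩, fun x => ?_⟩
    rw [hsmul, hsmul, ← H45.toGL_apply, ← H45.toGL_apply, Matrix.mulVec_mulVec, Matrix.mulVec_mulVec]
    show _ = ((H45.toGL q g).1 * c.1 * ((H45.toGL q g)⁻¹ : GL ι F).1 * (H45.toGL q g).1) *ᵥ x
    rw [mul_assoc, mul_assoc, Units.inv_mul, mul_one]
  by_cases hle : M ≤ N
  · exact Or.inl (le_antisymm (le_inf hle hMC) hHM)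
  obtain ⟨g, hgM, hgN⟩ := SetLike.not_le_iff_exists.mp hle
  refine Or.inr (le_antisymm hMC ?_)
  obtain ⟨v, hv, c, hmove⟩ : ∃ v, Qe v = 0 ∧ ∃ c : K, g.1 (c • v) ∉ fline (E := K) F (g.1 v) := by
    by_contra hcon
    simp only [not_exists, not_and, not_not] at hcon
    exact hgN (hnorm g fun c => d.normal_of_lines hcon c)
  have hsq : ∀ h : orthGroup Qe, d.res (h * h) ∈ M := fun h => hHM ⟨hnorm _ fun c => ⟨c, fun x => by
    rw [d.res_apply, d.res_apply, map_smul]⟩, by
    rw [map_mul]
    exact sq_mem_commutator hq h2 _⟩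
  by_cases h4 : 4 ≤ Module.finrank K (ι → F)
  · refine d.commutator_le_of_moves hsq h4 ?_ hgM hv hmove
    have hfin := Module.finrank_mul_finrank F K (ι → F)
    rw [hrank, Module.finrank_pi] at hfin
    by_cases h5 : 5 ≤ Module.finrank K (ι → F)
    · exact Or.inl h5
    by_cases h3 : 3 ≤ r
    · exact Or.inr (Or.inl (by rw [hrank]; exact h3))
    refine Or.inr (Or.inr fun p p' hp0 hp hp' hpp => ?_)
    by_contra hout
    have hr2 : r = 2 := by have := hr.two_le; omega
    have hli : LinearIndependent K ![p, p'] := by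
      rw [LinearIndependent.pair_iff' hp0]
      exact fun a ha => hout (Submodule.mem_span_singleton.2 ⟨a, ha⟩)
    have hdim : Module.finrank F ((Submodule.span K (Set.range ![p, p'])).restrictScalars F) = 4 := by
      rw [finrank_restrict, finrank_span_eq_card hli, hrank, hr2, Fintype.card_fin]
    obtain ⟨x, hx, hx0⟩ := hminus hr2 (by
      rw [← hfin, hr2, show Module.finrank K (ι → F) = 4 by omega]) _ hdim
    apply hx0
    rw [Matrix.range_cons, Matrix.range_cons, Matrix.range_empty, Set.union_empty, Set.singleton_union,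
      Submodule.restrictScalars_mem, Submodule.mem_span_pair] at hx
    obtain ⟨a, b, rfl⟩ := hx
    apply d.q_zero
    rw [qmap_add, qmap_smul, qmap_smul, hp, hp', map_smul, map_smul, LinearMap.smul_apply, hpp]
    simp
  · exact d.commutator_le_of_moves₃ hsq (by have := d.big; omega) hgM hv hmove

/-- The normaliser of a self-adjoint extension field of codimension at least three is maximal. -/
theorem extension_normalizer_maximal (q : QuadraticForm F (ι → F)) (hq : (polB q).Nondegenerate)
    (h2 : (2 : F) ≠ 0) (hbig : 10 ≤ Fintype.card ι) (r : ℕ) (hr : r.Prime) (hnr : 3 * r ≤ Fintype.card ι)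
    (K : Subalgebra F (Matrix ι ι F)) (hK : Cfsg.Geo.IsFieldSubalgebra r K)
    (hsa : Cfsg.Geo.IsSelfAdjointFor (QuadraticMap.polar ⇑q) K) :
    Cfsg.Geo.IsMaximalIn (Cfsg.Geo.omegaGL ⇑q)
      (Cfsg.Geo.subalgebraNormalizer K ⊓ Cfsg.Geo.omegaGL ⇑q) :=
  extension_normalizer_maximal' q hq h2 (Or.inr hbig) r hr hnr (fun _ h => absurd h (by omega)) K hK hsa

end H49
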