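import Cfsg.Agent.H49.TensMain
import Cfsg.Agent.H49.StabMax

/-!
The stabiliser of a symplectic-orthogonal tensor decomposition is maximal.
-/

set_option autoImplicit false
set_option linter.unusedSectionVars false

namespace H49

open Matrix
open scoped Kronecker TensorProduct

variable {F : Type*} [Field F] [Fintype F] {ι : Type} [Fintype ι] [DecidableEq ι]

/-- A matrix acting on coordinate vectors. -/
noncomputable def glLin (ι : Type) [Fintype ι] [DecidableEq ι] (F : Type*) [Field F] :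
    GL ι F ≃* ((ι → F) ≃ₗ[F] (ι → F)) :=
  Matrix.GeneralLinearGroup.toLin.trans (LinearMap.GeneralLinearGroup.generalLinearEquiv F (ι → F))

theorem glLin_apply (g : GL ι F) (v : ι → F) : glLin ι F g v = (g : Matrix ι ι F) *ᵥ v := rfl

theorem bilin_eq_gram {n : ℕ} (f : (Fin n → F) → (Fin n → F) → F) (hf : Cfsg.Geo.IsBilinearForm f)
    (a b : Fin n → F) : f a b = ∑ i, ∑ j, a i * Cfsg.Geo.gramMatrix f i j * b j := by
  let β : LinearMap.BilinForm F (Fin n → F) :=
    LinearMap.mk₂ F f hf.add_left hf.smul_left hf.add_right hf.smul_right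
  show β a b = _
  conv_lhs => rw [pi_eq_sum_univ' a, pi_eq_sum_univ' b]
  simp only [map_sum, LinearMap.sum_apply, map_smul, LinearMap.smul_apply, smul_eq_mul, Finset.mul_sum]
  rw [Finset.sum_comm]
  refine Finset.sum_congr rfl fun i _ => Finset.sum_congr rfl fun j _ => ?_
  show _ = a i * f (Pi.single i 1) (Pi.single j 1) * b j
  rw [LinearMap.mk₂_apply]
  ring

variable {n₁ n₂ : ℕ}

/-- The coordinates of a pure tensor. -/
noncomputable def tensCoord (n₁ n₂ : ℕ) (F : Type*) [Field F] :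
    (Fin n₁ → F) ⊗[F] (Fin n₂ → F) ≃ₗ[F] (Fin n₁ × Fin n₂ → F) :=
  ((Pi.basisFun F (Fin n₁)).tensorProduct (Pi.basisFun F (Fin n₂))).equivFun

theorem tensCoord_tmul (a : Fin n₁ → F) (x : Fin n₂ → F) :
    tensCoord n₁ n₂ F (a ⊗ₜ x) = fun ij => a ij.1 * x ij.2 := by
  funext ij
  obtain ⟨i, j⟩ := ij
  simp [tensCoord, Module.Basis.tensorProduct_repr_tmul_apply, mul_comm]

theorem kron_mulVec_pure (A : Matrix (Fin n₁) (Fin n₁) F) (B : Matrix (Fin n₂) (Fin n₂) F)
    (a : Fin n₁ → F) (x : Fin n₂ → F) :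
    (A ⊗ₖ B) *ᵥ (fun ij => a ij.1 * x ij.2) = fun ij => (A *ᵥ a) ij.1 * (B *ᵥ x) ij.2 := by
  funext ij
  simp only [Matrix.mulVec, dotProduct, Fintype.sum_prod_type, Matrix.kroneckerMap_apply, Finset.sum_mul_sum]
  exact Finset.sum_congr rfl fun i _ => Finset.sum_congr rfl fun j _ => by ring

/-- The product of two invertible matrices. -/
def kronGL (A : GL (Fin n₁) F) (B : GL (Fin n₂) F) : GL (Fin n₁ × Fin n₂) F :=
  ⟨(A : Matrix _ _ F) ⊗ₖ (B : Matrix _ _ F),
    ((A⁻¹ : GL (Fin n₁) F) : Matrix _ _ F) ⊗ₖ ((B⁻¹ : GL (Fin n₂) F) : Matrix _ _ F),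
    by rw [← Matrix.mul_kronecker_mul, ← Units.val_mul, ← Units.val_mul, mul_inv_cancel, mul_inv_cancel,
      Units.val_one, Units.val_one, Matrix.one_kronecker_one],
    by rw [← Matrix.mul_kronecker_mul, ← Units.val_mul, ← Units.val_mul, inv_mul_cancel, inv_mul_cancel,
      Units.val_one, Units.val_one, Matrix.one_kronecker_one]⟩

theorem mem_tensorProductSubgroup {e : ι ≃ Fin n₁ × Fin n₂} {P g : GL ι F} :
    g ∈ Cfsg.Geo.tensorProductSubgroup n₁ n₂ e P ↔
      ∃ A B, g = P * Cfsg.Geo.glReindex e.symm (kronGL A B) * P⁻¹ := by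
  constructor
  · rintro ⟨_, ⟨k, ⟨A, B, hk⟩, rfl⟩, rfl⟩
    refine ⟨A, B, ?_⟩
    rw [show k = kronGL A B from Units.ext hk]
    rfl
  · rintro ⟨A, B, rfl⟩
    exact ⟨_, ⟨kronGL A B, ⟨A, B, rfl⟩, rfl⟩, rfl⟩

/-- The stabiliser of a product of a symplectic and an orthogonal form is maximal in the symplectic group, also in
dimension six. -/
theorem tensorSpMax_of (m : ℕ) (hm : 5 ≤ m ∨ m = 3) (hodd : Odd (Fintype.card F)) (n₁ n₂ : ℕ) (hn₂ : 3 ≤ n₂)
    (hex : ¬ (Fintype.card F = 3 ∧ n₂ = 3)) (e : (Fin m ⊕ Fin m) ≃ Fin n₁ × Fin n₂)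
    (P : GL (Fin m ⊕ Fin m) F) (f₁ : (Fin n₁ → F) → (Fin n₁ → F) → F)
    (f₂ : (Fin n₂ → F) → (Fin n₂ → F) → F) (hf₁ : Cfsg.Geo.IsSymplecticForm f₁)
    (hf₂ : Cfsg.Geo.IsSymmetricForm f₂)
    (hT : Cfsg.Geo.IsTensorFormStructure id (Cfsg.sympForm m F) f₁ f₂ e P) :
    Cfsg.Geo.IsMaximalIn (Cfsg.spGL m F) (Cfsg.Geo.tensorProductSubgroup n₁ n₂ e P ⊓ Cfsg.spGL m F) := by
  classical
  obtain ⟨c, hc, hT⟩ := hT
  set φ := glLin (Fin m ⊕ Fin m) F with hφ
  let Φ : (Fin n₁ → F) ⊗[F] (Fin n₂ → F) ≃ₗ[F] (Fin m ⊕ Fin m → F) :=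
    tensCoord n₁ n₂ F ≪≫ₗ LinearEquiv.funCongrLeft F F e ≪≫ₗ φ P
  have hΦ : ∀ a x, Φ (a ⊗ₜ x) =
      (P : Matrix (Fin m ⊕ Fin m) (Fin m ⊕ Fin m) F) *ᵥ ((fun ij => a ij.1 * x ij.2) ∘ e) := fun a x => by
    show φ P (LinearEquiv.funCongrLeft F F e (tensCoord n₁ n₂ F (a ⊗ₜ x))) = _
    rw [tensCoord_tmul]
    rfl
  have b1 := hf₁.bilinear
  have b2 := hf₂.bilinear
  let d : TS F (Fin n₁ → F) (Fin n₂ → F) (Fin m ⊕ Fin m → F) :=
    { Φ := Φ
      ω := c • LinearMap.mk₂ F f₁ b1.add_left b1.smul_left b1.add_right b1.smul_right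
      β := LinearMap.mk₂ F f₂ b2.add_left b2.smul_left b2.add_right b2.smul_right
      f := H48.sf
      ω_alt := fun a => by simp [hf₁.alternating]
      ω_nd := by
        refine ⟨fun a h => ?_, fun a h => ?_⟩
        · by_contra ha
          obtain ⟨w, hw⟩ := (hf₁.nondegenerate a ha).2
          exact hw (by simpa [hc] using h w)
        · by_contra ha
          obtain ⟨w, hw⟩ := (hf₁.nondegenerate a ha).2
          exact hw (by rw [hf₁.skew]; simpa [hc] using h w)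
      β_symm := fun x y => hf₂.symm x y
      β_nd := by
        refine ⟨fun a h => ?_, fun a h => ?_⟩
        · by_contra ha
          obtain ⟨w, hw⟩ := (hf₂.nondegenerate a ha).2
          exact hw (h w)
        · by_contra ha
          obtain ⟨w, hw⟩ := (hf₂.nondegenerate a ha).2
          exact hw (by rw [hf₂.symm]; exact h w)
      f_alt := H48.sf_self
      f_nd := by
        refine ⟨fun u h => ?_, fun u h => ?_⟩
        · by_contra hu
          obtain ⟨w, hw⟩ := H48.exists_sf_ne hu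
          exact hw (h w)
        · by_contra hu
          obtain ⟨w, hw⟩ := H48.exists_sf_ne hu
          exact hw (H48.sf_eq_zero_comm (h w))
      f_pure := fun a b x y => by
        rw [hΦ, hΦ, ← H48.sympForm_eq_sf, hT]
        show _ = c * f₁ a b * f₂ x y
        rw [bilin_eq_gram f₁ b1, bilin_eq_gram f₂ b2, mul_assoc]
        congr 1
        rw [Finset.sum_mul_sum]
        simp only [Cfsg.Geo.formOfGram, Fintype.sum_prod_type, Matrix.kroneckerMap_apply, id, Finset.sum_mul_sum]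
        refine Finset.sum_congr rfl fun i _ => Finset.sum_congr rfl fun j _ => ?_
        refine Finset.sum_congr rfl fun k _ => Finset.sum_congr rfl fun l _ => ?_
        ring }
  have ht : ∀ a x, d.t a x = Φ (a ⊗ₜ x) := fun a x => rfl
  -- products correspond
  have hkron : ∀ A B, φ (P * Cfsg.Geo.glReindex e.symm (kronGL A B) * P⁻¹) =
      d.tens (glLin (Fin n₁) F A) (glLin (Fin n₂) F B) := by
    intro A B
    refine d.equiv_ext fun a x => ?_
    rw [d.tens_t, ht, ht, hΦ, hΦ, glLin_apply, glLin_apply, glLin_apply, Units.val_mul, Units.val_mul,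
      Matrix.mulVec_mulVec, Matrix.mul_assoc, ← Units.val_mul (P⁻¹) P, inv_mul_cancel, Units.val_one, mul_one,
      ← Matrix.mulVec_mulVec]
    congr 1
    rw [← kron_mulVec_pure]
    show (Matrix.reindexAlgEquiv F F e.symm ((kronGL A B : GL (Fin n₁ × Fin n₂) F) : Matrix _ _ F)) *ᵥ _ = _
    rw [Matrix.reindexAlgEquiv_apply]
    funext i
    simp only [Matrix.mulVec, dotProduct, Matrix.reindex_apply, Matrix.submatrix_apply, Equiv.symm_symm,
      Function.comp_apply]
    exact e.sum_comp fun k => ((kronGL A B : GL (Fin n₁ × Fin n₂) F) : Matrix _ _ F) (e i) k * (a k.1 * x k.2)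
  have hiff : ∀ g, g ∈ Cfsg.Geo.tensorProductSubgroup n₁ n₂ e P ↔ d.IsTens (φ g) := by
    intro g
    rw [mem_tensorProductSubgroup]
    constructor
    · rintro ⟨A, B, rfl⟩
      exact ⟨_, _, hkron A B⟩
    · rintro ⟨a, b, h⟩
      refine ⟨(glLin (Fin n₁) F).symm a, (glLin (Fin n₂) F).symm b, φ.injective ?_⟩
      rw [hkron, MulEquiv.apply_symm_apply, MulEquiv.apply_symm_apply, h]
  have hisom : ∀ g, g ∈ Cfsg.spGL m F ↔ d.Isom (φ g) := fun g =>
    ⟨fun h v w => h v w, fun h v w => h v w⟩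
  -- dimensions
  have hcard : 2 * m = n₁ * n₂ := by
    have := Fintype.card_congr e
    simp at this
    omega
  have hn₁ : 2 ≤ n₁ := by
    obtain ⟨j, hj⟩ := d.even_finrank
    rw [Module.finrank_fin_fun] at hj
    rcases Nat.eq_zero_or_pos j with rfl | hj0
    · have : n₁ = 0 := by omega
      rw [this, zero_mul] at hcard; omega
    · omega
  have h2 : (2 : F) ≠ 0 := by
    intro h
    obtain ⟨p, hp⟩ := CharP.exists F
    haveI := hp
    haveI : Fact p.Prime := ⟨CharP.char_is_prime F p⟩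
    obtain ⟨k, -, hk⟩ := FiniteField.card F p
    have hp2 : p = 2 := (Nat.prime_dvd_prime_iff_eq Fact.out Nat.prime_two).1
      ((CharP.cast_eq_zero_iff F p 2).1 (by exact_mod_cast h))
    rw [hk, hp2] at hodd
    exact (Nat.not_even_iff_odd.2 hodd) ((Nat.even_pow' k.pos.ne').2 even_two)
  refine ⟨lt_of_le_of_ne inf_le_right fun heq => ?_, fun M hle hM => ?_⟩
  · -- properness
    obtain ⟨z, hz⟩ : ∃ z : Fin m ⊕ Fin m → F, z ≠ 0 := ⟨Pi.single (Sum.inl ⟨0, by omega⟩) 1, by simp⟩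
    have hg := spHom_mem_spGL (H48.tv z (1 : F))
    have hmem : spHom m F (H48.tv z 1) ∈ Cfsg.Geo.tensorProductSubgroup n₁ n₂ e P :=
      (Subgroup.mem_inf.1 (heq.symm ▸ hg)).1
    refine TS.exists_not_tens (d := d) (by rw [Module.finrank_fin_fun]; omega)
      (by rw [Module.finrank_fin_fun]; omega) z hz _ (fun v => ?_) ((hiff _).1 hmem)
    rw [glLin_apply, spHom_mulVec, H48.tv_smul, one_mul]
  have hO : d.Over (M.map φ.toMonoidHom) := by
    refine ⟨?_, ?_, h2, ?_, ?_, ?_, ?_⟩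
    · rintro _ ⟨g, hg, rfl⟩
      exact (hisom g).1 (hM hg)
    · intro y hy hy'
      obtain ⟨g, rfl⟩ := φ.surjective y
      exact ⟨g, hle ⟨(hiff g).2 hy, (hisom g).2 hy'⟩, rfl⟩
    · rw [Module.finrank_fin_fun]; exact hn₁
    · rw [Module.finrank_fin_fun]; exact hn₂
    · rw [Module.finrank_fin_fun, Module.finrank_fin_fun]
      rcases hm with hm | rfl
      · left; omega
      · right
        have hn1 : n₁ = 2 := by
          have := Nat.mul_le_mul_left n₁ hn₂
          omega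
        subst hn1
        have h3 : Fintype.card F ≠ 3 := fun h => hex ⟨h, by omega⟩
        refine ⟨rfl, by omega, ?_⟩
        have := Fintype.one_lt_card (α := F)
        rw [Nat.odd_iff] at hodd
        omega
    · rw [Module.finrank_fin_fun]; exact hex
  rcases hO.dichotomy with hctr | htens
  · refine Or.inr (le_antisymm hM fun g hg => ?_)
    have hK : M.comap (spHom m F) = ⊤ := by
      refine eq_top_of_ctr _ fun v k => ?_
      obtain ⟨_, ⟨h, hh, rfl⟩, he⟩ := hctr v k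
      have : h = spHom m F (H48.tv v k) := φ.injective (LinearEquiv.ext fun w => by
        rw [glLin_apply (spHom m F (H48.tv v k)), spHom_mulVec, H48.tv_smul]
        exact he w)
      show spHom m F (H48.tv v k) ∈ M
      rw [← this]
      exact hh
    obtain ⟨s, rfl⟩ := exists_spHom_eq hg
    show s ∈ M.comap (spHom m F)
    rw [hK]
    trivial
  · exact Or.inl (le_antisymm (fun g hg => ⟨(hiff g).2 (htens _ ⟨g, hg, rfl⟩), hM hg⟩) hle)

/-- The stabiliser of a product of a symplectic and an orthogonal form is maximal in the symplectic group. -/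
theorem tensorSpMax (m : ℕ) (hm : 5 ≤ m) (hodd : Odd (Fintype.card F)) (n₁ n₂ : ℕ) (hn₂ : 3 ≤ n₂)
    (hex : ¬ (Fintype.card F = 3 ∧ n₂ = 3)) (e : (Fin m ⊕ Fin m) ≃ Fin n₁ × Fin n₂)
    (P : GL (Fin m ⊕ Fin m) F) (f₁ : (Fin n₁ → F) → (Fin n₁ → F) → F)
    (f₂ : (Fin n₂ → F) → (Fin n₂ → F) → F) (hf₁ : Cfsg.Geo.IsSymplecticForm f₁)
    (hf₂ : Cfsg.Geo.IsSymmetricForm f₂)
    (hT : Cfsg.Geo.IsTensorFormStructure id (Cfsg.sympForm m F) f₁ f₂ e P) :
    Cfsg.Geo.IsMaximalIn (Cfsg.spGL m F) (Cfsg.Geo.tensorProductSubgroup n₁ n₂ e P ⊓ Cfsg.spGL m F) :=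
  tensorSpMax_of m (Or.inl hm) hodd n₁ n₂ hn₂ hex e P f₁ f₂ hf₁ hf₂ hT

end H49
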