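import Cfsg.Agent.H49.PairOmega
import Cfsg.Agent.H49.TensSpMax
import Cfsg.Agent.H45.OrthTransfer

/-!
The stabiliser of a product of two symplectic forms is maximal in the orthogonal commutator subgroup.
-/

set_option autoImplicit false
set_option linter.unusedSectionVars false

namespace H49

open Matrix
open scoped Kronecker TensorProduct

variable {F : Type*} [Field F] [Fintype F]

/-- The stabiliser of a decomposition into two symplectic factors is maximal. -/
theorem pairOmegaMax {n : ℕ} (hn : 12 ≤ n) (Q : (Fin n → F) → F)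
    (hQ : Cfsg.Geo.IsNondegenerateQuadraticForm Q) (n₁ n₂ : ℕ) (h12 : n₁ < n₂)
    (hex : ¬ (Fintype.card F = 2 ∧ n₁ = 2)) (e : Fin n ≃ Fin n₁ × Fin n₂) (P : GL (Fin n) F)
    (f₁ : (Fin n₁ → F) → (Fin n₁ → F) → F) (f₂ : (Fin n₂ → F) → (Fin n₂ → F) → F)
    (hf₁ : Cfsg.Geo.IsSymplecticForm f₁) (hf₂ : Cfsg.Geo.IsSymplecticForm f₂)
    (hT : Cfsg.Geo.IsTensorFormStructure id (QuadraticMap.polar Q) f₁ f₂ e P)
    (hpure : ∀ (x₁ : Fin n₁ → F) (x₂ : Fin n₂ → F),
      Q ((P : Matrix (Fin n) (Fin n) F) *ᵥ ((fun a : Fin n₁ × Fin n₂ => x₁ a.1 * x₂ a.2) ∘ e)) = 0) :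
    Cfsg.Geo.IsMaximalIn (Cfsg.Geo.omegaGL Q) (Cfsg.Geo.tensorProductSubgroup n₁ n₂ e P ⊓ Cfsg.Geo.omegaGL Q) := by
  classical
  obtain ⟨q, rfl, hqnd⟩ := H45.exists_quadForm hQ
  obtain ⟨c, hc, hT⟩ := hT
  set φ := glLin (Fin n) F with hφ
  let Φ : (Fin n₁ → F) ⊗[F] (Fin n₂ → F) ≃ₗ[F] (Fin n → F) :=
    tensCoord n₁ n₂ F ≪≫ₗ LinearEquiv.funCongrLeft F F e ≪≫ₗ φ P
  have hΦ : ∀ a x, Φ (a ⊗ₜ x) =
      (P : Matrix (Fin n) (Fin n) F) *ᵥ ((fun ij => a ij.1 * x ij.2) ∘ e) := fun a x => by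
    show φ P (LinearEquiv.funCongrLeft F F e (tensCoord n₁ n₂ F (a ⊗ₜ x))) = _
    rw [tensCoord_tmul]
    rfl
  have b1 := hf₁.bilinear
  have b2 := hf₂.bilinear
  let d : PT F (Fin n₁ → F) (Fin n₂ → F) (Fin n → F) :=
    { Φ := Φ
      ω := c • LinearMap.mk₂ F f₁ b1.add_left b1.smul_left b1.add_right b1.smul_right
      β := LinearMap.mk₂ F f₂ b2.add_left b2.smul_left b2.add_right b2.smul_right
      Q := q
      ω_alt := fun a => by simp [hf₁.alternating]
      ω_nd := by
        refine ⟨fun a h => ?_, fun a h => ?_⟩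
        · by_contra ha
          obtain ⟨w, hw⟩ := (hf₁.nondegenerate a ha).2
          exact hw (by simpa [hc] using h w)
        · by_contra ha
          obtain ⟨w, hw⟩ := (hf₁.nondegenerate a ha).2
          exact hw (by rw [hf₁.skew]; simpa [hc] using h w)
      β_alt := fun x => hf₂.alternating x
      β_nd := by
        refine ⟨fun a h => ?_, fun a h => ?_⟩
        · by_contra ha
          obtain ⟨w, hw⟩ := (hf₂.nondegenerate a ha).2
          exact hw (h w)
        · by_contra ha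
          obtain ⟨w, hw⟩ := (hf₂.nondegenerate a ha).2
          exact hw (by rw [hf₂.skew, neg_eq_zero]; exact h w)
      Q_nd := hqnd
      Q_pure := fun a x => by rw [hΦ]; exact hpure a x
      f_pure := fun a b x y => by
        rw [hΦ, hΦ, H43.polB_apply, hT]
        show _ = c * f₁ a b * f₂ x y
        rw [bilin_eq_gram f₁ b1, bilin_eq_gram f₂ b2, mul_assoc]
        congr 1
        rw [Finset.sum_mul_sum]
        simp only [Cfsg.Geo.formOfGram, Fintype.sum_prod_type, Matrix.kroneckerMap_apply, id, Finset.sum_mul_sum]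
        refine Finset.sum_congr rfl fun i _ => Finset.sum_congr rfl fun j _ => ?_
        refine Finset.sum_congr rfl fun k _ => Finset.sum_congr rfl fun l _ => ?_
        ring }
  have ht : ∀ a x, d.t a x = Φ (a ⊗ₜ x) := fun a x => rfl
  have hkron : ∀ A B, φ (P * Cfsg.Geo.glReindex e.symm (kronGL A B) * P⁻¹) =
      d.tens (glLin (Fin n₁) F A) (glLin (Fin n₂) F B) := by
    intro A B
    refine d.equiv_ext fun a x => ?_
    rw [d.tens_t, ht, ht, hΦ, hΦ, glLin_apply, glLin_apply, glLin_apply, Units.val_mul, Units.val_mul,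
      Matrix.mulVec_mulVec, Matrix.mul_assoc, ← Units.val_mul (P⁻¹) P, inv_mul_cancel, Units.val_one, mul_one,
      ← Matrix.mulVec_mulVec]
    congr 1
    rw [← kron_mulVec_pure]
    show (Matrix.reindexAlgEquiv F F e.symm ((kronGL A B : GL (Fin n₁ × Fin n₂) F) : Matrix _ _ F)) *ᵥ _ = _
    rw [Matrix.reindexAlgEquiv_apply]
    funext i
    simp only [Matrix.mulVec, dotProduct, Matrix.reindex_apply, Matrix.submatrix_apply, Equiv.symm_symm,
      Function.comp_apply]
    exact e.sum_comp fun k => ((kronGL A B : GL (Fin n₁ × Fin n₂) F) : Matrix _ _ F) (e i) k * (a k.1 * x k.2)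
  have hiff : ∀ g : H43.orthGroup q, H45.toGL q g ∈ Cfsg.Geo.tensorProductSubgroup n₁ n₂ e P ↔ g ∈ d.tensSub := by
    intro g
    have hg : φ (H45.toGL q g) = g.1 := LinearEquiv.ext fun x => by rw [glLin_apply, H45.toGL_apply]
    rw [mem_tensorProductSubgroup]
    constructor
    · rintro ⟨A, B, h⟩
      exact ⟨_, _, show g.1 = d.tens _ _ by rw [← hg, h, hkron A B]⟩
    · rintro ⟨a, b, h⟩
      refine ⟨(glLin (Fin n₁) F).symm a, (glLin (Fin n₂) F).symm b, φ.injective ?_⟩
      rw [hkron, MulEquiv.apply_symm_apply, MulEquiv.apply_symm_apply, hg]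
      exact h
  have hprod : n = n₁ * n₂ := by simpa using Fintype.card_congr e
  obtain ⟨i, hi⟩ := d.even₁
  obtain ⟨j, hj⟩ := d.even₂
  rw [Module.finrank_fin_fun] at hi hj
  have hn₁ : 2 ≤ n₁ := by
    rcases Nat.eq_zero_or_pos i with rfl | hi0
    · rw [hi] at hprod; simp at hprod; omega
    · omega
  have hn₂ : 6 ≤ n₂ := by
    by_contra hlt
    have h1 : n₁ = 2 := by omega
    have h2 : n₂ = 4 := by omega
    rw [h1, h2] at hprod
    omega
  refine H45.isMaximalIn_of_orth q _ d.tensSub (fun g _ => hiff g) (PT.tens_maximal ?_ ?_ ?_ ?_)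
  · rw [Module.finrank_fin_fun]; exact hn₁
  · rw [Module.finrank_fin_fun]; exact hn₂
  · rw [Module.finrank_fin_fun, Module.finrank_fin_fun]; omega
  · rw [Module.finrank_fin_fun]
    intro h
    by_contra hcon
    simp only [not_exists, not_and, not_not] at hcon
    refine hex ⟨le_antisymm ?_ Fintype.one_lt_card, h⟩
    calc Fintype.card F = (Finset.univ : Finset F).card := Finset.card_univ.symm
      _ ≤ ({0, 1} : Finset F).card := Finset.card_le_card fun x _ => by
        rcases eq_or_ne x 0 with hx | hx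
        · simp [hx]
        · simp [hcon x hx]
      _ ≤ 2 := Finset.card_le_two

end H49
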