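import Cfsg.Agent.H49.StabMax

set_option autoImplicit false

namespace H49

open Matrix
open H48 (sf tv)

variable {m : ℕ} {F : Type*} [Field F]

local notation "V" => (Fin m ⊕ Fin m → F)
local notation "Sp" => Matrix.symplecticGroup (Fin m) F

/-- The short root element w ↦ w + c f(w,y) x + c f(w,x) y for orthogonal x, y. -/
def sroot (x y : Fin m ⊕ Fin m → F) (c : F) : Matrix.symplecticGroup (Fin m) F :=
  tv (x + y) c * (tv x (-c) * tv y (-c))

theorem sroot_smul {x y : V} (h : sf x y = 0) (c : F) (w : V) :
    sroot x y c • w = w + (c * sf w y) • x + (c * sf w x) • y := by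
  have h' := H48.sf_eq_zero_comm h
  simp only [sroot, mul_smul, H48.tv_smul, map_add, LinearMap.add_apply, map_smul,
    LinearMap.smul_apply, smul_eq_mul, H48.sf_self, h, h', mul_zero, add_zero]
  module

theorem sroot_conj (g : Sp) (x y : V) (c : F) :
    g * sroot x y c * g⁻¹ = sroot (g • x) (g • y) c := by
  rw [sroot, sroot, ← smul_add, ← H48.tv_conj, ← H48.tv_conj, ← H48.tv_conj]
  group

theorem sroot_comm (x y : V) (h : sf x y = 0) (c : F) : sroot x y c = sroot y x c := by
  refine H48.sp_ext fun w => ?_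
  rw [sroot_smul h, sroot_smul (H48.sf_eq_zero_comm h)]
  abel

/-- An orthogonal pair all of whose short root elements lie in K. -/
def IsShort (K : Subgroup (Matrix.symplecticGroup (Fin m) F)) (x y : Fin m ⊕ Fin m → F) : Prop :=
  sf x y = 0 ∧ ∀ c : F, sroot x y c ∈ K

theorem IsShort.group_smul {K : Subgroup Sp} {x y : V} (h : IsShort K x y) {g : Sp} (hg : g ∈ K) :
    IsShort K (g • x) (g • y) :=
  ⟨by rw [H48.sf_smul_smul]; exact h.1,
    fun c => by rw [← sroot_conj]; exact mul_mem (mul_mem hg (h.2 c)) (inv_mem hg)⟩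

theorem IsShort.swap {K : Subgroup Sp} {x y : V} (h : IsShort K x y) : IsShort K y x :=
  ⟨H48.sf_eq_zero_comm h.1,
    fun c => by rw [← sroot_comm x y h.1]; exact h.2 c⟩

/-- Two short root groups with a common vector and non-orthogonal partners give a transvection group. -/
theorem IsShort.isCtr {K : Subgroup Sp} {x y y' : V} (h : IsShort K x y) (h' : IsShort K x y')
    (hk : sf y y' ≠ 0) (h2 : (2 : F) ≠ 0) : IsCtr K x := by
  intro t
  set d := t / (-2 * sf y y') with hd
  have hkey : tv x t = (sroot x y' d * sroot x y 1)⁻¹ * (sroot x y 1 * sroot x y' d) := by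
    rw [eq_inv_mul_iff_mul_eq]
    refine H48.sp_ext fun w => ?_
    have hyx := H48.sf_eq_zero_comm h.1
    have hy'x := H48.sf_eq_zero_comm h'.1
    simp only [mul_smul, H48.tv_smul, sroot_smul h.1, sroot_smul h'.1, map_add, LinearMap.add_apply,
      map_smul, LinearMap.smul_apply, smul_eq_mul, H48.sf_self, h.1, h'.1, hyx, hy'x,
      H48.sf_swap y y']
    have ht : t = -2 * d * sf y y' := by
      rw [hd]; field_simp
    rw [ht]
    match_scalars <;> ring
  rw [hkey]
  exact mul_mem (inv_mem (mul_mem (h'.2 d) (h.2 1))) (mul_mem (h.2 1) (h'.2 d))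

/-- Subtracting orthogonal short root groups with a common vector. -/
theorem IsShort.sub {K : Subgroup Sp} {x y z : V} (h : IsShort K x y) (h' : IsShort K x (y + z))
    (hk : sf y z = 0) : IsShort K x z := by
  have hxz : sf x z = 0 := by simpa [h.1] using h'.1
  refine ⟨hxz, fun c => ?_⟩
  have : sroot x z c = sroot x (y + z) c * sroot x y (-c) := by
    refine H48.sp_ext fun w => ?_
    have hyx := H48.sf_eq_zero_comm h.1
    simp only [mul_smul, sroot_smul h.1, sroot_smul h'.1, sroot_smul hxz, map_add,
      LinearMap.add_apply, map_smul, LinearMap.smul_apply, smul_eq_mul, H48.sf_self, h.1, hyx, hxz, hk]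
    module
  rw [this]
  exact mul_mem (h'.2 c) (h.2 _)

/-- A short root pair (x, x) is a transvection. -/
theorem IsShort.isCtr_self {K : Subgroup Sp} {x : V} (h : IsShort K x x) (h2 : (2 : F) ≠ 0) :
    IsCtr K x := by
  intro t
  have : tv x t = sroot x x (t / 2) := by
    refine H48.sp_ext fun w => ?_
    rw [H48.tv_smul, sroot_smul (H48.sf_self x), add_assoc, ← add_smul]
    congr 2
    field_simp
    ring
  rw [this]
  exact h.2 _

end H49
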