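import Cfsg.Prelude.Def_GeometricClasses
import Cfsg.Agent.H49.Transvec

set_option autoImplicit false

namespace H49

open scoped MatrixGroups Matrix
open Cfsg.Geo (IsSymplecticForm)

variable {ι : Type} [Fintype ι] [DecidableEq ι] {F : Type*} [Field F]
variable {f : (ι → F) → (ι → F) → F}

/-- The vector representing x ↦ f x w. -/
def fvec (f : (ι → F) → (ι → F) → F) (w : ι → F) : ι → F := fun j => f (Pi.single j 1) w

theorem sf_zero_left (hf : IsSymplecticForm f) (w : ι → F) : f 0 w = 0 := by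
  have := hf.bilinear.smul_left 0 0 w; simpa using this

theorem sf_zero_right (hf : IsSymplecticForm f) (w : ι → F) : f w 0 = 0 := by
  rw [hf.skew, sf_zero_left hf, neg_zero]

theorem sf_sum_left (hf : IsSymplecticForm f) {α : Type*} (s : Finset α) (u : α → ι → F)
    (w : ι → F) : f (∑ a ∈ s, u a) w = ∑ a ∈ s, f (u a) w :=
  map_sum (AddMonoidHom.mk' (fun x => f x w) (fun x y => hf.bilinear.add_left x y w)) u s

theorem fvec_dot (hf : IsSymplecticForm f) (w x : ι → F) : fvec f w ⬝ᵥ x = f x w := by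
  conv_rhs => rw [pi_eq_sum_univ' x, sf_sum_left hf]
  refine Finset.sum_congr rfl fun j _ => ?_
  rw [hf.bilinear.smul_left, mul_comm]
  rfl

theorem sf_sub_left (hf : IsSymplecticForm f) (x y w : ι → F) : f (x - y) w = f x w - f y w := by
  have := hf.bilinear.add_left (x - y) y w
  rw [sub_add_cancel] at this
  linear_combination -this

theorem sf_sub_right (hf : IsSymplecticForm f) (w x y : ι → F) : f w (x - y) = f w x - f w y := by
  have := hf.bilinear.add_right w (x - y) y
  rw [sub_add_cancel] at this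
  linear_combination -this

/-- The isometries of f. -/
def isoGrp (f : (ι → F) → (ι → F) → F) : Subgroup (GL ι F) := Cfsg.preserving (Cfsg.glToMat ι F) f

theorem mem_isoGrp {g : GL ι F} :
    g ∈ isoGrp f ↔ ∀ u v, f ((g : Matrix ι ι F) *ᵥ u) ((g : Matrix ι ι F) *ᵥ v) = f u v := Iff.rfl

/-- Symplectic transvection x ↦ x + c f(x,v) v. -/
def str (hf : IsSymplecticForm f) (v : ι → F) (c : F) : GL ι F :=
  tr v (c • fvec f v) (by rw [smul_dotProduct, fvec_dot hf, hf.alternating, smul_zero])

theorem str_mulVec (hf : IsSymplecticForm f) (v : ι → F) (c : F) (x : ι → F) :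
    (str hf v c : Matrix ι ι F) *ᵥ x = x + (c * f x v) • v := by
  rw [str, tr_mulVec, smul_dotProduct, fvec_dot hf, smul_eq_mul]

theorem str_mem_isoGrp (hf : IsSymplecticForm f) (v : ι → F) (c : F) : str hf v c ∈ isoGrp f := by
  intro x y
  show f ((str hf v c : Matrix ι ι F) *ᵥ x) ((str hf v c : Matrix ι ι F) *ᵥ y) = _
  simp only [str_mulVec, hf.bilinear.add_left, hf.bilinear.add_right, hf.bilinear.smul_left,
    hf.bilinear.smul_right, hf.alternating]
  rw [hf.skew v y]
  ring

/-- Two nonzero vectors have a common vector non-orthogonal to both. -/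
theorem exists_not_orth (hf : IsSymplecticForm f) {a b : ι → F} (ha : a ≠ 0) (hb : b ≠ 0) :
    ∃ u, f u a ≠ 0 ∧ f u b ≠ 0 := by
  obtain ⟨x, hx⟩ := (hf.nondegenerate a ha).1
  obtain ⟨y, hy⟩ := (hf.nondegenerate b hb).1
  by_cases h1 : f x b = 0
  · by_cases h2 : f y a = 0
    · exact ⟨x + y, by simpa [hf.bilinear.add_left, h2] using hx,
        by simpa [hf.bilinear.add_left, h1] using hy⟩
    · exact ⟨y, h2, hy⟩
  · exact ⟨x, hx, h1⟩

/-- Any two non-zero vectors are joined by at most two symplectic transvections. -/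
theorem exists_str_apply (hf : IsSymplecticForm f) (K : Subgroup (GL ι F))
    (hK : ∀ v c, str hf v c ∈ K) {a b : ι → F} (ha : a ≠ 0) (hb : b ≠ 0) :
    ∃ g ∈ K, (g : Matrix ι ι F) *ᵥ a = b := by
  have key : ∀ a b : ι → F, f a b ≠ 0 → ∃ g ∈ K, (g : Matrix ι ι F) *ᵥ a = b := by
    intro a b h
    refine ⟨str hf (b - a) (f a b)⁻¹, hK _ _, ?_⟩
    rw [str_mulVec, sf_sub_right hf, hf.alternating, sub_zero, inv_mul_cancel₀ h, one_smul,
      add_sub_cancel]
  obtain ⟨u, hua, hub⟩ := exists_not_orth hf ha hb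
  obtain ⟨g, hg, hga⟩ := key a u (by rw [hf.skew]; simpa using hua)
  obtain ⟨g', hg', hgu⟩ := key u b hub
  exact ⟨g' * g, mul_mem hg' hg, by rw [Units.val_mul, ← Matrix.mulVec_mulVec, hga, hgu]⟩

end H49
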