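import Mathlib

/-!
Series of weighted types and coefficient bounds at a point.
-/

set_option autoImplicit false
set_option linter.unusedSectionVars false

namespace H49.ClassSeries

open PowerSeries Finset

/-- The series counting elements by weight. -/
noncomputable def gser {α : Type*} (w : α → ℕ) : ℚ⟦X⟧ :=
  mk fun n => (Nat.card {a : α // w a = n} : ℚ)

theorem coeff_gser {α : Type*} (w : α → ℕ) (n : ℕ) :
    coeff n (gser w) = (Nat.card {a : α // w a = n} : ℚ) := coeff_mk _ _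

theorem gser_congr {α β : Type*} {w : α → ℕ} {w' : β → ℕ} (e : α ≃ β) (h : ∀ a, w' (e a) = w a) :
    gser w = gser w' := by
  ext n
  rw [coeff_gser, coeff_gser, Nat.card_congr (e.subtypeEquiv (p := fun a => w a = n) (q := fun b => w' b = n) fun a => by rw [h])]

theorem finite_prod_fibre {α β : Type*} (w : α → ℕ) (w' : β → ℕ) [∀ n, Finite {a // w a = n}]
    [∀ n, Finite {b // w' b = n}] (n : ℕ) : Finite {p : α × β // w p.1 + w' p.2 = n} :=
  Finite.of_injective
    (fun p => (⟨⟨(w p.1.1, w' p.1.2), HasAntidiagonal.mem_antidiagonal.2 p.2⟩, ⟨p.1.1, rfl⟩, ⟨p.1.2, rfl⟩⟩ :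
      (ij : (antidiagonal n : Finset (ℕ × ℕ))) × ({a // w a = ij.1.1} × {b // w' b = ij.1.2})))
    fun p q h => Subtype.ext (Prod.ext (congrArg (fun x => x.2.1.1) h) (congrArg (fun x => x.2.2.1) h))

theorem gser_prod {α β : Type*} (w : α → ℕ) (w' : β → ℕ) [∀ n, Finite {a // w a = n}]
    [∀ n, Finite {b // w' b = n}] : gser (fun p : α × β => w p.1 + w' p.2) = gser w * gser w' := by
  ext n
  rw [coeff_gser, coeff_mul]
  have e : {p : α × β // w p.1 + w' p.2 = n} ≃
      (ij : (antidiagonal n : Finset (ℕ × ℕ))) × ({a // w a = ij.1.1} × {b // w' b = ij.1.2}) :=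
    { toFun := fun p => ⟨⟨(w p.1.1, w' p.1.2), HasAntidiagonal.mem_antidiagonal.2 p.2⟩, ⟨p.1.1, rfl⟩, ⟨p.1.2, rfl⟩⟩
      invFun := fun x => ⟨(x.2.1.1, x.2.2.1), by rw [x.2.1.2, x.2.2.2]; exact HasAntidiagonal.mem_antidiagonal.1 x.1.2⟩
      left_inv := fun p => rfl
      right_inv := by rintro ⟨⟨⟨i, j⟩, hij⟩, ⟨a, ha⟩, ⟨b, hb⟩⟩; simp only at ha hb; subst ha; subst hb; rfl }
  rw [Nat.card_congr e, Nat.card_sigma, Nat.cast_sum, ← Finset.sum_coe_sort (antidiagonal n)]
  exact Finset.sum_congr rfl fun ij _ => by rw [Nat.card_prod, Nat.cast_mul, coeff_gser, coeff_gser]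

theorem finite_tuple_fibre {α : Type*} : ∀ {M : ℕ} (W : Fin M → α → ℕ) (_ : ∀ i n, Finite {a // W i a = n}) (n : ℕ),
    Finite {v : Fin M → α // ∑ i, W i (v i) = n}
  | 0, _, _, _ => inferInstance
  | M + 1, W, h, n => by
    haveI := h 0
    haveI := fun m => finite_tuple_fibre (fun i : Fin M => W i.succ) (fun i => h i.succ) m
    haveI := finite_prod_fibre (W 0) (fun v : Fin M → α => ∑ i, W i.succ (v i)) n
    refine Finite.of_injective (fun v => (⟨(v.1 0, fun i => v.1 i.succ), by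
      simpa [Fin.sum_univ_succ] using v.2⟩ : {p : α × (Fin M → α) // W 0 p.1 + ∑ i, W i.succ (p.2 i) = n})) ?_
    intro v v' hvv
    have h1 := congrArg Subtype.val hvv
    refine Subtype.ext (funext fun i => ?_)
    cases i using Fin.cases with
    | zero => exact congrArg Prod.fst h1
    | succ i => exact congrFun (congrArg Prod.snd h1) i

theorem gser_tuple {α : Type*} : ∀ {M : ℕ} (W : Fin M → α → ℕ) (_ : ∀ i n, Finite {a // W i a = n}),
    gser (fun v : Fin M → α => ∑ i, W i (v i)) = ∏ i, gser (W i)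
  | 0, W, _ => by
    ext n
    rw [coeff_gser, Fin.prod_univ_zero, coeff_one]
    rcases eq_or_ne n 0 with rfl | hn
    · haveI : Unique {v : Fin 0 → α // ∑ i, W i (v i) = 0} :=
        { default := ⟨Fin.elim0, by simp⟩, uniq := fun v => Subtype.ext (funext fun i => i.elim0) }
      simp
    · haveI : IsEmpty {v : Fin 0 → α // ∑ i, W i (v i) = n} := ⟨fun v => hn (by simpa using v.2.symm)⟩
      rw [Nat.card_of_isEmpty, Nat.cast_zero, if_neg hn]
  | M + 1, W, h => by
    haveI := h 0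
    haveI := fun m => finite_tuple_fibre (fun i : Fin M => W i.succ) (fun i => h i.succ) m
    rw [Fin.prod_univ_succ, ← gser_tuple (fun i : Fin M => W i.succ) (fun i => h i.succ), ← gser_prod]
    refine gser_congr (Fin.consEquiv fun _ : Fin (M + 1) => α).symm fun v => ?_
    simp [Fin.consEquiv, Fin.sum_univ_succ, Fin.tail]

/-- `1 / (1 - c X^i)`. -/
noncomputable def geo (c : ℚ) (i : ℕ) : ℚ⟦X⟧ := mk fun n => if i ∣ n then c ^ (n / i) else 0

theorem one_sub_mul_geo (c : ℚ) {i : ℕ} (hi : 0 < i) : (1 - C c * X ^ i) * geo c i = 1 := by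
  ext n
  rw [sub_mul, one_mul, map_sub, mul_assoc, coeff_C_mul, coeff_X_pow_mul', coeff_one]
  by_cases hin : i ≤ n
  · rw [if_pos hin, if_neg (by omega)]
    simp only [geo, coeff_mk]
    by_cases hd : i ∣ n
    · obtain ⟨k, rfl⟩ := hd
      obtain ⟨k, rfl⟩ : ∃ k', k = k' + 1 :=
        ⟨k - 1, by rcases Nat.eq_zero_or_pos k with rfl | h <;> [(rw [Nat.mul_zero] at hin; omega); omega]⟩
      rw [if_pos (dvd_mul_right _ _), show i * (k + 1) - i = i * k by rw [Nat.mul_succ, Nat.add_sub_cancel],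
        if_pos (dvd_mul_right _ _), Nat.mul_div_cancel_left _ hi, Nat.mul_div_cancel_left _ hi, pow_succ']
      ring
    · rw [if_neg hd, if_neg (fun h => hd ((Nat.dvd_sub_iff_left hin (dvd_refl i)).1 h)), mul_zero, sub_zero]
  · rw [if_neg hin, mul_zero, sub_zero]
    simp only [geo, coeff_mk]
    rcases eq_or_ne n 0 with rfl | hn
    · simp
    · rw [if_neg hn, if_neg fun h => hin (Nat.le_of_dvd (Nat.pos_of_ne_zero hn) h)]

/-- Non-negative coefficients and value at `x` at most `B`. -/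
def Bd (x B : ℚ) (A : ℚ⟦X⟧) : Prop :=
  (∀ k, 0 ≤ coeff k A) ∧ ∀ N, ∑ k ∈ range N, coeff k A * x ^ k ≤ B

variable {x : ℚ}

theorem Bd.nonneg {B : ℚ} {A : ℚ⟦X⟧} (h : Bd x B A) : 0 ≤ B := by simpa using h.2 0

theorem Bd.mono {B B' : ℚ} {A : ℚ⟦X⟧} (h : Bd x B A) (hB : B ≤ B') : Bd x B' A :=
  ⟨h.1, fun N => (h.2 N).trans hB⟩

theorem bd_one : Bd x 1 1 := by
  refine ⟨fun k => by rw [coeff_one]; split_ifs <;> norm_num, fun N => ?_⟩
  rw [Finset.sum_congr rfl (g := fun k => if k = 0 then (1 : ℚ) else 0) fun k _ => by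
    rw [coeff_one]; split_ifs with h <;> simp [h], Finset.sum_ite_eq']
  split_ifs <;> norm_num

theorem Bd.mul (hx : 0 ≤ x) {B B' : ℚ} {A A' : ℚ⟦X⟧} (h : Bd x B A) (h' : Bd x B' A') :
    Bd x (B * B') (A * A') := by
  refine ⟨fun k => ?_, fun N => ?_⟩
  · rw [coeff_mul]
    exact Finset.sum_nonneg fun p _ => mul_nonneg (h.1 _) (h'.1 _)
  have key : ∀ k, coeff k (A * A') * x ^ k =
      ∑ p ∈ antidiagonal k, (coeff p.1 A * x ^ p.1) * (coeff p.2 A' * x ^ p.2) := fun k => by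
    rw [coeff_mul, Finset.sum_mul]
    refine Finset.sum_congr rfl fun p hp => ?_
    rw [← HasAntidiagonal.mem_antidiagonal.1 hp, pow_add]
    ring
  rw [Finset.sum_congr rfl fun k _ => key k, Finset.sum_sigma']
  calc ∑ p ∈ (range N).sigma fun k => antidiagonal k, coeff p.2.1 A * x ^ p.2.1 * (coeff p.2.2 A' * x ^ p.2.2)
      ≤ ∑ p ∈ range N ×ˢ range N, coeff p.1 A * x ^ p.1 * (coeff p.2 A' * x ^ p.2) := by
        rw [← Finset.sum_image (f := fun p : ℕ × ℕ => coeff p.1 A * x ^ p.1 * (coeff p.2 A' * x ^ p.2))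
          (g := fun p : (_ : ℕ) × (ℕ × ℕ) => p.2)]
        · refine Finset.sum_le_sum_of_subset_of_nonneg ?_ fun p _ _ =>
            mul_nonneg (mul_nonneg (h.1 _) (pow_nonneg hx _)) (mul_nonneg (h'.1 _) (pow_nonneg hx _))
          intro p hp
          obtain ⟨⟨k, ij⟩, hk, rfl⟩ := Finset.mem_image.1 hp
          rw [Finset.mem_sigma, mem_range, HasAntidiagonal.mem_antidiagonal] at hk
          rw [Finset.mem_product, mem_range, mem_range]
          dsimp only at hk ⊢
          omega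
        · rintro ⟨k, ij⟩ hk ⟨k', ij'⟩ hk' e
          simp only [Finset.mem_coe, Finset.mem_sigma, HasAntidiagonal.mem_antidiagonal] at hk hk'
          dsimp only at e
          subst e
          obtain rfl : k = k' := hk.2.symm.trans hk'.2
          rfl
    _ = (∑ i ∈ range N, coeff i A * x ^ i) * ∑ j ∈ range N, coeff j A' * x ^ j := by
        rw [Finset.sum_mul_sum, Finset.sum_product]
    _ ≤ B * B' := mul_le_mul (h.2 N) (h'.2 N)
        (Finset.sum_nonneg fun j _ => mul_nonneg (h'.1 _) (pow_nonneg hx _)) h.nonneg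

theorem bd_one_add (hx : 0 ≤ x) {i : ℕ} (hi : 0 < i) : Bd x (1 + x ^ i) (1 + X ^ i) := by
  refine ⟨fun k => ?_, fun N => ?_⟩
  · rw [map_add, coeff_one, coeff_X_pow]
    positivity
  have h1 : ∀ k, coeff k (1 + X ^ i : ℚ⟦X⟧) * x ^ k =
      (if k = 0 then (1 : ℚ) else 0) + (if k = i then x ^ i else 0) := fun k => by
    rw [map_add, coeff_one, coeff_X_pow, add_mul]
    congr 1
    · split_ifs with h <;> simp [h]
    · split_ifs with h <;> simp [h]
  rw [Finset.sum_congr rfl fun k _ => h1 k, Finset.sum_add_distrib, Finset.sum_ite_eq', Finset.sum_ite_eq']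
  have := pow_nonneg hx i
  gcongr <;> split_ifs <;> linarith

theorem bd_geo (hx : 0 ≤ x) {c : ℚ} (hc : 0 ≤ c) {i : ℕ} (hi : 0 < i) (hcx : c * x ^ i < 1) :
    Bd x (1 / (1 - c * x ^ i)) (geo c i) := by
  refine ⟨fun k => ?_, fun N => ?_⟩
  · simp only [geo, coeff_mk]
    split_ifs <;> positivity
  set y := c * x ^ i with hy
  have hy0 : 0 ≤ y := by positivity
  have h1 : ∀ k, coeff k (geo c i) * x ^ k = if i ∣ k then y ^ (k / i) else 0 := fun k => by
    simp only [geo, coeff_mk]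
    split_ifs with h
    · obtain ⟨j, rfl⟩ := h
      rw [Nat.mul_div_cancel_left _ hi, hy, mul_pow, ← pow_mul]
    · rw [zero_mul]
  rw [Finset.sum_congr rfl fun k _ => h1 k, ← Finset.sum_filter]
  have hsub : ∑ k ∈ (range N).filter (i ∣ ·), y ^ (k / i) ≤ ∑ j ∈ range N, y ^ j := by
    rw [← Finset.sum_image (f := fun j => y ^ j) (g := fun k => k / i)]
    · refine Finset.sum_le_sum_of_subset_of_nonneg ?_ fun _ _ _ => pow_nonneg hy0 _
      intro j hj
      obtain ⟨k, hk, rfl⟩ := Finset.mem_image.1 hj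
      exact mem_range.2 (lt_of_le_of_lt (Nat.div_le_self _ _) (mem_range.1 (Finset.mem_filter.1 hk).1))
    · intro a ha b hb e
      have ha' := (Finset.mem_filter.1 ha).2
      have hb' := (Finset.mem_filter.1 hb).2
      rw [← Nat.div_mul_cancel ha', ← Nat.div_mul_cancel hb']
      exact congrArg (· * i) e
  refine hsub.trans ?_
  rw [le_div_iff₀ (by linarith), geom_sum_mul_neg]
  have := pow_nonneg hy0 N
  linarith

theorem Bd.prod (hx : 0 ≤ x) : ∀ {M : ℕ} (A : Fin M → ℚ⟦X⟧) (B : Fin M → ℚ) (_ : ∀ i, Bd x (B i) (A i)),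
    Bd x (∏ i, B i) (∏ i, A i)
  | 0, A, B, _ => by simpa using bd_one (x := x)
  | M + 1, A, B, h => by
    rw [Fin.prod_univ_succ, Fin.prod_univ_succ]
    exact (h 0).mul hx (Bd.prod hx _ _ fun i => h i.succ)

/-- Extraction of a coefficient with one pole. -/
theorem coeff_le_of_bd {q B : ℚ} (hq : 0 < q) {A : ℚ⟦X⟧} (h : Bd q⁻¹ B A) (n : ℕ) :
    coeff n (geo q 1 * A) ≤ B * q ^ n := by
  rw [coeff_mul, Finset.Nat.sum_antidiagonal_eq_sum_range_succ_mk, ← Finset.sum_range_reflect]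
  have e : ∀ k ∈ range (n + 1), coeff (n + 1 - 1 - k) (geo q 1) * coeff (n - (n + 1 - 1 - k)) A =
      coeff k A * q⁻¹ ^ k * q ^ n := fun k hk => by
    have hk' := Nat.lt_succ_iff.1 (mem_range.1 hk)
    rw [Nat.add_sub_cancel, Nat.sub_sub_self hk']
    simp only [geo, coeff_mk, one_dvd, if_true, Nat.div_one, inv_pow]
    rw [pow_sub₀ q hq.ne' hk']
    ring
  rw [Finset.sum_congr rfl e, ← Finset.sum_mul]
  exact mul_le_mul_of_nonneg_right (h.2 _) (pow_nonneg hq.le _)

end H49.ClassSeries
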