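import Cfsg.Agent.H49.ClassSeries

/-!
Counting the data of symplectic classes in odd characteristic.
-/

set_option autoImplicit false
set_option linter.unusedSectionVars false

namespace H49.ClassSeries

open PowerSeries Finset

theorem gser_sum {α β : Type*} (w : α → ℕ) (w' : β → ℕ) [∀ n, Finite {a // w a = n}]
    [∀ n, Finite {b // w' b = n}] : gser (Sum.elim w w') = gser w + gser w' := by
  ext n
  rw [map_add, coeff_gser, coeff_gser, coeff_gser, ← Nat.cast_add, ← Nat.card_sum,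
    Nat.card_congr (Equiv.subtypeSum (p := fun c : α ⊕ β => Sum.elim w w' c = n))]
  rfl

theorem finite_mul_fibre {c : ℕ} (hc : 0 < c) (n : ℕ) : Finite {r : ℕ // c * r = n} :=
  Finite.of_injective (fun _ => ()) fun a b _ => Subtype.ext (Nat.eq_of_mul_eq_mul_left hc (a.2.trans b.2.symm))

theorem gser_mul_nat {c : ℕ} (hc : 0 < c) : gser (fun r : ℕ => c * r) = geo 1 c := by
  ext n
  rw [coeff_gser, geo, coeff_mk, one_pow]
  split_ifs with h
  · obtain ⟨k, rfl⟩ := h
    haveI : Unique {r : ℕ // c * r = c * k} :=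
      { default := ⟨k, rfl⟩, uniq := fun r => Subtype.ext (Nat.eq_of_mul_eq_mul_left hc r.2) }
    rw [Nat.card_unique, Nat.cast_one]
  · haveI : IsEmpty {r : ℕ // c * r = n} := ⟨fun r => h ⟨r.1, r.2.symm⟩⟩
    simp

theorem finite_mul_natAbs_fibre {c : ℕ} (hc : 0 < c) (n : ℕ) : Finite {z : ℤ // c * z.natAbs = n} :=
  Finite.of_injective (fun z => decide (0 ≤ z.1)) fun a b h => Subtype.ext (by
    have := Nat.eq_of_mul_eq_mul_left hc (a.2.trans b.2.symm)
    simp only [decide_eq_decide] at h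
    omega)

theorem gser_mul_natAbs {c : ℕ} (hc : 0 < c) : gser (fun z : ℤ => c * z.natAbs) = (1 + X ^ c) * geo 1 c := by
  let w' : ℕ → ℕ := fun r => c * (r + 1)
  haveI := finite_mul_fibre hc
  haveI : ∀ n, Finite {r : ℕ // w' r = n} := fun n =>
    Finite.of_injective (fun _ => ()) fun a b _ =>
      Subtype.ext (Nat.succ_injective (Nat.eq_of_mul_eq_mul_left hc (a.2.trans b.2.symm)))
  have h1 : gser (fun z : ℤ => c * z.natAbs) = gser (Sum.elim (fun r : ℕ => c * r) w') := by
    refine gser_congr Equiv.intEquivNatSumNat fun z => ?_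
    cases z <;> rfl
  have h2 : gser w' = X ^ c * geo 1 c := by
    ext n
    rw [coeff_X_pow_mul', coeff_gser]
    split_ifs with h
    · rw [← gser_mul_nat hc, coeff_gser]
      congr 1
      refine Nat.card_congr (Equiv.subtypeEquivRight (p := fun r => w' r = n) (q := fun r => c * r = n - c) fun r => ?_)
      simp only [w', Nat.mul_succ]
      omega
    · haveI : IsEmpty {r : ℕ // w' r = n} := ⟨fun r => h (by
        have := r.2
        simp only [w', Nat.mul_succ] at this
        omega)⟩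
      simp
  rw [h1, gser_sum, gser_mul_nat hc, h2, add_mul, one_mul]

/-- The data at one part size of a unipotent element. -/
abbrev UT : Type := ℕ × ℤ

/-- The weight: pairs of an odd part, and even parts with a sign. -/
def wU (i : ℕ) (p : UT) : ℕ := (2 * i + 1) * p.1 + (i + 1) * p.2.natAbs

theorem finite_wU (i n : ℕ) : Finite {p : UT // wU i p = n} :=
  haveI := finite_mul_fibre (show 0 < 2 * i + 1 by omega)
  haveI := finite_mul_natAbs_fibre (show 0 < i + 1 by omega)
  finite_prod_fibre (fun r : ℕ => (2 * i + 1) * r) (fun z : ℤ => (i + 1) * z.natAbs) n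

theorem gser_wU (i : ℕ) : gser (wU i) = geo 1 (2 * i + 1) * ((1 + X ^ (i + 1)) * geo 1 (i + 1)) := by
  haveI := finite_mul_fibre (show 0 < 2 * i + 1 by omega)
  haveI := finite_mul_natAbs_fibre (show 0 < i + 1 by omega)
  rw [← gser_mul_natAbs (Nat.succ_pos i), ← gser_mul_nat (show 0 < 2 * i + 1 by omega)]
  exact gser_prod (fun r : ℕ => (2 * i + 1) * r) (fun z : ℤ => (i + 1) * z.natAbs)

section Pal

variable {F : Type*} [Field F]

/-- The inner coefficient at position `j`. -/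
def inner {m : ℕ} (j : ℕ) : (Fin m → F) →ₗ[F] F :=
  if h : 1 ≤ j ∧ j ≤ m then LinearMap.proj ⟨j - 1, by omega⟩ else 0

/-- The variable part of the value at `ε` of a palindromic polynomial. -/
def palLin (m : ℕ) (ε : F) : (Fin m → F) →ₗ[F] F :=
  ∑ k ∈ range (2 * m + 1), (ε ^ k) • inner (min k (2 * m - k))

/-- Palindromic data avoiding the roots `±1`. -/
def NR (F : Type*) [Field F] (m : ℕ) : Type _ :=
  {a : Fin m → F // palLin m 1 a + 2 ≠ 0 ∧ palLin m (-1) a + 2 ≠ 0}

instance [Finite F] (m : ℕ) : Finite (NR F m) := Subtype.finite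

theorem palLin_single {m : ℕ} (ε : F) (j : Fin m) (t : F) :
    palLin m ε (Pi.single j t) =
      if (j : ℕ) + 1 = m then ε ^ m * t else (ε ^ ((j : ℕ) + 1) + ε ^ (2 * m - ((j : ℕ) + 1))) * t := by
  have hj := j.2
  have h1 : ∀ k ∈ range (2 * m + 1), (ε ^ k • inner (F := F) (m := m) (min k (2 * m - k))) (Pi.single j t) =
      if k = (j : ℕ) + 1 ∨ k = 2 * m - ((j : ℕ) + 1) then ε ^ k * t else 0 := by
    intro k hk
    rw [mem_range] at hk
    rw [LinearMap.smul_apply, inner, smul_eq_mul]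
    by_cases h : 1 ≤ min k (2 * m - k) ∧ min k (2 * m - k) ≤ m
    · rw [dif_pos h, LinearMap.proj_apply]
      by_cases hjk : k = (j : ℕ) + 1 ∨ k = 2 * m - ((j : ℕ) + 1)
      · rw [if_pos hjk, Pi.single_apply, if_pos (Fin.ext (by simp only; omega))]
      · rw [if_neg hjk, Pi.single_apply, if_neg (fun e => hjk (by
          have := congrArg Fin.val e
          simp only at this
          omega)), mul_zero]
    · rw [dif_neg h, LinearMap.zero_apply, mul_zero, if_neg (by omega)]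
  rw [palLin, LinearMap.sum_apply, Finset.sum_congr rfl h1, ← Finset.sum_filter]
  split_ifs with hm
  · rw [show (range (2 * m + 1)).filter (fun k => k = (j : ℕ) + 1 ∨ k = 2 * m - ((j : ℕ) + 1)) = {m} by
      ext k; simp only [Finset.mem_filter, mem_range, Finset.mem_singleton]; omega, Finset.sum_singleton]
  · rw [show (range (2 * m + 1)).filter (fun k => k = (j : ℕ) + 1 ∨ k = 2 * m - ((j : ℕ) + 1)) =
        {(j : ℕ) + 1, 2 * m - ((j : ℕ) + 1)} by
      ext k; simp only [Finset.mem_filter, mem_range, Finset.mem_insert, Finset.mem_singleton]; omega,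
      Finset.sum_pair (by omega), add_mul]

theorem card_NR [Fintype F] (h2 : (2 : F) ≠ 0) : ∀ m : ℕ,
    (Nat.card (NR F m) : ℚ) = if m = 0 then 1 else if m = 1 then (Fintype.card F : ℚ) - 2
      else ((Fintype.card F : ℚ) - 1) ^ 2 * (Fintype.card F : ℚ) ^ (m - 2) := by
  classical
  intro m
  have hq : 1 ≤ Fintype.card F := Fintype.card_pos
  rcases m with _ | _ | m
  · have h0 : ∀ ε : F, palLin 0 ε = 0 := fun ε => LinearMap.ext fun a => by
      rw [Subsingleton.elim a 0, map_zero, LinearMap.zero_apply]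
    haveI : Unique (NR F 0) :=
      { default := ⟨Fin.elim0, by simp [h0, h2]⟩, uniq := fun a => Subtype.ext (funext fun i => i.elim0) }
    simp
  · have h1 : ∀ (ε : F) (a : Fin 1 → F), palLin 1 ε a = ε * a 0 := fun ε a => by
      rw [show a = Pi.single 0 (a 0) from funext fun i => by rw [Subsingleton.elim i 0, Pi.single_eq_same],
        palLin_single, if_pos (by simp), pow_one, Pi.single_eq_same]
    have h22 : (2 : F) ≠ -2 := fun e => h2 ((mul_eq_zero.1 (by linear_combination e : (2 : F) * 2 = 0)).elim id id)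
    have e : NR F 1 ≃ {t : F // t ∈ (Finset.univ \ {2, -2} : Finset F)} :=
      (Equiv.funUnique (Fin 1) F).subtypeEquiv fun a => by
        show (palLin 1 1 a + 2 ≠ 0 ∧ palLin 1 (-1) a + 2 ≠ 0) ↔ a 0 ∈ _
        simp only [h1, Finset.mem_sdiff, Finset.mem_univ, Finset.mem_insert, Finset.mem_singleton, true_and,
          not_or, one_mul, neg_one_mul, ne_eq, add_eq_zero_iff_eq_neg, neg_inj]
        exact and_comm
    rw [Nat.card_congr e, Nat.card_eq_fintype_card, Fintype.card_coe, Finset.card_sdiff_of_subset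
      (Finset.subset_univ _), Finset.card_pair h22, Finset.card_univ, Nat.cast_sub]
    · simp
    · calc 2 = ({2, -2} : Finset F).card := (Finset.card_pair h22).symm
        _ ≤ _ := Finset.card_le_univ _
  · rw [if_neg (by omega), if_neg (by omega), show m + 2 - 2 = m by omega]
    set L : (Fin (m + 2) → F) →ₗ[F] F × F := (palLin (m + 2) 1).prod (palLin (m + 2) (-1)) with hL
    let u : Fin (m + 2) := ⟨m + 1, by omega⟩
    let v : Fin (m + 2) := ⟨m, by omega⟩
    have h4 : (4 : F) ≠ 0 := by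
      intro e; exact h2 ((mul_eq_zero.1 (by linear_combination e : (2 : F) * 2 = 0)).elim id id)
    have hsurj : Function.Surjective L := by
      rintro ⟨α, β⟩
      set σ : F := (-1) ^ (m + 2) with hσ
      have hσσ : σ * σ = 1 := by rw [hσ, ← mul_pow, neg_one_mul, neg_neg, one_pow]
      have hv : ∀ t : F, ∀ ε : F, ε * ε = 1 → palLin (m + 2) ε (Pi.single v t) = 2 * ε ^ (m + 1) * t := fun t ε hε => by
        rw [palLin_single, if_neg (by simp [v]), show 2 * (m + 2) - ((v : ℕ) + 1) = m + 1 + 2 by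
          simp [v]; omega, pow_add ε (m + 1) 2, sq ε, hε, show (v : ℕ) + 1 = m + 1 from rfl]
        ring
      refine ⟨Pi.single u ((α + σ * β) / 2) + Pi.single v ((α - σ * β) / 4), ?_⟩
      show (palLin (m + 2) 1 _, palLin (m + 2) (-1) _) = _
      rw [map_add, map_add, hv _ 1 (by norm_num), hv _ (-1) (by norm_num), palLin_single, palLin_single,
        if_pos (by simp [u]), if_pos (by simp [u]), one_pow, one_pow]
      have e : (-1 : F) ^ (m + 1) = -σ := by rw [hσ, pow_succ _ (m + 1), mul_neg_one, neg_neg]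
      rw [e, ← hσ]
      refine Prod.ext ?_ ?_
      · field_simp
        ring
      · dsimp only
        field_simp
        linear_combination (8 * β) * hσσ
    obtain ⟨sec, hsec⟩ := L.exists_rightInverse_of_surjective (LinearMap.range_eq_top.2 hsurj)
    have hsec' : ∀ y, L (sec y) = y := fun y => LinearMap.congr_fun hsec y
    let e : (Fin (m + 2) → F) ≃ (F × F) × LinearMap.ker L :=
      { toFun := fun a => (L a, ⟨a - sec (L a), by rw [LinearMap.mem_ker, map_sub, hsec', sub_self]⟩)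
        invFun := fun p => sec p.1 + p.2.1
        left_inv := fun a => by simp
        right_inv := fun p => by
          have : L p.2.1 = 0 := LinearMap.mem_ker.1 p.2.2
          refine Prod.ext ?_ (Subtype.ext ?_) <;> simp [map_add, hsec', this] }
    have hker : Fintype.card F ^ 2 * Nat.card (LinearMap.ker L) = Fintype.card F ^ (m + 2) := by
      have h := Nat.card_congr e
      rw [Nat.card_prod, Nat.card_prod, Nat.card_fun, Nat.card_fin, Nat.card_eq_fintype_card (α := F)] at h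
      rw [sq, h]
    have hker' : Nat.card (LinearMap.ker L) = Fintype.card F ^ m := by
      rw [pow_add, mul_comm (Fintype.card F ^ m)] at hker
      exact Nat.eq_of_mul_eq_mul_left (pow_pos hq 2) hker
    let e' : NR F (m + 2) ≃ ({t : F // t ≠ -2} × {t : F // t ≠ -2}) × LinearMap.ker L :=
      { toFun := fun a => ((⟨(L a.1).1, fun h => a.2.1 (by
          rw [show palLin (m + 2) 1 a.1 = (L a.1).1 from rfl, h, neg_add_cancel])⟩,
          ⟨(L a.1).2, fun h => a.2.2 (by
          rw [show palLin (m + 2) (-1) a.1 = (L a.1).2 from rfl, h, neg_add_cancel])⟩), (e a.1).2)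
        invFun := fun p => ⟨e.symm ((p.1.1.1, p.1.2.1), p.2), by
          have h := congrArg Prod.fst (e.apply_symm_apply ((p.1.1.1, p.1.2.1), p.2))
          refine ⟨fun h0 => p.1.1.2 ?_, fun h0 => p.1.2.2 ?_⟩
          · rw [eq_neg_iff_add_eq_zero, ← h0]
            exact congrArg (· + 2) (congrArg Prod.fst h).symm
          · rw [eq_neg_iff_add_eq_zero, ← h0]
            exact congrArg (· + 2) (congrArg Prod.snd h).symm⟩
        left_inv := fun a => Subtype.ext (e.symm_apply_apply a.1)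
        right_inv := fun p => by
          have h := e.apply_symm_apply ((p.1.1.1, p.1.2.1), p.2)
          exact Prod.ext (Prod.ext (Subtype.ext (congrArg (fun z => z.1.1) h))
            (Subtype.ext (congrArg (fun z => z.1.2) h))) (congrArg (fun z => z.2) h) }
    rw [Nat.card_congr e', Nat.card_prod, Nat.card_prod, hker', Nat.card_eq_fintype_card,
      Fintype.card_subtype_compl, Fintype.card_subtype_eq]
    push_cast [Nat.cast_sub hq]
    ring

/-- The data at one part size outside the eigenvalues `±1`. -/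
abbrev PD (F : Type*) [Field F] : Type _ := Σ m : ℕ, NR F m

/-- The weight. -/
def wP (i : ℕ) (p : PD F) : ℕ := (i + 1) * p.1

theorem finite_wP [Finite F] (i n : ℕ) : Finite {p : PD F // wP i p = n} :=
  Finite.of_injective (β := Σ m : Fin (n + 1), NR F m)
    (fun p => ⟨⟨p.1.1, Nat.lt_succ_of_le ((Nat.le_mul_of_pos_left _ (Nat.succ_pos i)).trans p.2.le)⟩, p.1.2⟩)
    fun ⟨⟨m, a⟩, h⟩ ⟨⟨m', a'⟩, h'⟩ e => by
      simp only [Sigma.mk.injEq, Fin.mk.injEq] at e
      obtain ⟨rfl, e⟩ := e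
      exact Subtype.ext (by rw [eq_of_heq e])

theorem gser_wP [Fintype F] (h2 : (2 : F) ≠ 0) (i : ℕ) :
    gser (wP (F := F) i) = (1 - X ^ (i + 1)) ^ 2 * geo (Fintype.card F : ℚ) (i + 1) := by
  have hc : 0 < i + 1 := Nat.succ_pos i
  ext n
  rw [coeff_gser]
  set q : ℚ := (Fintype.card F : ℚ)
  have hR : (1 - X ^ (i + 1)) ^ 2 * geo q (i + 1) =
      geo q (i + 1) - C (2 : ℚ) * (X ^ (i + 1) * geo q (i + 1)) + X ^ (i + 1) * (X ^ (i + 1) * geo q (i + 1)) := by
    rw [map_ofNat]
    ring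
  rw [hR, map_add, map_sub, coeff_C_mul, coeff_X_pow_mul', coeff_X_pow_mul', coeff_X_pow_mul']
  simp only [geo, coeff_mk]
  by_cases hd : i + 1 ∣ n
  · obtain ⟨m, rfl⟩ := hd
    have e : {p : PD F // wP i p = (i + 1) * m} ≃ NR F m :=
      { toFun := fun p => (Nat.eq_of_mul_eq_mul_left hc p.2) ▸ p.1.2
        invFun := fun a => ⟨⟨m, a⟩, rfl⟩
        left_inv := by
          rintro ⟨⟨k, a⟩, hk⟩
          obtain rfl : k = m := Nat.eq_of_mul_eq_mul_left hc hk
          rfl
        right_inv := fun a => rfl }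
    rw [Nat.card_congr e, card_NR h2 m, if_pos (dvd_mul_right _ _), Nat.mul_div_cancel_left _ hc]
    rcases m with _ | _ | m
    · simp [hc.ne']
    · simp [hc.ne']
      ring
    · have e1 : (i + 1) * (m + 1 + 1) - (i + 1) = (i + 1) * (m + 1) := by rw [Nat.mul_succ, Nat.add_sub_cancel]
      have e2 : (i + 1) * (m + 1) - (i + 1) = (i + 1) * m := by rw [Nat.mul_succ, Nat.add_sub_cancel]
      have l1 : i + 1 ≤ (i + 1) * (m + 1 + 1) := Nat.le_mul_of_pos_right _ (Nat.succ_pos _)
      have l2 : i + 1 ≤ (i + 1) * (m + 1) := Nat.le_mul_of_pos_right _ (Nat.succ_pos _)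
      simp only [if_neg (show ¬ m + 1 + 1 = 0 by omega), if_neg (show ¬ m + 1 + 1 = 1 by omega), if_pos l1, e1,
        if_pos (dvd_mul_right (i + 1) (m + 1)), if_pos l2, e2, if_pos (dvd_mul_right (i + 1) m),
        Nat.mul_div_cancel_left _ hc, show m + 1 + 1 - 2 = m by omega, pow_succ]
      ring
  · haveI : IsEmpty {p : PD F // wP i p = n} := ⟨fun p => hd ⟨p.1.1, p.2.symm⟩⟩
    rw [if_neg hd]
    have h' : ∀ k, i + 1 ≤ k → ¬ (i + 1 ∣ k) → ¬ (i + 1 ∣ k - (i + 1)) := fun k hk h hh =>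
      h ((Nat.dvd_sub_iff_left hk (dvd_refl _)).1 hh)
    by_cases h1 : i + 1 ≤ n
    · rw [if_pos h1, if_neg (h' _ h1 hd)]
      by_cases h3 : i + 1 ≤ n - (i + 1)
      · rw [if_pos h3, if_neg (h' _ h3 (h' _ h1 hd))]; simp
      · rw [if_neg h3]; simp
    · rw [if_neg h1, if_neg h1]; simp

/-- The data of a class. -/
abbrev Data (F : Type*) [Field F] (M : ℕ) : Type _ := (Fin M → UT) × (Fin M → UT) × (Fin M → PD F)

/-- The total weight. -/
def dwt {M : ℕ} (d : Data F M) : ℕ :=
  (∑ i : Fin M, wU i (d.1 i)) + ((∑ i : Fin M, wU i (d.2.1 i)) + ∑ i : Fin M, wP i (d.2.2 i))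

theorem finite_data [Finite F] {M : ℕ} (n : ℕ) : Finite {d : Data F M // dwt d = n} := by
  haveI := fun n => finite_tuple_fibre (fun (i : Fin M) => wU i) (fun i => finite_wU i) n
  haveI := fun n => finite_tuple_fibre (fun (i : Fin M) => wP (F := F) i) (fun i => finite_wP i) n
  haveI := finite_prod_fibre (fun u : Fin M → UT => ∑ i : Fin M, wU i (u i)) (fun p : Fin M → PD F => ∑ i : Fin M, wP i (p i))
  exact finite_prod_fibre (fun u : Fin M → UT => ∑ i : Fin M, wU i (u i))
    (fun p : (Fin M → UT) × (Fin M → PD F) => (∑ i : Fin M, wU i (p.1 i)) + ∑ i : Fin M, wP i (p.2 i)) n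

theorem gser_dwt [Fintype F] (h2 : (2 : F) ≠ 0) {M : ℕ} : gser (dwt (F := F) (M := M)) =
    ∏ i : Fin M, (1 + X ^ ((i : ℕ) + 1)) ^ 2 * geo 1 (2 * (i : ℕ) + 1) ^ 2 *
      geo (Fintype.card F : ℚ) ((i : ℕ) + 1) := by
  haveI := fun n => finite_tuple_fibre (fun (i : Fin M) => wU i) (fun i => finite_wU i) n
  haveI := fun n => finite_tuple_fibre (fun (i : Fin M) => wP (F := F) i) (fun i => finite_wP i) n
  haveI := finite_prod_fibre (fun u : Fin M → UT => ∑ i : Fin M, wU i (u i)) (fun p : Fin M → PD F => ∑ i : Fin M, wP i (p i))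
  have h := gser_prod (fun u : Fin M → UT => ∑ i : Fin M, wU i (u i))
    (fun p : (Fin M → UT) × (Fin M → PD F) => (∑ i : Fin M, wU i (p.1 i)) + ∑ i : Fin M, wP i (p.2 i))
  have h' := gser_prod (fun u : Fin M → UT => ∑ i : Fin M, wU i (u i))
    (fun p : Fin M → PD F => ∑ i : Fin M, wP i (p i))
  rw [h', gser_tuple (fun (i : Fin M) => wU i) (fun i => finite_wU i),
    gser_tuple (fun (i : Fin M) => wP (F := F) i) (fun i => finite_wP i), ← Finset.prod_mul_distrib,
    ← Finset.prod_mul_distrib] at h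
  refine h.trans (Finset.prod_congr rfl fun i _ => ?_)
  rw [gser_wU, gser_wP h2]
  have h1 := one_sub_mul_geo 1 (show 0 < (i : ℕ) + 1 by omega)
  rw [map_one, one_mul] at h1
  linear_combination ((1 + X ^ ((i : ℕ) + 1)) ^ 2 * geo 1 (2 * (i : ℕ) + 1) ^ 2 *
    geo (Fintype.card F : ℚ) ((i : ℕ) + 1) * ((1 - X ^ ((i : ℕ) + 1)) * geo 1 ((i : ℕ) + 1) + 1)) * h1

end Pal

/-- The value at one third of one factor. -/
def cf (i : ℕ) : ℚ :=
  (1 + (1 / 3) ^ (i + 1)) ^ 2 * (1 / (1 - (1 / 3) ^ (2 * i + 1))) ^ 2 *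
    if i = 0 then 1 else 1 / (1 - (1 / 3) ^ i)

theorem one_le_cf (i : ℕ) : 1 ≤ cf i := by
  have h0 : ∀ k, 0 < k → (0 : ℚ) < (1 / 3) ^ k ∧ ((1 : ℚ) / 3) ^ k < 1 := fun k hk =>
    ⟨by positivity, pow_lt_one₀ (by norm_num) (by norm_num) hk.ne'⟩
  have a := h0 (i + 1) (by omega)
  have b := h0 (2 * i + 1) (by omega)
  unfold cf
  refine one_le_mul_of_one_le_of_one_le (one_le_mul_of_one_le_of_one_le
    (one_le_pow₀ (by linarith [a.1])) (one_le_pow₀ ?_)) ?_
  · rw [le_div_iff₀ (by linarith [b.2])]; linarith [b.1]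
  · split_ifs with h
    · exact le_rfl
    · have c := h0 i (by omega)
      rw [le_div_iff₀ (by linarith [c.2])]; linarith [c.1]

theorem cf_tail {i : ℕ} (hi : 9 ≤ i) : cf i * (1 - 2 * (1 / 3) ^ i) ≤ 1 := by
  set y : ℚ := (1 / 3) ^ i with hy
  have hy0 : 0 < y := by positivity
  have hy1 : y ≤ 1 / 19683 := (pow_le_pow_of_le_one (by norm_num) (by norm_num) hi).trans (by norm_num)
  have e1 : ((1 : ℚ) / 3) ^ (i + 1) = y / 3 := by rw [pow_succ]; ring
  have e2 : ((1 : ℚ) / 3) ^ (2 * i + 1) = y * y / 3 := by rw [pow_succ, two_mul, pow_add]; ring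
  have p1 : 0 < 1 - y * y / 3 := by nlinarith
  have p2 : 0 < 1 - y := by linarith
  rw [cf, if_neg (by omega), e1, e2, ← hy]
  have key : (1 + y / 3) ^ 2 * (1 - 2 * y) ≤ (1 - y * y / 3) ^ 2 * (1 - y) := by
    nlinarith [mul_nonneg hy0.le hy0.le, mul_nonneg (pow_nonneg hy0.le 4) p2.le, pow_nonneg hy0.le 3]
  calc (1 + y / 3) ^ 2 * (1 / (1 - y * y / 3)) ^ 2 * (1 / (1 - y)) * (1 - 2 * y)
      = (1 + y / 3) ^ 2 * (1 - 2 * y) / ((1 - y * y / 3) ^ 2 * (1 - y)) := by field_simp
    _ ≤ 1 := by rw [div_le_one (mul_pos (pow_pos p1 2) p2)]; exact key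

theorem prod_cf_le (M : ℕ) : ∏ i ∈ range M, cf i ≤ 54 / 5 := by
  have hH : ∏ i ∈ range 9, cf i ≤ (54 / 5) * (1 - 3 * (1 / 3) ^ 9) := by
    norm_num [Finset.prod_range_succ, cf]
  have hpos : ∀ N, 0 ≤ ∏ i ∈ range N, cf i := fun N =>
    Finset.prod_nonneg fun i _ => zero_le_one.trans (one_le_cf i)
  have key : ∀ N, 9 ≤ N → (∏ i ∈ range N, cf i) * (1 - 3 * ((1 / 3) ^ 9 - (1 / 3) ^ N)) ≤
      ∏ i ∈ range 9, cf i := by
    intro N hN
    induction N, hN using Nat.le_induction with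
    | base => simp
    | succ N hN ih =>
      refine le_trans ?_ ih
      rw [Finset.prod_range_succ, mul_assoc]
      refine mul_le_mul_of_nonneg_left ?_ (hpos N)
      set y : ℚ := (1 / 3) ^ N with hy
      set a : ℚ := (1 / 3) ^ 9 with ha
      have hy0 : 0 < y := by positivity
      have hya : y ≤ a := pow_le_pow_of_le_one (by norm_num) (by norm_num) hN
      have h1 : ((1 : ℚ) / 3) ^ (N + 1) = y / 3 := by rw [pow_succ]; ring
      clear_value y a
      have h2 : 1 - 3 * (a - y / 3) ≤ (1 - 2 * y) * (1 - 3 * (a - y)) := by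
        nlinarith [mul_nonneg hy0.le (sub_nonneg.2 hya)]
      have h3 : 0 ≤ 1 - 3 * (a - y) := by
        have : a ≤ 1 / 3 := by rw [ha]; norm_num
        linarith
      rw [h1]
      calc cf N * (1 - 3 * (a - y / 3)) ≤ cf N * ((1 - 2 * y) * (1 - 3 * (a - y))) :=
            mul_le_mul_of_nonneg_left h2 (zero_le_one.trans (one_le_cf N))
        _ = cf N * (1 - 2 * y) * (1 - 3 * (a - y)) := by ring
        _ ≤ 1 * (1 - 3 * (a - y)) := mul_le_mul_of_nonneg_right (hy ▸ cf_tail hN) h3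
        _ = 1 - 3 * (a - y) := one_mul _
  rcases Nat.lt_or_ge M 9 with hM | hM
  · calc ∏ i ∈ range M, cf i ≤ ∏ i ∈ range 9, cf i :=
        Finset.prod_le_prod_of_subset_of_one_le (Finset.range_mono hM.le)
          (fun i _ => zero_le_one.trans (one_le_cf i)) fun i _ _ => one_le_cf i
      _ ≤ _ := hH.trans (by norm_num)
  · have h := key M hM
    have : (0 : ℚ) ≤ (1 / 3) ^ M := by positivity
    have h9 : (0 : ℚ) < 1 - 3 * (1 / 3) ^ 9 := by norm_num
    nlinarith [hpos M]

/-- The number of data of weight `n`. -/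
theorem card_data_le {F : Type*} [Field F] [Fintype F] (h2 : (2 : F) ≠ 0) (hq : 3 ≤ Fintype.card F) (M n : ℕ) :
    5 * Nat.card {d : Data F (M + 1) // dwt d = n} ≤ 54 * Fintype.card F ^ n := by
  set q : ℚ := (Fintype.card F : ℚ) with hqd
  have hq3 : (3 : ℚ) ≤ q := by rw [hqd]; exact_mod_cast hq
  have hq0 : 0 < q := by linarith
  set x : ℚ := q⁻¹ with hx
  have hx0 : 0 ≤ x := by positivity
  have hx3 : x ≤ 1 / 3 := by
    rw [hx, one_div]
    exact inv_anti₀ (by norm_num) hq3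
  have hpw : ∀ k, x ^ k ≤ (1 / 3 : ℚ) ^ k := fun k => pow_le_pow_left₀ hx0 hx3 k
  have hlt : ∀ k, 0 < k → ((1 : ℚ) / 3) ^ k < 1 := fun k hk => pow_lt_one₀ (by norm_num) (by norm_num) hk.ne'
  have hA : ∀ i : ℕ, Bd x ((1 + (1 / 3 : ℚ) ^ (i + 1)) ^ 2 * (1 / (1 - (1 / 3 : ℚ) ^ (2 * i + 1))) ^ 2)
      ((1 + X ^ (i + 1)) ^ 2 * geo 1 (2 * i + 1) ^ 2) := by
    intro i
    have a : Bd x (1 + (1 / 3 : ℚ) ^ (i + 1)) (1 + X ^ (i + 1)) :=
      (bd_one_add hx0 (show 0 < i + 1 by omega)).mono (by linarith [hpw (i + 1)])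
    have hl := hlt (2 * i + 1) (by omega)
    have b : Bd x (1 / (1 - (1 / 3 : ℚ) ^ (2 * i + 1))) (geo 1 (2 * i + 1)) := by
      refine (bd_geo hx0 zero_le_one (show 0 < 2 * i + 1 by omega) (by rw [one_mul]; linarith [hpw (2 * i + 1)])).mono ?_
      rw [one_mul]
      exact one_div_le_one_div_of_le (by linarith) (by linarith [hpw (2 * i + 1)])
    rw [sq, sq, sq, sq]
    exact (a.mul hx0 a).mul hx0 (b.mul hx0 b)
  have hB : ∀ i : ℕ, 0 < i → Bd x (1 / (1 - (1 / 3 : ℚ) ^ i)) (geo q (i + 1)) := by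
    intro i hi
    have e : q * x ^ (i + 1) = x ^ i := by rw [pow_succ', ← mul_assoc, hx, mul_inv_cancel₀ hq0.ne', one_mul]
    have hl := hlt i hi
    refine (bd_geo hx0 hq0.le (show 0 < i + 1 by omega) (by rw [e]; linarith [hpw i])).mono ?_
    rw [e]
    exact one_div_le_one_div_of_le (by linarith) (by linarith [hpw i])
  have hser : gser (dwt (F := F) (M := M + 1)) = geo q 1 * ((1 + X ^ 1) ^ 2 * geo 1 1 ^ 2 *
      ∏ i : Fin M, (1 + X ^ ((i : ℕ) + 2)) ^ 2 * geo 1 (2 * ((i : ℕ) + 1) + 1) ^ 2 * geo q ((i : ℕ) + 2)) := by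
    rw [gser_dwt h2, Fin.prod_univ_succ]
    simp only [Fin.val_zero, Fin.val_succ, zero_add, mul_zero]
    ring
  have hbd : Bd x (cf 0 * ∏ i : Fin M, cf ((i : ℕ) + 1))
      ((1 + X ^ 1) ^ 2 * geo 1 1 ^ 2 *
        ∏ i : Fin M, (1 + X ^ ((i : ℕ) + 2)) ^ 2 * geo 1 (2 * ((i : ℕ) + 1) + 1) ^ 2 * geo q ((i : ℕ) + 2)) := by
    refine Bd.mul hx0 ?_ (Bd.prod hx0 _ _ fun i => ?_)
    · rw [cf, if_pos rfl, mul_one]
      exact hA 0
    · rw [cf, if_neg (Nat.succ_ne_zero _)]
      exact (hA _).mul hx0 (hB _ (Nat.succ_pos _))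
  have h := coeff_le_of_bd hq0 hbd n
  rw [← hser, coeff_gser] at h
  have hc : cf 0 * ∏ i : Fin M, cf ((i : ℕ) + 1) ≤ 54 / 5 := by
    rw [Fin.prod_univ_eq_prod_range (fun i => cf (i + 1)) M, mul_comm, ← Finset.prod_range_succ' cf M]
    exact prod_cf_le _
  have := h.trans (mul_le_mul_of_nonneg_right hc (pow_nonneg hq0.le n))
  have h5 : (5 : ℚ) * Nat.card {d : Data F (M + 1) // dwt d = n} ≤ 54 * q ^ n := by linarith
  rw [hqd] at h5
  exact_mod_cast h5

end H49.ClassSeries
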