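import Cfsg.Agent.H49.Unip2Rel
import Cfsg.Agent.H49.SpClassSeries

/-!
The number of canonical lists of block types, as a series.
-/

set_option autoImplicit false
set_option linter.unusedSectionVars false

namespace H49.Unip2

open PowerSeries Finset
open H49.ClassSeries (gser coeff_gser geo Bd bd_geo gser_sum gser_prod finite_prod_fibre finite_mul_fibre gser_mul_nat)

/-- The weight: half the dimension. -/
def Blk.wt : Blk → ℕ
  | .cy k _ => k + 1
  | .pr n _ => n + 1

/-- The level. -/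
def Blk.lev : Blk → ℕ
  | .cy k _ => k
  | .pr n _ => n / 2

/-- The total weight. -/
def wM (M : Multiset Blk) : ℕ := (M.map Blk.wt).sum

theorem imgM_zero_eq_wM (M : Multiset Blk) : imgM M 0 = 2 * wM M := by
  induction M using Multiset.induction with
  | empty => rfl
  | cons B M ih =>
    rw [imgM_cons, ih, wM, wM, Multiset.map_cons, Multiset.sum_cons]
    cases B <;> simp [Blk.img, Blk.cnt, Blk.top, Blk.wt] <;> ring

theorem Canon.mono {o : Bool} {M M' : Multiset Blk} (h : Canon o M) (hle : M' ≤ M) : Canon o M' := by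
  have hc := fun B => Multiset.count_le_of_le B hle
  have hm := fun B => @Multiset.mem_of_le _ M' M B hle
  exact ⟨fun k => le_trans (Nat.add_le_add (hc _) (hc _)) (h.two k), fun k => (hc _).trans (h.cbit k),
    fun n => (hc _).trans (h.pbit n), fun n hn k ε hk hm' => h.padj n (hm _ hn) k ε hk (hm _ hm'),
    fun k hk ε hm' => h.cadj k (hm _ hk) ε (hm _ hm'), fun ho k hk => h.cok ho k (hm _ hk), fun n hn => h.pev n (hm _ hn),
    fun ho n hn => h.pok ho n (hm _ hn)⟩

/-- Canonical lists of levels at most `L` without pairs of trivial blocks, with (`v`) or without cyclic blocks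
of the last level. -/
def CM (o : Bool) (L : ℕ) (v : Bool) : Type :=
  {M : Multiset Blk // Canon o M ∧ Blk.pr 0 false ∉ M ∧ (∀ B ∈ M, B.lev ≤ L) ∧
    ((∃ ε, Blk.cy L ε ∈ M) ↔ v = true)}

/-- The weight on `CM`. -/
def wCM {o : Bool} {L : ℕ} {v : Bool} (M : CM o L v) : ℕ := wM M.1

variable {x : ℚ}

theorem bd_of_inj {α β : Type*} {w : α → ℕ} {w' : β → ℕ} [∀ n, Finite {b // w' b = n}] (i : α → β)
    (hi : Function.Injective i) (hw : ∀ a, w' (i a) = w a) (hx : 0 ≤ x) {B : ℚ} (hB : Bd x B (gser w')) :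
    (∀ n, Finite {a // w a = n}) ∧ Bd x B (gser w) := by
  have key : ∀ n, ∃ j : {a // w a = n} → {b // w' b = n}, Function.Injective j := fun n =>
    ⟨fun a => ⟨i a.1, (hw _).trans a.2⟩, fun a b e => Subtype.ext (hi (congrArg Subtype.val e))⟩
  refine ⟨fun n => Finite.of_injective _ (key n).choose_spec, fun k => ?_, fun N => le_trans ?_ (hB.2 N)⟩
  · rw [coeff_gser]; positivity
  · refine Finset.sum_le_sum fun k _ => mul_le_mul_of_nonneg_right ?_ (pow_nonneg hx _)
    rw [coeff_gser, coeff_gser]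
    exact_mod_cast Nat.card_le_card_of_injective _ (key k).choose_spec

theorem bd_add {B B' : ℚ} {A A' : ℚ⟦X⟧} (h : Bd x B A) (h' : Bd x B' A') : Bd x (B + B') (A + A') :=
  ⟨fun k => by rw [map_add]; exact add_nonneg (h.1 k) (h'.1 k), fun N => by
    simp only [map_add, add_mul, Finset.sum_add_distrib]
    exact add_le_add (h.2 N) (h'.2 N)⟩

theorem bd_pow (hx : 0 ≤ x) (d : ℕ) : Bd x (x ^ d) (X ^ d) := by
  refine ⟨fun k => by rw [coeff_X_pow]; positivity, fun N => ?_⟩
  rw [Finset.sum_congr rfl (g := fun k => if k = d then x ^ d else 0) fun k _ => by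
    rw [coeff_X_pow]; split_ifs with h <;> simp [h], Finset.sum_ite_eq']
  split_ifs
  · exact le_rfl
  · positivity

theorem finite_shift {α : Type*} {w : α → ℕ} [∀ n, Finite {a // w a = n}] (d n : ℕ) :
    Finite {a // w a + d = n} :=
  Finite.of_injective (fun a => (⟨a.1, by have := a.2; omega⟩ : {a // w a = n - d}))
    fun a b e => Subtype.ext (congrArg (fun z => z.1) e)

theorem gser_shift {α : Type*} {w : α → ℕ} [∀ n, Finite {a // w a = n}] (d : ℕ) :
    gser (fun a => w a + d) = X ^ d * gser w := by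
  ext n
  rw [coeff_X_pow_mul', coeff_gser]
  split_ifs with hn
  · rw [coeff_gser]
    congr 1
    exact Nat.card_congr (Equiv.subtypeEquivRight (p := fun a => w a + d = n) (q := fun a => w a = n - d)
      fun a => by omega)
  · haveI : IsEmpty {a // w a + d = n} := ⟨fun a => hn (by have := a.2; omega)⟩
    simp

/-- The factor for a number of equal blocks. -/
def gl (x : ℚ) (c : ℕ) : ℚ := 1 / (1 - x ^ c)

theorem bd_mult (hx : 0 ≤ x) (hx1 : x < 1) {c : ℕ} (hc : 0 < c) : Bd x (gl x c) (gser fun a : ℕ => c * a) := by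
  rw [gser_mul_nat hc]
  have h := bd_geo (x := x) hx zero_le_one hc (by rw [one_mul]; exact pow_lt_one₀ hx hx1 hc.ne')
  rwa [one_mul] at h

theorem finite_unit (d n : ℕ) : Finite {_u : Unit // d = n} := inferInstance

theorem bd_unit (hx : 0 ≤ x) (d : ℕ) : Bd x (x ^ d) (gser fun _ : Unit => d) := by
  convert bd_pow hx d using 2
  ext n
  rw [coeff_gser, coeff_X_pow]
  split_ifs with h
  · subst h
    haveI : Unique {_u : Unit // n = n} := { default := ⟨(), rfl⟩, uniq := fun _ => Subsingleton.elim _ _ }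
    simp
  · haveI : IsEmpty {_u : Unit // d = n} := ⟨fun a => h a.2.symm⟩
    simp

mutual
/-- The bound without a cyclic block at the last level. -/
def fA (o : Bool) (x : ℚ) : ℕ → ℚ
  | 0 => (1 + if o then x else 0) * gl x 2
  | L + 1 => (fA o x L * (gl x (2 * L + 3) + x ^ (2 * L + 3) * gl x (2 * L + 3)) + fB o x L * gl x (2 * L + 3)) *
      gl x (2 * L + 4)

/-- The bound with one. -/
def fB (o : Bool) (x : ℚ) : ℕ → ℚ
  | 0 => (if o then 2 else 1) * (x + x ^ 2) * gl x 2
  | L + 1 => (fA o x L * (2 * (x ^ (L + 2) + x ^ (2 * L + 4))) + fB o x L * (x ^ (L + 2) + x ^ (2 * L + 4))) *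
      gl x (2 * L + 3) * gl x (2 * L + 4)
end

/-- The part at the last level. -/
theorem top_part {L : ℕ} {M : Multiset Blk} {o : Bool} (hM : Canon o M) (hlev : ∀ B ∈ M, B.lev ≤ L + 1) :
    M = M.filter (fun B => B.lev ≤ L) + (Multiset.replicate (M.count (.cy (L + 1) true)) (.cy (L + 1) true) +
      Multiset.replicate (M.count (.cy (L + 1) false)) (.cy (L + 1) false) +
      Multiset.replicate (M.count (.pr (2 * L + 2) true)) (.pr (2 * L + 2) true) +
      Multiset.replicate (M.count (.pr (2 * L + 2) false)) (.pr (2 * L + 2) false) +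
      Multiset.replicate (M.count (.pr (2 * L + 3) false)) (.pr (2 * L + 3) false)) := by
  classical
  refine Multiset.ext.2 fun B => ?_
  simp only [Multiset.count_add, Multiset.count_replicate, Multiset.count_filter]
  by_cases hB : B ∈ M
  · have h1 := hlev B hB
    cases B with
    | cy k ε =>
      simp only [Blk.lev] at h1 ⊢
      rcases Nat.lt_or_ge L k with hk | hk
      · obtain rfl : k = L + 1 := by omega
        cases ε <;> simp
      · have : L + 1 ≠ k := by omega
        simp [hk, this]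
    | pr n ε =>
      simp only [Blk.lev] at h1 ⊢
      rcases Nat.lt_or_ge L (n / 2) with hk | hk
      · rcases (show n = 2 * L + 2 ∨ n = 2 * L + 3 by omega) with rfl | rfl
        · cases ε <;> simp [show ¬ (2 * L + 2) / 2 ≤ L by omega]
        · cases ε
          · simp [show ¬ (2 * L + 3) / 2 ≤ L by omega]
          · obtain ⟨r, hr⟩ := hM.pev _ hB
            omega
      · have a1 : 2 * L + 2 ≠ n := by omega
        have a2 : 2 * L + 3 ≠ n := by omega
        simp [hk, a1, a2]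
  · have h0 := Multiset.count_eq_zero_of_notMem hB
    rw [h0]
    split_ifs <;> simp_all

theorem eq_of_top {L : ℕ} {M M' : Multiset Blk} {o : Bool} (hM : Canon o M) (hM' : Canon o M')
    (h1 : ∀ B ∈ M, B.lev ≤ L + 1) (h2 : ∀ B ∈ M', B.lev ≤ L + 1)
    (e0 : M.filter (fun B => B.lev ≤ L) = M'.filter (fun B => B.lev ≤ L))
    (e : ∀ B ∈ [Blk.cy (L + 1) true, .cy (L + 1) false, .pr (2 * L + 2) true, .pr (2 * L + 2) false,
      .pr (2 * L + 3) false], M.count B = M'.count B) : M = M' := by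
  rw [top_part hM h1, top_part hM' h2, e0, e _ (by simp), e _ (by simp), e _ (by simp), e _ (by simp),
    e _ (by simp)]

theorem wM_top {L : ℕ} {M : Multiset Blk} {o : Bool} (hM : Canon o M) (hlev : ∀ B ∈ M, B.lev ≤ L + 1) :
    wM M = wM (M.filter fun B => B.lev ≤ L) + ((L + 2) * M.count (.cy (L + 1) true) +
      (L + 2) * M.count (.cy (L + 1) false) + (2 * L + 3) * M.count (.pr (2 * L + 2) true) +
      (2 * L + 3) * M.count (.pr (2 * L + 2) false) + (2 * L + 4) * M.count (.pr (2 * L + 3) false)) := by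
  conv_lhs => rw [top_part hM hlev]
  simp [wM, Blk.wt, mul_comm]

/-- The previous part, by its last level. -/
noncomputable def prevPart {o : Bool} {L : ℕ} {v : Bool} (M : CM o (L + 1) v) : CM o L false ⊕ CM o L true :=
  open Classical in
  if h : ∃ ε, Blk.cy L ε ∈ M.1 then
    .inr ⟨M.1.filter fun B => B.lev ≤ L, M.2.1.mono (Multiset.filter_le _ _),
      fun e => M.2.2.1 (Multiset.mem_of_mem_filter e), fun B hB => (Multiset.mem_filter.1 hB).2,
      ⟨fun _ => rfl, fun _ => h.imp fun ε hε => Multiset.mem_filter.2 ⟨hε, le_rfl⟩⟩⟩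
  else
    .inl ⟨M.1.filter fun B => B.lev ≤ L, M.2.1.mono (Multiset.filter_le _ _),
      fun e => M.2.2.1 (Multiset.mem_of_mem_filter e), fun B hB => (Multiset.mem_filter.1 hB).2,
      ⟨fun e => absurd (e.imp fun ε hε => Multiset.mem_of_mem_filter hε) h, fun e => Bool.noConfusion e⟩⟩

/-- One or two cyclic blocks, by their number. -/
abbrev One2 : Type := Unit ⊕ Unit

/-- The weight on `One2`. -/
def w12 (L : ℕ) : One2 → ℕ := Sum.elim (fun _ => L) (fun _ => 2 * L)

theorem bd_w12 (hx : 0 ≤ x) (L : ℕ) : (∀ n, Finite {z // w12 L z = n}) ∧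
    Bd x (x ^ L + x ^ (2 * L)) (gser (w12 L)) := by
  refine ⟨fun n => inferInstance, ?_⟩
  rw [w12, gser_sum]
  exact bd_add (bd_unit hx L) (bd_unit hx (2 * L))

theorem bd_cm_zero (hx : 0 ≤ x) (hx1 : x < 1) (o v : Bool) :
    (∀ n, Finite {M : CM o 0 v // wCM M = n}) ∧
      Bd x (if v then fB o x 0 else fA o x 0) (gser (wCM : CM o 0 v → ℕ)) := by
  classical
  have hT : ∀ {v} (M : CM o 0 v), M.1 = Multiset.replicate (M.1.count (.cy 0 false)) (.cy 0 false) +
      Multiset.replicate (M.1.count (.cy 0 true)) (.cy 0 true) +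
      Multiset.replicate (M.1.count (.pr 0 true)) (.pr 0 true) +
      Multiset.replicate (M.1.count (.pr 1 false)) (.pr 1 false) := by
    intro v M
    obtain ⟨M, hc, hp, hlev, -⟩ := M
    refine Multiset.ext.2 fun B => ?_
    simp only [Multiset.count_add, Multiset.count_replicate]
    by_cases hB : B ∈ M
    · have h1 := hlev B hB
      cases B with
      | cy k ε =>
        simp only [Blk.lev, Nat.le_zero] at h1
        subst h1
        cases ε <;> simp
      | pr n ε =>
        simp only [Blk.lev] at h1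
        rcases (show n = 0 ∨ n = 1 by omega) with rfl | rfl
        · cases ε
          · exact absurd hB hp
          · simp
        · cases ε
          · simp
          · obtain ⟨r, hr⟩ := hc.pev 1 hB
            omega
    · rw [Multiset.count_eq_zero_of_notMem hB]
      split_ifs <;> simp_all
  have hW : ∀ {v} (M : CM o 0 v), wCM M = M.1.count (.cy 0 false) + M.1.count (.cy 0 true) +
      M.1.count (.pr 0 true) + 2 * M.1.count (.pr 1 false) := fun M => by
    conv_lhs => rw [wCM, hT M]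
    simp [wM, Blk.wt, mul_comm]
  have hext : ∀ {v} (M M' : CM o 0 v), M.1.count (.cy 0 false) = M'.1.count (.cy 0 false) →
      M.1.count (.cy 0 true) = M'.1.count (.cy 0 true) → M.1.count (.pr 0 true) = M'.1.count (.pr 0 true) →
      M.1.count (.pr 1 false) = M'.1.count (.pr 1 false) → M = M' := fun M M' e1 e2 e3 e4 =>
    Subtype.ext (by rw [hT M, hT M', e1, e2, e3, e4])
  haveI := finite_mul_fibre (show 0 < 2 by omega)
  cases v
  · have hz : ∀ (M : CM o 0 false) ε, M.1.count (.cy 0 ε) = 0 := fun M ε =>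
      Multiset.count_eq_zero.2 fun e => Bool.noConfusion (M.2.2.2.2.1 ⟨ε, e⟩)
    cases o
    · have hp0 : ∀ M : CM false 0 false, M.1.count (.pr 0 true) = 0 := fun M =>
        Multiset.count_eq_zero.2 fun e => by have := M.2.1.pok rfl 0 e; omega
      rw [if_neg Bool.false_ne_true, fA, if_neg Bool.false_ne_true, add_zero, one_mul]
      refine bd_of_inj (w' := fun a : ℕ => 2 * a) (fun M => M.1.count (.pr 1 false)) (fun M M' e => ?_)
        (fun M => ?_) hx (bd_mult hx hx1 (by omega))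
      · exact hext M M' (by rw [hz, hz]) (by rw [hz, hz]) (by rw [hp0, hp0]) e
      · rw [hW, hz, hz, hp0]; omega
    · let wu : Unit ⊕ Unit → ℕ := Sum.elim (fun _ => 0) (fun _ => 1)
      haveI : ∀ n, Finite {z // wu z = n} := fun n => inferInstance
      haveI := finite_prod_fibre wu (fun a : ℕ => 2 * a)
      have hu : Bd x (1 + x) (gser wu) := by
        show Bd x (1 + x) (gser (Sum.elim (fun _ : Unit => 0) (fun _ : Unit => 1)))
        rw [gser_sum]
        have := bd_add (bd_unit hx 0) (bd_unit hx 1)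
        rwa [pow_zero, pow_one] at this
      have hB := hu.mul hx (bd_mult hx hx1 (show 0 < 2 by omega))
      rw [← gser_prod] at hB
      rw [if_neg Bool.false_ne_true, fA, if_pos rfl]
      refine bd_of_inj (w' := fun p : (Unit ⊕ Unit) × ℕ => wu p.1 + 2 * p.2)
        (fun M => (if M.1.count (.pr 0 true) = 0 then .inl () else .inr (), M.1.count (.pr 1 false)))
        (fun M M' e => ?_) (fun M => ?_) hx hB
      · simp only [Prod.mk.injEq] at e
        have := M.2.1.pbit 0
        have := M'.2.1.pbit 0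
        refine hext M M' (by rw [hz, hz]) (by rw [hz, hz]) ?_ e.2
        have := e.1
        split_ifs at this <;> first | omega | exact absurd this (by simp)
      · have := M.2.1.pbit 0
        rw [hW, hz, hz]
        simp only [wu]
        split_ifs with h0 <;> simp only [Sum.elim_inl, Sum.elim_inr] <;> omega
  · haveI := (bd_w12 hx 1).1
    have hv : ∀ M : CM o 0 true, 1 ≤ M.1.count (.cy 0 false) + M.1.count (.cy 0 true) ∧
        M.1.count (.cy 0 true) + M.1.count (.cy 0 false) ≤ 2 ∧ M.1.count (.cy 0 true) ≤ 1 ∧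
        M.1.count (.pr 0 true) = 0 := fun M => by
      obtain ⟨ε, hε⟩ := M.2.2.2.2.2 rfl
      refine ⟨?_, M.2.1.two _, M.2.1.cbit _,
        Multiset.count_eq_zero.2 fun e => M.2.1.padj _ e 0 ε (Or.inr rfl) hε⟩
      have := Multiset.count_pos.2 hε
      cases ε <;> omega
    let tot : CM o 0 true → One2 := fun M =>
      if M.1.count (.cy 0 true) + M.1.count (.cy 0 false) = 1 then .inl () else .inr ()
    have htot : ∀ M, w12 1 (tot M) = M.1.count (.cy 0 true) + M.1.count (.cy 0 false) := fun M => by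
      have := hv M
      simp only [tot]
      split_ifs <;> simp [w12] <;> omega
    cases o
    · have hp0 : ∀ M : CM false 0 true, M.1.count (.cy 0 true) = 0 := fun M =>
        Multiset.count_eq_zero.2 fun e => by have := M.2.1.cok rfl 0 e; omega
      haveI := finite_prod_fibre (w12 1) (fun a : ℕ => 2 * a)
      have hB := (bd_w12 hx 1).2.mul hx (bd_mult hx hx1 (show 0 < 2 by omega))
      rw [← gser_prod, pow_one, mul_one] at hB
      rw [if_pos rfl, fB, if_neg Bool.false_ne_true, one_mul]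
      refine bd_of_inj (w' := fun p : One2 × ℕ => w12 1 p.1 + 2 * p.2)
        (fun M => (tot M, M.1.count (.pr 1 false))) (fun M M' e => ?_) (fun M => ?_) hx hB
      · simp only [Prod.mk.injEq] at e
        have he := congrArg (w12 1) e.1
        rw [htot, htot, hp0, hp0] at he
        exact hext M M' (by omega) (by rw [hp0, hp0]) (by rw [(hv M).2.2.2, (hv M').2.2.2]) e.2
      · show w12 1 (tot M) + _ = _
        rw [htot, hW, (hv M).2.2.2]; omega
    · have h12' : Bd x (2 * (x + x ^ 2)) (gser (Sum.elim (w12 1) (w12 1))) := by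
        rw [gser_sum, two_mul (x + x ^ 2)]
        have := (bd_w12 hx 1).2
        rw [pow_one, mul_one] at this
        exact bd_add this this
      haveI : ∀ n, Finite {z : One2 ⊕ One2 // Sum.elim (w12 1) (w12 1) z = n} := fun n => inferInstance
      haveI := finite_prod_fibre (Sum.elim (w12 1) (w12 1)) (fun a : ℕ => 2 * a)
      have hB := h12'.mul hx (bd_mult hx hx1 (show 0 < 2 by omega))
      rw [← gser_prod] at hB
      rw [if_pos rfl, fB, if_pos rfl]
      refine bd_of_inj (w' := fun p : (One2 ⊕ One2) × ℕ => Sum.elim (w12 1) (w12 1) p.1 + 2 * p.2)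
        (fun M => (if M.1.count (.cy 0 true) = 0 then .inl (tot M) else .inr (tot M), M.1.count (.pr 1 false)))
        (fun M M' e => ?_) (fun M => ?_) hx hB
      · simp only [Prod.mk.injEq] at e
        have := hv M
        have := hv M'
        have e1 := e.1
        split_ifs at e1 <;> simp only [Sum.inl.injEq, Sum.inr.injEq, reduceCtorEq] at e1
        all_goals
          have he := congrArg (w12 1) e1
          rw [htot, htot] at he
          exact hext M M' (by omega) (by omega) (by omega) e.2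
      · have := hv M
        rw [hW]
        show Sum.elim (w12 1) (w12 1) _ + _ = _
        split_ifs <;> simp only [Sum.elim_inl, Sum.elim_inr, htot] <;> omega

theorem finite_sum_fibre {α β : Type*} (w : α → ℕ) (w' : β → ℕ) [∀ n, Finite {a // w a = n}]
    [∀ n, Finite {b // w' b = n}] (n : ℕ) : Finite {z : α ⊕ β // Sum.elim w w' z = n} :=
  haveI : Finite ({a // Sum.elim w w' (Sum.inl a) = n} ⊕ {b // Sum.elim w w' (Sum.inr b) = n}) :=
    inferInstanceAs (Finite ({a // w a = n} ⊕ {b // w' b = n}))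
  Finite.of_equiv _ (Equiv.subtypeSum).symm

theorem prev_inl {o : Bool} {L : ℕ} {v : Bool} {M : CM o (L + 1) v} {P : CM o L false} (h : prevPart M = .inl P) :
    P.1 = M.1.filter (fun B => B.lev ≤ L) ∧ ¬ ∃ ε, Blk.cy L ε ∈ M.1 := by
  unfold prevPart at h
  split_ifs at h with hc
  · exact ⟨(congrArg Subtype.val (Sum.inl.inj h)).symm, hc⟩

theorem prev_inr {o : Bool} {L : ℕ} {v : Bool} {M : CM o (L + 1) v} {P : CM o L true} (h : prevPart M = .inr P) :
    P.1 = M.1.filter (fun B => B.lev ≤ L) ∧ M.1.count (.pr (2 * L + 2) true) = 0 ∧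
      M.1.count (.cy (L + 1) true) = 0 := by
  unfold prevPart at h
  split_ifs at h with hc
  · obtain ⟨ε, hε⟩ := hc
    exact ⟨(congrArg Subtype.val (Sum.inr.inj h)).symm,
      Multiset.count_eq_zero.2 fun e => M.2.1.padj _ e L ε (Or.inl rfl) hε,
      Multiset.count_eq_zero.2 fun e => M.2.1.cadj L e ε hε⟩

/-- The optional bit of the pairs of odd size. -/
def wOpt (L : ℕ) : ℕ ⊕ ℕ → ℕ :=
  Sum.elim (fun a => (2 * L + 3) * a) fun a => (2 * L + 3) * a + (2 * L + 3)

theorem bd_cm_false (hx : 0 ≤ x) (hx1 : x < 1) (o : Bool) (L : ℕ)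
    (ih : ∀ v, (∀ n, Finite {M : CM o L v // wCM M = n}) ∧
      Bd x (if v then fB o x L else fA o x L) (gser (wCM : CM o L v → ℕ))) :
    (∀ n, Finite {M : CM o (L + 1) false // wCM M = n}) ∧
      Bd x (fA o x (L + 1)) (gser (wCM : CM o (L + 1) false → ℕ)) := by
  classical
  obtain ⟨f0, b0⟩ := ih false
  obtain ⟨f1, b1⟩ := ih true
  rw [if_neg Bool.false_ne_true] at b0
  rw [if_pos rfl] at b1
  have hodd := bd_mult (c := 2 * L + 3) hx hx1 (by omega)
  have heven := bd_mult (c := 2 * L + 4) hx hx1 (by omega)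
  haveI := finite_mul_fibre (show 0 < 2 * L + 3 by omega)
  haveI := finite_mul_fibre (show 0 < 2 * L + 4 by omega)
  haveI := fun n => finite_shift (w := fun a : ℕ => (2 * L + 3) * a) (2 * L + 3) n
  haveI : ∀ n, Finite {z // wOpt L z = n} := fun n =>
    finite_sum_fibre (fun a : ℕ => (2 * L + 3) * a) (fun a : ℕ => (2 * L + 3) * a + (2 * L + 3)) n
  have hopt : Bd x (gl x (2 * L + 3) + x ^ (2 * L + 3) * gl x (2 * L + 3)) (gser (wOpt L)) := by
    rw [wOpt, gser_sum, gser_shift (w := fun a : ℕ => (2 * L + 3) * a)]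
    exact bd_add hodd ((bd_pow hx _).mul hx hodd)
  haveI := finite_prod_fibre (wCM : CM o L false → ℕ) (wOpt L)
  haveI := finite_prod_fibre (wCM : CM o L true → ℕ) (fun a : ℕ => (2 * L + 3) * a)
  have hB := b0.mul hx hopt
  have hB' := b1.mul hx hodd
  rw [← gser_prod] at hB hB'
  have hS := bd_add hB hB'
  rw [← gser_sum] at hS
  let w1 : (CM o L false × (ℕ ⊕ ℕ)) ⊕ (CM o L true × ℕ) → ℕ := Sum.elim
    (fun p => wCM p.1 + wOpt L p.2) (fun p => wCM p.1 + (2 * L + 3) * p.2)
  haveI : ∀ n, Finite {z // w1 z = n} := fun n => finite_sum_fibre _ _ n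
  haveI := finite_prod_fibre w1 (fun a : ℕ => (2 * L + 4) * a)
  have hT := hS.mul hx heven
  rw [← gser_prod] at hT
  rw [fA]
  have hz : ∀ M : CM o (L + 1) false, ∀ ε, M.1.count (.cy (L + 1) ε) = 0 := fun M ε =>
    Multiset.count_eq_zero.2 fun e => Bool.noConfusion (M.2.2.2.2.1 ⟨ε, e⟩)
  let opt : CM o (L + 1) false → ℕ ⊕ ℕ := fun M =>
    if M.1.count (.pr (2 * L + 2) true) = 0 then .inl (M.1.count (.pr (2 * L + 2) false))
    else .inr (M.1.count (.pr (2 * L + 2) false))
  refine bd_of_inj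
    (w' := fun p : ((CM o L false × (ℕ ⊕ ℕ)) ⊕ (CM o L true × ℕ)) × ℕ => w1 p.1 + (2 * L + 4) * p.2)
    (fun M => ((prevPart M).map (fun P => (P, opt M)) (fun P => (P, M.1.count (.pr (2 * L + 2) false))),
      M.1.count (.pr (2 * L + 3) false))) (fun M M' e => ?_) (fun M => ?_) hx hT
  · simp only [Prod.mk.injEq] at e
    obtain ⟨e1, e2⟩ := e
    have hb := M.2.1.pbit (2 * L + 2)
    have hb' := M'.2.1.pbit (2 * L + 2)
    refine Subtype.ext ?_
    rcases hP : prevPart M with P | P <;> rcases hP' : prevPart M' with P' | P' <;>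
      rw [hP, hP'] at e1 <;> simp only [Sum.map_inl, Sum.map_inr, Sum.inl.injEq, Sum.inr.injEq,
        Prod.mk.injEq, reduceCtorEq] at e1
    · obtain ⟨rfl, e3⟩ := e1
      refine eq_of_top M.2.1 M'.2.1 M.2.2.2.1 M'.2.2.2.1 ((prev_inl hP).1.symm.trans (prev_inl hP').1) ?_
      simp only [opt] at e3
      split_ifs at e3 <;> simp only [Sum.inl.injEq, Sum.inr.injEq, reduceCtorEq] at e3
      all_goals
        simp [hz, e2, e3]
        omega
    · obtain ⟨rfl, e3⟩ := e1
      refine eq_of_top M.2.1 M'.2.1 M.2.2.2.1 M'.2.2.2.1 ((prev_inr hP).1.symm.trans (prev_inr hP').1) ?_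
      simp [hz, e2, e3, (prev_inr hP).2.1, (prev_inr hP').2.1]
  · show w1 _ + _ = wM M.1
    have hb := M.2.1.pbit (2 * L + 2)
    rw [wM_top M.2.1 M.2.2.2.1, hz M, hz M]
    rcases hP : prevPart M with P | P
    · rw [← (prev_inl hP).1]
      show wM P.1 + wOpt L (opt M) + _ = _
      simp only [opt, wOpt]
      split_ifs with h0 <;> simp only [Sum.elim_inl, Sum.elim_inr]
      · rw [h0]; ring
      · rw [show M.1.count (.pr (2 * L + 2) true) = 1 by omega]; ring
    · rw [← (prev_inr hP).1, (prev_inr hP).2.1]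
      show wM P.1 + _ + _ = _
      ring

theorem bd_cm_true (hx : 0 ≤ x) (hx1 : x < 1) (o : Bool) (L : ℕ)
    (ih : ∀ v, (∀ n, Finite {M : CM o L v // wCM M = n}) ∧
      Bd x (if v then fB o x L else fA o x L) (gser (wCM : CM o L v → ℕ))) :
    (∀ n, Finite {M : CM o (L + 1) true // wCM M = n}) ∧
      Bd x (fB o x (L + 1)) (gser (wCM : CM o (L + 1) true → ℕ)) := by
  classical
  obtain ⟨f0, b0⟩ := ih false
  obtain ⟨f1, b1⟩ := ih true
  rw [if_neg Bool.false_ne_true] at b0
  rw [if_pos rfl] at b1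
  have hodd := bd_mult (c := 2 * L + 3) hx hx1 (by omega)
  have heven := bd_mult (c := 2 * L + 4) hx hx1 (by omega)
  haveI := finite_mul_fibre (show 0 < 2 * L + 3 by omega)
  haveI := finite_mul_fibre (show 0 < 2 * L + 4 by omega)
  haveI := (bd_w12 hx (L + 2)).1
  have h12 := (bd_w12 hx (L + 2)).2
  rw [show 2 * (L + 2) = 2 * L + 4 by ring] at h12
  have h12' : Bd x (2 * (x ^ (L + 2) + x ^ (2 * L + 4)))
      (gser (Sum.elim (w12 (L + 2)) (w12 (L + 2)))) := by
    rw [gser_sum, two_mul (x ^ (L + 2) + x ^ (2 * L + 4))]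
    exact bd_add h12 h12
  haveI : ∀ n, Finite {z : One2 ⊕ One2 // Sum.elim (w12 (L + 2)) (w12 (L + 2)) z = n} := fun n => inferInstance
  haveI := finite_prod_fibre (wCM : CM o L false → ℕ) (Sum.elim (w12 (L + 2)) (w12 (L + 2)))
  haveI := finite_prod_fibre (wCM : CM o L true → ℕ) (w12 (L + 2))
  have hB := b0.mul hx h12'
  have hB' := b1.mul hx h12
  rw [← gser_prod] at hB hB'
  have hS := bd_add hB hB'
  rw [← gser_sum] at hS
  let w1 : (CM o L false × (One2 ⊕ One2)) ⊕ (CM o L true × One2) → ℕ := Sum.elim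
    (fun p => wCM p.1 + Sum.elim (w12 (L + 2)) (w12 (L + 2)) p.2) (fun p => wCM p.1 + w12 (L + 2) p.2)
  haveI : ∀ n, Finite {z // w1 z = n} := fun n => finite_sum_fibre _ _ n
  haveI := finite_prod_fibre w1 (fun a : ℕ => (2 * L + 3) * a)
  have hT := hS.mul hx hodd
  rw [← gser_prod] at hT
  let w2 : ((CM o L false × (One2 ⊕ One2)) ⊕ (CM o L true × One2)) × ℕ → ℕ :=
    fun p => w1 p.1 + (2 * L + 3) * p.2
  haveI : ∀ n, Finite {z // w2 z = n} := fun n => finite_prod_fibre w1 (fun a : ℕ => (2 * L + 3) * a) n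
  haveI := finite_prod_fibre w2 (fun a : ℕ => (2 * L + 4) * a)
  have hU := hT.mul hx heven
  rw [← gser_prod] at hU
  rw [fB]
  have hz : ∀ M : CM o (L + 1) true, M.1.count (.pr (2 * L + 2) true) = 0 := fun M => by
    obtain ⟨ε, hε⟩ := M.2.2.2.2.2 rfl
    exact Multiset.count_eq_zero.2 fun e => M.2.1.padj _ e (L + 1) ε (Or.inr (by ring)) hε
  have hv : ∀ M : CM o (L + 1) true,
      1 ≤ M.1.count (.cy (L + 1) true) + M.1.count (.cy (L + 1) false) ∧
      M.1.count (.cy (L + 1) true) + M.1.count (.cy (L + 1) false) ≤ 2 ∧ M.1.count (.cy (L + 1) true) ≤ 1 :=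
    fun M => by
      obtain ⟨ε, hε⟩ := M.2.2.2.2.2 rfl
      refine ⟨?_, M.2.1.two _, M.2.1.cbit _⟩
      have := Multiset.count_pos.2 hε
      cases ε <;> omega
  let tot : CM o (L + 1) true → One2 := fun M =>
    if M.1.count (.cy (L + 1) true) + M.1.count (.cy (L + 1) false) = 1 then .inl () else .inr ()
  let bit : CM o (L + 1) true → One2 ⊕ One2 := fun M =>
    if M.1.count (.cy (L + 1) true) = 0 then .inl (tot M) else .inr (tot M)
  have htot : ∀ M, w12 (L + 2) (tot M) =
      (L + 2) * M.1.count (.cy (L + 1) true) + (L + 2) * M.1.count (.cy (L + 1) false) := fun M => by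
    simp only [tot]
    split_ifs with h1
    · rw [← Nat.mul_add, h1]; simp [w12]
    · rw [← Nat.mul_add, show M.1.count (.cy (L + 1) true) + M.1.count (.cy (L + 1) false) = 2 by
        have := hv M; omega]
      simp [w12, mul_comm]
  have htt : ∀ M M', tot M = tot M' → M.1.count (.cy (L + 1) true) + M.1.count (.cy (L + 1) false) =
      M'.1.count (.cy (L + 1) true) + M'.1.count (.cy (L + 1) false) := fun M M' e => by
    have := hv M
    have := hv M'
    simp only [tot] at e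
    split_ifs at e <;> first | omega | exact absurd e (by simp)
  refine bd_of_inj
    (w' := fun p : (((CM o L false × (One2 ⊕ One2)) ⊕ (CM o L true × One2)) × ℕ) × ℕ => w2 p.1 + (2 * L + 4) * p.2)
    (fun M => (((prevPart M).map (fun P => (P, bit M)) (fun P => (P, tot M)),
      M.1.count (.pr (2 * L + 2) false)), M.1.count (.pr (2 * L + 3) false)))
    (fun M M' e => ?_) (fun M => ?_) hx hU
  · simp only [Prod.mk.injEq] at e
    obtain ⟨⟨e1, e4⟩, e2⟩ := e
    have := hv M
    have := hv M'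
    refine Subtype.ext ?_
    rcases hP : prevPart M with P | P <;> rcases hP' : prevPart M' with P' | P' <;>
      rw [hP, hP'] at e1 <;> simp only [Sum.map_inl, Sum.map_inr, Sum.inl.injEq, Sum.inr.injEq,
        Prod.mk.injEq, reduceCtorEq] at e1
    · obtain ⟨rfl, e3⟩ := e1
      refine eq_of_top M.2.1 M'.2.1 M.2.2.2.1 M'.2.2.2.1 ((prev_inl hP).1.symm.trans (prev_inl hP').1) ?_
      simp only [bit] at e3
      split_ifs at e3 <;> simp only [Sum.inl.injEq, Sum.inr.injEq, reduceCtorEq] at e3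
      all_goals
        have := htt M M' e3
        simp [hz, e2, e4]
        omega
    · obtain ⟨rfl, e3⟩ := e1
      refine eq_of_top M.2.1 M'.2.1 M.2.2.2.1 M'.2.2.2.1 ((prev_inr hP).1.symm.trans (prev_inr hP').1) ?_
      have := htt M M' e3
      have := (prev_inr hP).2.2
      have := (prev_inr hP').2.2
      simp [hz, e2, e4]
      omega
  · show w2 _ + _ = wM M.1
    rw [wM_top M.2.1 M.2.2.2.1, hz M, ← htot M]
    rcases hP : prevPart M with P | P
    · rw [← (prev_inl hP).1]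
      show wM P.1 + Sum.elim (w12 (L + 2)) (w12 (L + 2)) (bit M) + _ + _ = _
      simp only [bit]
      split_ifs <;> simp only [Sum.elim_inl, Sum.elim_inr] <;> ring
    · rw [← (prev_inr hP).1]
      show wM P.1 + _ + _ + _ = _
      ring

/-- The bound at every level. -/
theorem bd_cm (hx : 0 ≤ x) (hx1 : x < 1) (o : Bool) : ∀ (L : ℕ) (v : Bool),
    (∀ n, Finite {M : CM o L v // wCM M = n}) ∧ Bd x (if v then fB o x L else fA o x L) (gser (wCM : CM o L v → ℕ))
  | 0, v => bd_cm_zero hx hx1 o v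
  | L + 1, false => bd_cm_false hx hx1 o L fun v => bd_cm hx hx1 o L v
  | L + 1, true => bd_cm_true hx hx1 o L fun v => bd_cm hx hx1 o L v

theorem gl_pos {c : ℕ} (hx : 0 ≤ x) (hx1 : x < 1) (hc : 0 < c) : 0 < gl x c := by
  have := pow_lt_one₀ hx hx1 hc.ne'
  exact one_div_pos.2 (by linarith)

theorem gl_mono {y : ℚ} {c : ℕ} (hx : 0 ≤ x) (hxy : x ≤ y) (hy : y < 1) (hc : 0 < c) : gl x c ≤ gl y c := by
  have := pow_lt_one₀ (hx.trans hxy) hy hc.ne'
  have := pow_le_pow_left₀ hx hxy c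
  exact one_div_le_one_div_of_le (by linarith) (by linarith)

theorem f_mono {y : ℚ} (o : Bool) (hx : 0 ≤ x) (hxy : x ≤ y) (hy : y < 1) :
    ∀ L, (0 ≤ fA o x L ∧ 0 ≤ fB o x L) ∧ fA o x L ≤ fA o y L ∧ fB o x L ≤ fB o y L := by
  have hx1 : x < 1 := hxy.trans_lt hy
  have hp : ∀ k, 0 ≤ x ^ k ∧ x ^ k ≤ y ^ k := fun k => ⟨pow_nonneg hx k, pow_le_pow_left₀ hx hxy k⟩
  have hg : ∀ c, 0 < c → 0 ≤ gl x c ∧ gl x c ≤ gl y c := fun c hc =>
    ⟨(gl_pos hx hx1 hc).le, gl_mono hx hxy hy hc⟩
  intro L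
  induction L with
  | zero =>
    obtain ⟨g1, g2⟩ := hg 2 (by omega)
    obtain ⟨p1, p2⟩ := hp 2
    have := hx.trans hxy
    simp only [fA, fB]
    cases o <;> simp only [Bool.false_eq_true, if_false, if_true, add_zero, one_mul]
    · exact ⟨⟨g1, by positivity⟩, g2, mul_le_mul (by linarith) g2 g1 (by linarith)⟩
    · exact ⟨⟨by positivity, by positivity⟩, mul_le_mul (by linarith) g2 g1 (by linarith),
        mul_le_mul (by linarith) g2 g1 (by linarith)⟩
  | succ L ih =>
    obtain ⟨⟨a0, b0⟩, a1, b1⟩ := ih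
    obtain ⟨g1, g2⟩ := hg (2 * L + 3) (by omega)
    obtain ⟨k1, k2⟩ := hg (2 * L + 4) (by omega)
    obtain ⟨p1, p2⟩ := hp (2 * L + 3)
    obtain ⟨q1, q2⟩ := hp (L + 2)
    obtain ⟨r1, r2⟩ := hp (2 * L + 4)
    have := a0.trans a1
    have := b0.trans b1
    have := g1.trans g2
    have := p1.trans p2
    have := q1.trans q2
    have := r1.trans r2
    simp only [fA, fB]
    refine ⟨⟨by positivity, by positivity⟩, ?_, ?_⟩ <;> gcongr

/-- The value of `g` used in the numeric steps. -/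
def ga (a b : ℚ) (L : ℕ) : ℚ :=
  (a * (gl (1 / 2) (2 * L + 3) + (1 / 2) ^ (2 * L + 3) * gl (1 / 2) (2 * L + 3)) + b * gl (1 / 2) (2 * L + 3)) *
    gl (1 / 2) (2 * L + 4)

/-- The same for the second state. -/
def gb (a b : ℚ) (L : ℕ) : ℚ :=
  (a * (2 * ((1 / 2) ^ (L + 2) + (1 / 2) ^ (2 * L + 4))) + b * ((1 / 2) ^ (L + 2) + (1 / 2) ^ (2 * L + 4))) *
    gl (1 / 2) (2 * L + 3) * gl (1 / 2) (2 * L + 4)

theorem ub_step {o : Bool} {L : ℕ} {a b a' b' : ℚ} (ha : fA o (1 / 2) L ≤ a) (hb : fB o (1 / 2) L ≤ b) (h1 : ga a b L ≤ a')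
    (h2 : gb a b L ≤ b') : fA o (1 / 2) (L + 1) ≤ a' ∧ fB o (1 / 2) (L + 1) ≤ b' := by
  have := gl_pos (x := (1 / 2 : ℚ)) (c := 2 * L + 3) (by norm_num) (by norm_num) (by omega)
  have := gl_pos (x := (1 / 2 : ℚ)) (c := 2 * L + 4) (by norm_num) (by norm_num) (by omega)
  refine ⟨le_trans ?_ h1, le_trans ?_ h2⟩
  · simp only [fA, ga]; gcongr
  · simp only [fB, gb]; gcongr

theorem ub_zero : fA false (1 / 2) 0 ≤ 4 / 3 ∧ fB false (1 / 2) 0 ≤ 1 := by
  constructor <;> norm_num [fA, fB, gl]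

theorem ub_zero' : fA true (1 / 2) 0 ≤ 2 ∧ fB true (1 / 2) 0 ≤ 2 := by
  constructor <;> norm_num [fA, fB, gl]

/-- The numeric bound from the value at level `15`. -/
theorem fsum_le_of (o : Bool) {c : ℚ} (h15 : fA o (1 / 2) 15 + fB o (1 / 2) 15 ≤ c) (hc : 0 ≤ c) (L : ℕ) :
    fA o (1 / 2) L + fB o (1 / 2) L ≤ c * (1 + 1 / 10000) := by
  have hnn := fun L => (f_mono o (x := (1 / 2 : ℚ)) (y := 1 / 2) (by norm_num) le_rfl (by norm_num) L).1
  set S : ℕ → ℚ := fun L => fA o (1 / 2) L + fB o (1 / 2) L with hS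
  have hS15 : S 15 ≤ c := h15
  have hstep : ∀ L, 14 ≤ L → S L ≤ S (L + 1) ∧ S (L + 1) * (1 - 4 * (1 / 2) ^ (L + 2)) ≤ S L := by
    intro L hL
    obtain ⟨a0, b0⟩ := hnn L
    obtain ⟨y, hy⟩ : ∃ y : ℚ, y = (1 / 2) ^ (L + 2) := ⟨_, rfl⟩
    have hy0 : 0 < y := hy ▸ by positivity
    have hy1 : y ≤ 1 / 1000 := hy ▸ (pow_le_pow_of_le_one (by norm_num) (by norm_num) (show 16 ≤ L + 2 by omega)).trans
      (by norm_num)
    have e4 : ((1 : ℚ) / 2) ^ (2 * L + 4) = y * y := by rw [hy, ← pow_add]; ring_nf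
    have e3 : ((1 : ℚ) / 2) ^ (2 * L + 3) = 2 * (y * y) := by rw [← e4, pow_succ _ (2 * L + 3)]; ring
    have g1 : gl (1 / 2) (2 * L + 3) = 1 / (1 - 2 * (y * y)) := by rw [gl, e3]
    have g2 : gl (1 / 2) (2 * L + 4) = 1 / (1 - y * y) := by rw [gl, e4]
    have d1 : 0 < 1 - 2 * (y * y) := by nlinarith
    have d2 : 0 < 1 - y * y := by nlinarith
    set a := fA o (1 / 2) L
    set b := fB o (1 / 2) L
    obtain ⟨P, hP⟩ : ∃ P : ℚ, P = 1 / (1 - 2 * (y * y)) * (1 / (1 - y * y)) := ⟨_, rfl⟩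
    have hP0 : 0 < P := hP ▸ by positivity
    have hP1 : P * ((1 - 2 * (y * y)) * (1 - y * y)) = 1 := by
      rw [hP, div_mul_div_comm, one_mul, one_div, inv_mul_cancel₀ (mul_ne_zero d1.ne' d2.ne')]
    have e : S (L + 1) = (a * (1 + 2 * (y * y) + 2 * (y + y * y)) + b * (1 + (y + y * y))) * P := by
      simp only [hS, fA, fB, g1, g2, e3, e4, ← hy, hP]
      ring
    rw [e, ← hy]
    constructor
    · have hP2 : 1 ≤ P := by
        rw [← hP1]
        calc P * ((1 - 2 * (y * y)) * (1 - y * y)) ≤ P * 1 := by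
              refine mul_le_mul_of_nonneg_left ?_ hP0.le
              nlinarith
          _ = P := mul_one P
      calc S L = (a * 1 + b * 1) * 1 := by rw [mul_one, mul_one, mul_one]
        _ ≤ _ := by
          gcongr
          · nlinarith
          · nlinarith
    · have hc : (1 + 2 * (y * y) + 2 * (y + y * y)) * (1 - 4 * y) ≤ (1 - 2 * (y * y)) * (1 - y * y) := by nlinarith
      have hc' : (1 + (y + y * y)) * (1 - 4 * y) ≤ (1 - 2 * (y * y)) * (1 - y * y) := by nlinarith
      calc (a * (1 + 2 * (y * y) + 2 * (y + y * y)) + b * (1 + (y + y * y))) * P * (1 - 4 * y)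
          = P * (a * ((1 + 2 * (y * y) + 2 * (y + y * y)) * (1 - 4 * y)) + b * ((1 + (y + y * y)) * (1 - 4 * y))) := by
            ring
        _ ≤ P * (a * ((1 - 2 * (y * y)) * (1 - y * y)) + b * ((1 - 2 * (y * y)) * (1 - y * y))) := by gcongr
        _ = (a + b) * (P * ((1 - 2 * (y * y)) * (1 - y * y))) := by ring
        _ = S L := by rw [hP1, mul_one]
  have key : ∀ L, 15 ≤ L → S L * (1 - 8 * ((1 / 2) ^ 17 - (1 / 2) ^ (L + 2))) ≤ S 15 := by
    intro L hL
    induction L, hL using Nat.le_induction with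
    | base => norm_num
    | succ L hL ih =>
      refine le_trans ?_ ih
      obtain ⟨-, h2⟩ := hstep L (by omega)
      obtain ⟨z, hz⟩ : ∃ z : ℚ, z = (1 / 2) ^ (L + 2) := ⟨_, rfl⟩
      have hz0 : 0 < z := hz ▸ by positivity
      have hz1 : z ≤ (1 / 2) ^ 17 := hz ▸ pow_le_pow_of_le_one (by norm_num) (by norm_num) (by omega)
      have e : ((1 : ℚ) / 2) ^ (L + 1 + 2) = z / 2 := by rw [hz, pow_succ _ (L + 2)]; ring
      rw [e, ← hz]
      rw [← hz] at h2
      have hS1 : 0 ≤ S (L + 1) := add_nonneg (hnn _).1 (hnn _).2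
      have hw : 0 ≤ 1 - 8 * ((1 / 2 : ℚ) ^ 17 - z) := by
        have : ((1 : ℚ) / 2) ^ 17 ≤ 1 / 8 := by norm_num
        linarith
      calc S (L + 1) * (1 - 8 * ((1 / 2) ^ 17 - z / 2))
          ≤ S (L + 1) * ((1 - 4 * z) * (1 - 8 * ((1 / 2) ^ 17 - z))) := by
            refine mul_le_mul_of_nonneg_left ?_ hS1
            nlinarith
        _ = S (L + 1) * (1 - 4 * z) * (1 - 8 * ((1 / 2) ^ 17 - z)) := by ring
        _ ≤ S L * (1 - 8 * ((1 / 2) ^ 17 - z)) := mul_le_mul_of_nonneg_right h2 hw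
  show S L ≤ _
  rcases Nat.lt_or_ge L 15 with hL | hL
  · have hmono : ∀ L, S L ≤ S (L + 1) := by
      intro L
      obtain ⟨a0, b0⟩ := hnn L
      have t1 := gl_pos (x := (1 / 2 : ℚ)) (c := 2 * L + 3) (by norm_num) (by norm_num) (by omega)
      have t2 := gl_pos (x := (1 / 2 : ℚ)) (c := 2 * L + 4) (by norm_num) (by norm_num) (by omega)
      have u : ∀ c, 0 < c → 1 ≤ gl (1 / 2 : ℚ) c := fun c hc => by
        have := pow_lt_one₀ (show (0 : ℚ) ≤ 1 / 2 by norm_num) (by norm_num) hc.ne'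
        rw [gl, le_div_iff₀ (by linarith), one_mul]
        have : (0 : ℚ) ≤ (1 / 2) ^ c := by positivity
        linarith
      have u1 := u (2 * L + 3) (by omega)
      have u2 := u (2 * L + 4) (by omega)
      calc S L = (fA o (1 / 2) L * (1 + 0) + fB o (1 / 2) L * 1) * 1 + 0 := by simp [hS]
        _ ≤ S (L + 1) := by
          simp only [hS, fA, fB]
          gcongr <;> positivity
    exact (monotone_nat_of_le_succ hmono hL.le).trans (hS15.trans (by linarith))
  · have h := key L hL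
    have : (0 : ℚ) ≤ (1 / 2) ^ (L + 2) := by positivity
    have := add_nonneg (hnn L).1 (hnn L).2
    have h17 : ((1 : ℚ) / 2) ^ 17 = 1 / 131072 := by norm_num
    rw [h17] at h
    nlinarith


/-- The numeric bound without bits on the smallest blocks. -/
theorem fsum_le (L : ℕ) : fA false (1 / 2) L + fB false (1 / 2) L ≤ 759 / 100 := by
  have u1 : fA false (1/2) 1 ≤ 152381/50000 ∧ fB false (1/2) 1 ≤ 698413/500000 := ub_step ub_zero.1 ub_zero.2 (by norm_num [ga, gb, gl]) (by norm_num [ga, gb, gl])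
  have u2 : fA false (1/2) 2 ≤ 4760509/1000000 ∧ fB false (1/2) 2 ≤ 1104821/1000000 := ub_step u1.1 u1.2 (by norm_num [ga, gb, gl]) (by norm_num [ga, gb, gl])
  have u3 : fA false (1/2) 3 ≤ 746541/125000 ∧ fB false (1/2) 3 ≤ 44623/62500 := ub_step u2.1 u2.2 (by norm_num [ga, gb, gl]) (by norm_num [ga, gb, gl])
  have u4 : fA false (1/2) 4 ≤ 6717629/1000000 ∧ fB false (1/2) 4 ≤ 204571/500000 := ub_step u3.1 u3.2 (by norm_num [ga, gb, gl]) (by norm_num [ga, gb, gl])
  have u5 : fA false (1/2) 5 ≤ 7135277/1000000 ∧ fB false (1/2) 5 ≤ 10993/50000 := ub_step u4.1 u4.2 (by norm_num [ga, gb, gl]) (by norm_num [ga, gb, gl])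
  have u6 : fA false (1/2) 6 ≤ 1839339/250000 ∧ fB false (1/2) 6 ≤ 1783/15625 := ub_step u5.1 u5.2 (by norm_num [ga, gb, gl]) (by norm_num [ga, gb, gl])
  have u7 : fA false (1/2) 7 ≤ 1494407/200000 ∧ fB false (1/2) 7 ≤ 11631/200000 := ub_step u6.1 u6.2 (by norm_num [ga, gb, gl]) (by norm_num [ga, gb, gl])
  have u8 : fA false (1/2) 8 ≤ 3765167/500000 ∧ fB false (1/2) 8 ≤ 29359/1000000 := ub_step u7.1 u7.2 (by norm_num [ga, gb, gl]) (by norm_num [ga, gb, gl])
  have u9 : fA false (1/2) 9 ≤ 7559729/1000000 ∧ fB false (1/2) 9 ≤ 14751/1000000 := ub_step u8.1 u8.2 (by norm_num [ga, gb, gl]) (by norm_num [ga, gb, gl])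
  have u10 : fA false (1/2) 10 ≤ 757449/100000 ∧ fB false (1/2) 10 ≤ 3697/500000 := ub_step u9.1 u9.2 (by norm_num [ga, gb, gl]) (by norm_num [ga, gb, gl])
  have u11 : fA false (1/2) 11 ≤ 7581887/1000000 ∧ fB false (1/2) 11 ≤ 1851/500000 := ub_step u10.1 u10.2 (by norm_num [ga, gb, gl]) (by norm_num [ga, gb, gl])
  have u12 : fA false (1/2) 12 ≤ 758559/100000 ∧ fB false (1/2) 12 ≤ 463/250000 := ub_step u11.1 u11.2 (by norm_num [ga, gb, gl]) (by norm_num [ga, gb, gl])
  have u13 : fA false (1/2) 13 ≤ 7587443/1000000 ∧ fB false (1/2) 13 ≤ 927/1000000 := ub_step u12.1 u12.2 (by norm_num [ga, gb, gl]) (by norm_num [ga, gb, gl])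
  have u14 : fA false (1/2) 14 ≤ 7588371/1000000 ∧ fB false (1/2) 14 ≤ 29/62500 := ub_step u13.1 u13.2 (by norm_num [ga, gb, gl]) (by norm_num [ga, gb, gl])
  have u15 : fA false (1/2) 15 ≤ 1897209/250000 ∧ fB false (1/2) 15 ≤ 29/125000 := ub_step u14.1 u14.2 (by norm_num [ga, gb, gl]) (by norm_num [ga, gb, gl])
  exact (fsum_le_of false (c := 7589068 / 1000000) ((add_le_add u15.1 u15.2).trans (by norm_num)) (by norm_num) L).trans (by norm_num)

/-- The numeric bound with them. -/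
theorem fsum_le' (L : ℕ) : fA true (1 / 2) L + fB true (1 / 2) L ≤ 1277 / 100 := by
  have u1 : fA true (1/2) 1 ≤ 5180953/1000000 ∧ fB true (1/2) 1 ≤ 457143/200000 := ub_step ub_zero'.1 ub_zero'.2 (by norm_num [ga, gb, gl]) (by norm_num [ga, gb, gl])
  have u2 : fA true (1/2) 2 ≤ 7999651/1000000 ∧ fB true (1/2) 2 ≤ 1865087/1000000 := ub_step u1.1 u1.2 (by norm_num [ga, gb, gl]) (by norm_num [ga, gb, gl])
  have u3 : fA true (1/2) 3 ≤ 62779/6250 ∧ fB true (1/2) 3 ≤ 1200337/1000000 := ub_step u2.1 u2.2 (by norm_num [ga, gb, gl]) (by norm_num [ga, gb, gl])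
  have u4 : fA true (1/2) 4 ≤ 11297673/1000000 ∧ fB true (1/2) 4 ≤ 344053/500000 := ub_step u3.1 u3.2 (by norm_num [ga, gb, gl]) (by norm_num [ga, gb, gl])
  have u5 : fA true (1/2) 5 ≤ 3000021/250000 ∧ fB true (1/2) 5 ≤ 2311/6250 := ub_step u4.1 u4.2 (by norm_num [ga, gb, gl]) (by norm_num [ga, gb, gl])
  have u6 : fA true (1/2) 6 ≤ 494943/40000 ∧ fB true (1/2) 6 ≤ 191913/1000000 := ub_step u5.1 u5.2 (by norm_num [ga, gb, gl]) (by norm_num [ga, gb, gl])
  have u7 : fA true (1/2) 7 ≤ 12566441/1000000 ∧ fB true (1/2) 7 ≤ 24451/250000 := ub_step u6.1 u6.2 (by norm_num [ga, gb, gl]) (by norm_num [ga, gb, gl])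
  have u8 : fA true (1/2) 8 ≤ 6332243/500000 ∧ fB true (1/2) 8 ≤ 1543/31250 := ub_step u7.1 u7.2 (by norm_num [ga, gb, gl]) (by norm_num [ga, gb, gl])
  have u9 : fA true (1/2) 9 ≤ 12713923/1000000 ∧ fB true (1/2) 9 ≤ 3101/125000 := ub_step u8.1 u8.2 (by norm_num [ga, gb, gl]) (by norm_num [ga, gb, gl])
  have u10 : fA true (1/2) 10 ≤ 12738747/1000000 ∧ fB true (1/2) 10 ≤ 2487/200000 := ub_step u9.1 u9.2 (by norm_num [ga, gb, gl]) (by norm_num [ga, gb, gl])
  have u11 : fA true (1/2) 11 ≤ 6375593/500000 ∧ fB true (1/2) 11 ≤ 249/40000 := ub_step u10.1 u10.2 (by norm_num [ga, gb, gl]) (by norm_num [ga, gb, gl])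
  have u12 : fA true (1/2) 12 ≤ 3189353/250000 ∧ fB true (1/2) 12 ≤ 623/200000 := ub_step u11.1 u11.2 (by norm_num [ga, gb, gl]) (by norm_num [ga, gb, gl])
  have u13 : fA true (1/2) 13 ≤ 797533/62500 ∧ fB true (1/2) 13 ≤ 779/500000 := ub_step u12.1 u12.2 (by norm_num [ga, gb, gl]) (by norm_num [ga, gb, gl])
  have u14 : fA true (1/2) 14 ≤ 12762087/1000000 ∧ fB true (1/2) 14 ≤ 779/1000000 := ub_step u13.1 u13.2 (by norm_num [ga, gb, gl]) (by norm_num [ga, gb, gl])
  have u15 : fA true (1/2) 15 ≤ 12762867/1000000 ∧ fB true (1/2) 15 ≤ 39/100000 := ub_step u14.1 u14.2 (by norm_num [ga, gb, gl]) (by norm_num [ga, gb, gl])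
  exact (fsum_le_of true (c := 12763257 / 1000000) ((add_le_add u15.1 u15.2).trans (by norm_num)) (by norm_num) L).trans (by norm_num)

end H49.Unip2
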