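import Cfsg.Agent.H49.Unip2Match
import Cfsg.Agent.H49.Unip2Series

/-!
Unipotent isometries of quadratic forms in characteristic two: blocks with values of the form.
-/

set_option autoImplicit false
set_option linter.unusedSectionVars false

namespace H49.Unip2

open Submodule

variable {F : Type*} [Field F] [CharP F 2] {V : Type*} [AddCommGroup V] [Module F V]
  {f : LinearMap.BilinForm F V} {X : Module.End F V} {Q : V → F} {dl : F}

/-- A quadratic form preserved by `1 + X`, with polar form `f`. -/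
structure OF (Q : V → F) (f : LinearMap.BilinForm F V) (X : Module.End F V) : Prop where
  uf : UF f X
  smul : ∀ (c : F) x, Q (c • x) = c ^ 2 * Q x
  add : ∀ x y, Q (x + y) = Q x + Q y + f x y
  inv : ∀ x, Q (X x) = f x (X x)

theorem OF.zero (h : OF Q f X) : Q 0 = 0 := by
  have := h.smul 0 0
  simpa using this

theorem OF.pow_succ (h : OF Q f X) (j : ℕ) (v : V) : Q ((X ^ (j + 1)) v) = ph f X j v := by
  rw [ph, D, h.uf.symm, _root_.pow_succ', Module.End.mul_apply, h.inv]

/-- Forgetting the bits which live on the form only. -/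
def Blk.strip : Blk → Blk
  | .cy k ε => .cy k (ε && k != 0)
  | .pr n ε => .pr n (ε && n != 0)

/-- The value of the form on a generator of a cyclic block. -/
def qV (dl : F) (k : ℕ) (ε : Bool) : F := if k = 0 ∧ ε = true then dl else 0

/-- The value of the form on a generator of a pair. -/
def qW (x : F) (n : ℕ) (ε : Bool) : F := if n = 0 ∧ ε = true then x else 0

/-- `S` is a block of type `B` for the quadratic form. -/
def OBlk (dl : F) (Q : V → F) (f : LinearMap.BilinForm F V) (X : Module.End F V) : Blk → Submodule F V → Prop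
  | .cy k ε, S => ∃ v, RV dl f X k (ε && k != 0) v ∧ Q v = qV dl k ε ∧ S = Sp X (2 * k + 1) ![v]
  | .pr n ε, S => (ε = true → Even n) ∧ ∃ v w, RW dl f X n (ε && n != 0) v w ∧ Q v = qW 1 n ε ∧ Q w = qW dl n ε ∧
      S = Sp X n ![v, w]

theorem OBlk.strip {B : Blk} {S : Submodule F V} (hB : OBlk dl Q f X B S) : IsBlk dl f X B.strip S := by
  cases B with
  | cy k ε =>
    obtain ⟨v, hv, -, hS⟩ := hB
    exact ⟨fun h => by simp at h; omega, v, hv, hS⟩
  | pr n ε =>
    obtain ⟨hn, v, w, hr, -, -, hS⟩ := hB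
    refine ⟨fun h => ?_, v, w, hr, hS⟩
    simp at h
    obtain ⟨r, hr⟩ := hn h.1
    exact ⟨⟨r, hr⟩, by omega⟩

theorem Blk.strip_of_pos {B : Blk} (h : 1 ≤ B.lev ∨ B.top ≠ 0 ∧ ∀ ε, B ≠ .cy 0 ε) : B.strip = B := by
  cases B with
  | cy k ε =>
    have : k ≠ 0 := by
      rintro rfl
      rcases h with h | h
      · simp [Blk.lev] at h
      · exact h.2 ε rfl
    simp [Blk.strip, this]
  | pr n ε =>
    have : n ≠ 0 := by
      rintro rfl
      rcases h with h | h
      · simp [Blk.lev] at h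
      · exact h.1 rfl
    simp [Blk.strip, this]

variable (h : OF Q f X) {W : Submodule F V} (hW : ∀ x ∈ W, X x ∈ W)

include h hW

theorem pow_mem_of {x : V} (hx : x ∈ W) : ∀ i, (X ^ i) x ∈ W := fun i => by
  induction i with
  | zero => exact hx
  | succ i ih => rw [_root_.pow_succ', Module.End.mul_apply]; exact hW _ ih

theorem fix_cy {k : ℕ} (hk : k ≠ 0) {ε : Bool} {v : V} (hvW : v ∈ W) (hv : RV dl f X k ε v) :
    ∃ S ≤ W, OBlk dl Q f X (.cy k ε) S := by
  obtain ⟨z, hz⟩ : ∃ z, z = Q v := ⟨_, rfl⟩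
  set e := 2 * k + 1 with he
  have hv0 := hv.kill
  have htop : D f X v v (2 * k + 1) 0 = 1 := by
    rw [← D_top h.uf hv0 v k (k + 1) (by omega)]
    exact (hv.val k).trans (by simp [tV])
  refine ⟨_, sp_le hW (g := ![v + z • (X ^ e) v]) fun a => by
    fin_cases a; exact add_mem hvW (W.smul_mem _ (pow_mem_of h hW hvW e)),
    v + z • (X ^ e) v, ⟨?_, fun j => ?_⟩, ?_, rfl⟩
  · rw [map_add, map_smul, hv0, pow_pow_apply, pow_ge_zero hv0 (by omega), smul_zero, add_zero]
  · rw [ph_add h.uf, ph_smul, ph_pow, D_smul_right, D_pow_right, ph_eq_zero h.uf hv0 (j := j + e) (by omega),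
      D_zero h.uf hv0 v _ _ (by omega), mul_zero, mul_zero, add_zero, add_zero, hv.val]
    rw [show (k != 0) = true by simpa using hk, Bool.and_true]
  · rw [h.add, h.smul, he, h.pow_succ, ph_eq_zero h.uf hv0 (j := 2 * k) (by omega), map_smul, smul_eq_mul]
    show Q v + z ^ 2 * 0 + z * D f X v v 0 (2 * k + 1) = _
    rw [D_swap h.uf, htop, hz, mul_zero, add_zero, mul_one, CharTwo.add_self_eq_zero, qV, if_neg fun hh => hk hh.1]

theorem fix_pr {n : ℕ} (hn : n ≠ 0) {ε : Bool} (hε : ε = true → Even n) {v w : V} (hvW : v ∈ W) (hwW : w ∈ W)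
    (hr : RW dl f X n ε v w) : ∃ S ≤ W, OBlk dl Q f X (.pr n ε) S := by
  have hv0 := hr.killv
  have hw0 := hr.killw
  have hz : ∀ x, 2 * x + 1 = n → ∀ y : F, tW y n ε x = 0 := fun x hx y => if_neg fun hh => by omega
  have hvv := RW.top_self h.uf hv0 fun x hx => by rw [hr.valv, hz x hx]
  have hww := RW.top_self h.uf hw0 fun x hx => by rw [hr.valw, hz x hx]
  have hvw : D f X v w n 0 = 1 := by rw [hr.pair, if_pos rfl]
  have hQn : ∀ u, (X ^ (n + 1)) u = 0 → (∀ x, 2 * x + 1 = n → ph f X x u = 0) → Q ((X ^ n) u) = 0 := by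
    intro u hu0 hu1
    obtain ⟨m, rfl⟩ : ∃ m, n = m + 1 := ⟨n - 1, by omega⟩
    rw [h.pow_succ]
    rcases Nat.lt_or_ge (m + 1) (2 * m + 1) with hlt | hge
    · exact ph_eq_zero h.uf hu0 (by omega)
    · exact hu1 m (by omega)
  obtain ⟨a, ha⟩ : ∃ a, a = v + Q v • (X ^ n) w := ⟨_, rfl⟩
  have ha0 : (X ^ (n + 1)) a = 0 := by
    rw [ha, map_add, map_smul, hv0, pow_pow_apply, pow_ge_zero hw0 (by omega), smul_zero, add_zero]
  have hap : ∀ i, D f X a w i 0 = if i = n then 1 else 0 := fun i => by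
    rw [ha, D_add_left, D_smul_left, D_pow_left, hr.pair]
    rcases Nat.eq_zero_or_pos i with rfl | hi
    · rw [Nat.zero_add, hww, mul_zero, add_zero]
    · rw [D_zero h.uf hw0 w 0 (i + n) (by omega), mul_zero, add_zero]
  have haj : ∀ j, ph f X j a = tW 1 n ε j := fun j => by
    rw [ha, ph_add h.uf, ph_smul, ph_pow, D_smul_right, D_pow_right, D_zero h.uf hv0 w _ _ (by omega),
      mul_zero, add_zero, hr.valv]
    rcases Nat.lt_or_ge n (2 * (j + n) + 1) with hlt | hge
    · rw [ph_eq_zero h.uf hw0 (by omega), mul_zero, add_zero]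
    · omega
  have haQ : Q a = 0 := by
    rw [ha, h.add, h.smul, hQn w hw0 (fun x hx => by rw [hr.valw, hz x hx]), map_smul, smul_eq_mul]
    show Q v + Q v ^ 2 * 0 + Q v * D f X v w 0 n = 0
    rw [D_top h.uf hv0 w n 0 (by omega), hvw, mul_zero, add_zero, mul_one, CharTwo.add_self_eq_zero]
  have haa := RW.top_self h.uf ha0 fun x hx => by rw [haj, hz x hx]
  obtain ⟨b, hb⟩ : ∃ b, b = w + Q w • (X ^ n) a := ⟨_, rfl⟩
  have hb0 : (X ^ (n + 1)) b = 0 := by
    rw [hb, map_add, map_smul, hw0, pow_pow_apply, pow_ge_zero ha0 (by omega), smul_zero, add_zero]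
  have haW : a ∈ W := ha ▸ add_mem hvW (W.smul_mem _ (pow_mem_of h hW hwW n))
  refine ⟨_, sp_le hW (g := ![a, b]) fun i => by
    fin_cases i; exacts [haW, hb ▸ add_mem hwW (W.smul_mem _ (pow_mem_of h hW haW n))],
    hε, a, b, ⟨ha0, hb0, fun i => ?_, fun j => ?_, fun j => ?_⟩, ?_, ?_, rfl⟩
  · rw [hb, D_add_right, D_smul_right, D_pow_right, Nat.zero_add, hap]
    rcases Nat.eq_zero_or_pos i with rfl | hi
    · rw [D_top h.uf ha0 a n 0 (by omega), haa, mul_zero, add_zero]
    · rw [D_zero h.uf ha0 a n i (by omega), mul_zero, add_zero]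
  · rw [haj, show (n != 0) = true by simpa using hn, Bool.and_true]
  · rw [hb, ph_add h.uf, ph_smul, ph_pow, D_smul_right, D_pow_right, D_zero h.uf hw0 a _ _ (by omega),
      mul_zero, add_zero, hr.valw, ph_eq_zero h.uf ha0 (j := j + n) (by omega), mul_zero, add_zero]
    rw [show (n != 0) = true by simpa using hn, Bool.and_true]
  · rw [haQ, qW, if_neg fun hh => hn hh.1]
  · rw [hb, h.add, h.smul, hQn a ha0 (fun x hx => by rw [haj, hz x hx]), map_smul, smul_eq_mul, qW,
      if_neg fun hh => hn hh.1]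
    show Q w + Q w ^ 2 * 0 + Q w * D f X w a 0 n = 0
    rw [D_swap h.uf, hap, if_pos rfl, mul_zero, add_zero, mul_one, CharTwo.add_self_eq_zero]

theorem cy_zero_blk {v : V} (ε : Bool) (hvW : v ∈ W) (hv : (X ^ 2) v = 0) (h1 : ph f X 0 v = 1)
    (h2 : Q v = qV dl 0 ε) : ∃ S ≤ W, OBlk dl Q f X (.cy 0 ε) S := by
  refine ⟨_, sp_le hW (g := ![v]) fun a => by fin_cases a; exact hvW, v, ⟨hv, fun j => ?_⟩, h2, rfl⟩
  rcases Nat.eq_zero_or_pos j with rfl | hj
  · rw [h1]; simp [tV]
  · rw [ph_eq_zero h.uf hv (by omega), tV, if_neg (by omega), if_neg fun hh => by omega]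

theorem pr_zero_blk {v w : V} (ε : Bool) (hvW : v ∈ W) (hwW : w ∈ W) (hv : X v = 0) (hw : X w = 0)
    (h1 : f v w = 1) (h2 : Q v = qW 1 0 ε) (h3 : Q w = qW dl 0 ε) : ∃ S ≤ W, OBlk dl Q f X (.pr 0 ε) S := by
  have hv' : (X ^ (0 + 1)) v = 0 := by rw [zero_add, pow_one, hv]
  have hw' : (X ^ (0 + 1)) w = 0 := by rw [zero_add, pow_one, hw]
  refine ⟨_, sp_le hW (g := ![v, w]) fun a => by fin_cases a; exacts [hvW, hwW],
    fun _ => ⟨0, rfl⟩, v, w, ⟨hv', hw', fun i => ?_, fun j => ?_, fun j => ?_⟩, h2, h3, rfl⟩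
  · rcases Nat.eq_zero_or_pos i with rfl | hi
    · rw [if_pos rfl]; exact h1
    · rw [D_zero h.uf hv' w 0 i (by omega), if_neg (by omega)]
  · rw [ph_eq_zero h.uf hv' (by omega), tW, if_neg fun hh => by omega]
  · rw [ph_eq_zero h.uf hw' (by omega), tW, if_neg fun hh => by omega]

/-- An isotropic fixed vector with a partner gives a hyperbolic pair. -/
theorem pr_zero_false {v w : V} (hvW : v ∈ W) (hwW : w ∈ W) (hv : X v = 0) (hw : X w = 0) (h1 : f v w = 1)
    (h2 : Q v = 0) : ∃ S ≤ W, OBlk dl Q f X (.pr 0 false) S := by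
  refine pr_zero_blk h hW (w := w + Q w • v) false hvW (add_mem hwW (W.smul_mem _ hvW)) hv
    (by rw [map_add, map_smul, hw, hv, smul_zero, add_zero])
    (by rw [map_add, map_smul, h.uf.alt, smul_zero, add_zero, h1]) (by rw [h2]; simp [qW]) ?_
  rw [h.add, h.smul, h2, map_smul, smul_eq_mul, h.uf.symm w v, h1]
  simp [qW, CharTwo.add_self_eq_zero]

/-- A block for the alternating form gives one for the quadratic form. -/
theorem fix_blk (hd : Scal dl) {B : Blk} {S : Submodule F V} (hB : IsBlk dl f X B S) (hSW : S ≤ W) :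
    ∃ B', ∃ S' ≤ W, OBlk dl Q f X B' S' := by
  cases B with
  | cy k ε =>
    obtain ⟨hk, v, hv, rfl⟩ := hB
    have hvW : v ∈ W := hSW (gen_mem (g := ![v]) 0)
    rcases Nat.eq_zero_or_pos k with rfl | hk0
    · have hv0 : (X ^ 2) v = 0 := hv.kill
      have h0 : ph f X 0 v = 1 := (hv.val 0).trans (by simp [tV])
      have hX : ∀ t : F, (X ^ 2) (v + t • X v) = 0 ∧ ph f X 0 (v + t • X v) = 1 ∧
          Q (v + t • X v) = Q v + (t * t + t) ∧ v + t • X v ∈ W := fun t => by
        have e : X v = (X ^ 1) v := by rw [pow_one]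
        refine ⟨?_, ?_, ?_, add_mem hvW (W.smul_mem _ (hW v hvW))⟩
        · rw [e, map_add, map_smul, hv0, pow_pow_apply, pow_ge_zero hv0 (by omega), smul_zero, add_zero]
        · rw [e, ph_add h.uf, ph_smul, ph_pow, D_smul_right, D_pow_right, h0,
            ph_eq_zero h.uf hv0 (by omega), D_zero h.uf hv0 v _ _ (by omega)]
          simp
        · rw [h.add, h.smul, h.inv, map_smul, smul_eq_mul]
          have : f v (X v) = 1 := by rw [h.uf.symm]; simpa [ph, D] using h0
          rw [this]; ring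
      rcases hd.coset (Q v) with ⟨t, ht⟩ | ⟨t, ht⟩
      · obtain ⟨a1, a2, a3, a4⟩ := hX t
        exact ⟨_, cy_zero_blk h hW false a4 a1 a2 (by rw [a3, ht, CharTwo.add_self_eq_zero]; simp [qV])⟩
      · obtain ⟨a1, a2, a3, a4⟩ := hX t
        exact ⟨_, cy_zero_blk h hW true a4 a1 a2
          (by rw [a3, ht, ← add_assoc, CharTwo.add_self_eq_zero, zero_add]; simp [qV])⟩
    · exact ⟨_, fix_cy h hW (by omega) hvW hv⟩
  | pr n ε =>
    obtain ⟨hn, v, w, hr, rfl⟩ := hB
    have hvW : v ∈ W := hSW (gen_mem (g := ![v, w]) 0)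
    have hwW : w ∈ W := hSW (gen_mem (g := ![v, w]) 1)
    rcases Nat.eq_zero_or_pos n with rfl | hn0
    · have hv0 : X v = 0 := by simpa using hr.killv
      have hw0 : X w = 0 := by simpa using hr.killw
      have h1 : f v w = 1 := by simpa [D] using hr.pair 0
      by_cases hq : Q v = 0
      · exact ⟨_, pr_zero_false h hW hvW hwW hv0 hw0 h1 hq⟩
      obtain ⟨b, hb⟩ := hd.sqrt (Q v)
      have hb0 : b ≠ 0 := fun e => hq (by rw [← hb, e, mul_zero])
      obtain ⟨a, ha⟩ : ∃ a, a = b⁻¹ • v := ⟨_, rfl⟩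
      obtain ⟨c, hc⟩ : ∃ c, c = b • w := ⟨_, rfl⟩
      have haQ : Q a = 1 := by rw [ha, h.smul, ← hb]; field_simp
      have hac : f a c = 1 := by
        rw [ha, hc]
        simp only [map_smul, LinearMap.smul_apply, smul_eq_mul, h1]
        field_simp
      have ha0 : X a = 0 := by rw [ha, map_smul, hv0, smul_zero]
      have hc0 : X c = 0 := by rw [hc, map_smul, hw0, smul_zero]
      have haW : a ∈ W := ha ▸ W.smul_mem _ hvW
      have hcW : c ∈ W := hc ▸ W.smul_mem _ hwW
      have hk : ∀ t : F, X (c + t • a) = 0 := fun t => by rw [map_add, map_smul, hc0, ha0, smul_zero, add_zero]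
      have hq' : ∀ t : F, Q (c + t • a) = Q c + (t * t + t) := fun t => by
        rw [h.add, h.smul, haQ, map_smul, smul_eq_mul, h.uf.symm c a, hac]; ring
      have hf : ∀ t : F, f a (c + t • a) = 1 := fun t => by
        rw [map_add, map_smul, h.uf.alt, smul_zero, add_zero, hac]
      rcases hd.coset (Q c) with ⟨t, ht⟩ | ⟨t, ht⟩
      · exact ⟨_, pr_zero_false h hW (add_mem hcW (W.smul_mem t haW)) haW (hk t) ha0
          (by rw [h.uf.symm]; exact hf t) (by rw [hq', ht, CharTwo.add_self_eq_zero])⟩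
      · exact ⟨_, pr_zero_blk h hW true haW (add_mem hcW (W.smul_mem t haW)) ha0 (hk t) (hf t)
          (by rw [haQ]; simp [qW]) (by rw [hq', ht, ← add_assoc, CharTwo.add_self_eq_zero, zero_add]; simp [qW])⟩
    · exact ⟨_, fix_pr h hW (by omega) (fun he => (hn he).1) hvW hwW hr⟩

end H49.Unip2
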