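import Cfsg.Agent.H49.Orth2Flip
import Cfsg.Prelude.Def_Classical

/-!
The class number of an orthogonal group in characteristic two: the upper bound.
-/

set_option autoImplicit false
set_option linter.unusedSectionVars false

namespace H49.Unip2

open Finset
open H48.SS (IsSymplForm)
open H49.SpPieces (Sym IsoT gK gR gK_mem gR_mem gK_nilpotent gR_no_fixed finrank_add isoT_of_similar)
open H49.ClassSeries (gser coeff_gser geo Bd gser_prod gser_tuple finite_prod_fibre finite_tuple_fibre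
  finite_mul_fibre gser_mul_nat)

variable {F : Type*} [Field F] [CharP F 2]

theorem neg_eq_self' {U : Type*} [AddCommGroup U] [Module F U] (x : U) : -x = x := by
  rw [← neg_one_smul F x, CharTwo.neg_eq, one_smul]

/-- An isometry of a non-degenerate quadratic space. -/
structure OSym {U : Type*} [AddCommGroup U] [Module F U] (Q : U → F) (f : LinearMap.BilinForm F U)
    (T : Module.End F U) : Prop where
  form : IsSymplForm f
  smul : ∀ (c : F) x, Q (c • x) = c ^ 2 * Q x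
  add : ∀ x y, Q (x + y) = Q x + Q y + f x y
  isom : ∀ x, Q (T x) = Q x

variable {U : Type*} [AddCommGroup U] [Module F U] [FiniteDimensional F U]
  {U' : Type*} [AddCommGroup U'] [Module F U'] [FiniteDimensional F U']
  {Q : U → F} {f : LinearMap.BilinForm F U} {T : Module.End F U} {dl : F}
  {Q' : U' → F} {f' : LinearMap.BilinForm F U'} {T' : Module.End F U'}

theorem OSym.sym (h : OSym Q f T) : Sym f T := ⟨h.form, fun x y => by
  have := h.isom (x + y)
  rw [map_add, h.add, h.add, h.isom, h.isom] at this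
  exact add_left_cancel this⟩

theorem OSym.shift (h : OSym Q f T) (x : U) : Q (T x + x) = f (T x) x := by
  rw [h.add, h.isom, CharTwo.add_self_eq_zero, zero_add]

theorem OSym.of_gK (h : OSym Q f T) : OF (fun x : gK T (1 : F) => Q x)
    (f.compl₁₂ (gK T (1 : F)).subtype (gK T (1 : F)).subtype) (T.restrict (gK_mem T 1) - 1) := by
  have hs := h.sym.sub_gK (one_mul (1 : F))
  refine ⟨⟨hs.form.alt, fun x y => ?_⟩, fun c x => h.smul c x, fun x y => h.add x y, fun x => ?_⟩
  · simp only [LinearMap.sub_apply, Module.End.one_apply, map_sub, hs.isom]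
    generalize (f.compl₁₂ (gK T (1 : F)).subtype (gK T (1 : F)).subtype) = g
    linear_combination (2 * g x y - g (T.restrict (gK_mem T 1) x) y - g x (T.restrict (gK_mem T 1) y)) *
      (CharTwo.two_eq_zero (R := F))
  · show Q (T x - x) = f x (T x - x)
    rw [map_sub, h.form.alt, sub_zero, sub_eq_add_neg, neg_eq_self' (F := F), h.shift, h.form.skew, CharTwo.neg_eq]

theorem OSym.of_one (h : OSym Q f T) : OF Q f 0 :=
  ⟨⟨h.form.alt, fun x y => by simp⟩, h.smul, h.add, fun x => by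
    have := h.smul 0 0
    simpa using this⟩

/-- The data `d` belong to `T`. -/
def DRO (dl : F) (Q : U → F) (f : LinearMap.BilinForm F U) (T : Module.End F U) (n : ℕ) (d : Dat true F n) : Prop :=
  Dec (OBlk dl (fun x : gK T (1 : F) => Q x) (f.compl₁₂ (gK T (1 : F)).subtype (gK T (1 : F)).subtype)
      (T.restrict (gK_mem T 1) - 1)) (f.compl₁₂ (gK T (1 : F)).subtype (gK T (1 : F)).subtype) ⊤ (lst d.1) ∧
    PR2 (T.restrict (gR_mem T 1)) n d.2

theorem exists_dro (hd : Scal dl) (h : OSym Q f T) {n : ℕ} (hn : Module.finrank F U = 2 * n) :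
    ∃ d : Dat true F n, dwt2 d = n ∧ DRO dl Q f T n d := by
  have hOF := h.of_gK
  have hs := h.sym.sub_gK (one_mul (1 : F))
  have hK : ∀ x, ((T.restrict (gK_mem T 1) - 1) ^ Module.finrank F U) x = 0 := fun x => by
    have := gK_nilpotent T 1 x
    rwa [one_smul] at this
  obtain ⟨M₀, hM₀⟩ := exists_dec hOF.uf (oBlk_kind hOF hd hK) _ ⊤ le_rfl (fun x _ => Submodule.mem_top)
    (fun x _ hx => hs.form.sep x fun y => hx y Submodule.mem_top)
  obtain ⟨M, hM, hC⟩ := exists_ocanon hOF hd hK hM₀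
  have hwM : 2 * wM M = Module.finrank F (gK T (1 : F)) := by
    rw [← imgM_zero_eq_wM, ← (hM.facts hOF.uf fun hB => hB.hasGen hOF).2.2 0, img, pow_zero,
      Module.End.one_eq_id, Submodule.map_id, finrank_top]
  have a1 := finrank_add T (1 : F)
  obtain ⟨d, hdl, hdw⟩ := exists_ud hC (n := n) (by omega)
  obtain ⟨P, hP, hPr⟩ := exists_pr2 (h.sym.sub_gR (one_mul (1 : F))) (free_rest2 T) (n := n)
    ((Submodule.finrank_le _).trans hn.le)
  refine ⟨(d, P), ?_, hdl ▸ hM, hPr⟩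
  simp only [dwt2]
  omega

/-- The free parts are determined with their forms. -/
theorem free_oiso [Finite F] (h : OSym Q f T) (h' : OSym Q' f' T') {n : ℕ} {P : Fin n → PD2 F}
    (hP : PR2 (T.restrict (gR_mem T 1)) n P) (hP' : PR2 (T'.restrict (gR_mem T' 1)) n P) :
    ∃ φ : gR T (1 : F) ≃ₗ[F] gR T' (1 : F), (∀ x, φ (T.restrict (gR_mem T 1) x) = T'.restrict (gR_mem T' 1) (φ x)) ∧
      ∀ x, Q' (φ x) = Q x := by
  obtain ⟨φ, hf, hT⟩ := isoT_of_similar (h.sym.sub_gR (one_mul (1 : F))) (h'.sym.sub_gR (one_mul (1 : F)))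
    (free_rest2 T) (similar_of_pr2 hP hP')
  refine ⟨φ, hT, fun y => ?_⟩
  have hs : Function.Surjective (T.restrict (gR_mem T (1 : F)) + (1 : Module.End F (gR T (1 : F)))) := by
    refine LinearMap.injective_iff_surjective.1 ((injective_iff_map_eq_zero _).2 fun x hx => ?_)
    refine free_rest2 T 1 (one_mul 1) x ?_
    rw [one_smul]
    exact (eq_neg_of_add_eq_zero_left hx).trans (neg_eq_self' (F := F) x)
  obtain ⟨x, rfl⟩ := hs y
  rw [LinearMap.add_apply, Module.End.one_apply, map_add, hT]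
  show Q' (T' (φ x) + (φ x)) = Q (T x + x)
  rw [h'.shift, h.shift]
  have := hf (T.restrict (gR_mem T 1) x) x
  rw [hT] at this
  exact this

/-- Equal data give isometric elements. -/
theorem oiso_of_dro [Finite F] (h : OSym Q f T) (h' : OSym Q' f' T') {n : ℕ} {d : Dat true F n}
    (hd : DRO dl Q f T n d) (hd' : DRO dl Q' f' T' n d) :
    ∃ φ : U ≃ₗ[F] U', (∀ x, φ (T x) = T' (φ x)) ∧ ∀ x, Q' (φ x) = Q x := by
  obtain ⟨c₁, -, hc₁T, hc₁Q⟩ := oiso_of_dec h.of_gK h'.of_gK hd.1 hd'.1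
  obtain ⟨c₂, hc₂T, hc₂Q⟩ := free_oiso h h' hd.2 hd'.2
  let E := Submodule.prodEquivOfIsCompl (gK T (1 : F)) (gR T 1) (SpPieces.isCompl T 1)
  let E' := Submodule.prodEquivOfIsCompl (gK T' (1 : F)) (gR T' 1) (SpPieces.isCompl T' 1)
  let φ : U ≃ₗ[F] U' := E.symm ≪≫ₗ c₁.prodCongr c₂ ≪≫ₗ E'
  have hφ : ∀ p, φ (E p) = E' (c₁ p.1, c₂ p.2) := fun p => by simp [φ]
  have hE : ∀ p, E p = (p.1 : U) + (p.2 : U) := fun p => rfl
  have hE' : ∀ p, E' p = (p.1 : U') + (p.2 : U') := fun p => rfl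
  refine ⟨φ, fun x => ?_, fun x => ?_⟩
  · obtain ⟨⟨p, q⟩, rfl⟩ := E.surjective x
    have ha : T (E (p, q)) = E (T.restrict (gK_mem T 1) p, T.restrict (gR_mem T 1) q) := by
      rw [hE, hE, map_add]; rfl
    have h1 : c₁ (T.restrict (gK_mem T 1) p) = T'.restrict (gK_mem T' 1) (c₁ p) := by
      have := hc₁T p
      simp only [LinearMap.sub_apply, Module.End.one_apply, map_sub, sub_left_inj] at this
      exact this
    rw [ha, hφ, hφ, h1, hc₂T, hE', hE', map_add]
    rfl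
  · obtain ⟨⟨p, q⟩, rfl⟩ := E.surjective x
    rw [hφ, hE, hE', h.add, h'.add, (h.sym.orth (one_mul (1 : F)) q.2 p.2).2,
      (h'.sym.orth (one_mul (1 : F)) (c₂ q).2 (c₁ p).2).2, hc₂Q]
    have := hc₁Q p
    rw [this]

variable [Fintype F]

/-- The Gauss sum of a space. -/
noncomputable def gU {W : Type*} [Finite W] (Q : W → F) : ℤ :=
  ∑ x ∈ @Finset.univ W (Fintype.ofFinite W), chr (Q x)

theorem gU_eq {W : Type*} [Fintype W] (Q : W → F) : gU Q = ∑ x : W, chr (Q x) := by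
  rw [gU, Subsingleton.elim (Fintype.ofFinite W) ‹Fintype W›]

theorem gU_equiv [Finite U] [Finite U'] (φ : U ≃ₗ[F] U') (h : ∀ x, Q' (φ x) = Q x) : gU Q' = gU Q := by
  haveI := Fintype.ofFinite U
  haveI := Fintype.ofFinite U'
  rw [gU_eq, gU_eq]
  exact (Fintype.sum_equiv φ.toEquiv _ _ fun x => congrArg chr (h x).symm).symm

theorem gU_dec [Finite U] {X : Module.End F U} (h : OF Q f X) (hd : Scal dl) {M : Multiset Blk}
    (hM : Dec (OBlk dl Q f X) f ⊤ M) : gU Q = (-1) ^ bits M * (Fintype.card F : ℤ) ^ wM M := by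
  haveI := Fintype.ofFinite U
  rw [gU_eq, ← gs_dec h hd hM, gs]
  simp

theorem gU_split [Finite U] (hd : Scal dl) (h : OSym Q f T) :
    gU Q = gU (fun x : gK T (1 : F) => Q x) * gU (fun x : gR T (1 : F) => Q x) := by
  haveI := Fintype.ofFinite U
  haveI := Fintype.ofFinite (gK T (1 : F))
  haveI := Fintype.ofFinite (gR T (1 : F))
  rw [gU_eq, gU_eq, gU_eq, Finset.sum_mul_sum, ← Fintype.sum_prod_type']
  symm
  refine Fintype.sum_equiv (Submodule.prodEquivOfIsCompl _ _ (SpPieces.isCompl T 1)).toEquiv _ _ fun p => ?_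
  show _ = chr (Q ((p.1 : U) + (p.2 : U)))
  rw [h.add, (h.sym.orth (one_mul (1 : F)) p.2.2 p.1.2).2, add_zero, chr_add hd]

/-- The Gauss sum is a signed power. -/
theorem exists_one_list [Finite U] (hd : Scal dl) (h : OSym Q f T) :
    ∃ M, Dec (OBlk dl Q f 0) f ⊤ M ∧ Canon true M ∧ 2 * wM M = Module.finrank F U ∧
      gU Q = (-1) ^ bits M * (Fintype.card F : ℤ) ^ wM M := by
  have hOF := h.of_one
  have hK : ∀ x, ((0 : Module.End F U) ^ 1) x = 0 := fun x => by simp
  obtain ⟨M₀, hM₀⟩ := exists_dec hOF.uf (oBlk_kind hOF hd hK) _ ⊤ le_rfl (fun x _ => Submodule.mem_top)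
    (fun x _ hx => h.form.sep x fun y => hx y Submodule.mem_top)
  obtain ⟨M, hM, hC⟩ := exists_ocanon hOF hd hK hM₀
  refine ⟨M, hM, hC, ?_, gU_dec hOF hd hM⟩
  rw [← imgM_zero_eq_wM, ← (hM.facts hOF.uf fun hB => hB.hasGen hOF).2.2 0, img, pow_zero,
    Module.End.one_eq_id, Submodule.map_id, finrank_top]

theorem gU_ne_zero [Finite U] (hd : Scal dl) (h : OSym Q f T) : gU Q ≠ 0 := by
  obtain ⟨M, -, -, -, e⟩ := exists_one_list hd h
  rw [e]
  have : (Fintype.card F : ℤ) ≠ 0 := by exact_mod_cast Fintype.card_ne_zero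
  exact mul_ne_zero (pow_ne_zero _ (by norm_num)) (pow_ne_zero _ this)

/-- The parity of the bits is fixed by the free part. -/
theorem parity_eq [Finite U] (hd : Scal dl) {T₂ : Module.End F U} (h : OSym Q f T) (h₂ : OSym Q f T₂) {n : ℕ}
    {d d₂ : Dat true F n} (h1 : DRO dl Q f T n d) (h2 : DRO dl Q f T₂ n d₂) (hP : d.2 = d₂.2)
    (hw : wUD d.1 = wUD d₂.1) : bits (lst d.1) % 2 = bits (lst d₂.1) % 2 := by
  obtain ⟨φ, -, hφ⟩ := free_oiso h h₂ h1.2 (hP ▸ h2.2)
  have e := (gU_split hd h).symm.trans (gU_split hd h₂)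
  rw [gU_equiv (Q := fun x : gR T (1 : F) => Q x) (Q' := fun x : gR T₂ (1 : F) => Q x) φ hφ] at e
  have hne : gU (fun x : gR T (1 : F) => Q x) ≠ 0 := fun e0 => gU_ne_zero hd h (by rw [gU_split hd h, e0, mul_zero])
  have e2 := mul_right_cancel₀ hne e
  rw [gU_dec h.of_gK hd h1.1, gU_dec h₂.of_gK hd h2.1, (canon_lst d.1).2, (canon_lst d₂.1).2, hw] at e2
  have hq : (Fintype.card F : ℤ) ≠ 0 := by exact_mod_cast Fintype.card_ne_zero
  have e3 := mul_right_cancel₀ (pow_ne_zero _ hq) e2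
  rw [neg_one_pow_eq_pow_mod_two, neg_one_pow_eq_pow_mod_two (n := bits (lst d₂.1))] at e3
  rcases Nat.mod_two_eq_zero_or_one (bits (lst d.1)) with a | a <;>
    rcases Nat.mod_two_eq_zero_or_one (bits (lst d₂.1)) with b | b <;> rw [a, b] at e3 ⊢ <;> norm_num at e3

/-- The factors for the lists without a bit to change. -/
theorem prod_gl_le {x : ℚ} (hx : 0 ≤ x) (hx2 : x ≤ 1 / 2) (n : ℕ) :
    ∏ j : Fin n, gl x (2 * (j : ℕ) + 2) ≤ 3 / 2 := by
  have key : ∀ n, ∏ j : Fin n, gl x (2 * (j : ℕ) + 2) ≤ 3 / 2 * (1 - (1 / 4) ^ n / 3) ∧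
      0 ≤ ∏ j : Fin n, gl x (2 * (j : ℕ) + 2) := by
    intro n
    induction n with
    | zero => norm_num
    | succ n ih =>
      set y : ℚ := (1 / 4) ^ (n + 1) with hy
      have hy0 : 0 < y := by positivity
      have hy1 : y ≤ 1 / 4 := by
        rw [hy, pow_succ]
        exact mul_le_of_le_one_left (by norm_num) (pow_le_one₀ (by norm_num) (by norm_num))
      have hxy : x ^ (2 * n + 2) ≤ y := by
        rw [hy, show 2 * n + 2 = 2 * (n + 1) by ring, pow_mul]
        refine pow_le_pow_left₀ (by positivity) ?_ _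
        nlinarith
      have hg : gl x (2 * n + 2) ≤ 1 / (1 - y) :=
        one_div_le_one_div_of_le (by linarith) (by linarith)
      have hg0 : 0 ≤ gl x (2 * n + 2) := one_div_nonneg.2 (by linarith)
      rw [Fin.prod_univ_castSucc]
      simp only [Fin.val_castSucc, Fin.val_last]
      refine ⟨?_, mul_nonneg ih.2 hg0⟩
      have e : (1 / 4 : ℚ) ^ n = 4 * y := by rw [hy, pow_succ]; ring
      rw [e] at ih
      refine (mul_le_mul ih.1 hg hg0 (by linarith)).trans ?_
      rw [← div_eq_mul_one_div, div_le_iff₀ (by linarith)]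
      nlinarith
  have := (key n).1
  have : (0 : ℚ) ≤ (1 / 4) ^ n := by positivity
  linarith

theorem wM_sum {α : Type*} (s : Finset α) (g : α → Multiset Blk) : wM (∑ j ∈ s, g j) = ∑ j ∈ s, wM (g j) := by
  induction s using Finset.cons_induction with
  | empty => rfl
  | cons a s ha ih => rw [Finset.sum_cons, Finset.sum_cons, ← ih]; simp [wM]

/-- The data of a list without a bit to change. -/
abbrev ZDat (F : Type*) [Field F] (n : ℕ) : Type _ := (ℕ × (Fin n → ℕ)) × (Fin n → PD2 F)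

/-- Its weight. -/
def zwt {n : ℕ} (z : ZDat F n) : ℕ :=
  z.1.1 + ∑ j : Fin n, (2 * (j : ℕ) + 2) * z.1.2 j + ∑ i : Fin n, wP2 i (z.2 i)

theorem card_zdat_le (m k : ℕ) : Finite {z : ZDat F (m + 1) // zwt z = k} ∧
    (Nat.card {z : ZDat F (m + 1) // zwt z = k} : ℚ) ≤ 3 * (Fintype.card F : ℚ) ^ k := by
  obtain ⟨x, hx⟩ : ∃ x : ℚ, x = (Fintype.card F : ℚ)⁻¹ := ⟨_, rfl⟩
  have hq2 : (2 : ℚ) ≤ Fintype.card F := by exact_mod_cast Fintype.one_lt_card (α := F)
  have hx0 : 0 < x := by rw [hx]; positivity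
  have hx2 : x ≤ 1 / 2 := by rw [hx, one_div]; exact inv_anti₀ (by norm_num) hq2
  haveI : ∀ k, Finite {a : ℕ // a = k} := fun k => inferInstance
  have ht : ∀ (i : Fin (m + 1)) k, Finite {a : ℕ // (2 * (i : ℕ) + 2) * a = k} := fun i k =>
    finite_mul_fibre (by omega) k
  haveI := fun k => finite_tuple_fibre (fun (i : Fin (m + 1)) (a : ℕ) => (2 * (i : ℕ) + 2) * a) ht k
  haveI := fun k => finite_tuple_fibre (fun (i : Fin (m + 1)) => wP2 (F := F) i) (fun i => finite_wP2 i) k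
  haveI := fun k => finite_prod_fibre (fun a : ℕ => a) (fun a : Fin (m + 1) → ℕ => ∑ j : Fin (m + 1), (2 * (j : ℕ) + 2) * a j) k
  let w : ℕ × (Fin (m + 1) → ℕ) → ℕ := fun p => p.1 + ∑ j : Fin (m + 1), (2 * (j : ℕ) + 2) * p.2 j
  haveI : ∀ k, Finite {p // w p = k} := fun k => inferInstance
  refine ⟨finite_prod_fibre w (fun p : Fin (m + 1) → PD2 F => ∑ i : Fin (m + 1), wP2 i (p i)) k, ?_⟩
  have h1 : gser (fun a : ℕ => a) = geo 1 1 := by
    rw [← gser_mul_nat one_pos]
    exact congrArg gser (funext fun a => (one_mul a).symm)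
  have h2 := gser_prod (fun a : ℕ => a) (fun a : Fin (m + 1) → ℕ => ∑ j : Fin (m + 1), (2 * (j : ℕ) + 2) * a j)
  rw [h1, gser_tuple _ ht] at h2
  have h := gser_prod w (fun p : Fin (m + 1) → PD2 F => ∑ i : Fin (m + 1), wP2 i (p i))
  rw [show gser w = _ from h2, gser_tuple (fun (i : Fin (m + 1)) => wP2 (F := F) i) (fun i => finite_wP2 i),
    Finset.prod_congr rfl fun (i : Fin (m + 1)) _ => gser_wP2 (i : ℕ)] at h
  have hA := (H49.ClassSeries.Bd.prod hx0.le _ _ fun i : Fin (m + 1) =>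
    bd_mult hx0.le (by linarith) (show 0 < 2 * (i : ℕ) + 2 by omega)).mono (prod_gl_le hx0.le hx2 (m + 1))
  have hc := coeff_free_le m k hx hA
  rw [← h, coeff_gser] at hc
  refine le_trans (le_of_eq ?_) (hc.trans (le_of_eq (by ring)))
  rfl

/-- The class number of the isometry group is at most half the number of data, up to the fixed lists. -/
theorem card_classes_le {ι : Type} [Fintype ι] [DecidableEq ι] {Q0 : (ι → F) → F}
    {f0 : LinearMap.BilinForm F (ι → F)} (h0 : OSym Q0 f0 1) {m : ℕ} (hι : Fintype.card ι = 2 * (m + 1)) :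
    Nat.card (ConjClasses (Cfsg.isometryGroup F Q0)) ≤ 15 * Fintype.card F ^ (m + 1) := by
  classical
  set n := m + 1 with hn
  obtain ⟨dl, hdl⟩ := exists_scal (F := F)
  haveI := finite_dat (o := true) (F := F) (n := n) n
  haveI := (card_zdat_le (F := F) m n).1
  let T : Cfsg.isometryGroup F Q0 → Module.End F (ι → F) := fun g =>
    Matrix.toLinAlgEquiv' ((g : Matrix.GeneralLinearGroup ι F) : Matrix ι ι F)
  have hT : ∀ g x, T g x = Matrix.mulVec ((g : Matrix.GeneralLinearGroup ι F) : Matrix ι ι F) x := fun g x => rfl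
  have hsym : ∀ g, OSym Q0 f0 (T g) := fun g => ⟨h0.form, h0.smul, h0.add, fun x => g.2 x x⟩
  let D := {d : Dat true F n // dwt2 d = n}
  let S : Set D := {d | ∃ g, DRO dl Q0 f0 (T g) n d.1}
  have key : ∀ c : ConjClasses (Cfsg.isometryGroup F Q0), ∃ (d : S) (g : Cfsg.isometryGroup F Q0),
      ConjClasses.mk g = c ∧ DRO dl Q0 f0 (T g) n d.1.1 := fun c => by
    obtain ⟨g, rfl⟩ := ConjClasses.exists_rep c
    obtain ⟨d, hd, hreal⟩ := exists_dro hdl (hsym g) (n := n) (by rw [Module.finrank_pi, hι])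
    exact ⟨⟨⟨d, hd⟩, g, hreal⟩, g, rfl, hreal⟩
  choose Df G hG hD using key
  have hle : Nat.card (ConjClasses (Cfsg.isometryGroup F Q0)) ≤ Nat.card S := by
    refine Nat.card_le_card_of_injective Df fun c c' hcc => ?_
    rw [← hG c, ← hG c', ConjClasses.mk_eq_mk_iff_isConj]
    obtain ⟨φ, hφT, hφQ⟩ := oiso_of_dro (hsym (G c)) (hsym (G c')) (hD c) (hcc ▸ hD c')
    let u : Matrix.GeneralLinearGroup ι F :=
      ⟨LinearMap.toMatrix' φ.toLinearMap, LinearMap.toMatrix' φ.symm.toLinearMap,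
        by rw [← LinearMap.toMatrix'_comp]; simp, by rw [← LinearMap.toMatrix'_comp]; simp⟩
    have hu : ∀ x, Matrix.mulVec (u : Matrix ι ι F) x = φ x := fun x => LinearMap.toMatrix'_mulVec _ x
    let H : Cfsg.isometryGroup F Q0 := ⟨u, fun x _ => by
      show Q0 (Matrix.mulVec (u : Matrix ι ι F) x) = Q0 x
      rw [hu, hφQ]⟩
    refine isConj_iff.2 ⟨H, mul_inv_eq_iff_eq_mul.2 (Subtype.ext (Units.ext (Matrix.ext_of_mulVec_single fun i => ?_)))⟩
    simp only [Subgroup.coe_mul, Units.val_mul, ← Matrix.mulVec_mulVec]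
    show Matrix.mulVec (u : Matrix ι ι F) _ = Matrix.mulVec _ (Matrix.mulVec (u : Matrix ι ι F) _)
    rw [hu, hu, ← hT, ← hT, hφT]
  have hflip : ∀ d : S, slot (lst d.1.1.1) ≠ none →
      ∃ d' : ↥Sᶜ, lst d'.1.1.1 = flip (lst d.1.1.1) ∧ d'.1.1.2 = d.1.1.2 := fun d hs => by
    obtain ⟨hC, hw⟩ := canon_lst d.1.1.1
    obtain ⟨hC', hw', hpar, -⟩ := flip_spec hC hs
    have hn' : wUD d.1.1.1 ≤ n := le_of_le_of_eq (Nat.le_add_right _ _) d.1.2
    obtain ⟨du, hdl', hdw⟩ := exists_ud hC' (n := n) (by omega)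
    have hwd : wUD du = wUD d.1.1.1 := by omega
    have hd' : dwt2 ((du, d.1.1.2) : Dat true F n) = n := by
      have := d.1.2
      simp only [dwt2] at this ⊢
      omega
    refine ⟨⟨⟨(du, d.1.1.2), hd'⟩, fun ⟨g', hg'⟩ => ?_⟩, hdl', rfl⟩
    obtain ⟨g, hg⟩ := d.2
    have := parity_eq hdl (hsym g) (hsym g') hg hg' rfl hwd.symm
    rw [hdl'] at this
    exact hpar this.symm
  let Z := {z : ZDat F n // zwt z = n}
  have hz : ∀ d : S, slot (lst d.1.1.1) = none → ∃ z : Z,
      z.1.1.2 = (fun j : Fin n => (lst d.1.1.1).count (.pr (2 * (j : ℕ) + 1) false)) ∧ z.1.2 = d.1.1.2 := fun d hs => by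
    obtain ⟨hC, hw⟩ := canon_lst d.1.1.1
    have hd := d.1.2
    simp only [dwt2] at hd
    have e := eq_of_slot_none hC hs (n := n) (by omega)
    refine ⟨⟨((0, fun j => (lst d.1.1.1).count (.pr (2 * (j : ℕ) + 1) false)), d.1.1.2), ?_⟩, rfl, rfl⟩
    have : wM (lst d.1.1.1) = ∑ j : Fin n, (2 * (j : ℕ) + 2) * (lst d.1.1.1).count (.pr (2 * (j : ℕ) + 1) false) := by
      conv_lhs => rw [e]
      rw [wM_sum]
      exact Finset.sum_congr rfl fun j _ => by simp [wM, Blk.wt, mul_comm]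
    simp only [zwt, zero_add]
    omega
  let inj : S → ↥Sᶜ ⊕ Z := fun d =>
    if hs : slot (lst d.1.1.1) = none then .inr (hz d hs).choose else .inl (hflip d hs).choose
  have hinj : Function.Injective inj := fun d₁ d₂ e => by
    by_cases h1 : slot (lst d₁.1.1.1) = none <;> by_cases h2 : slot (lst d₂.1.1.1) = none
    · simp only [inj, dif_pos h1, dif_pos h2, Sum.inr.injEq] at e
      obtain ⟨a1, b1⟩ := (hz d₁ h1).choose_spec
      obtain ⟨a2, b2⟩ := (hz d₂ h2).choose_spec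
      rw [e] at a1 b1
      have hl : lst d₁.1.1.1 = lst d₂.1.1.1 := by
        have c1 := d₁.1.2
        have c2 := d₂.1.2
        simp only [dwt2] at c1 c2
        obtain ⟨hC1, hw1⟩ := canon_lst d₁.1.1.1
        obtain ⟨hC2, hw2⟩ := canon_lst d₂.1.1.1
        rw [eq_of_slot_none hC1 h1 (n := n) (by omega), eq_of_slot_none hC2 h2 (n := n) (by omega)]
        exact Finset.sum_congr rfl fun j _ => by rw [(congrFun a1 j).symm.trans (congrFun a2 j)]
      exact Subtype.ext (Subtype.ext (Prod.ext (lst_injective hl) (b1.symm.trans b2)))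
    · simp only [inj, dif_pos h1, dif_neg h2, reduceCtorEq] at e
    · simp only [inj, dif_neg h1, dif_pos h2, reduceCtorEq] at e
    · simp only [inj, dif_neg h1, dif_neg h2, Sum.inl.injEq] at e
      obtain ⟨a1, b1⟩ := (hflip d₁ h1).choose_spec
      obtain ⟨a2, b2⟩ := (hflip d₂ h2).choose_spec
      rw [e] at a1 b1
      have hl : lst d₁.1.1.1 = lst d₂.1.1.1 := by
        rw [← (flip_spec (canon_lst d₁.1.1.1).1 h1).2.2.2, ← (flip_spec (canon_lst d₂.1.1.1).1 h2).2.2.2,
          a1.symm.trans a2]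
      exact Subtype.ext (Subtype.ext (Prod.ext (lst_injective hl) (b1.symm.trans b2)))
  have h2 : 2 * Nat.card S ≤ Nat.card D + Nat.card Z := by
    have := Nat.card_le_card_of_injective inj hinj
    rw [Nat.card_sum] at this
    have hc := Nat.card_congr (Equiv.Set.sumCompl S)
    rw [Nat.card_sum] at hc
    omega
  have hDle := card_dat_le_of (F := F) true m n (fsum_le' n)
  have hZle := (card_zdat_le (F := F) m n).2
  have hq : (0 : ℚ) ≤ (Fintype.card F : ℚ) ^ n := by positivity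
  have : (Nat.card (ConjClasses (Cfsg.isometryGroup F Q0)) : ℚ) ≤ 15 * (Fintype.card F : ℚ) ^ n := by
    have a1 : (Nat.card (ConjClasses (Cfsg.isometryGroup F Q0)) : ℚ) ≤ Nat.card S := by exact_mod_cast hle
    have a2 : (2 : ℚ) * Nat.card S ≤ Nat.card D + Nat.card Z := by exact_mod_cast h2
    linarith
  exact_mod_cast this

end H49.Unip2
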