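import Cfsg.Agent.H49.Orth2Base

/-!
Canonical decompositions for quadratic forms in characteristic two.
-/

set_option autoImplicit false
set_option linter.unusedSectionVars false

namespace H49.Unip2

open Submodule

universe u v

variable {F : Type*} [Field F] [CharP F 2]
  {V : Type u} [AddCommGroup V] [Module F V] [FiniteDimensional F V]
  {V' : Type v} [AddCommGroup V'] [Module F V'] [FiniteDimensional F V']
  {f : LinearMap.BilinForm F V} {X : Module.End F V} {Q : V → F} {dl : F}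
  {f' : LinearMap.BilinForm F V'} {X' : Module.End F V'} {Q' : V' → F}

theorem strip_shape (B : Blk) : B.strip.top = B.top ∧ B.strip.cnt = B.cnt := by cases B <;> exact ⟨rfl, rfl⟩

theorem OBlk.hasGen (h : OF Q f X) {B : Blk} {S : Submodule F V} (hB : OBlk dl Q f X B S) : HasGen f X B S := by
  cases B with
  | cy k ε => obtain ⟨v, hv, -, hS⟩ := hB; exact ⟨![v], hv.gen h.uf, hS⟩
  | pr n ε => obtain ⟨-, v, w, hv, -, -, hS⟩ := hB; exact ⟨![v, w], hv.gen h.uf, hS⟩

theorem oBlk_kind (h : OF Q f X) (hd : Scal dl) {K : ℕ} (hK : ∀ x, (X ^ K) x = 0) :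
    Kind f X (OBlk dl Q f X) := by
  refine ⟨fun hB => hB.hasGen h, fun W hW hnd hW0 => ?_⟩
  obtain ⟨B, S, hSW, hB⟩ := (isBlk_kind h.uf hd hK).find W hW hnd hW0
  exact fix_blk h hW hd hB hSW

theorem Dec.strip (h : OF Q f X) {W : Submodule F V} {M : Multiset Blk} (hW : Dec (OBlk dl Q f X) f W M) :
    Dec (IsBlk dl f X) f W (M.map Blk.strip) := by
  induction hW with
  | nil => exact Dec.nil
  | cons hB _ ho ih => rw [Multiset.map_cons]; exact Dec.cons hB.strip ih ho

theorem Dec.oev (h : OF Q f X) {W : Submodule F V} {M : Multiset Blk} (hW : Dec (OBlk dl Q f X) f W M) :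
    ∀ n, Blk.pr n true ∈ M → Even n := by
  induction hW with
  | nil => simp
  | @cons B S W M hB _ _ ih =>
    intro n hn
    rcases Multiset.mem_cons.1 hn with rfl | hn
    · exact hB.1 rfl
    · exact ih n hn

theorem o_parts (h : OF Q f X) {W : Submodule F V} {a b : Blk} (hW : Dec (OBlk dl Q f X) f W (a ::ₘ {b})) :
    ∃ Sa Sb, OBlk dl Q f X a Sa ∧ OBlk dl Q f X b Sb ∧ Sa ≤ W ∧ Sb ≤ W ∧ Orth f Sa Sb := by
  obtain ⟨Sa, W', hA, hW', ho, rfl⟩ := hW.extract h.uf a _ rfl
  obtain ⟨Sb, W'', hB, -, -, rfl⟩ := hW'.extract h.uf b 0 rfl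
  exact ⟨Sa, Sb, hA, hB, le_sup_left, le_sup_left.trans le_sup_right,
    fun p hp x hx => ho p hp x (mem_sup_left hx)⟩

theorem fix_pr_blk (h : OF Q f X) {W : Submodule F V} (hW : ∀ x ∈ W, X x ∈ W) {n : ℕ} (hn : n ≠ 0) {ε : Bool}
    (hb : ∃ S ≤ W, IsBlk dl f X (.pr n ε) S) : ∃ S ≤ W, OBlk dl Q f X (.pr n ε) S := by
  obtain ⟨S, hSW, hn', v, w, hr, rfl⟩ := hb
  exact fix_pr h hW hn (fun he => (hn' he).1) (hSW (gen_mem (g := ![v, w]) 0)) (hSW (gen_mem (g := ![v, w]) 1)) hr

theorem fix_cy_blk (h : OF Q f X) {W : Submodule F V} (hW : ∀ x ∈ W, X x ∈ W) {k : ℕ} (hk : k ≠ 0) {ε : Bool}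
    (hb : ∃ S ≤ W, IsBlk dl f X (.cy k ε) S) : ∃ S ≤ W, OBlk dl Q f X (.cy k ε) S := by
  obtain ⟨S, hSW, -, v, hv, rfl⟩ := hb
  exact fix_cy h hW hk (hSW (gen_mem (g := ![v]) 0)) hv

/-- Every sum of blocks has a canonical list. -/
theorem exists_ocanon (h : OF Q f X) (hd : Scal dl) {K : ℕ} (hK : ∀ x, (X ^ K) x = 0) {W : Submodule F V}
    {M : Multiset Blk} (hW : Dec (OBlk dl Q f X) f W M) :
    ∃ M', Dec (OBlk dl Q f X) f W M' ∧ Canon true M' := by
  have hgen : ∀ {B : Blk} {S : Submodule F V}, OBlk dl Q f X B S → HasGen f X B S := fun hB => hB.hasGen h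
  refine exists_canon_of h.uf (oBlk_kind h hd hK) true
    (fun hW => ⟨fun e => Bool.noConfusion e, hW.oev h, fun e => Bool.noConfusion e⟩) ?_ ?_ ?_ ?_ ?_ hW
  · intro W k a b c h0
    refine fix_pr_blk h (h0.facts h.uf hgen).1 (by omega) ?_
    have := h0.strip h
    simp only [Multiset.map_cons, Multiset.map_singleton, Blk.strip] at this
    exact three_cy_blk h.uf hd hK this
  · intro W k h0
    have hinv := (h0.facts h.uf hgen).1
    rcases Nat.eq_zero_or_pos k with rfl | hk
    · obtain ⟨S₁, S₂, hS₁, hS₂, h1W, h2W, h12⟩ := o_parts h h0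
      obtain ⟨v, hv, hvq, rfl⟩ := hS₁
      obtain ⟨z, hz, -, rfl⟩ := hS₂
      obtain ⟨b, hb⟩ := hd.sqrt dl
      have hv0 : (X ^ 2) v = 0 := hv.kill
      have hz0 : (X ^ 2) z = 0 := hz.kill
      have hpv : ph f X 0 v = 1 := (hv.val 0).trans (by simp [tV])
      have hpz : ph f X 0 z = 1 := (hz.val 0).trans (by simp [tV])
      have mv : ∀ i, (X ^ i) v ∈ Sp X (2 * 0 + 1) ![v] := fun i => (hv.gen h.uf).pow_mem 0 i
      have mz : ∀ i, (X ^ i) z ∈ Sp X (2 * 0 + 1) ![z] := fun i => (hz.gen h.uf).pow_mem 0 i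
      have e : X z = (X ^ 1) z := by rw [pow_one]
      have hD : D f X v z (0 + 1) (0 + 1 + 1) = 0 := h12 _ (mv _) _ (mz _)
      refine cy_zero_blk h hinv (v := v + b • X z) false ?_ ?_ ?_ ?_
      · exact add_mem (h1W (by simpa using mv 0)) (W.smul_mem _ (h2W (by simpa using mz 1)))
      · rw [e, map_add, map_smul, hv0, pow_pow_apply, pow_ge_zero hz0 (by omega), smul_zero, add_zero]
      · rw [e, ph_add h.uf, ph_smul, ph_pow, D_smul_right, D_pow_right, hpv, hD,
          ph_eq_zero h.uf hz0 (by omega)]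
        simp
      · have hvz : f v (X z) = 0 := h12 _ (by simpa using mv 0) _ (by simpa using mz 1)
        have hzz : f z (X z) = 1 := by rw [h.uf.symm]; simpa [ph, D] using hpz
        rw [h.add, h.smul, h.inv, map_smul, smul_eq_mul, hvz, hzz, hvq, mul_zero, add_zero, mul_one, sq, hb]
        simp [qV, CharTwo.add_self_eq_zero]
    · refine fix_cy_blk h hinv (by omega) ?_
      have := h0.strip h
      simp only [Multiset.map_cons, Multiset.map_singleton, Blk.strip,
        show (k != 0) = true by simp; omega, Bool.and_true] at this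
      exact two_cy_blk h.uf hd hK this
  · intro W n h0
    have hinv := (h0.facts h.uf hgen).1
    rcases Nat.eq_zero_or_pos n with rfl | hn
    · obtain ⟨S₁, S₂, hS₁, hS₂, h1W, h2W, h12⟩ := o_parts h h0
      obtain ⟨-, v, w, hr, hvq, -, rfl⟩ := hS₁
      obtain ⟨-, v', w', hr', hvq', -, rfl⟩ := hS₂
      have mv := gen_mem (X := X) (n := 0) (g := ![v, w]) 0
      have mw := gen_mem (X := X) (n := 0) (g := ![v, w]) 1
      have mv' := gen_mem (X := X) (n := 0) (g := ![v', w']) 0
      have hk : ∀ {u : V}, (X ^ (0 + 1)) u = 0 → X u = 0 := fun hu => by simpa using hu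
      have hfvw : f v w = 1 := by simpa [D] using hr.pair 0
      refine pr_zero_false h hinv (v := v + v') (w := w) (add_mem (h1W mv) (h2W mv')) (h1W mw)
        (by rw [map_add, hk hr.killv, hk hr'.killv, add_zero]) (hk hr.killw) ?_ ?_
      · rw [map_add, LinearMap.add_apply, hfvw, h.uf.symm v' w]
        rw [show f w v' = 0 from h12 _ mw _ mv', add_zero]
      · rw [h.add, show f v v' = 0 from h12 _ mv _ mv', hvq, hvq', add_zero, CharTwo.add_self_eq_zero]
    · refine fix_pr_blk h hinv (by omega) ?_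
      have := h0.strip h
      simp only [Multiset.map_cons, Multiset.map_singleton, Blk.strip,
        show (n != 0) = true by simp; omega, Bool.and_true] at this
      exact two_pr_blk h.uf hd hK this
  · intro W n k a hnk h0
    have hinv := (h0.facts h.uf hgen).1
    rcases Nat.eq_zero_or_pos n with rfl | hn
    · obtain rfl : k = 0 := by omega
      obtain ⟨S₁, S₂, hS₁, hS₂, h1W, h2W, h12⟩ := o_parts h h0
      obtain ⟨-, v, w, hr, hvq, -, rfl⟩ := hS₁
      obtain ⟨z, hz, -, rfl⟩ := hS₂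
      have mv := gen_mem (X := X) (n := 0) (g := ![v, w]) 0
      have mw := gen_mem (X := X) (n := 0) (g := ![v, w]) 1
      have mz : (X ^ 1) z ∈ Sp X (2 * 0 + 1) ![z] := (hz.gen h.uf).pow_mem 0 1
      rw [pow_one] at mz
      have hz0 : (X ^ 2) z = 0 := hz.kill
      have hfvw : f v w = 1 := by simpa [D] using hr.pair 0
      have hzz : f z (X z) = 1 := by
        rw [h.uf.symm]
        have : ph f X 0 z = 1 := (hz.val 0).trans (by simp [tV])
        simpa [ph, D] using this
      refine pr_zero_false h hinv (v := v + X z) (w := w) (add_mem (h1W mv) (h2W mz)) (h1W mw) ?_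
        (by simpa using hr.killw) ?_ ?_
      · rw [map_add, show X v = 0 by simpa using hr.killv, zero_add]
        simpa [sq] using hz0
      · rw [map_add, LinearMap.add_apply, hfvw, h.uf.symm (X z) w,
          show f w (X z) = 0 from h12 _ mw _ mz, add_zero]
      · rw [h.add, show f v (X z) = 0 from h12 _ mv _ mz, h.inv, hzz, hvq]
        simp [qW, CharTwo.add_self_eq_zero]
    · refine fix_pr_blk h hinv (by omega) ?_
      have := h0.strip h
      simp only [Multiset.map_cons, Multiset.map_singleton, Blk.strip,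
        show (n != 0) = true by simp; omega, Bool.and_true] at this
      exact pr_cy_blk h.uf hd hK hnk this
  · intro W k a h0
    refine fix_cy_blk h (h0.facts h.uf hgen).1 (by omega) ?_
    have := h0.strip h
    simp only [Multiset.map_cons, Multiset.map_singleton, Blk.strip,
      show (k + 1 != 0) = true by simp, Bool.and_true] at this
    exact cy_cy_blk h.uf hd hK this

theorem match_oblk (h : OF Q f X) (h' : OF Q' f' X') {B : Blk} {S : Submodule F V} {S' : Submodule F V'}
    (hS : OBlk dl Q f X B S) (hS' : OBlk dl Q' f' X' B S') : Match f X f' X' Q Q' S S' := by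
  have hfam : ∀ {n r : ℕ} {g : Fin r → V} {g' : Fin r → V'}, (∀ a, Q (g a) = Q' (g' a)) →
      (∀ a j, ph f X j (g a) = ph f' X' j (g' a)) → ∀ p, Q (fam X n g p) = Q' (fam X' n g' p) := by
    intro n r g g' hq hp p
    show Q ((X ^ (p.2 : ℕ)) (g p.1)) = Q' ((X' ^ (p.2 : ℕ)) (g' p.1))
    rcases Nat.eq_zero_or_pos (p.2 : ℕ) with h0 | h0
    · rw [h0]; simpa using hq p.1
    · obtain ⟨j, hj⟩ : ∃ j, (p.2 : ℕ) = j + 1 := ⟨(p.2 : ℕ) - 1, by omega⟩
      rw [hj, h.pow_succ, h'.pow_succ, hp]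
  cases B with
  | cy k ε =>
    obtain ⟨v, hv, hvq, rfl⟩ := hS
    obtain ⟨v', hv', hvq', rfl⟩ := hS'
    refine match_gen h.uf h'.uf (hv.gen h.uf) (hv'.gen h'.uf) (fun a c i l => ?_) (hfam (fun a => ?_) fun a j => ?_)
    · fin_cases a; fin_cases c
      exact D_self_det h.uf h'.uf (v := v) (v' := v') (fun j => by rw [hv.val, hv'.val]) i l
    · fin_cases a; exact hvq.trans hvq'.symm
    · fin_cases a; exact (hv.val j).trans (hv'.val j).symm
  | pr n ε =>
    obtain ⟨-, v, w, hr, hvq, hwq, rfl⟩ := hS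
    obtain ⟨-, v', w', hr', hvq', hwq', rfl⟩ := hS'
    refine match_gen h.uf h'.uf (hr.gen h.uf) (hr'.gen h'.uf) (fun a c i l => ?_) (hfam (fun a => ?_) fun a j => ?_)
    · have hvw : ∀ i l, D f X v w i l = D f' X' v' w' i l := fun i l =>
        D_det h.uf h'.uf hr.killv hr'.killv (fun i => by rw [hr.pair, hr'.pair]) l i
      fin_cases a <;> fin_cases c
      · exact D_self_det h.uf h'.uf (v := v) (v' := v') (fun j => by rw [hr.valv, hr'.valv]) i l
      · exact hvw i l
      · show D f X w v i l = D f' X' w' v' i l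
        rw [D_swap h.uf, D_swap h'.uf]; exact hvw l i
      · exact D_self_det h.uf h'.uf (v := w) (v' := w') (fun j => by rw [hr.valw, hr'.valw]) i l
    · fin_cases a
      · exact hvq.trans hvq'.symm
      · exact hwq.trans hwq'.symm
    · fin_cases a
      · exact (hr.valv j).trans (hr'.valv j).symm
      · exact (hr.valw j).trans (hr'.valw j).symm

/-- Equal lists give isometric elements. -/
theorem oiso_of_dec (h : OF Q f X) (h' : OF Q' f' X') {M : Multiset Blk}
    (hW : Dec (OBlk dl Q f X) f ⊤ M) (hW' : Dec (OBlk dl Q' f' X') f' ⊤ M) :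
    ∃ φ : V ≃ₗ[F] V', (∀ x y, f' (φ x) (φ y) = f x y) ∧ (∀ x, φ (X x) = X' (φ x)) ∧ ∀ x, Q' (φ x) = Q x := by
  obtain ⟨φ, h1, h2, ι, _, e, he⟩ := equiv_of_dec h.uf h'.uf (P := OBlk dl Q f X) (P' := OBlk dl Q' f' X')
    (fun hB => hB.hasGen h) (fun hB => hB.hasGen h') (fun hS hS' => match_oblk h h' hS hS') hW hW'
  refine ⟨φ, h1, h2, fun x => ?_⟩
  have hx : x ∈ span F (Set.range e) := by rw [e.span_eq]; exact mem_top
  induction hx using Submodule.span_induction with
  | mem x hx => obtain ⟨i, rfl⟩ := hx; exact he i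
  | zero => rw [map_zero, h.zero, h'.zero]
  | add x y _ _ ihx ihy => rw [map_add, h'.add, h.add, ihx, ihy, h1]
  | smul c x _ ihx => rw [map_smul, h'.smul, h.smul, ihx]

end H49.Unip2
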