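import Cfsg.Agent.H49.SpPieces
import Cfsg.Agent.H49.SpClassSeries
import Cfsg.Agent.H41.PolySeq
import Cfsg.Agent.H48.PalCount

/-!
Palindromic polynomials attached to symplectic isometries without eigenvalues `±1`.
-/

set_option autoImplicit false
set_option linter.unusedSectionVars false

namespace H49.SpPieces

open Polynomial Finset
open H41 (Similar kerDim seqFun edFam modelEnd)
open H49.ClassSeries (PD NR palLin wP)

variable {F : Type*} [Field F]
  {U : Type*} [AddCommGroup U] [Module F U] [FiniteDimensional F U]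
  {f : LinearMap.BilinForm F U} {T : Module.End F U}

/-- The monic polynomial with the inverse roots. -/
noncomputable def star (p : F[X]) : F[X] := C (p.coeff 0)⁻¹ * p.reverse

theorem trailing_zero {p : F[X]} (h : p.coeff 0 ≠ 0) : p.natTrailingDegree = 0 :=
  natTrailingDegree_eq_zero.2 (Or.inr h)

theorem star_monic {p : F[X]} (h : p.coeff 0 ≠ 0) : (star p).Monic := by
  rw [Monic, star, leadingCoeff_mul, leadingCoeff_C, reverse_leadingCoeff, trailingCoeff, trailing_zero h,
    inv_mul_cancel₀ h]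

theorem star_natDegree {p : F[X]} (h : p.coeff 0 ≠ 0) : (star p).natDegree = p.natDegree := by
  rw [star, natDegree_C_mul (inv_ne_zero h), reverse_natDegree, trailing_zero h, Nat.sub_zero]

theorem star_coeff_zero {p : F[X]} (hm : p.Monic) : (star p).coeff 0 = (p.coeff 0)⁻¹ := by
  rw [star, coeff_C_mul, coeff_zero_reverse, hm.leadingCoeff, mul_one]

theorem reverse_reverse' {p : F[X]} (h : p.coeff 0 ≠ 0) : p.reverse.reverse = p := by
  rw [reverse, reverse_natDegree, trailing_zero h, Nat.sub_zero, reverse]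
  exact reflect_reflect

theorem star_star {p : F[X]} (hm : p.Monic) (h : p.coeff 0 ≠ 0) : star (star p) = p := by
  rw [star, star_coeff_zero hm, inv_inv, star, reverse_mul_of_domain, reverse_C, reverse_reverse' h, ← mul_assoc,
    ← C_mul, mul_inv_cancel₀ h, C_1, one_mul]

theorem star_mul (p q : F[X]) : star (p * q) = star p * star q := by
  rw [star, star, star, mul_coeff_zero, mul_inv, reverse_mul_of_domain, C_mul]
  ring

theorem star_eq {p : F[X]} (h : p.coeff 0 ≠ 0) : p.reverse = C (p.coeff 0) * star p := by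
  rw [star, ← mul_assoc, ← C_mul, mul_inv_cancel₀ h, C_1, one_mul]

theorem star_irreducible {p : F[X]} (hm : p.Monic) (h : p.coeff 0 ≠ 0) (hp : Irreducible p) :
    Irreducible (star p) := by
  have hd := hp.natDegree_pos
  refine ⟨fun hu => ?_, fun a b hab => ?_⟩
  · have := natDegree_eq_zero_of_isUnit hu
    rw [star_natDegree h] at this
    omega
  have h0 : a.coeff 0 * b.coeff 0 ≠ 0 := by
    rw [← mul_coeff_zero, ← hab, star_coeff_zero hm]; exact inv_ne_zero h
  have e : p = star a * star b := by rw [← star_mul, ← hab, star_star hm h]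
  rcases hp.isUnit_or_isUnit e with hu | hu
  · left
    have h1 := natDegree_eq_zero_of_isUnit hu
    rw [star_natDegree (left_ne_zero_of_mul h0)] at h1
    rw [eq_C_of_natDegree_eq_zero h1]
    exact isUnit_C.2 (isUnit_iff_ne_zero.2 (left_ne_zero_of_mul h0))
  · right
    have h1 := natDegree_eq_zero_of_isUnit hu
    rw [star_natDegree (right_ne_zero_of_mul h0)] at h1
    rw [eq_C_of_natDegree_eq_zero h1]
    exact isUnit_C.2 (isUnit_iff_ne_zero.2 (right_ne_zero_of_mul h0))

theorem star_multiset_prod : ∀ s : Multiset F[X], star s.prod = (s.map star).prod := fun s => by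
  induction s using Multiset.induction with
  | empty =>
    simp only [Multiset.prod_zero, Multiset.map_zero, star, coeff_one_zero, inv_one, C_1, one_mul]
    rw [← C_1, reverse_C]
  | cons a s ih => rw [Multiset.prod_cons, star_mul, ih, Multiset.map_cons, Multiset.prod_cons]

theorem Sym.aeval_adjoint (h : Sym f T) : ∀ (g : F[X]) (N : ℕ), g.natDegree ≤ N → ∀ x y,
    f (aeval T g x) ((T ^ N) y) = f x (aeval T (reflect N g) y) := by
  have hpow : ∀ (j : ℕ) x y, f ((T ^ j) x) ((T ^ j) y) = f x y := fun j => by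
    induction j with
    | zero => intro x y; rfl
    | succ j ih => intro x y; rw [pow_succ', Module.End.mul_apply, Module.End.mul_apply, h.isom, ih]
  intro g N hN x y
  have hterm : ∀ k ∈ range (N + 1), f ((aeval T (monomial k (g.coeff k))) x) ((T ^ N) y) =
      f x ((aeval T (reflect N (monomial k (g.coeff k)))) y) := fun k hk => by
    have hk' := Nat.lt_succ_iff.1 (mem_range.1 hk)
    rw [← C_mul_X_pow_eq_monomial, reflect_C_mul_X_pow, revAt_le hk', map_mul, map_mul, aeval_C, aeval_X_pow,
      aeval_X_pow, Module.End.mul_apply, Module.End.mul_apply, Module.algebraMap_end_apply,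
      Module.algebraMap_end_apply, map_smul, LinearMap.smul_apply, map_smul]
    congr 1
    conv_lhs => rw [show N = k + (N - k) by omega, pow_add, Module.End.mul_apply, hpow]
  conv_lhs => rw [g.as_sum_range' (N + 1) (Nat.lt_succ_of_le hN)]
  conv_rhs => rw [g.as_sum_range' (N + 1) (Nat.lt_succ_of_le hN)]
  rw [map_sum (aeval T), LinearMap.sum_apply, map_sum, LinearMap.sum_apply]
  have : reflect N (∑ k ∈ range (N + 1), monomial k (g.coeff k)) =
      ∑ k ∈ range (N + 1), reflect N (monomial k (g.coeff k)) := by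
    induction range (N + 1) using Finset.induction with
    | empty => simp
    | insert a s ha ih => rw [Finset.sum_insert ha, Finset.sum_insert ha, reflect_add, ih]
  rw [this, map_sum (aeval T), LinearMap.sum_apply, map_sum]
  exact Finset.sum_congr rfl hterm

theorem Sym.finrank_ker_reverse (h : Sym f T) (g : F[X]) :
    Module.finrank F (LinearMap.ker (aeval T g.reverse)) = Module.finrank F (LinearMap.ker (aeval T g)) := by
  set d := g.natDegree
  have hd : Function.Bijective (T ^ d) := by
    rw [Module.End.coe_pow]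
    exact ⟨h.injective.iterate d, h.surjective.iterate d⟩
  have hmap : (LinearMap.ker (aeval T g.reverse)).map (T ^ d) =
      LinearMap.BilinForm.orthogonal f (LinearMap.range (aeval T g)) := by
    ext z
    obtain ⟨y, rfl⟩ := hd.2 z
    rw [LinearMap.BilinForm.mem_orthogonal_iff]
    constructor
    · rintro ⟨y', hy', e⟩ w ⟨x, rfl⟩
      obtain rfl := hd.1 e
      show f (aeval T g x) ((T ^ d) y') = 0
      rw [h.aeval_adjoint g d le_rfl, ← reverse, LinearMap.mem_ker.1 hy', map_zero]
    · intro hy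
      refine ⟨y, LinearMap.mem_ker.2 (h.form.sep _ fun x => ?_), rfl⟩
      have h1 : f x (aeval T g.reverse y) = 0 := by
        rw [reverse, ← h.aeval_adjoint g d le_rfl]
        exact hy _ ⟨x, rfl⟩
      rw [h.form.skew, h1, neg_zero]
  have h1 := (Submodule.equivMapOfInjective (T ^ d) hd.1 (LinearMap.ker (aeval T g.reverse))).finrank_eq
  rw [hmap, LinearMap.BilinForm.finrank_orthogonal h.form.nondegenerate] at h1
  have h2 := LinearMap.finrank_range_add_finrank_ker (aeval T g)
  omega

theorem reverse_pow' (p : F[X]) : ∀ k, (p ^ k).reverse = p.reverse ^ k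
  | 0 => by rw [pow_zero, pow_zero, ← C_1, reverse_C]
  | k + 1 => by rw [pow_succ, pow_succ, reverse_mul_of_domain, reverse_pow' p k]

/-- The data `P` belong to `T`. -/
def PReal (T : Module.End F U) (n : ℕ) (P : Fin n → PD F) : Prop :=
  ∃ s : Multiset (F[X] × ℕ), Similar T (modelEnd (edFam s)) ∧
    (∀ x ∈ s, x.1.Monic ∧ Irreducible x.1 ∧ 1 ≤ x.2 ∧ x.2 ≤ n) ∧
    ∀ i : Fin n, H48.SS.Pal (seqFun (n := n) s i) ∧ (seqFun (n := n) s i).natDegree = 2 * (P i).1 ∧
      ∀ j : Fin (P i).1, (seqFun (n := n) s i).coeff ((j : ℕ) + 1) = (P i).2.1 j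

theorem eval_pal {Q : F[X]} (hQ : H48.SS.Pal Q) {m : ℕ} (hm : Q.natDegree = 2 * m) (hm0 : 0 < m) {ε : F}
    (hε : ε * ε = 1) : Q.eval ε = palLin m ε (fun j : Fin m => Q.coeff ((j : ℕ) + 1)) + 2 := by
  have hε2 : ε ^ (2 * m) = 1 := by rw [pow_mul, sq, hε, one_pow]
  have hc : ∀ k ∈ range (2 * m + 1), Q.coeff k * ε ^ k =
      ε ^ k * ClassSeries.inner (min k (2 * m - k)) (fun j : Fin m => Q.coeff ((j : ℕ) + 1)) +
        if k = 0 ∨ k = 2 * m then 1 else 0 := by
    intro k hk
    have hk' := Nat.lt_succ_iff.1 (mem_range.1 hk)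
    by_cases h0 : k = 0 ∨ k = 2 * m
    · rw [if_pos h0, ClassSeries.inner, dif_neg (by omega), LinearMap.zero_apply, mul_zero, zero_add]
      rcases h0 with rfl | rfl
      · have := hQ.coeff_symm (k := 0) (Nat.zero_le _)
        rw [Nat.sub_zero, hQ.monic.coeff_natDegree] at this
        rw [← this, pow_zero, mul_one]
      · rw [← hm, hQ.monic.coeff_natDegree, hm, hε2, mul_one]
    · rw [if_neg h0, add_zero, ClassSeries.inner, dif_pos (by omega), LinearMap.proj_apply, mul_comm]
      congr 1
      show Q.coeff k = Q.coeff (min k (2 * m - k) - 1 + 1)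
      rcases Nat.le_total k (2 * m - k) with hle | hle
      · rw [min_eq_left hle, show k - 1 + 1 = k by omega]
      · rw [min_eq_right hle, show 2 * m - k - 1 + 1 = 2 * m - k by omega]
        conv_rhs => rw [← hm]
        exact (hQ.coeff_symm (hm ▸ hk')).symm
  rw [eval_eq_sum_range, hm, Finset.sum_congr rfl hc, Finset.sum_add_distrib, palLin, LinearMap.sum_apply]
  simp only [LinearMap.smul_apply, smul_eq_mul]
  congr 1
  rw [← Finset.sum_filter, show (range (2 * m + 1)).filter (fun k => k = 0 ∨ k = 2 * m) = {0, 2 * m} by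
    ext k; simp only [Finset.mem_filter, mem_range, Finset.mem_insert, Finset.mem_singleton]; omega,
    Finset.sum_pair (by omega)]
  norm_num

theorem exists_free_seq (hs : Sym f T) (hfree : ∀ e : F, e * e = 1 → ∀ x, T x = e • x → x = 0)
    {n : ℕ} (hn : Module.finrank F U ≤ 2 * n) :
    ∃ s : Multiset (F[X] × ℕ), Similar T (modelEnd (edFam s)) ∧
      (∀ x ∈ s, x.1.Monic ∧ Irreducible x.1 ∧ 1 ≤ x.2 ∧ x.2 ≤ n) ∧
      Module.finrank F U = ∑ i : Fin n, ((i : ℕ) + 1) * (seqFun (n := n) s i).natDegree ∧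
      ∀ i : Fin n, (seqFun (n := n) s i).Monic ∧ (seqFun (n := n) s i).coeff 0 = 1 ∧
        (seqFun (n := n) s i).reverse = seqFun (n := n) s i ∧
        ∀ ε : F, ε * ε = 1 → (seqFun (n := n) s i).eval ε ≠ 0 := by
  classical
  obtain ⟨N, p, ee, hpe, hsim⟩ := H41.exists_model T
  set s : Multiset (F[X] × ℕ) := Finset.univ.val.map fun i => (p i, ee i) with hs'
  have hsim' : Similar T (modelEnd (edFam s)) := hsim.trans (H41.similar_edModel_of_family p ee)
  have hmem : ∀ x ∈ s, x.1.Monic ∧ Irreducible x.1 ∧ 1 ≤ x.2 := by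
    intro x hx
    obtain ⟨i, -, rfl⟩ := Multiset.mem_map.1 hx
    exact hpe i
  have hker : ∀ (q : F[X]), q.Monic → Irreducible q → ∀ k,
      Module.finrank F (LinearMap.ker (aeval T (q ^ k))) = kerDim s q k := fun q hq hqi k => by
    rw [hsim'.finrank_ker_aeval, H41.finrank_ker_edModel s (fun x hx => ⟨(hmem x hx).1, (hmem x hx).2.1⟩) q hq hqi]
  have hpos : ∀ x ∈ s, 0 < kerDim s x.1 1 := fun x hx => by
    obtain ⟨t, ht⟩ := Multiset.exists_cons_of_mem hx
    obtain ⟨x1, x2⟩ := x
    obtain ⟨-, hi, he⟩ := hmem _ hx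
    rw [kerDim, ht, Multiset.map_cons, Multiset.sum_cons, if_pos rfl]
    have := hi.natDegree_pos
    have := Nat.mul_pos (show 0 < min 1 x2 by dsimp only at he; omega) this
    dsimp only at *
    omega
  -- no linear factor at `0`, `1`, `-1`
  have heig : ∀ x ∈ s, ∀ c : F, x.1 = X - C c → ∃ v, v ≠ 0 ∧ T v = c • v := by
    intro x hx c hc
    have hk := hpos x hx
    rw [← hker _ (hmem x hx).1 (hmem x hx).2.1, pow_one, hc] at hk
    obtain ⟨v, hv⟩ := Module.finrank_pos_iff_exists_ne_zero.1 hk
    obtain ⟨v, hvk⟩ := v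
    refine ⟨v, fun h0 => hv (Subtype.ext h0), ?_⟩
    have := LinearMap.mem_ker.1 hvk
    rw [map_sub, aeval_X, aeval_C, LinearMap.sub_apply, Module.algebraMap_end_apply, sub_eq_zero] at this
    exact this
  have hc0 : ∀ x ∈ s, x.1.coeff 0 ≠ 0 := by
    intro x hx h0
    have hX : x.1 = X - C 0 := by
      rw [C_0, sub_zero]
      exact (eq_of_monic_of_associated monic_X (hmem x hx).1
        (irreducible_X.associated_of_dvd (hmem x hx).2.1 (X_dvd_iff.2 h0))).symm
    obtain ⟨v, hv, hTv⟩ := heig x hx 0 hX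
    rw [zero_smul] at hTv
    exact hv (hs.injective (hTv.trans (map_zero T).symm))
  have hroot : ∀ x ∈ s, ∀ ε : F, ε * ε = 1 → x.1.eval ε ≠ 0 := by
    intro x hx ε hε h0
    obtain ⟨v, hv, hTv⟩ := heig x hx ε
      ((eq_of_monic_of_associated (monic_X_sub_C ε) (hmem x hx).1
        ((irreducible_X_sub_C ε).associated_of_dvd (hmem x hx).2.1 (dvd_iff_isRoot.2 h0))).symm)
    exact hv (hfree ε hε v hTv)
  -- invariance
  have hstar : ∀ q : F[X], q.Monic → Irreducible q → q.coeff 0 ≠ 0 → ∀ k, kerDim s (star q) k = kerDim s q k :=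
    fun q hq hqi hq0 k => by
      rw [← hker _ (star_monic hq0) (star_irreducible hq hq0 hqi), ← hker _ hq hqi, ← hs.finrank_ker_reverse (q ^ k),
        reverse_pow', star_eq hq0, mul_pow, ← C_pow, map_mul, aeval_C]
      refine congrArg (fun W : Submodule F U => Module.finrank F W) ?_
      ext v
      rw [LinearMap.mem_ker, LinearMap.mem_ker, Module.End.mul_apply, Module.algebraMap_end_apply, smul_eq_zero,
        or_iff_right (pow_ne_zero _ hq0)]
  have hcount : ∀ x ∈ s, Multiset.count (star x.1, x.2) s = Multiset.count (x.1, x.2) s := by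
    intro x hx
    obtain ⟨hq, hqi, he⟩ := hmem x hx
    obtain ⟨k, hk⟩ : ∃ k, x.2 = k + 1 := ⟨x.2 - 1, by omega⟩
    have h1 := H41.kerDim_count s x.1 k
    have h3 := H41.kerDim_count s (star x.1) k
    rw [hstar _ hq hqi (hc0 x hx), hstar _ hq hqi (hc0 x hx), hstar _ hq hqi (hc0 x hx),
      star_natDegree (hc0 x hx)] at h3
    rw [hk]
    exact Nat.eq_of_mul_eq_mul_left hqi.natDegree_pos (by omega)
  have hinv : s.map (fun x => (star x.1, x.2)) = s := by
    refine Multiset.ext.2 fun x => ?_
    by_cases hx : x ∈ s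
    · have hxs : (star x.1, x.2) ∈ s := Multiset.count_pos.1 (by
        rw [hcount x hx]; exact Multiset.count_pos.2 hx)
      have hinj : Set.InjOn (fun x : F[X] × ℕ => (star x.1, x.2)) {y | y ∈ s} := fun a ha b hb e => by
        simp only [Prod.mk.injEq] at e
        refine Prod.ext ?_ e.2
        rw [← star_star (hmem a ha).1 (hc0 a ha), e.1, star_star (hmem b hb).1 (hc0 b hb)]
      have h1 := Multiset.count_map_eq_count _ s hinj _ hxs
      simp only [star_star (hmem x hx).1 (hc0 x hx)] at h1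
      exact h1.trans (hcount x hx)
    · rw [Multiset.count_eq_zero_of_notMem hx, Multiset.count_eq_zero]
      intro hm
      obtain ⟨y, hy, rfl⟩ := Multiset.mem_map.1 hm
      exact hx (Multiset.count_pos.1 (by rw [hcount y hy]; exact Multiset.count_pos.2 hy))
  -- dimensions
  have hdim : Module.finrank F U = (s.map fun x => x.1.natDegree * x.2).sum := by
    obtain ⟨φ, -⟩ := hsim
    rw [φ.finrank_eq, H41.finrank_modelSpace _ (fun i => pow_ne_zero _ (hpe i).1.ne_zero), hs', Multiset.map_map,
      ← Finset.sum_eq_multiset_sum]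
    exact Finset.sum_congr rfl fun i _ => by rw [Function.comp_apply, (hpe i).1.natDegree_pow, mul_comm]
  have hle : ∀ x ∈ s, x.2 ≤ n := by
    intro x hx
    obtain ⟨hq, hqi, he⟩ := hmem x hx
    have hxs : (star x.1, x.2) ∈ s := Multiset.count_pos.1 (by rw [hcount x hx]; exact Multiset.count_pos.2 hx)
    by_cases he1 : star x.1 = x.1
    · have hd : 2 ≤ x.1.natDegree := by
        by_contra hlt
        have hd1 : x.1.natDegree = 1 := by have := hqi.natDegree_pos; omega
        have e := hq.eq_X_add_C hd1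
        have h1 := congrArg (coeff · 0) he1
        simp only [star_coeff_zero hq] at h1
        have hsq : x.1.coeff 0 * x.1.coeff 0 = 1 := by
          conv_lhs => arg 1; rw [← h1]
          exact inv_mul_cancel₀ (hc0 x hx)
        refine hroot x hx (-x.1.coeff 0) (by rw [neg_mul_neg, hsq]) ?_
        rw [e]
        simp
      have h1 : x.1.natDegree * x.2 ≤ Module.finrank F U :=
        hdim ▸ Multiset.le_sum_of_mem (Multiset.mem_map_of_mem (fun x : F[X] × ℕ => x.1.natDegree * x.2) hx)
      have h3 : 2 * x.2 ≤ x.1.natDegree * x.2 := Nat.mul_le_mul_right _ hd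
      omega
    · obtain ⟨t, ht⟩ := Multiset.exists_cons_of_mem hx
      have hxt : (star x.1, x.2) ∈ t := by
        rw [ht, Multiset.mem_cons] at hxs
        exact hxs.resolve_left fun e => he1 (congrArg Prod.fst e)
      have h1 := Multiset.le_sum_of_mem (Multiset.mem_map_of_mem (fun x : F[X] × ℕ => x.1.natDegree * x.2) hxt)
      rw [ht, Multiset.map_cons, Multiset.sum_cons] at hdim
      dsimp only at h1
      rw [star_natDegree (hc0 x hx)] at h1
      have h3 : x.2 ≤ x.1.natDegree * x.2 := Nat.le_mul_of_pos_left _ hqi.natDegree_pos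
      omega
  -- the polynomials
  have key : ∀ i : Fin n, (seqFun (n := n) s i).Monic ∧ (seqFun (n := n) s i).coeff 0 = 1 ∧
      (seqFun (n := n) s i).reverse = seqFun (n := n) s i ∧
        ∀ ε : F, ε * ε = 1 → (seqFun (n := n) s i).eval ε ≠ 0 := by
    intro i
    set Q := seqFun (n := n) s i with hQ
    set t := s.filter (fun x => x.2 = (i : ℕ) + 1) with ht
    have hQt : Q = (t.map Prod.fst).prod := by rw [hQ, ht]; unfold seqFun; congr
    have hts : ∀ x ∈ t, x ∈ s := fun x hx => Multiset.mem_of_mem_filter hx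
    have hmQ : Q.Monic := hQt ▸ monic_multiset_prod_of_monic _ _ fun x hx => (hmem x (hts x hx)).1
    have hstQ : star Q = Q := by
      rw [hQt, star_multiset_prod, Multiset.map_map]
      conv_rhs => rw [ht, ← hinv, Multiset.filter_map, Multiset.map_map]
      rfl
    have hev0 : ∀ ε : F, ε * ε = 1 → Q.eval ε ≠ 0 := fun ε hε => by
      rw [hQt, eval_multiset_prod, Multiset.map_map, Ne, Multiset.prod_eq_zero_iff, Multiset.mem_map]
      rintro ⟨x, hx, hx0⟩
      exact hroot x (hts x hx) ε hε hx0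
    have hQ0 : Q.coeff 0 ≠ 0 := by
      rw [hQt]
      exact H41.coeff_zero_prod_ne _ fun g hg => by
        obtain ⟨x, hx, rfl⟩ := Multiset.mem_map.1 hg
        exact hc0 x (hts x hx)
    have hrev : Q.reverse = C (Q.coeff 0) * Q := by
      conv_lhs => rw [star_eq hQ0, hstQ]
    have hev : ∀ ε : F, ε * ε = 1 → Q.coeff 0 * Q.eval ε * ε ^ Q.natDegree = Q.eval ε := fun ε hε => by
      letI : Invertible ε := ⟨ε, hε, hε⟩
      have := eval₂_reverse_mul_pow (RingHom.id F) ε Q
      rw [eval₂_id, eval₂_id, hrev, eval_mul, eval_C, show ⅟ε = ε from rfl] at this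
      exact this
    have hQ1 : Q.coeff 0 = 1 := by
      have := hev 1 (one_mul 1)
      rw [one_pow, mul_one] at this
      exact (mul_eq_right₀ (hev0 1 (one_mul 1))).1 this
    exact ⟨hmQ, hQ1, by rw [hrev, hQ1, C_1, one_mul], hev0⟩
  refine ⟨s, hsim', fun x hx => ⟨(hmem x hx).1, (hmem x hx).2.1, (hmem x hx).2.2, hle x hx⟩, ?_, key⟩
  rw [hdim]
  conv_lhs => rw [← H41.bind_filter_snd (n := n) s fun x hx => ⟨(hmem x hx).2.2, hle x hx⟩, Multiset.map_bind,
    Multiset.sum_bind, ← Finset.sum_eq_multiset_sum]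
  refine Finset.sum_congr rfl fun i _ => ?_
  rw [seqFun, Polynomial.natDegree_multiset_prod_of_monic _ (fun g hg => by
      obtain ⟨x, hx, rfl⟩ := Multiset.mem_map.1 hg
      exact (hmem x (Multiset.mem_of_mem_filter hx)).1), Multiset.map_map, ← Multiset.sum_map_mul_left]
  congr 1
  exact Multiset.map_congr rfl fun x hx => by rw [Function.comp_apply, (Multiset.mem_filter.1 hx).2, mul_comm]

/-- The data of a free part in odd characteristic. -/
theorem exists_pdata (h2 : (2 : F) ≠ 0) (hs : Sym f T) (hfree : ∀ e : F, e * e = 1 → ∀ x, T x = e • x → x = 0)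
    {n : ℕ} (hn : Module.finrank F U ≤ 2 * n) :
    ∃ P : Fin n → PD F, 2 * ∑ i : Fin n, wP i (P i) = Module.finrank F U ∧ PReal T n P := by
  classical
  obtain ⟨s, hsim', hmem, hdim, hseq⟩ := exists_free_seq hs hfree hn
  have hne : (1 : F) ≠ -1 := fun e => h2 (by linear_combination e)
  have key : ∀ i : Fin n, ∃ m : PD F, H48.SS.Pal (seqFun (n := n) s i) ∧
      (seqFun (n := n) s i).natDegree = 2 * m.1 ∧
        ∀ j : Fin m.1, (seqFun (n := n) s i).coeff ((j : ℕ) + 1) = m.2.1 j := by
    intro i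
    obtain ⟨hmQ, hQ1, hrev, hev0⟩ := hseq i
    set Q := seqFun (n := n) s i with hQ
    have hev : ∀ ε : F, ε * ε = 1 → Q.eval ε * ε ^ Q.natDegree = Q.eval ε := fun ε hε => by
      letI : Invertible ε := ⟨ε, hε, hε⟩
      have := eval₂_reverse_mul_pow (RingHom.id F) ε Q
      rw [eval₂_id, eval₂_id, hrev, show ⅟ε = ε from rfl] at this
      exact this
    have heven : Even Q.natDegree := (neg_one_pow_eq_one_iff_even hne.symm).1
      ((mul_eq_left₀ (hev0 (-1) (by ring))).1 (hev (-1) (by ring)))
    have hpal : H48.SS.Pal Q := ⟨hmQ, heven, hrev⟩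
    obtain ⟨m, hm⟩ := heven
    have hm' : Q.natDegree = 2 * m := by omega
    refine ⟨⟨m, ⟨fun j => Q.coeff ((j : ℕ) + 1), ?_⟩⟩, hpal, hm', fun j => rfl⟩
    rcases Nat.eq_zero_or_pos m with rfl | hm0
    · have h0 : ∀ ε : F, ClassSeries.palLin 0 ε = 0 := fun ε => LinearMap.ext fun a => by
        rw [Subsingleton.elim a 0, map_zero, LinearMap.zero_apply]
      simp [h0, h2]
    · exact ⟨by rw [← eval_pal hpal hm' hm0 (one_mul 1)]; exact hev0 1 (one_mul 1),
        by rw [← eval_pal hpal hm' hm0 (by ring : (-1 : F) * -1 = 1)]; exact hev0 (-1) (by ring)⟩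
  choose P hP using key
  refine ⟨P, ?_, s, hsim', hmem, hP⟩
  rw [hdim, Finset.mul_sum]
  refine Finset.sum_congr rfl fun i _ => ?_
  rw [wP, show 2 * (((i : ℕ) + 1) * (P i).1) = ((i : ℕ) + 1) * (2 * (P i).1) by ring, ← (hP i).2.1]

variable {U' : Type*} [AddCommGroup U'] [Module F U'] [FiniteDimensional F U']

/-- The data determine the isometry up to a linear map. -/
theorem similar_of_preal {T' : Module.End F U'} {n : ℕ} {P : Fin n → PD F} (h : PReal T n P) (h' : PReal T' n P) :
    Similar T T' := by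
  classical
  obtain ⟨s, hs, hm, hP⟩ := h
  obtain ⟨s', hs', hm', hP'⟩ := h'
  suffices s = s' by subst this; exact hs.trans hs'.symm
  have hseq : ∀ i : Fin n, seqFun (n := n) s i = seqFun (n := n) s' i := fun i =>
    H48.SS.Pal.ext (hP i).1 (hP' i).1 (hP i).2.1 (hP' i).2.1 fun j => by rw [(hP i).2.2, (hP' i).2.2]
  have hrec : ∀ (s : Multiset (F[X] × ℕ)), (∀ x ∈ s, x.1.Monic ∧ Irreducible x.1 ∧ 1 ≤ x.2 ∧ x.2 ≤ n) →
      s = (Finset.univ : Finset (Fin n)).val.bind (fun j =>
        (UniqueFactorizationMonoid.normalizedFactors (seqFun (n := n) s j)).map fun p => (p, (j : ℕ) + 1)) := by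
    intro s hs
    conv_lhs => rw [← H41.bind_filter_snd (n := n) s fun x hx => ⟨(hs x hx).2.2.1, (hs x hx).2.2.2⟩]
    refine Multiset.bind_congr fun j _ => ?_
    symm
    rw [seqFun, UniqueFactorizationMonoid.normalizedFactors_prod_eq _ (fun g hg => by
      obtain ⟨x, hx, rfl⟩ := Multiset.mem_map.mp hg
      exact (hs x (Multiset.mem_of_mem_filter hx)).2.1), Multiset.map_map, Multiset.map_map]
    refine Eq.trans ?_ (Multiset.map_id _)
    refine Multiset.map_congr rfl fun x hx => ?_
    obtain ⟨hx1, hx2⟩ := Multiset.mem_filter.mp hx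
    exact Prod.ext (hs x hx1).1.normalize_eq_self hx2.symm
  rw [hrec s hm, hrec s' hm', funext hseq]

/-- Without eigenvalues `±1`, linear equivalence gives isometric equivalence. -/
theorem isoT_of_similar [Finite F] {f' : LinearMap.BilinForm F U'} {T' : Module.End F U'} (hs : Sym f T)
    (hs' : Sym f' T') (hfree : ∀ e : F, e * e = 1 → ∀ x, T x = e • x → x = 0) (h : Similar T T') :
    IsoT f T f' T' := by
  obtain ⟨g, hg⟩ := h
  have hfree2 : ∀ x, T (T x) = x → x = 0 := fun x hx => by
    have h1 : T x + x = 0 := hfree 1 (one_mul 1) _ (by rw [map_add, hx, one_smul]; abel)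
    exact hfree (-1) (by ring) x (by rw [neg_smul, one_smul]; exact eq_neg_of_add_eq_zero_left h1)
  obtain ⟨c, hcT, hcf⟩ := H48.SS.good_of_free hs.form (f₂ := f'.compl₁₂ g.toLinearMap g.toLinearMap)
    ⟨fun x => hs'.form.alt _, fun x hx => g.injective (by
      rw [map_zero]
      exact hs'.form.sep _ fun y => by obtain ⟨y, rfl⟩ := g.surjective y; exact hx y)⟩
    hs.isom (fun x y => by
      simp only [LinearMap.compl₁₂_apply, LinearEquiv.coe_coe, hg, hs'.isom]) hfree2
  refine ⟨c.symm ≪≫ₗ g, fun x y => ?_, fun x => ?_⟩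
  · conv_rhs => rw [← c.apply_symm_apply x, ← c.apply_symm_apply y, hcf]
    rfl
  · show g (c.symm (T x)) = T' (g (c.symm x))
    have : c.symm (T x) = T (c.symm x) := c.injective (by rw [c.apply_symm_apply, hcT, c.apply_symm_apply])
    rw [this, hg]

end H49.SpPieces
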