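import Cfsg.Agent.H49.Unip2Match
import Cfsg.Agent.H49.Unip2Series
import Cfsg.Agent.H49.SpFreeData
import Cfsg.Agent.H48.PalCount

/-!
The class number of a symplectic group in characteristic two.
-/

set_option autoImplicit false
set_option linter.unusedSectionVars false

namespace H49.Unip2

open Finset Polynomial
open H49.SpPieces (Sym IsoT gK gR gK_mem gR_mem gK_nilpotent gR_no_fixed finrank_add isoT_glue exists_free_seq
  isoT_of_similar eval_pal)
open H41 (Similar seqFun edFam modelEnd)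
open H49.ClassSeries (gser coeff_gser geo Bd bd_geo coeff_le_of_bd gser_prod gser_sum finite_prod_fibre
  finite_tuple_fibre gser_tuple gser_mul_nat finite_mul_fibre one_sub_mul_geo palLin palLin_single)

variable {F : Type*} [Field F]

/-- Palindromic data avoiding the root one, in characteristic two. -/
def NR2 (F : Type*) [Field F] (m : ℕ) : Type _ := {a : Fin m → F // ∀ h : 0 < m, a ⟨m - 1, by omega⟩ ≠ 0}

instance [Finite F] (m : ℕ) : Finite (NR2 F m) := Subtype.finite

/-- The data at one part size away from one. -/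
abbrev PD2 (F : Type*) [Field F] : Type _ := Σ m : ℕ, NR2 F m

/-- The weight. -/
def wP2 (i : ℕ) (p : PD2 F) : ℕ := (i + 1) * p.1

theorem card_NR2 [Fintype F] : ∀ m, (Nat.card (NR2 F m) : ℚ) =
    if m = 0 then 1 else ((Fintype.card F : ℚ) - 1) * (Fintype.card F : ℚ) ^ (m - 1) := by
  classical
  intro m
  rcases m with _ | m
  · haveI : Unique (NR2 F 0) :=
      { default := ⟨Fin.elim0, fun h => absurd h (by omega)⟩,
        uniq := fun a => Subtype.ext (funext fun i => i.elim0) }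
    simp
  let e : NR2 F (m + 1) ≃ {t : F // t ≠ 0} × (Fin m → F) :=
    { toFun := fun a => (⟨a.1 (Fin.last m), a.2 (by omega)⟩, Fin.init a.1)
      invFun := fun p => ⟨Fin.snoc p.2 p.1.1, fun _ => by
        rw [show (⟨m + 1 - 1, by omega⟩ : Fin (m + 1)) = Fin.last m from rfl, Fin.snoc_last]; exact p.1.2⟩
      left_inv := fun a => Subtype.ext (Fin.snoc_init_self a.1)
      right_inv := fun p => by
        refine Prod.ext (Subtype.ext ?_) ?_ <;> simp }
  have hq : 1 ≤ Fintype.card F := Fintype.card_pos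
  rw [Nat.card_congr e, Nat.card_prod, Nat.card_fun, Nat.card_fin, Nat.card_eq_fintype_card,
    Fintype.card_subtype_compl, Fintype.card_subtype_eq, if_neg (by omega), Nat.card_eq_fintype_card]
  push_cast [Nat.cast_sub hq]
  rfl

theorem finite_wP2 [Finite F] (i n : ℕ) : Finite {p : PD2 F // wP2 i p = n} :=
  Finite.of_injective (β := Σ m : Fin (n + 1), NR2 F m)
    (fun p => ⟨⟨p.1.1, Nat.lt_succ_of_le ((Nat.le_mul_of_pos_left _ (Nat.succ_pos i)).trans p.2.le)⟩, p.1.2⟩)
    fun ⟨⟨m, a⟩, h⟩ ⟨⟨m', a'⟩, h'⟩ e => by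
      simp only [Sigma.mk.injEq, Fin.mk.injEq] at e
      obtain ⟨rfl, e⟩ := e
      exact Subtype.ext (by rw [eq_of_heq e])

theorem gser_wP2 [Fintype F] (i : ℕ) : gser (wP2 (F := F) i) =
    (1 - PowerSeries.X ^ (i + 1)) * geo (Fintype.card F : ℚ) (i + 1) := by
  have hc : 0 < i + 1 := Nat.succ_pos i
  ext n
  rw [coeff_gser, sub_mul, one_mul, map_sub, PowerSeries.coeff_X_pow_mul']
  simp only [geo, PowerSeries.coeff_mk]
  by_cases hd : i + 1 ∣ n
  · obtain ⟨m, rfl⟩ := hd
    have e : {p : PD2 F // wP2 i p = (i + 1) * m} ≃ NR2 F m :=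
      { toFun := fun p => (Nat.eq_of_mul_eq_mul_left hc p.2) ▸ p.1.2
        invFun := fun a => ⟨⟨m, a⟩, rfl⟩
        left_inv := by
          rintro ⟨⟨k, a⟩, hk⟩
          obtain rfl : k = m := Nat.eq_of_mul_eq_mul_left hc hk
          rfl
        right_inv := fun a => rfl }
    rw [Nat.card_congr e, card_NR2 m, if_pos (dvd_mul_right _ _), Nat.mul_div_cancel_left _ hc]
    rcases m with _ | m
    · simp
    · have e1 : (i + 1) * (m + 1) - (i + 1) = (i + 1) * m := by rw [Nat.mul_succ, Nat.add_sub_cancel]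
      rw [if_neg (by omega), if_pos (Nat.le_mul_of_pos_right _ (Nat.succ_pos m)), e1, if_pos (dvd_mul_right _ _),
        Nat.mul_div_cancel_left _ hc, show m + 1 - 1 = m by omega, pow_succ]
      ring
  · haveI : IsEmpty {p : PD2 F // wP2 i p = n} := ⟨fun p => hd ⟨p.1.1, p.2.symm⟩⟩
    rw [if_neg hd]
    split_ifs with h1 h2
    · exact absurd ((Nat.dvd_sub_iff_left h1 (dvd_refl _)).1 h2) hd
    all_goals simp

/-- Canonical lists together with the number of pairs of trivial blocks. -/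
abbrev UD (o : Bool) (n : ℕ) : Type := ℕ × (CM o n false ⊕ CM o n true)

/-- The weight on `UD`. -/
def wUD {o : Bool} {n : ℕ} (d : UD o n) : ℕ := d.1 + Sum.elim wCM wCM d.2

/-- The list of types of `d`. -/
def lst {o : Bool} {n : ℕ} (d : UD o n) : Multiset Blk :=
  Multiset.replicate d.1 (.pr 0 false) + Sum.elim (fun M => M.1) (fun M => M.1) d.2

/-- The data of a class. -/
abbrev Dat (o : Bool) (F : Type*) [Field F] (n : ℕ) : Type _ := UD o n × (Fin n → PD2 F)

/-- The total weight. -/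
def dwt2 {o : Bool} {n : ℕ} (d : Dat o F n) : ℕ := wUD d.1 + ∑ i : Fin n, wP2 i (d.2 i)

theorem finite_wUD {o : Bool} {n : ℕ} (k : ℕ) : Finite {d : UD o n // wUD d = k} := by
  haveI := (bd_cm (x := 0) le_rfl zero_lt_one o n false).1
  haveI := (bd_cm (x := 0) le_rfl zero_lt_one o n true).1
  haveI : ∀ k, Finite {z : CM o n false ⊕ CM o n true // Sum.elim wCM wCM z = k} := fun k => finite_sum_fibre _ _ k
  haveI : ∀ k, Finite {a : ℕ // a = k} := fun k => inferInstance
  exact finite_prod_fibre (fun a : ℕ => a) (Sum.elim (wCM : CM o n false → ℕ) (wCM : CM o n true → ℕ)) k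

theorem finite_dat [Finite F] {o : Bool} {n : ℕ} (k : ℕ) : Finite {d : Dat o F n // dwt2 d = k} := by
  haveI := fun k => finite_wUD (o := o) (n := n) k
  haveI := fun k => finite_tuple_fibre (fun (i : Fin n) => wP2 (F := F) i) (fun i => finite_wP2 i) k
  exact finite_prod_fibre (wUD (o := o) (n := n)) (fun p : Fin n → PD2 F => ∑ i : Fin n, wP2 i (p i)) k

theorem gser_dwt2 [Fintype F] {o : Bool} {n : ℕ} : gser (dwt2 (o := o) (F := F) (n := n)) =
    geo 1 1 * (gser (wCM : CM o n false → ℕ) + gser (wCM : CM o n true → ℕ)) *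
      ∏ i : Fin n, (1 - PowerSeries.X ^ ((i : ℕ) + 1)) * geo (Fintype.card F : ℚ) ((i : ℕ) + 1) := by
  haveI := (bd_cm (x := 0) le_rfl zero_lt_one o n false).1
  haveI := (bd_cm (x := 0) le_rfl zero_lt_one o n true).1
  haveI : ∀ k, Finite {z : CM o n false ⊕ CM o n true // Sum.elim wCM wCM z = k} := fun k => finite_sum_fibre _ _ k
  haveI : ∀ k, Finite {a : ℕ // a = k} := fun k => inferInstance
  haveI := fun k => finite_wUD (o := o) (n := n) k
  haveI := fun k => finite_tuple_fibre (fun (i : Fin n) => wP2 (F := F) i) (fun i => finite_wP2 i) k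
  have h1 : gser (fun a : ℕ => a) = geo 1 1 := by
    rw [← gser_mul_nat one_pos]
    exact congrArg gser (funext fun a => (one_mul a).symm)
  have h2 := gser_prod (fun a : ℕ => a) (Sum.elim (wCM : CM o n false → ℕ) (wCM : CM o n true → ℕ))
  rw [h1, gser_sum] at h2
  have h := gser_prod (wUD (o := o) (n := n)) (fun p : Fin n → PD2 F => ∑ i : Fin n, wP2 i (p i))
  rw [show gser (wUD (o := o) (n := n)) = _ from h2, gser_tuple (fun (i : Fin n) => wP2 (F := F) i) (fun i => finite_wP2 i),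
    Finset.prod_congr rfl fun (i : Fin n) _ => gser_wP2 (i : ℕ)] at h
  exact h

theorem bd_free {x q : ℚ} (hx : 0 ≤ x) (hq : 1 ≤ q) {c : ℕ} (hc : 0 < c) (hqx : q * x ^ c < 1) :
    Bd x ((1 - x ^ c) / (1 - q * x ^ c)) ((1 - PowerSeries.X ^ c) * geo q c) := by
  have e : (1 - PowerSeries.X ^ c) * geo q c = 1 + PowerSeries.C (q - 1) * (PowerSeries.X ^ c * geo q c) := by
    rw [map_sub, map_one]
    linear_combination one_sub_mul_geo q hc
  have h := (bd_pow (x := x) hx c).mul hx (bd_geo hx (le_trans zero_le_one hq) hc hqx)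
  have h' : Bd x ((q - 1) * (x ^ c * (1 / (1 - q * x ^ c))))
      (PowerSeries.C (q - 1) * (PowerSeries.X ^ c * geo q c)) :=
    ⟨fun k => by rw [PowerSeries.coeff_C_mul]; exact mul_nonneg (by linarith) (h.1 k), fun N => by
      simp only [PowerSeries.coeff_C_mul, mul_assoc, ← Finset.mul_sum]
      exact mul_le_mul_of_nonneg_left (h.2 N) (by linarith)⟩
  rw [e]
  refine (bd_add H49.ClassSeries.bd_one h').mono (le_of_eq ?_)
  have : (1 - q * x ^ c) ≠ 0 := by linarith
  field_simp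
  ring

/-- The coefficient bound for a series times that of the free parts. -/
theorem coeff_free_le [Fintype F] (m k : ℕ) {x : ℚ} (hx : x = (Fintype.card F : ℚ)⁻¹) {B : ℚ} {A : PowerSeries ℚ}
    (hA : Bd x B A) : PowerSeries.coeff k (geo 1 1 * A *
      ∏ i : Fin (m + 1), (1 - PowerSeries.X ^ ((i : ℕ) + 1)) * geo (Fintype.card F : ℚ) ((i : ℕ) + 1)) ≤
      2 * B * (Fintype.card F : ℚ) ^ k := by
  set q : ℚ := (Fintype.card F : ℚ) with hqd
  have hq2 : (2 : ℚ) ≤ q := by rw [hqd]; exact_mod_cast Fintype.one_lt_card (α := F)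
  have hq0 : 0 < q := by linarith
  have hx0 : 0 < x := by rw [hx]; positivity
  have hx2 : x ≤ 1 / 2 := by rw [hx, one_div]; exact inv_anti₀ (by norm_num) hq2
  have hx1 : x < 1 := by linarith
  have hqx : q * x = 1 := by rw [hx, mul_inv_cancel₀ hq0.ne']
  have hP : ∀ j : ℕ, Bd x ((1 - x ^ (j + 2)) / (1 - x ^ (j + 1)))
      ((1 - PowerSeries.X ^ (j + 2)) * geo q (j + 2)) := fun j => by
    have e : q * x ^ (j + 2) = x ^ (j + 1) := by rw [pow_succ' x (j + 1), ← mul_assoc, hqx, one_mul]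
    have := bd_free hx0.le (by linarith) (show 0 < j + 2 by omega) (e ▸ pow_lt_one₀ hx0.le hx1 (by omega) :
      q * x ^ (j + 2) < 1)
    rwa [e] at this
  have hprod : ∀ j : ℕ, ∏ i : Fin j, ((1 - x ^ ((i : ℕ) + 2)) / (1 - x ^ ((i : ℕ) + 1))) =
      (1 - x ^ (j + 1)) / (1 - x) := by
    intro j
    induction j with
    | zero => simp [(sub_pos.2 hx1).ne']
    | succ j ih =>
      have : 0 < 1 - x ^ (j + 1) := by have := pow_lt_one₀ hx0.le hx1 (show j + 1 ≠ 0 by omega); linarith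
      rw [Fin.prod_univ_castSucc]
      simp only [Fin.val_castSucc, Fin.val_last, ih]
      field_simp
  have hser : geo 1 1 * A * ∏ i : Fin (m + 1), (1 - PowerSeries.X ^ ((i : ℕ) + 1)) * geo q ((i : ℕ) + 1) =
      geo q 1 * (A * ∏ i : Fin m, (1 - PowerSeries.X ^ ((i : ℕ) + 2)) * geo q ((i : ℕ) + 2)) := by
    rw [Fin.prod_univ_succ]
    simp only [Fin.val_zero, Fin.val_succ, zero_add]
    have h11 := one_sub_mul_geo 1 one_pos
    rw [map_one, one_mul] at h11
    linear_combination (geo q 1 * (A *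
      ∏ i : Fin m, (1 - PowerSeries.X ^ ((i : ℕ) + 2)) * geo q ((i : ℕ) + 2))) * h11
  have hbd := hA.mul hx0.le (Bd.prod hx0.le _ _ fun i : Fin m => hP (i : ℕ))
  rw [hprod, hx] at hbd
  have h := coeff_le_of_bd hq0 hbd k
  rw [← hser, ← hx] at h
  have hfr : (1 - x ^ (m + 1)) / (1 - x) ≤ 2 := by
    rw [div_le_iff₀ (by linarith)]
    have := pow_nonneg hx0.le (m + 1)
    linarith
  refine h.trans (mul_le_mul_of_nonneg_right ?_ (pow_nonneg hq0.le k))
  rw [mul_comm 2 B]
  exact mul_le_mul_of_nonneg_left hfr hA.nonneg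

theorem card_dat_le_of [Fintype F] (o : Bool) (m k : ℕ) {c : ℚ}
    (hc : fA o (1 / 2) (m + 1) + fB o (1 / 2) (m + 1) ≤ c) :
    (Nat.card {d : Dat o F (m + 1) // dwt2 d = k} : ℚ) ≤ 2 * c * (Fintype.card F : ℚ) ^ k := by
  obtain ⟨x, hx⟩ : ∃ x : ℚ, x = (Fintype.card F : ℚ)⁻¹ := ⟨_, rfl⟩
  have hq2 : (2 : ℚ) ≤ Fintype.card F := by exact_mod_cast Fintype.one_lt_card (α := F)
  have hx0 : 0 < x := by rw [hx]; positivity
  have hx2 : x ≤ 1 / 2 := by rw [hx, one_div]; exact inv_anti₀ (by norm_num) hq2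
  obtain ⟨-, bA⟩ := bd_cm (x := x) hx0.le (by linarith) o (m + 1) false
  obtain ⟨-, bB⟩ := bd_cm (x := x) hx0.le (by linarith) o (m + 1) true
  rw [if_neg Bool.false_ne_true] at bA
  rw [if_pos rfl] at bB
  have h := coeff_free_le m k hx (bd_add bA bB)
  rw [← gser_dwt2, coeff_gser] at h
  obtain ⟨-, a1, b1⟩ := f_mono o hx0.le hx2 (by norm_num) (m + 1)
  refine h.trans (mul_le_mul_of_nonneg_right ?_ (pow_nonneg (by linarith) k))
  linarith

theorem card_dat_le [Fintype F] (m : ℕ) (k : ℕ) :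
    5 * Nat.card {d : Dat false F (m + 1) // dwt2 d = k} ≤ 76 * Fintype.card F ^ k := by
  have h := card_dat_le_of (F := F) false m k (fsum_le (m + 1))
  have hpk : (0 : ℚ) ≤ (Fintype.card F : ℚ) ^ k := by positivity
  have h5 : (5 : ℚ) * Nat.card {d : Dat false F (m + 1) // dwt2 d = k} ≤ 76 * (Fintype.card F : ℚ) ^ k := by
    linarith
  exact_mod_cast h5

section Real

variable [CharP F 2] {U : Type*} [AddCommGroup U] [Module F U] [FiniteDimensional F U]
  {U' : Type*} [AddCommGroup U'] [Module F U'] [FiniteDimensional F U']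
  {f : LinearMap.BilinForm F U} {T : Module.End F U} {dl : F}

/-- The list `M` belongs to the unipotent isometry `T`. -/
def UR2 (dl : F) (f : LinearMap.BilinForm F U) (T : Module.End F U) (M : Multiset Blk) : Prop :=
  ∃ X : Module.End F U, T = 1 + X ∧ UF f X ∧ Dec (IsBlk dl f X) f ⊤ M

theorem exists_ur2 (hd : Scal dl) (hs : Sym f T) {K : ℕ} (hK : ∀ x, ((T - 1) ^ K) x = 0) :
    ∃ M, Canon false M ∧ 2 * wM M = Module.finrank F U ∧ UR2 dl f T M := by
  have h : UF f (T - 1) := ⟨hs.form.alt, fun x y => by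
    simp only [LinearMap.sub_apply, Module.End.one_apply, map_sub, hs.isom]
    linear_combination (2 * f x y - f (T x) y - f x (T y)) * (CharTwo.two_eq_zero (R := F))⟩
  obtain ⟨M₀, hM₀⟩ := exists_dec h (isBlk_kind h hd hK) _ ⊤ le_rfl (fun x _ => Submodule.mem_top)
    (fun x _ hx => hs.form.sep x fun y => hx y Submodule.mem_top)
  obtain ⟨M, hM, hC⟩ := exists_canon h hd hK hM₀
  refine ⟨M, hC, ?_, T - 1, by abel, h, hM⟩
  rw [← imgM_zero_eq_wM, ← (hM.facts h fun hB => hB.hasGen h).2.2 0, img, pow_zero, Module.End.one_eq_id, Submodule.map_id, finrank_top]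

theorem isoT_of_ur2 {f' : LinearMap.BilinForm F U'} {T' : Module.End F U'} {M : Multiset Blk}
    (hM : UR2 dl f T M) (hM' : UR2 dl f' T' M) : IsoT f T f' T' := by
  obtain ⟨X, hT, h, hd⟩ := hM
  obtain ⟨X', hT', h', hd'⟩ := hM'
  exact isoT_of_dec h h' hT hT' hd hd'

theorem exists_ud {o : Bool} {n : ℕ} {M : Multiset Blk} (hC : Canon o M) (hn : wM M ≤ n) :
    ∃ d : UD o n, lst d = M ∧ wUD d = wM M := by
  classical
  set M0 := M.filter (fun B => B ≠ Blk.pr 0 false) with hM0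
  have e : M = Multiset.replicate (M.count (.pr 0 false)) (.pr 0 false) + M0 := by
    rw [hM0, ← Multiset.filter_eq', Multiset.filter_add_not]
  have hC0 : Canon o M0 := hC.mono (Multiset.filter_le _ _)
  have hp : Blk.pr 0 false ∉ M0 := fun h => (Multiset.mem_filter.1 h).2 rfl
  have hlev : ∀ B ∈ M0, B.lev ≤ n := fun B hB => by
    have hB' : B.wt ≤ wM M := Multiset.le_sum_of_mem (Multiset.mem_map_of_mem Blk.wt (Multiset.mem_of_mem_filter hB))
    cases B <;> simp only [Blk.wt, Blk.lev] at hB' ⊢ <;> omega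
  have hw : wM M = M.count (.pr 0 false) + wM M0 := by
    conv_lhs => rw [e]
    simp [wM, Blk.wt]
  by_cases hv : ∃ ε, Blk.cy n ε ∈ M0
  · exact ⟨(_, .inr ⟨M0, hC0, hp, hlev, ⟨fun _ => rfl, fun _ => hv⟩⟩), e.symm, hw.symm⟩
  · exact ⟨(_, .inl ⟨M0, hC0, hp, hlev, ⟨fun h => absurd h hv, fun h => Bool.noConfusion h⟩⟩), e.symm, hw.symm⟩

/-- The data `P` belong to a free part. -/
def PR2 (T : Module.End F U) (n : ℕ) (P : Fin n → PD2 F) : Prop :=
  ∃ s : Multiset (F[X] × ℕ), Similar T (modelEnd (edFam s)) ∧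
    (∀ x ∈ s, x.1.Monic ∧ Irreducible x.1 ∧ 1 ≤ x.2 ∧ x.2 ≤ n) ∧
    ∀ i : Fin n, H48.SS.Pal (seqFun (n := n) s i) ∧ (seqFun (n := n) s i).natDegree = 2 * (P i).1 ∧
      ∀ j : Fin (P i).1, (seqFun (n := n) s i).coeff ((j : ℕ) + 1) = (P i).2.1 j

theorem exists_pr2 (hs : Sym f T) (hfree : ∀ e : F, e * e = 1 → ∀ x, T x = e • x → x = 0) {n : ℕ}
    (hn : Module.finrank F U ≤ 2 * n) :
    ∃ P : Fin n → PD2 F, 2 * ∑ i : Fin n, wP2 i (P i) = Module.finrank F U ∧ PR2 T n P := by
  classical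
  obtain ⟨s, hsim, hmem, hdim, hseq⟩ := exists_free_seq hs hfree hn
  have key : ∀ i : Fin n, ∃ m : PD2 F, H48.SS.Pal (seqFun (n := n) s i) ∧
      (seqFun (n := n) s i).natDegree = 2 * m.1 ∧
        ∀ j : Fin m.1, (seqFun (n := n) s i).coeff ((j : ℕ) + 1) = m.2.1 j := by
    intro i
    obtain ⟨hmQ, hQ1, hrev, hev0⟩ := hseq i
    set Q := seqFun (n := n) s i
    have h1 : Q.eval 1 ≠ 0 := hev0 1 (one_mul 1)
    have hsym : ∀ k, k ≤ Q.natDegree → Q.coeff k = Q.coeff (Q.natDegree - k) := fun k hk => by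
      conv_lhs => rw [← hrev, coeff_reverse, revAt_le hk]
    have hsum : ∀ d, Q.natDegree = 2 * d + 1 → Q.eval 1 = 0 := fun d hd => by
      rw [eval_eq_sum_range, hd, show 2 * d + 1 + 1 = (d + 1) + (d + 1) by ring, Finset.sum_range_add,
        ← Finset.sum_range_reflect _ (d + 1), ← Finset.sum_add_distrib]
      refine Finset.sum_eq_zero fun k hk => ?_
      have hk' := mem_range.1 hk
      rw [one_pow, one_pow, mul_one, mul_one, hsym (d + 1 - 1 - k) (by omega), hd,
        show 2 * d + 1 - (d + 1 - 1 - k) = d + 1 + k by omega, CharTwo.add_self_eq_zero]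
    obtain ⟨m, hm | hm⟩ := Nat.even_or_odd' Q.natDegree
    swap
    · exact absurd (hsum m hm) h1
    have hpal : H48.SS.Pal Q := ⟨hmQ, ⟨m, by omega⟩, hrev⟩
    refine ⟨⟨m, ⟨fun j => Q.coeff ((j : ℕ) + 1), fun hm0 h0 => h1 ?_⟩⟩, hpal, hm, fun j => rfl⟩
    rw [eval_pal hpal hm hm0 (one_mul 1), CharTwo.two_eq_zero, add_zero]
    rw [show (fun j : Fin m => Q.coeff ((j : ℕ) + 1)) =
        ∑ j : Fin m, Pi.single j (Q.coeff ((j : ℕ) + 1)) from (Finset.univ_sum_single _).symm, map_sum]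
    refine Finset.sum_eq_zero fun j _ => ?_
    rw [palLin_single]
    split_ifs with hj
    · have : j = ⟨m - 1, by omega⟩ := Fin.ext (show (j : ℕ) = m - 1 by omega)
      rw [this]
      exact mul_eq_zero_of_right _ h0
    · rw [one_pow, one_pow, CharTwo.add_self_eq_zero, zero_mul]
  choose P hP using key
  refine ⟨P, ?_, s, hsim, hmem, hP⟩
  rw [hdim, Finset.mul_sum]
  refine Finset.sum_congr rfl fun i _ => ?_
  rw [wP2, show 2 * (((i : ℕ) + 1) * (P i).1) = ((i : ℕ) + 1) * (2 * (P i).1) by ring, ← (hP i).2.1]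

theorem similar_of_pr2 {T' : Module.End F U'} {n : ℕ} {P : Fin n → PD2 F} (h : PR2 T n P) (h' : PR2 T' n P) :
    Similar T T' := by
  classical
  obtain ⟨s, hs, hm, hP⟩ := h
  obtain ⟨s', hs', hm', hP'⟩ := h'
  have hseq : ∀ i : Fin n, seqFun (n := n) s i = seqFun (n := n) s' i := fun i =>
    H48.SS.Pal.ext (hP i).1 (hP' i).1 (hP i).2.1 (hP' i).2.1 fun j => by rw [(hP i).2.2, (hP' i).2.2]
  have hrec : ∀ (s : Multiset (F[X] × ℕ)), (∀ x ∈ s, x.1.Monic ∧ Irreducible x.1 ∧ 1 ≤ x.2 ∧ x.2 ≤ n) →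
      s = (Finset.univ : Finset (Fin n)).val.bind (fun j =>
        (UniqueFactorizationMonoid.normalizedFactors (seqFun (n := n) s j)).map fun p => (p, (j : ℕ) + 1)) := by
    intro s hs
    conv_lhs => rw [← H41.bind_filter_snd (n := n) s fun x hx => ⟨(hs x hx).2.2.1, (hs x hx).2.2.2⟩]
    refine Multiset.bind_congr fun j _ => ?_
    symm
    rw [seqFun, UniqueFactorizationMonoid.normalizedFactors_prod_eq _ (fun g hg => by
      obtain ⟨x, hx, rfl⟩ := Multiset.mem_map.mp hg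
      exact (hs x (Multiset.mem_of_mem_filter hx)).2.1), Multiset.map_map, Multiset.map_map]
    refine Eq.trans ?_ (Multiset.map_id _)
    refine Multiset.map_congr rfl fun x hx => ?_
    obtain ⟨hx1, hx2⟩ := Multiset.mem_filter.mp hx
    exact Prod.ext (hs x hx1).1.normalize_eq_self hx2.symm
  suffices s = s' by subst this; exact hs.trans hs'.symm
  rw [hrec s hm, hrec s' hm', funext hseq]

/-- The data `d` belong to `T`. -/
def DR2 (dl : F) (f : LinearMap.BilinForm F U) (T : Module.End F U) (n : ℕ) (d : Dat false F n) : Prop :=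
  UR2 dl (f.compl₁₂ (gK T 1).subtype (gK T 1).subtype) (T.restrict (gK_mem T 1)) (lst d.1) ∧
    PR2 (T.restrict (gR_mem T 1)) n d.2

theorem free_rest2 (T : Module.End F U) :
    ∀ e : F, e * e = 1 → ∀ x : gR T (1 : F), T.restrict (gR_mem T 1) x = e • x → x = 0 := by
  intro e he x hx
  rcases mul_self_eq_one_iff.1 he with rfl | rfl
  · exact Subtype.ext (gR_no_fixed T 1 _ x.2 (congrArg Subtype.val hx))
  · rw [CharTwo.neg_eq] at hx
    exact Subtype.ext (gR_no_fixed T 1 _ x.2 (congrArg Subtype.val hx))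

theorem exists_dr2 (hd : Scal dl) (h : Sym f T) {n : ℕ} (hn : Module.finrank F U = 2 * n) :
    ∃ d : Dat false F n, dwt2 d = n ∧ DR2 dl f T n d := by
  obtain ⟨M, hC, hwM, hM⟩ := exists_ur2 hd (h.sub_gK (one_mul (1 : F))) (K := Module.finrank F U) fun x => by
    have := gK_nilpotent T 1 x
    rwa [one_smul] at this
  have a1 := finrank_add T (1 : F)
  obtain ⟨d, hdl, hdw⟩ := exists_ud hC (n := n) (by omega)
  obtain ⟨P, hP, hPr⟩ := exists_pr2 (h.sub_gR (one_mul (1 : F))) (free_rest2 T) (n := n)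
    ((Submodule.finrank_le _).trans hn.le)
  refine ⟨(d, P), ?_, hdl ▸ hM, hPr⟩
  simp only [dwt2]
  omega

theorem isoT_of_dr2 [Finite F] (h : Sym f T) {f' : LinearMap.BilinForm F U'} {T' : Module.End F U'}
    (h' : Sym f' T') {n : ℕ} {d : Dat false F n} (hd : DR2 dl f T n d) (hd' : DR2 dl f' T' n d) : IsoT f T f' T' :=
  isoT_glue h h' (one_mul (1 : F)) (isoT_of_ur2 hd.1 hd'.1)
    (isoT_of_similar (h.sub_gR (one_mul (1 : F))) (h'.sub_gR (one_mul (1 : F))) (free_rest2 T)
      (similar_of_pr2 hd.2 hd'.2))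

end Real

open Matrix in
theorem card_classes_le_dat {F : Type*} [Field F] [Fintype F] [CharP F 2] (n : ℕ) :
    Nat.card (ConjClasses (Matrix.symplecticGroup (Fin n) F)) ≤ Nat.card {d : Dat false F n // dwt2 d = n} := by
  classical
  haveI := finite_dat (o := false) (F := F) (n := n) n
  obtain ⟨dl, hdl⟩ := exists_scal (F := F)
  let T : Matrix.symplecticGroup (Fin n) F → Module.End F (Fin n ⊕ Fin n → F) := fun g =>
    Matrix.toLinAlgEquiv' (g : Matrix (Fin n ⊕ Fin n) (Fin n ⊕ Fin n) F)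
  have hT : ∀ g x, T g x = g • x := fun g x => rfl
  have hsym : ∀ g, Sym (H48.sf : LinearMap.BilinForm F (Fin n ⊕ Fin n → F)) (T g) := fun g =>
    ⟨H48.SS.isSymplForm_sf, fun x y => by rw [hT, hT, H48.sf_smul_smul]⟩
  have key : ∀ c : ConjClasses (Matrix.symplecticGroup (Fin n) F),
      ∃ (d : {d : Dat false F n // dwt2 d = n}) (g : Matrix.symplecticGroup (Fin n) F),
        ConjClasses.mk g = c ∧ DR2 dl H48.sf (T g) n d.1 := fun c => by
    obtain ⟨g, rfl⟩ := ConjClasses.exists_rep c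
    obtain ⟨d, hd, hreal⟩ := exists_dr2 hdl (hsym g) (n := n) (by
      rw [Module.finrank_pi]; simp; omega)
    exact ⟨⟨d, hd⟩, g, rfl, hreal⟩
  choose D G hG hD using key
  refine Nat.card_le_card_of_injective D fun c c' hcc => ?_
  rw [← hG c, ← hG c', ConjClasses.mk_eq_mk_iff_isConj]
  obtain ⟨φ, hφf, hφT⟩ := isoT_of_dr2 (hsym (G c)) (hsym (G c')) (hD c) (hcc ▸ hD c')
  let H : Matrix.symplecticGroup (Fin n) F := ⟨LinearMap.toMatrix' φ.toLinearMap,
    H48.mem_symplectic_iff.2 fun u v => by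
      rw [LinearMap.toMatrix'_mulVec, LinearMap.toMatrix'_mulVec]; exact hφf u v⟩
  have hH : ∀ x, H • x = φ x := fun x => LinearMap.toMatrix'_mulVec _ x
  refine isConj_iff.2 ⟨H, mul_inv_eq_iff_eq_mul.2 (H48.sp_ext fun x => ?_)⟩
  rw [mul_smul, mul_smul, hH, hH, ← hT, ← hT, hφT]

/-- The bounds on the class number of `Sp_2n(q)`, `q` even. -/
theorem class_number_bounds {F : Type*} [Field F] [Fintype F] (heven : Even (Fintype.card F)) (n : ℕ)
    (hn : 1 ≤ n) :
    Fintype.card F ^ n ≤ Nat.card (ConjClasses (Matrix.symplecticGroup (Fin n) F)) ∧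
      5 * Nat.card (ConjClasses (Matrix.symplecticGroup (Fin n) F)) ≤ 76 * Fintype.card F ^ n := by
  haveI : CharP F 2 := ringChar.of_eq (FiniteField.even_card_iff_char_two.2 (Nat.even_iff.1 heven))
  constructor
  · haveI : Fact (ringChar F).Prime := ⟨by haveI := ringChar.charP F; exact CharP.char_is_prime F (ringChar F)⟩
    haveI : CharP F (ringChar F) := ringChar.charP F
    rw [← H48.SS.card_semisimple_classes (ringChar F) n]
    exact Nat.card_le_card_of_injective _ Subtype.val_injective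
  · obtain ⟨M, rfl⟩ : ∃ M, n = M + 1 := ⟨n - 1, by omega⟩
    exact (Nat.mul_le_mul_left 5 (card_classes_le_dat (M + 1))).trans (card_dat_le M (M + 1))

end H49.Unip2
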