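import Cfsg.Agent.H49.Orth2Gauss
import Cfsg.Agent.H49.Unip2Class

/-!
Changing one bit of a canonical list.
-/

set_option autoImplicit false
set_option linter.unusedSectionVars false

namespace H49.Unip2

/-- Forgetting all bits. -/
def Blk.era : Blk → Blk
  | .cy k _ => .cy k false
  | .pr n _ => .pr n false

/-- Changing the bit of one block of a family. -/
def toggle (mk : Bool → Blk) (M : Multiset Blk) : Multiset Blk :=
  if mk true ∈ M then mk false ::ₘ M.erase (mk true) else mk true ::ₘ M.erase (mk false)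

variable {mk : Bool → Blk}

theorem toggle_spec (hera : (mk true).era = (mk false).era) (hwt : (mk true).wt = (mk false).wt)
    (he1 : (mk true).eps = true) (he0 : (mk false).eps = false) {M : Multiset Blk}
    (h : ∃ ε, mk ε ∈ M) (hc : M.count (mk true) ≤ 1) :
    (toggle mk M).map Blk.era = M.map Blk.era ∧ wM (toggle mk M) = wM M ∧
      (bits (toggle mk M) % 2 ≠ bits M % 2) ∧ toggle mk (toggle mk M) = M ∧
      (toggle mk M).count (mk true) ≤ 1 ∧ ∀ B, B ≠ mk true → B ∈ toggle mk M → B ∈ M ∨ B = mk false := by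
  have hne : mk true ≠ mk false := fun e => by rw [e, he0] at he1; exact Bool.noConfusion he1
  by_cases hT : mk true ∈ M
  · have e := Multiset.cons_erase hT
    have hz : mk true ∉ M.erase (mk true) := by
      rw [← Multiset.count_eq_zero, Multiset.count_erase_self]; omega
    have h1 : toggle mk M = mk false ::ₘ M.erase (mk true) := if_pos hT
    have hz' : mk true ∉ toggle mk M := by simp [h1, hz, hne]
    refine ⟨?_, ?_, ?_, ?_, by rw [Multiset.count_eq_zero.2 hz']; omega, fun B _ hB => ?_⟩
    · rw [h1]; conv_rhs => rw [← e]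
      rw [Multiset.map_cons, Multiset.map_cons, hera]
    · rw [h1]; conv_rhs => rw [← e]
      simp [wM, hwt]
    · rw [h1]; conv_rhs => rw [← e]
      simp [bits, he1, he0]; omega
    · rw [toggle, if_neg hz', h1, Multiset.erase_cons_head, e]
    · rw [h1, Multiset.mem_cons] at hB
      exact hB.elim Or.inr fun hB => Or.inl (Multiset.mem_of_mem_erase hB)
  · obtain ⟨ε, hε⟩ := h
    cases ε with
    | true => exact absurd hε hT
    | false =>
      have e := Multiset.cons_erase hε
      have h1 : toggle mk M = mk true ::ₘ M.erase (mk false) := if_neg hT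
      have hz : mk true ∉ M.erase (mk false) := fun hh => hT (Multiset.mem_of_mem_erase hh)
      refine ⟨?_, ?_, ?_, ?_, ?_, fun B hB' hB => ?_⟩
      · rw [h1]; conv_rhs => rw [← e]
        rw [Multiset.map_cons, Multiset.map_cons, hera]
      · rw [h1]; conv_rhs => rw [← e]
        simp [wM, hwt]
      · rw [h1]; conv_rhs => rw [← e]
        simp [bits, he1, he0]; omega
      · rw [toggle, if_pos (by rw [h1]; exact Multiset.mem_cons_self _ _), h1, Multiset.erase_cons_head, e]
      · rw [h1, Multiset.count_cons_self, Multiset.count_eq_zero.2 hz]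
      · rw [h1, Multiset.mem_cons] at hB
        exact Or.inl (Multiset.mem_of_mem_erase (hB.resolve_left hB'))

open Classical in
/-- The family of the block to change: the first cyclic level, otherwise the first pair of odd size. -/
noncomputable def slot (M : Multiset Blk) : Option (Bool → Blk) :=
  if hc : ∃ k, Blk.cy k false ∈ M.map Blk.era then some fun ε => .cy (Nat.find hc) ε
  else if hp : ∃ n, Even n ∧ Blk.pr n false ∈ M.map Blk.era then some fun ε => .pr (Nat.find hp) ε
  else none

theorem mem_era {M : Multiset Blk} {k : ℕ} : Blk.cy k false ∈ M.map Blk.era ↔ ∃ ε, Blk.cy k ε ∈ M := by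
  rw [Multiset.mem_map]
  constructor
  · rintro ⟨B, hB, e⟩
    cases B with
    | cy k' ε => simp only [Blk.era, Blk.cy.injEq, and_true] at e; exact ⟨ε, e ▸ hB⟩
    | pr n ε => simp [Blk.era] at e
  · rintro ⟨ε, hε⟩; exact ⟨_, hε, rfl⟩

theorem mem_era' {M : Multiset Blk} {n : ℕ} : Blk.pr n false ∈ M.map Blk.era ↔ ∃ ε, Blk.pr n ε ∈ M := by
  rw [Multiset.mem_map]
  constructor
  · rintro ⟨B, hB, e⟩
    cases B with
    | cy k' ε => simp [Blk.era] at e
    | pr n' ε => simp only [Blk.era, Blk.pr.injEq, and_true] at e; exact ⟨ε, e ▸ hB⟩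
  · rintro ⟨ε, hε⟩; exact ⟨_, hε, rfl⟩

theorem slot_congr {M M' : Multiset Blk} (h : M.map Blk.era = M'.map Blk.era) : slot M = slot M' := by
  unfold slot
  generalize M.map Blk.era = N at h ⊢
  subst h
  rfl

theorem count_era_cy (M : Multiset Blk) (k : ℕ) :
    (M.map Blk.era).count (.cy k false) = M.count (.cy k true) + M.count (.cy k false) := by
  induction M using Multiset.induction with
  | empty => rfl
  | cons B M ih =>
    rw [Multiset.map_cons, Multiset.count_cons, ih, Multiset.count_cons, Multiset.count_cons]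
    cases B with
    | cy k' ε => cases ε <;> by_cases hk : k = k' <;> simp [Blk.era, hk] <;> omega
    | pr n ε => simp [Blk.era]

/-- Changing the bit. -/
noncomputable def flip (M : Multiset Blk) : Multiset Blk :=
  match slot M with
  | some mk => toggle mk M
  | none => M

theorem flip_spec {M : Multiset Blk} (hC : Canon true M) (hs : slot M ≠ none) :
    Canon true (flip M) ∧ wM (flip M) = wM M ∧ bits (flip M) % 2 ≠ bits M % 2 ∧ flip (flip M) = M := by
  classical
  unfold slot at hs
  by_cases hc : ∃ k, Blk.cy k false ∈ M.map Blk.era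
  · set k₀ := Nat.find hc with hk₀
    have hmem := mem_era.1 (Nat.find_spec hc)
    obtain ⟨h1, h2, h3, h4, h5, h6⟩ := toggle_spec (mk := fun ε => Blk.cy k₀ ε) rfl rfl rfl rfl hmem (hC.cbit _)
    have e : flip M = toggle (fun ε => Blk.cy k₀ ε) M := by
      rw [flip, show slot M = some fun ε => Blk.cy k₀ ε by unfold slot; rw [dif_pos hc]]
    have e' : flip (toggle (fun ε => Blk.cy k₀ ε) M) = toggle (fun ε => Blk.cy k₀ ε) (toggle (fun ε => Blk.cy k₀ ε) M) := by
      rw [flip, slot_congr h1, show slot M = some fun ε => Blk.cy k₀ ε by unfold slot; rw [dif_pos hc]]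
    rw [e, e', h4]
    refine ⟨⟨fun k => ?_, fun k => ?_, fun n => ?_, fun n hn k ε hnk hk => ?_, fun k hk ε hk' => ?_,
      fun e => Bool.noConfusion e, fun n hn => ?_, fun e => Bool.noConfusion e⟩, h2, h3, rfl⟩
    · rw [← count_era_cy, h1, count_era_cy]; exact hC.two k
    · rcases eq_or_ne k k₀ with rfl | hk
      · exact h5
      · refine le_trans ?_ (hC.cbit k)
        unfold toggle
        split_ifs <;> rw [Multiset.count_cons_of_ne (by simp [hk]), Multiset.count_erase_of_ne (by simp [hk])]
    · refine le_trans ?_ (hC.pbit n)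
      unfold toggle
      split_ifs <;> rw [Multiset.count_cons_of_ne (by simp), Multiset.count_erase_of_ne (by simp)]
    · have hn' : Blk.pr n true ∈ M := (h6 _ (by simp) hn).resolve_right (by simp)
      obtain ⟨ε', hε'⟩ := mem_era.1 (h1 ▸ mem_era.2 ⟨ε, hk⟩)
      exact hC.padj n hn' k ε' hnk hε'
    · obtain ⟨ε', hε'⟩ := mem_era.1 (h1 ▸ mem_era.2 ⟨ε, hk'⟩)
      rcases eq_or_ne (k + 1) k₀ with hkk | hkk
      · exact Nat.find_min hc (by omega : k < k₀) (mem_era.2 ⟨ε', hε'⟩)
      · exact hC.cadj k ((h6 _ (by simp [hkk]) hk).resolve_right (by simp)) ε' hε'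
    · exact hC.pev n ((h6 _ (by simp) hn).resolve_right (by simp))
  · have hp : ∃ n, Even n ∧ Blk.pr n false ∈ M.map Blk.era := by
      by_contra hp
      rw [dif_neg hc, dif_neg hp] at hs
      exact hs rfl
    set n₀ := Nat.find hp with hn₀
    obtain ⟨hev, hmem⟩ := Nat.find_spec hp
    obtain ⟨h1, h2, h3, h4, h5, h6⟩ := toggle_spec (mk := fun ε => Blk.pr n₀ ε) rfl rfl rfl rfl (mem_era'.1 hmem) (hC.pbit _)
    have e : flip M = toggle (fun ε => Blk.pr n₀ ε) M := by
      rw [flip, show slot M = some fun ε => Blk.pr n₀ ε by unfold slot; rw [dif_neg hc, dif_pos hp]]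
    have e' : flip (toggle (fun ε => Blk.pr n₀ ε) M) = toggle (fun ε => Blk.pr n₀ ε) (toggle (fun ε => Blk.pr n₀ ε) M) := by
      rw [flip, slot_congr h1, show slot M = some fun ε => Blk.pr n₀ ε by unfold slot; rw [dif_neg hc, dif_pos hp]]
    rw [e, e', h4]
    have hno : ∀ k ε, Blk.cy k ε ∉ toggle (fun ε => Blk.pr n₀ ε) M := fun k ε hk =>
      hc ⟨k, h1 ▸ mem_era.2 ⟨ε, hk⟩⟩
    refine ⟨⟨fun k => ?_, fun k => ?_, fun n => ?_, fun n hn k ε hnk hk => hno k ε hk,
      fun k hk ε _ => hno _ _ hk, fun e => Bool.noConfusion e, fun n hn => ?_, fun e => Bool.noConfusion e⟩,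
      h2, h3, rfl⟩
    · rw [← count_era_cy, h1, count_era_cy]; exact hC.two k
    · rw [Multiset.count_eq_zero.2 (hno k true)]; omega
    · rcases eq_or_ne n n₀ with rfl | hn
      · exact h5
      · refine le_trans ?_ (hC.pbit n)
        unfold toggle
        split_ifs <;> rw [Multiset.count_cons_of_ne (by simp [hn]), Multiset.count_erase_of_ne (by simp [hn])]
    · rcases eq_or_ne n n₀ with rfl | hne
      · exact hev
      · exact hC.pev n ((h6 _ (by simp [hne]) hn).resolve_right (by simp [hne]))

theorem lev_le_of_canon {n : ℕ} {M : Multiset Blk} (hw : wM M ≤ n) : ∀ B ∈ M, B.lev ≤ n := fun B hB => by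
  have hB' : B.wt ≤ wM M := Multiset.le_sum_of_mem (Multiset.mem_map_of_mem Blk.wt hB)
  cases B <;> simp only [Blk.wt, Blk.lev] at hB' ⊢ <;> omega

theorem canon_lst {o : Bool} {n : ℕ} (d : UD o n) : Canon o (lst d) ∧ wM (lst d) = wUD d := by
  classical
  obtain ⟨a, M⟩ := d
  have h0 : ∀ {v} (N : CM o n v), Canon o (Multiset.replicate a (Blk.pr 0 false) + N.1) := by
    intro v N
    have hm : ∀ {B : Blk}, B ≠ .pr 0 false → B ∈ Multiset.replicate a (Blk.pr 0 false) + N.1 → B ∈ N.1 :=
      fun hne hB => (Multiset.mem_add.1 hB).resolve_left fun h => hne (Multiset.eq_of_mem_replicate h)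
    have hc : ∀ B : Blk, B ≠ .pr 0 false →
        (Multiset.replicate a (Blk.pr 0 false) + N.1).count B = N.1.count B := fun B hB => by
      rw [Multiset.count_add, Multiset.count_replicate, if_neg (Ne.symm hB), zero_add]
    exact ⟨fun k => by rw [hc _ (by simp), hc _ (by simp)]; exact N.2.1.two k,
      fun k => by rw [hc _ (by simp)]; exact N.2.1.cbit k,
      fun m => by rw [hc _ (by simp)]; exact N.2.1.pbit m,
      fun m hm' k ε hk hk' => N.2.1.padj m (hm (by simp) hm') k ε hk (hm (by simp) hk'),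
      fun k hk ε hk' => N.2.1.cadj k (hm (by simp) hk) ε (hm (by simp) hk'),
      fun ho k hk => N.2.1.cok ho k (hm (by simp) hk), fun m hm' => N.2.1.pev m (hm (by simp) hm'),
      fun ho m hm' => N.2.1.pok ho m (hm (by simp) hm')⟩
  rcases M with M | M <;> exact ⟨h0 M, by simp [lst, wUD, wCM, wM, Blk.wt]⟩

theorem lst_injective {o : Bool} {n : ℕ} : Function.Injective (lst (o := o) (n := n)) := by
  classical
  rintro ⟨a, M⟩ ⟨a', M'⟩ e
  have h0 : ∀ {v} (N : CM o n v) (b : ℕ), (Multiset.replicate b (Blk.pr 0 false) + N.1).count (.pr 0 false) = b :=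
    fun N b => by
      rw [Multiset.count_add, Multiset.count_replicate, if_pos rfl, Multiset.count_eq_zero.2 N.2.2.1, add_zero]
  have ha : a = a' := by
    have := congrArg (fun s : Multiset Blk => s.count (.pr 0 false)) e
    rcases M with M | M <;> rcases M' with M' | M' <;> simpa [lst, h0] using this
  subst ha
  rcases M with M | M <;> rcases M' with M' | M' <;>
    simp only [lst, Sum.elim_inl, Sum.elim_inr, add_right_inj] at e
  · rw [Subtype.ext e]
  · obtain ⟨ε, hε⟩ := M'.2.2.2.2.2 rfl
    exact Bool.noConfusion (M.2.2.2.2.1 ⟨ε, e ▸ hε⟩)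
  · obtain ⟨ε, hε⟩ := M.2.2.2.2.2 rfl
    exact Bool.noConfusion (M'.2.2.2.2.1 ⟨ε, e ▸ hε⟩)
  · rw [Subtype.ext e]

theorem eq_of_slot_none {n : ℕ} {M : Multiset Blk} (hC : Canon true M) (hs : slot M = none) (hw : wM M ≤ n) :
    M = ∑ j : Fin n, Multiset.replicate (M.count (.pr (2 * (j : ℕ) + 1) false)) (.pr (2 * (j : ℕ) + 1) false) := by
  classical
  unfold slot at hs
  split_ifs at hs with hc hp
  refine Multiset.ext.2 fun B => ?_
  rw [Multiset.count_sum']
  simp only [Multiset.count_replicate]
  by_cases hB : B ∈ M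
  · cases B with
    | cy k ε => exact absurd ⟨k, mem_era.2 ⟨ε, hB⟩⟩ hc
    | pr m ε =>
      obtain ⟨r, hr | hr⟩ := Nat.even_or_odd' m
      · exact absurd ⟨m, ⟨r, by omega⟩, mem_era'.2 ⟨ε, hB⟩⟩ hp
      · cases ε with
        | true => obtain ⟨s, hs⟩ := hC.pev m hB; omega
        | false =>
          have hB' : (Blk.pr m false).wt ≤ wM M := Multiset.le_sum_of_mem (Multiset.mem_map_of_mem Blk.wt hB)
          simp only [Blk.wt] at hB'
          subst hr
          rw [Finset.sum_eq_single ⟨r, by omega⟩]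
          · rw [if_pos rfl]
          · intro j _ hj
            rw [if_neg fun e => hj (Fin.ext (by simp only [Blk.pr.injEq, and_true] at e; simp only; omega))]
          · simp
  · rw [Multiset.count_eq_zero.2 hB, Finset.sum_eq_zero]
    intro j _
    split_ifs with hh
    · rw [hh, Multiset.count_eq_zero.2 hB]
    · rfl

end H49.Unip2
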