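import Cfsg.Agent.H49.Orth2Dec

/-!
The Gauss sum of a block decides the parity of the bits.
-/

set_option autoImplicit false
set_option linter.unusedSectionVars false

namespace H49.Unip2

open Submodule Finset

variable {F : Type*} [Field F] [CharP F 2] [Fintype F] {V : Type*} [AddCommGroup V] [Module F V]
  [FiniteDimensional F V] {f : LinearMap.BilinForm F V} {X : Module.End F V} {Q : V → F} {dl : F}

/-- The character trivial on the Artin-Schreier image. -/
noncomputable def chr (a : F) : ℤ := open Classical in if ∃ t, t * t + t = a then 1 else -1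

theorem chr_as (t : F) : chr (t * t + t) = 1 := if_pos ⟨t, rfl⟩

theorem chr_zero : chr (0 : F) = 1 := if_pos ⟨0, by ring⟩

theorem chr_dl (hd : Scal dl) : chr dl = -1 := if_neg fun ⟨t, ht⟩ => hd.not_as t ht

theorem chr_add (hd : Scal dl) (a b : F) : chr (a + b) = chr a * chr b := by
  have hadd : ∀ s t : F, (s + t) * (s + t) + (s + t) = (s * s + s) + (t * t + t) := fun s t => by
    have e : (s + t) * (s + t) = s * s + t * t := by rw [← sq, CharTwo.add_sq, sq, sq]
    rw [e]; ring
  have key : ∀ a, chr a = 1 ∧ (∃ t, t * t + t = a) ∨ chr a = -1 ∧ ∃ t, t * t + t = a + dl := fun a => by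
    rcases hd.coset a with hh | ⟨t, ht⟩
    · exact Or.inl ⟨if_pos hh, hh⟩
    · refine Or.inr ⟨if_neg fun ⟨s, hs⟩ => hd.not_as (s + t) ?_, t, ht⟩
      rw [hadd, hs, ht, ← add_assoc, CharTwo.add_self_eq_zero, zero_add]
  rcases key a with ⟨ha, s, hs⟩ | ⟨ha, s, hs⟩ <;> rcases key b with ⟨hb, t, ht⟩ | ⟨hb, t, ht⟩ <;> rw [ha, hb]
  · exact if_pos ⟨s + t, by rw [hadd, hs, ht]⟩
  · refine if_neg fun ⟨u, hu⟩ => hd.not_as (u + (s + t)) ?_
    rw [hadd, hadd, hu, hs, ht, ← add_assoc a b dl, ← add_assoc, CharTwo.add_self_eq_zero, zero_add]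
  · refine if_neg fun ⟨u, hu⟩ => hd.not_as (u + (s + t)) ?_
    rw [hadd, hadd, hu, hs, ht]
    linear_combination (a + b) * (CharTwo.two_eq_zero (R := F))
  · refine if_pos ⟨s + t, ?_⟩
    rw [hadd, hs, ht]
    linear_combination dl * (CharTwo.two_eq_zero (R := F))

theorem sum_chr (hd : Scal dl) : ∑ a : F, chr a = 0 := by
  have h := Fintype.sum_equiv (Equiv.addRight dl) (fun a : F => chr (a + dl)) (fun a => chr a) fun a => rfl
  simp only [chr_add hd, chr_dl hd, mul_neg, mul_one, Finset.sum_neg_distrib] at h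
  omega

theorem chr_sq (hd : Scal dl) (a : F) : chr (a * a) = chr a := by
  have h := chr_add hd (a * a + a) a
  rw [chr_as, one_mul, add_assoc, CharTwo.add_self_eq_zero, add_zero] at h
  exact h

theorem sum_chr_mul (hd : Scal dl) {u : F} (hu : u ≠ 0) : ∑ a : F, chr (a * u) = 0 :=
  (Fintype.sum_equiv (Equiv.mulRight₀ u hu) (fun a => chr (a * u)) (fun a => chr a) fun a => rfl).trans (sum_chr hd)

theorem plane_zero (hd : Scal dl) (c : F) : ∑ p : F × F, chr (p.1 * p.2 + c * p.2 ^ 2) = (Fintype.card F : ℤ) := by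
  classical
  rw [Fintype.sum_prod_type_right, Finset.sum_eq_single (0 : F)]
  · simp [chr_zero]
  · intro y _ hy
    simp_rw [chr_add hd, ← Finset.sum_mul]
    rw [sum_chr_mul hd hy, zero_mul]
  · simp

theorem plane_one (hd : Scal dl) :
    ∑ p : F × F, chr (dl * p.1 ^ 2 + p.1 * p.2 + p.2 ^ 2) = -(Fintype.card F : ℤ) := by
  classical
  rw [Fintype.sum_prod_type, ← Finset.add_sum_erase _ _ (Finset.mem_univ (0 : F))]
  have h0 : ∑ y : F, chr (dl * (0 : F) ^ 2 + 0 * y + y ^ 2) = 0 := by
    rw [← sum_chr hd]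
    exact Finset.sum_congr rfl fun y _ => by rw [← chr_sq hd y]; congr 1; ring
  rw [h0, zero_add]
  have h1 : ∀ x ∈ (Finset.univ : Finset F).erase 0, ∑ y : F, chr (dl * x ^ 2 + x * y + y ^ 2) =
      ∑ t : F, chr (x * x * (dl + (t * t + t))) := fun x hx => by
    refine (Fintype.sum_equiv (Equiv.mulLeft₀ x (Finset.ne_of_mem_erase hx)) (fun t => chr (x * x * (dl + (t * t + t))))
      (fun y => chr (dl * x ^ 2 + x * y + y ^ 2)) fun t => ?_).symm
    show _ = chr (dl * x ^ 2 + x * (x * t) + (x * t) ^ 2)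
    congr 1; ring
  rw [Finset.sum_congr rfl h1, Finset.sum_comm]
  have h2 : ∀ t : F, ∑ x ∈ (Finset.univ : Finset F).erase 0, chr (x * x * (dl + (t * t + t))) = -1 := fun t => by
    have hu : dl + (t * t + t) ≠ 0 := fun e => hd.not_as t (CharTwo.add_eq_zero.1 e).symm
    have hbij : Function.Bijective (fun x : F => x * x) := by
      have hs : Function.Surjective (fun x : F => x * x) := fun a => hd.sqrt a
      exact ⟨Finite.injective_iff_surjective.2 hs, hs⟩
    have hall : ∑ x : F, chr (x * x * (dl + (t * t + t))) = 0 :=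
      (hbij.sum_comp fun a => chr (a * (dl + (t * t + t)))).trans (sum_chr_mul hd hu)
    rw [← Finset.add_sum_erase _ _ (Finset.mem_univ (0 : F)), mul_zero, zero_mul, chr_zero] at hall
    omega
  rw [Finset.sum_congr rfl fun t _ => h2 t, Finset.sum_const, Finset.card_univ]
  simp

variable [Fintype V]

/-- The Gauss sum over a subspace. -/
noncomputable def gs (Q : V → F) (S : Submodule F V) : ℤ :=
  open Classical in ∑ x ∈ Finset.univ.filter (· ∈ S), chr (Q x)

theorem gs_bot (h : OF Q f X) : gs Q (⊥ : Submodule F V) = 1 := by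
  classical
  rw [gs, show (Finset.univ.filter (· ∈ (⊥ : Submodule F V))) = {0} by ext x; simp, Finset.sum_singleton, h.zero,
    chr_zero]

theorem gs_sup (h : OF Q f X) (hd : Scal dl) {S W : Submodule F V} (ho : Orth f S W) (hdj : Disjoint S W) :
    gs Q (S ⊔ W) = gs Q S * gs Q W := by
  classical
  rw [gs, gs, gs, Finset.sum_mul_sum, ← Finset.sum_product']
  symm
  refine Finset.sum_bij (fun p _ => p.1 + p.2) ?_ ?_ ?_ ?_
  · intro p hp
    simp only [Finset.mem_product, Finset.mem_filter, Finset.mem_univ, true_and] at hp ⊢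
    exact add_mem (mem_sup_left hp.1) (mem_sup_right hp.2)
  · intro p hp p' hp' e
    simp only [Finset.mem_product, Finset.mem_filter, Finset.mem_univ, true_and] at hp hp'
    have h1 : p.1 - p'.1 = 0 := by
      refine disjoint_def.1 hdj _ (sub_mem hp.1 hp'.1) ?_
      rw [show p.1 - p'.1 = p'.2 - p.2 by rw [sub_eq_sub_iff_add_eq_add, e, add_comm]]
      exact sub_mem hp'.2 hp.2
    have h2 := sub_eq_zero.1 h1
    rw [h2] at e
    exact Prod.ext h2 (add_left_cancel e)
  · intro x hx
    obtain ⟨s, hs, w, hw, rfl⟩ := mem_sup.1 (Finset.mem_filter.1 hx).2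
    exact ⟨(s, w), by simp [hs, hw], rfl⟩
  · intro p hp
    simp only [Finset.mem_product, Finset.mem_filter, Finset.mem_univ, true_and] at hp
    rw [h.add, ho _ hp.1 _ hp.2, add_zero, chr_add hd]

/-- Only the vectors orthogonal to a totally singular subspace count. -/
theorem gs_orth (h : OF Q f X) (hd : Scal dl) {S L : Submodule F V} (hLS : L ≤ S) (hL : ∀ l ∈ L, Q l = 0) :
    gs Q S = gs Q (S ⊓ f.orthogonal L) := by
  classical
  set SS := Finset.univ.filter (· ∈ S) with hSS
  set LL := Finset.univ.filter (· ∈ L) with hLL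
  have hmem : ∀ {x}, x ∈ SS ↔ x ∈ S := fun {x} => by simp [hSS]
  have hmemL : ∀ {x}, x ∈ LL ↔ x ∈ L := fun {x} => by simp [hLL]
  have hpos : (0 : ℤ) < LL.card := by exact_mod_cast Finset.card_pos.2 ⟨0, hmemL.2 (zero_mem L)⟩
  refine mul_left_cancel₀ hpos.ne' ?_
  have e1 : (LL.card : ℤ) * gs Q S = ∑ l ∈ LL, ∑ x ∈ SS, chr (Q (x + l)) := by
    rw [Finset.sum_congr rfl (g := fun _ => gs Q S) fun l hl => ?_, Finset.sum_const, nsmul_eq_mul]
    refine Finset.sum_nbij' (fun x => x + l) (fun x => x - l) ?_ ?_ ?_ ?_ ?_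
    · intro x hx; exact hmem.2 (add_mem (hmem.1 hx) (hLS (hmemL.1 hl)))
    · intro x hx; exact hmem.2 (sub_mem (hmem.1 hx) (hLS (hmemL.1 hl)))
    · intro x _; simp
    · intro x _; simp
    · intro x _; rfl
  have e2 : ∀ x ∈ SS, ∑ l ∈ LL, chr (Q (x + l)) =
      if x ∈ f.orthogonal L then (LL.card : ℤ) * chr (Q x) else 0 := by
    intro x _
    rw [Finset.sum_congr rfl (g := fun l => chr (Q x) * chr (f x l)) fun l hl => by
      rw [h.add, hL l (hmemL.1 hl), add_zero, chr_add hd], ← Finset.mul_sum]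
    split_ifs with hx
    · rw [Finset.sum_congr rfl (g := fun _ => (1 : ℤ)) fun l hl => by
        rw [h.uf.symm, show f l x = 0 from hx l (hmemL.1 hl), chr_zero], Finset.sum_const, nsmul_eq_mul, mul_one]
      ring
    · obtain ⟨l₀, hl₀, hne⟩ : ∃ l₀ ∈ L, f l₀ x ≠ 0 := by
        simp only [LinearMap.BilinForm.mem_orthogonal_iff, not_forall] at hx
        obtain ⟨l₀, hl₀, hne⟩ := hx
        exact ⟨l₀, hl₀, hne⟩
      have hshift : ∑ l ∈ LL, chr (f x l) = ∑ l ∈ LL, chr (f x l + dl) := by
        set m := (dl * (f x l₀)⁻¹) • l₀ with hm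
        have hm0 : f x m = dl := by
          rw [hm, map_smul, smul_eq_mul, mul_assoc, inv_mul_cancel₀ (by rwa [h.uf.symm]), mul_one]
        symm
        refine Finset.sum_nbij' (fun l => l + m) (fun l => l - m) ?_ ?_ ?_ ?_ ?_
        · intro l hl; exact hmemL.2 (add_mem (hmemL.1 hl) (L.smul_mem _ hl₀))
        · intro l hl; exact hmemL.2 (sub_mem (hmemL.1 hl) (L.smul_mem _ hl₀))
        · intro l _; simp
        · intro l _; simp
        · intro l _; rw [map_add, hm0]
      simp only [chr_add hd, chr_dl hd, mul_neg, mul_one, Finset.sum_neg_distrib] at hshift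
      rw [show ∑ l ∈ LL, chr (f x l) = 0 by omega, mul_zero]
  rw [e1, Finset.sum_comm, Finset.sum_congr rfl e2, ← Finset.sum_filter, ← Finset.mul_sum]
  congr 1
  refine Finset.sum_congr ?_ fun _ _ => rfl
  ext x
  simp [hSS]

/-- The Gauss sum of a block in terms of its middle part. -/
theorem gs_core (h : OF Q f X) (hd : Scal dl) {n r : ℕ} {g : Fin r → V} (hg : Gen f X n g) {m : ℕ}
    (hm : n + 1 ≤ 2 * m) (hmn : m ≤ n + 1) (hQ : ∀ a j, m ≤ j + 1 → ph f X j (g a) = 0) :
    gs Q (Sp X n g) = (Fintype.card F : ℤ) ^ (r * (n + 1 - m)) *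
      gs Q (span F (fam X n g '' {p | n + 1 - m ≤ (p.2 : ℕ) ∧ (p.2 : ℕ) < m})) := by
  classical
  set L := span F (fam X n g '' {p | m ≤ (p.2 : ℕ)}) with hLdef
  set P := span F (fam X n g '' {p | n + 1 - m ≤ (p.2 : ℕ) ∧ (p.2 : ℕ) < m}) with hPdef
  have hD : ∀ p q : Fin r × Fin (n + 1), n + 1 ≤ (p.2 : ℕ) + (q.2 : ℕ) → f (fam X n g p) (fam X n g q) = 0 :=
    fun p q hpq => D_zero h.uf (hg.kill p.1) (g q.1) _ _ hpq
  have hLf : ∀ p : Fin r × Fin (n + 1), m ≤ (p.2 : ℕ) → ∀ l ∈ L, f (fam X n g p) l = 0 := by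
    intro p hp l hl
    induction hl using Submodule.span_induction with
    | mem x hx => obtain ⟨q, hq, rfl⟩ := hx; simp only [Set.mem_setOf_eq] at hq; exact hD p q (by omega)
    | zero => rw [map_zero]
    | add x y _ _ ihx ihy => rw [map_add, ihx, ihy, add_zero]
    | smul c x _ ih => rw [map_smul, ih, smul_zero]
  have hLQ : ∀ l ∈ L, Q l = 0 ∧ ∀ p : Fin r × Fin (n + 1), n + 1 - m ≤ (p.2 : ℕ) → f l (fam X n g p) = 0 := by
    intro l hl
    induction hl using Submodule.span_induction with
    | mem x hx =>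
      obtain ⟨q, hq, rfl⟩ := hx
      simp only [Set.mem_setOf_eq] at hq
      refine ⟨?_, fun p hp => hD q p (by omega)⟩
      have : 1 ≤ (q.2 : ℕ) := by omega
      show Q ((X ^ (q.2 : ℕ)) (g q.1)) = 0
      rw [show (q.2 : ℕ) = ((q.2 : ℕ) - 1) + 1 by omega, h.pow_succ]
      exact hQ _ _ (by omega)
    | zero => exact ⟨h.zero, fun p _ => by rw [map_zero, LinearMap.zero_apply]⟩
    | add x y hx hy ihx ihy =>
      refine ⟨?_, fun p hp => by rw [map_add, LinearMap.add_apply, ihx.2 p hp, ihy.2 p hp, add_zero]⟩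
      rw [h.add, ihx.1, ihy.1, zero_add, zero_add]
      clear ihx ihy
      induction hx using Submodule.span_induction with
      | mem x hx => obtain ⟨q, hq, rfl⟩ := hx; simp only [Set.mem_setOf_eq] at hq; exact hLf q hq y hy
      | zero => rw [map_zero, LinearMap.zero_apply]
      | add a b _ _ iha ihb => rw [map_add, LinearMap.add_apply, iha, ihb, add_zero]
      | smul c a _ iha => rw [map_smul, LinearMap.smul_apply, iha, smul_zero]
    | smul c x _ ih =>
      exact ⟨by rw [h.smul, ih.1, mul_zero], fun p hp => by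
        rw [map_smul, LinearMap.smul_apply, ih.2 p hp, smul_zero]⟩
  have hLS : L ≤ Sp X n g := span_mono (Set.image_subset_range _ _)
  have hPS : P ≤ Sp X n g := span_mono (Set.image_subset_range _ _)
  have ho : Orth f L P := by
    intro l hl p hp
    induction hp using Submodule.span_induction with
    | mem x hx => obtain ⟨q, hq, rfl⟩ := hx; simp only [Set.mem_setOf_eq] at hq; exact (hLQ l hl).2 q hq.1
    | zero => rw [map_zero]
    | add x y _ _ ihx ihy => rw [map_add, ihx, ihy, add_zero]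
    | smul c x _ ih => rw [map_smul, ih, smul_zero]
  have hdj : Disjoint L P := (hg.indep h.uf).disjoint_span_image (Set.disjoint_left.2 fun p hp hp' => by
    simp only [Set.mem_setOf_eq] at hp hp'; omega)
  have heq : Sp X n g ⊓ f.orthogonal L = L ⊔ P := by
    refine le_antisymm (fun x hx => ?_) (sup_le (le_inf hLS fun l hl l' hl' => ?_)
      (le_inf hPS fun p hp l hl => ho l hl p hp))
    · obtain ⟨hxS, hxo⟩ := hx
      obtain ⟨a, rfl⟩ := (Submodule.mem_span_range_iff_exists_fun F).1 hxS
      have hzero : ∀ i : ℕ, ∀ c (hi : i < n + 1), i + m < n + 1 → a (c, ⟨i, hi⟩) = 0 := by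
        intro i
        induction i using Nat.strong_induction_on with
        | _ i ih =>
          intro c hi him
          refine congrFun (hg.top (fun c => a (c, ⟨i, hi⟩)) fun d => ?_) c
          have h0 : f (∑ q, a q • fam X n g q) (fam X n g (d, ⟨n - i, by omega⟩)) = 0 := by
            rw [h.uf.symm]
            exact hxo _ (subset_span ⟨(d, ⟨n - i, by omega⟩), by simp only [Set.mem_setOf_eq]; omega, rfl⟩)
          simp only [map_sum, map_smul, LinearMap.sum_apply, LinearMap.smul_apply, smul_eq_mul] at h0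
          rw [Fintype.sum_prod_type] at h0
          rw [← h0]
          refine Finset.sum_congr rfl fun b _ => ?_
          rw [Finset.sum_eq_single ⟨i, hi⟩]
          · show a (b, ⟨i, hi⟩) * D f X (g b) (g d) n 0 = a (b, ⟨i, hi⟩) * D f X (g b) (g d) i (n - i)
            rw [D_top h.uf (hg.kill b) (g d) (n - i) i (by omega)]
          · rintro ⟨l, hl⟩ - hne
            rcases Nat.lt_or_ge l i with hli | hli
            · rw [ih l hli b hl (by omega), zero_mul]
            · have : i < l := lt_of_le_of_ne hli fun e => hne (Fin.ext e.symm)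
              show a (b, ⟨l, hl⟩) * D f X (g b) (g d) l (n - i) = 0
              rw [D_zero h.uf (hg.kill b) (g d) (n - i) l (by omega), mul_zero]
          · simp
      refine sum_mem fun q _ => ?_
      by_cases hq : (q.2 : ℕ) + m < n + 1
      · rw [show a q = 0 from hzero q.2 q.1 q.2.2 hq, zero_smul]; exact zero_mem _
      · by_cases hq' : m ≤ (q.2 : ℕ)
        · exact mem_sup_left (smul_mem _ _ (subset_span ⟨q, hq', rfl⟩))
        · exact mem_sup_right (smul_mem _ _ (subset_span ⟨q, ⟨by omega, by omega⟩, rfl⟩))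
    · induction hl' using Submodule.span_induction with
      | mem x hx => obtain ⟨q, hq, rfl⟩ := hx; simp only [Set.mem_setOf_eq] at hq; exact hLf q hq l hl
      | zero => show f 0 l = 0; rw [map_zero, LinearMap.zero_apply]
      | add x y _ _ ihx ihy => show f (x + y) l = 0; rw [map_add, LinearMap.add_apply, ihx, ihy, add_zero]
      | smul c x _ ih => show f (c • x) l = 0; rw [map_smul, LinearMap.smul_apply, ih, smul_zero]
  rw [gs_orth h hd hLS (fun l hl => (hLQ l hl).1), heq, gs_sup h hd ho hdj]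
  congr 1
  rw [gs, Finset.sum_congr rfl (g := fun _ => (1 : ℤ)) fun l hl => by
    rw [(hLQ l (Finset.mem_filter.1 hl).2).1, chr_zero], Finset.sum_const, nsmul_eq_mul, mul_one, ← Fintype.card_subtype]
  have hli : LinearIndependent F (fun p : {p : Fin r × Fin (n + 1) // m ≤ (p.2 : ℕ)} => fam X n g p) :=
    (hg.indep h.uf).comp _ Subtype.val_injective
  have hc : Module.finrank F L = r * (n + 1 - m) := by
    rw [hLdef, Set.image_eq_range]
    refine (finrank_span_eq_card hli).trans ?_
    let e : {p : Fin r × Fin (n + 1) // m ≤ (p.2 : ℕ)} ≃ Fin r × Fin (n + 1 - m) :=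
      { toFun := fun p => (p.1.1, ⟨(p.1.2 : ℕ) - m, by have := p.1.2.2; have := p.2; omega⟩)
        invFun := fun p => ⟨(p.1, ⟨(p.2 : ℕ) + m, by have := p.2.2; omega⟩), Nat.le_add_left _ _⟩
        left_inv := fun p => by
          have := p.2
          exact Subtype.ext (Prod.ext rfl (Fin.ext (show (p.1.2 : ℕ) - m + m = (p.1.2 : ℕ) by omega)))
        right_inv := fun p => Prod.ext rfl (Fin.ext (Nat.add_sub_cancel _ _)) }
    rw [Fintype.card_congr e, Fintype.card_prod, Fintype.card_fin, Fintype.card_fin]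
  rw [Module.card_eq_pow_finrank (K := F) (V := L), hc]
  push_cast
  rfl

theorem gs_plane (h : OF Q f X) {u w : V} (hli : LinearIndependent F ![u, w]) (hf : f u w = 1) :
    gs Q (span F {u, w}) = ∑ p : F × F, chr (p.1 ^ 2 * Q u + p.1 * p.2 + p.2 ^ 2 * Q w) := by
  classical
  symm
  refine Finset.sum_bij (fun p _ => p.1 • u + p.2 • w) ?_ ?_ ?_ ?_
  · intro p _
    exact Finset.mem_filter.2 ⟨Finset.mem_univ _, mem_span_pair.2 ⟨_, _, rfl⟩⟩
  · intro p _ p' _ e
    have := LinearIndependent.pair_iff.1 hli (p.1 - p'.1) (p.2 - p'.2) (by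
      rw [sub_smul, sub_smul, ← sub_eq_zero.2 e]; abel)
    exact Prod.ext (sub_eq_zero.1 this.1) (sub_eq_zero.1 this.2)
  · intro x hx
    obtain ⟨a, b, e⟩ := mem_span_pair.1 (Finset.mem_filter.1 hx).2
    exact ⟨(a, b), Finset.mem_univ _, e⟩
  · intro p _
    rw [h.add, h.smul, h.smul]
    simp only [map_smul, LinearMap.smul_apply, smul_eq_mul, hf, mul_one]
    congr 1; ring

/-- The sign of a block. -/
def Blk.eps : Blk → Bool
  | .cy _ ε => ε
  | .pr _ ε => ε

/-- The number of bits. -/
def bits (M : Multiset Blk) : ℕ := M.countP fun B => B.eps = true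

theorem gs_blk (h : OF Q f X) (hd : Scal dl) {B : Blk} {S : Submodule F V} (hB : OBlk dl Q f X B S) :
    gs Q S = (if B.eps = true then -1 else 1) * (Fintype.card F : ℤ) ^ B.wt := by
  classical
  cases B with
  | cy k ε =>
    obtain ⟨v, hv, hvq, rfl⟩ := hB
    have hg := hv.gen h.uf
    have hv0 := hv.kill
    rw [gs_core h hd hg (m := k + 2) (by omega) (by omega) fun a j hj => by
      fin_cases a; exact (hv.val j).trans (by
        rw [tV, if_neg (by omega), if_neg fun hh => by omega])]
    have hpk : ph f X k v = 1 := (hv.val k).trans (by simp [tV])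
    have hu : Q ((X ^ k) v) = if ε = true then dl else 0 := by
      rcases Nat.eq_zero_or_pos k with rfl | hk
      · rw [pow_zero, Module.End.one_apply, hvq]; simp [qV]
      · obtain ⟨j, rfl⟩ : ∃ j, k = j + 1 := ⟨k - 1, by omega⟩
        rw [h.pow_succ, hv.val]; simp [tV]
    have hw : Q ((X ^ (k + 1)) v) = 1 := by rw [h.pow_succ, hpk]
    have hf : f ((X ^ k) v) ((X ^ (k + 1)) v) = 1 := by rw [h.uf.symm]; exact hpk
    have hli : LinearIndependent F ![(X ^ k) v, (X ^ (k + 1)) v] := by
      have := (hg.indep h.uf).comp ![((0 : Fin 1), (⟨k, by omega⟩ : Fin (2 * k + 1 + 1))), (0, ⟨k + 1, by omega⟩)]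
        (fun a b e => by fin_cases a <;> fin_cases b <;> simp_all)
      convert this using 1
      funext i; fin_cases i <;> rfl
    have hset : fam X (2 * k + 1) ![v] '' {p | 2 * k + 1 + 1 - (k + 2) ≤ (p.2 : ℕ) ∧ (p.2 : ℕ) < k + 2} =
        {(X ^ k) v, (X ^ (k + 1)) v} := by
      ext x
      simp only [Set.mem_image, Set.mem_setOf_eq, Set.mem_insert_iff, Set.mem_singleton_iff]
      constructor
      · rintro ⟨⟨a, i⟩, hi, rfl⟩
        fin_cases a
        dsimp only at hi
        show (X ^ (i : ℕ)) v = _ ∨ (X ^ (i : ℕ)) v = _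
        rcases (show (i : ℕ) = k ∨ (i : ℕ) = k + 1 by omega) with e | e <;> rw [e] <;> simp
      · rintro (rfl | rfl)
        · exact ⟨(0, ⟨k, by omega⟩), by simp only; omega, rfl⟩
        · exact ⟨(0, ⟨k + 1, by omega⟩), by simp only; omega, rfl⟩
    rw [hset, gs_plane h hli hf, hu, hw, show 1 * (2 * k + 1 + 1 - (k + 2)) = k by omega]
    show _ = _ * (Fintype.card F : ℤ) ^ (k + 1)
    cases ε
    · simp only [Blk.eps, Bool.false_eq_true, if_false]
      rw [Finset.sum_congr rfl fun p _ => show chr (F := F) (p.1 ^ 2 * 0 + p.1 * p.2 + p.2 ^ 2 * 1) =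
        chr (F := F) (p.1 * p.2 + 1 * p.2 ^ 2) by congr 1; ring, plane_zero hd]
      ring
    · simp only [Blk.eps, if_true]
      rw [Finset.sum_congr rfl fun p _ => show chr (F := F) (p.1 ^ 2 * dl + p.1 * p.2 + p.2 ^ 2 * 1) =
        chr (F := F) (dl * p.1 ^ 2 + p.1 * p.2 + p.2 ^ 2) by congr 1; ring, plane_one hd]
      ring
  | pr n ε =>
    obtain ⟨hε, v, w, hr, hvq, hwq, rfl⟩ := hB
    have hg := hr.gen h.uf
    have hv0 := hr.killv
    obtain ⟨r, hn | hn⟩ := Nat.even_or_odd' n
    · subst hn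
      rw [gs_core h hd hg (m := r + 1) (by omega) (by omega) fun a j hj => by
        fin_cases a
        · exact (hr.valv j).trans (by rw [tW, if_neg fun hh => by omega])
        · exact (hr.valw j).trans (by rw [tW, if_neg fun hh => by omega])]
      have hu : ∀ (y : F) (z : V), Q z = qW y (2 * r) ε → (∀ j, ph f X j z = tW y (2 * r) (ε && 2 * r != 0) j) →
          Q ((X ^ r) z) = if ε = true then y else 0 := fun y z hq hp => by
        rcases Nat.eq_zero_or_pos r with rfl | hr0
        · rw [pow_zero, Module.End.one_apply, hq]; simp [qW]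
        · obtain ⟨j, rfl⟩ : ∃ j, r = j + 1 := ⟨r - 1, by omega⟩
          rw [h.pow_succ, hp, tW]; simp [show 2 * j + 2 = 2 * (j + 1) by ring]
      have hvw : f ((X ^ r) v) ((X ^ r) w) = 1 := by
        show D f X v w r r = 1
        rw [D_top h.uf hv0 w r r (by omega), hr.pair, if_pos rfl]
      have hli : LinearIndependent F ![(X ^ r) v, (X ^ r) w] := by
        have := (hg.indep h.uf).comp ![((0 : Fin 2), (⟨r, by omega⟩ : Fin (2 * r + 1))), (1, ⟨r, by omega⟩)]
          (fun a b e => by fin_cases a <;> fin_cases b <;> simp_all)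
        convert this using 1
        funext i; fin_cases i <;> rfl
      have hset : fam X (2 * r) ![v, w] '' {p | 2 * r + 1 - (r + 1) ≤ (p.2 : ℕ) ∧ (p.2 : ℕ) < r + 1} =
          {(X ^ r) v, (X ^ r) w} := by
        ext x
        simp only [Set.mem_image, Set.mem_setOf_eq, Set.mem_insert_iff, Set.mem_singleton_iff]
        constructor
        · rintro ⟨⟨a, i⟩, hi, rfl⟩
          dsimp only at hi
          have : (i : ℕ) = r := by omega
          fin_cases a
          · left; show (X ^ (i : ℕ)) v = _; rw [this]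
          · right; show (X ^ (i : ℕ)) w = _; rw [this]
        · rintro (rfl | rfl)
          · exact ⟨(0, ⟨r, by omega⟩), by simp only; omega, rfl⟩
          · exact ⟨(1, ⟨r, by omega⟩), by simp only; omega, rfl⟩
      rw [hset, gs_plane h hli hvw, hu 1 v hvq hr.valv, hu dl w hwq hr.valw,
        show 2 * (2 * r + 1 - (r + 1)) = 2 * r by omega]
      show _ = _ * (Fintype.card F : ℤ) ^ (2 * r + 1)
      cases ε
      · simp only [Blk.eps, Bool.false_eq_true, if_false]
        rw [Finset.sum_congr rfl fun p _ => show chr (F := F) (p.1 ^ 2 * 0 + p.1 * p.2 + p.2 ^ 2 * 0) =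
          chr (F := F) (p.1 * p.2 + 0 * p.2 ^ 2) by congr 1; ring, plane_zero hd]
        ring
      · simp only [Blk.eps, if_true]
        have e := Fintype.sum_equiv (Equiv.prodComm F F)
          (fun p : F × F => chr (p.1 ^ 2 * 1 + p.1 * p.2 + p.2 ^ 2 * dl))
          (fun p => chr (dl * p.1 ^ 2 + p.1 * p.2 + p.2 ^ 2)) fun p => by
            show chr _ = chr (dl * p.2 ^ 2 + p.2 * p.1 + p.1 ^ 2)
            congr 1; ring
        rw [e, plane_one hd]
        ring
    · subst hn
      have hf : ε = false := by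
        cases ε with
        | false => rfl
        | true => obtain ⟨s, hs⟩ := hε rfl; omega
      subst hf
      rw [gs_core h hd hg (m := r + 1) (by omega) (by omega) fun a j hj => by
        fin_cases a
        · exact (hr.valv j).trans (by rw [tW, if_neg fun hh => by simp at hh])
        · exact (hr.valw j).trans (by rw [tW, if_neg fun hh => by simp at hh]),
        show fam X (2 * r + 1) ![v, w] '' {p | 2 * r + 1 + 1 - (r + 1) ≤ (p.2 : ℕ) ∧ (p.2 : ℕ) < r + 1} = ∅ by
          rw [Set.image_eq_empty, Set.eq_empty_iff_forall_notMem]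
          intro p hp; simp only [Set.mem_setOf_eq] at hp; omega,
        span_empty, gs_bot h, mul_one, show 2 * (2 * r + 1 + 1 - (r + 1)) = 2 * r + 1 + 1 by omega]
      simp [Blk.eps, Blk.wt]

theorem gs_dec (h : OF Q f X) (hd : Scal dl) {W : Submodule F V} {M : Multiset Blk}
    (hW : Dec (OBlk dl Q f X) f W M) : gs Q W = (-1) ^ bits M * (Fintype.card F : ℤ) ^ wM M := by
  induction hW with
  | nil => simp [gs_bot h, bits, wM]
  | @cons B S W M hB hd' ho ih =>
    rw [gs_sup h hd ho (orth_disjoint h.uf ((hB.hasGen h).nd h.uf) ho), gs_blk h hd hB, ih, wM, wM,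
      Multiset.map_cons, Multiset.sum_cons, bits, bits, Multiset.countP_cons]
    split_ifs with hb <;> simp [pow_add, pow_succ] <;> ring

end H49.Unip2
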