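import Cfsg.Agent.H49.Orth2Model

/-!
Many classes in an orthogonal group in characteristic two, one for each polynomial of the right sign.
-/

set_option autoImplicit false
set_option linter.unusedSectionVars false

namespace H49.Unip2

open Polynomial
open H48.SS (IsSymplForm)

variable {F : Type*} [Field F] [CharP F 2]
  {U : Type*} [AddCommGroup U] [Module F U] [FiniteDimensional F U]
  {U' : Type*} [AddCommGroup U'] [Module F U'] [FiniteDimensional F U']
  {Q : U → F} {f : LinearMap.BilinForm F U} {T : Module.End F U} {dl : F}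
  {Q' : U' → F} {f' : LinearMap.BilinForm F U'} {T' : Module.End F U'}

theorem OSym.one (h : OSym Q f T) : OSym Q f 1 := ⟨h.form, h.smul, h.add, fun _ => rfl⟩

theorem OSym.prod (h : OSym Q f T) (h' : OSym Q' f' T') :
    OSym (fun x : U × U' => Q x.1 + Q' x.2)
      (f.compl₁₂ (LinearMap.fst F U U') (LinearMap.fst F U U') + f'.compl₁₂ (LinearMap.snd F U U') (LinearMap.snd F U U'))
      (T.prodMap T') := by
  refine ⟨⟨fun x => ?_, fun x hx => ?_⟩, fun c x => ?_, fun x y => ?_, fun x => ?_⟩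
  · simp [h.form.alt, h'.form.alt]
  · refine Prod.ext (h.form.sep _ fun y => ?_) (h'.form.sep _ fun y => ?_)
    · simpa using hx (y, 0)
    · simpa using hx (0, y)
  · simp only [Prod.smul_fst, Prod.smul_snd, h.smul, h'.smul]; ring
  · simp only [Prod.fst_add, Prod.snd_add, h.add, h'.add, LinearMap.add_apply, LinearMap.compl₁₂_apply,
      LinearMap.fst_apply, LinearMap.snd_apply]
    ring
  · simp only [LinearMap.prodMap_apply, h.isom, h'.isom]

theorem OSym.comap (h : OSym Q f 1) (e : U' ≃ₗ[F] U) (hQ : ∀ x, Q' x = Q (e x)) :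
    OSym Q' (f.compl₁₂ e.toLinearMap e.toLinearMap) 1 := by
  refine ⟨⟨fun x => h.form.alt _, fun x hx => e.injective ?_⟩, fun c x => ?_, fun x y => ?_, fun x => rfl⟩
  · rw [map_zero]
    exact h.form.sep _ fun y => by obtain ⟨y, rfl⟩ := e.surjective y; exact hx y
  · rw [hQ, hQ, map_smul, h.smul]
  · rw [hQ, hQ, hQ, map_add, h.add]; rfl

/-- A binary form. -/
def planeQ (α β : F) (x : F × F) : F := α * x.1 ^ 2 + x.1 * x.2 + β * x.2 ^ 2

theorem osym_plane (α β : F) : ∃ g : LinearMap.BilinForm F (F × F), OSym (planeQ α β) g 1 := by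
  refine ⟨LinearMap.mk₂ F (fun x y : F × F => x.1 * y.2 + y.1 * x.2)
    (fun x x' y => by simp only [Prod.fst_add, Prod.snd_add]; ring)
    (fun c x y => by simp only [Prod.smul_fst, Prod.smul_snd, smul_eq_mul]; ring)
    (fun x y y' => by simp only [Prod.fst_add, Prod.snd_add]; ring)
    (fun c x y => by simp only [Prod.smul_fst, Prod.smul_snd, smul_eq_mul]; ring),
    ⟨fun x => CharTwo.add_self_eq_zero _, fun x hx => ?_⟩, fun c x => ?_, fun x y => ?_, fun x => rfl⟩
  · refine Prod.ext ?_ ?_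
    · simpa using hx (0, 1)
    · simpa using hx (1, 0)
  · simp only [planeQ, Prod.smul_fst, Prod.smul_snd, smul_eq_mul]; ring
  · show planeQ α β (x + y) = planeQ α β x + planeQ α β y + (x.1 * y.2 + y.1 * x.2)
    simp only [planeQ, Prod.fst_add, Prod.snd_add]
    linear_combination (α * x.1 * y.1 + β * x.2 * y.2) * CharTwo.two_eq_zero (R := F)

/-- The invariant of a class. -/
def MinS {R : Type*} [Ring R] [Algebra F R] (G : R) (A : F[X]) : Prop :=
  ∃ S, G * G + 1 = S * G ∧ ∀ p : F[X], aeval S p = 0 ↔ A ∣ p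

theorem MinS.map {R R' : Type*} [Ring R] [Algebra F R] [Ring R'] [Algebra F R'] (e : R ≃ₐ[F] R') {G : R} {A : F[X]}
    (h : MinS G A) : MinS (e G) A := by
  obtain ⟨S, h1, h2⟩ := h
  refine ⟨e S, by rw [← map_mul, ← map_mul, ← map_one e, ← map_add, h1], fun p => ?_⟩
  rw [← h2 p, show aeval (e S) p = e (aeval S p) from aeval_algHom_apply e.toAlgHom S p, map_eq_zero_iff _ e.injective]

theorem MinS.unique {R : Type*} [Ring R] [Algebra F R] (G : Rˣ) {A A' : F[X]} (hA : A.Monic) (hA' : A'.Monic)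
    (h : MinS (G : R) A) (h' : MinS (G : R) A') : A = A' := by
  obtain ⟨S, h1, h2⟩ := h
  obtain ⟨S', h1', h2'⟩ := h'
  obtain rfl : S = S' := G.isUnit.mul_right_cancel (h1.symm.trans h1')
  exact eq_of_monic_of_associated hA hA' (associated_of_dvd_dvd ((h2 A').1 ((h2' A').2 dvd_rfl))
    ((h2' A).1 ((h2 A).2 dvd_rfl)))

variable [Fintype F]

theorem gU_prod [Finite U] [Finite U'] (hd : Scal dl) (Q : U → F) (Q' : U' → F) :
    gU (fun x : U × U' => Q x.1 + Q' x.2) = gU Q * gU Q' := by
  haveI := Fintype.ofFinite U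
  haveI := Fintype.ofFinite U'
  rw [gU_eq, gU_eq, gU_eq, Finset.sum_mul_sum, Fintype.sum_prod_type]
  simp only [chr_add hd]

theorem gU_planeQ_zero (hd : Scal dl) : gU (planeQ (0 : F) 0) = (Fintype.card F : ℤ) := by
  rw [gU_eq, ← plane_zero hd (0 : F)]
  exact Finset.sum_congr rfl fun p _ => by congr 1; simp [planeQ]

theorem gU_planeQ_one (hd : Scal dl) : gU (planeQ dl 1) = -(Fintype.card F : ℤ) := by
  rw [gU_eq, ← plane_one hd]
  exact Finset.sum_congr rfl fun p _ => by congr 1; simp [planeQ]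

theorem top_eq_zero (h : OF Q f (0 : Module.End F U)) {N : Multiset Blk} (hN : Dec (OBlk dl Q f 0) f ⊤ N) :
    ∀ B ∈ N, B.top = 0 := by
  intro B hB
  have h1 := (hN.facts h.uf fun hB => hB.hasGen h).2.2 1
  rw [img, pow_one, Submodule.map_zero, finrank_bot] at h1
  have h2 : B.img 1 ≤ imgM N 1 := Multiset.le_sum_of_mem (Multiset.mem_map_of_mem (fun B => B.img 1) hB)
  cases B <;> simp only [Blk.img, Blk.top, Blk.cnt] at h2 ⊢ <;> omega

/-- The sign and the dimension determine the form. -/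
theorem exists_isometry [Finite U] [Finite U'] (hd : Scal dl) (h : OSym Q f 1) (h' : OSym Q' f' 1)
    (hdim : Module.finrank F U = Module.finrank F U') (hg : gU Q = gU Q') :
    ∃ φ : U ≃ₗ[F] U', ∀ x, Q' (φ x) = Q x := by
  classical
  obtain ⟨M, hM, hC, hw, he⟩ := exists_one_list hd h
  obtain ⟨M', hM', hC', hw', he'⟩ := exists_one_list hd h'
  suffices M = M' by
    subst this
    obtain ⟨φ, -, -, hφ⟩ := oiso_of_dec h.of_one h'.of_one hM hM'
    exact ⟨φ, hφ⟩
  have hform : ∀ {N : Multiset Blk}, (∀ B ∈ N, B.top = 0) →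
      N = Multiset.replicate (N.count (.pr 0 true)) (.pr 0 true) + Multiset.replicate (N.count (.pr 0 false)) (.pr 0 false) ∧
        bits N = N.count (.pr 0 true) ∧ wM N = N.count (.pr 0 true) + N.count (.pr 0 false) := by
    intro N hN
    have e : N = Multiset.replicate (N.count (.pr 0 true)) (.pr 0 true) +
        Multiset.replicate (N.count (.pr 0 false)) (.pr 0 false) := by
      refine Multiset.ext.2 fun B => ?_
      simp only [Multiset.count_add, Multiset.count_replicate]
      by_cases hB : B ∈ N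
      · have := hN B hB
        cases B with
        | cy k ε => simp [Blk.top] at this
        | pr n ε =>
          simp only [Blk.top] at this
          subst this
          cases ε <;> simp
      · rw [Multiset.count_eq_zero_of_notMem hB]
        split_ifs <;> simp_all
    refine ⟨e, ?_, ?_⟩
    · conv_lhs => rw [e]
      rw [bits, Multiset.countP_add,
        Multiset.countP_eq_card.2 fun a ha => by rw [Multiset.eq_of_mem_replicate ha]; rfl,
        Multiset.countP_eq_zero.2 fun a ha => by rw [Multiset.eq_of_mem_replicate ha]; exact Bool.false_ne_true,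
        Multiset.card_replicate, add_zero]
    · conv_lhs => rw [e]
      simp [wM, Blk.wt]
  obtain ⟨eM, bM, wMe⟩ := hform (top_eq_zero h.of_one hM)
  obtain ⟨eM', bM', wMe'⟩ := hform (top_eq_zero h'.of_one hM')
  have hww : wM M = wM M' := by omega
  rw [he, he', hww] at hg
  have hq : (Fintype.card F : ℤ) ≠ 0 := by exact_mod_cast Fintype.card_ne_zero
  have hb := mul_right_cancel₀ (pow_ne_zero _ hq) hg
  have a1 := hC.pbit 0
  have a2 := hC'.pbit 0
  have hbb : M.count (.pr 0 true) = M'.count (.pr 0 true) := by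
    rw [bM, bM'] at hb
    rcases (show M.count (.pr 0 true) = 0 ∨ M.count (.pr 0 true) = 1 by omega) with a | a <;>
      rcases (show M'.count (.pr 0 true) = 0 ∨ M'.count (.pr 0 true) = 1 by omega) with b | b <;>
      rw [a, b] at hb ⊢ <;> norm_num at hb
  rw [eM, eM', hbb, show M.count (.pr 0 false) = M'.count (.pr 0 false) by omega]

variable {ι : Type} [Fintype ι] [DecidableEq ι] {Q0 : (ι → F) → F} {f0 : LinearMap.BilinForm F (ι → F)}

/-- An element of the group for an element of an isometric space. -/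
theorem exists_elt [Finite U] (hd : Scal dl) (h0 : OSym Q0 f0 1) (h : OSym Q f T) {A : F[X]} (hA : MinS T A)
    (hdim : Module.finrank F U = Fintype.card ι) (hg : gU Q = gU Q0) :
    ∃ g : Cfsg.isometryGroup F Q0, MinS ((g : Matrix.GeneralLinearGroup ι F) : Matrix ι ι F) A := by
  obtain ⟨φ, hφ⟩ := exists_isometry hd h.one h0 (by rw [hdim, Module.finrank_pi]) hg
  let Ψ : Module.End F U ≃ₐ[F] Matrix ι ι F := (φ.conjAlgEquiv F).trans LinearMap.toMatrixAlgEquiv'
  have hu : IsUnit (Ψ T) := ((Module.End.isUnit_iff _).2 ⟨h.sym.injective, h.sym.surjective⟩).map Ψ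
  refine ⟨⟨hu.unit, fun x _ => ?_⟩, hA.map Ψ⟩
  show Q0 (Matrix.mulVec (Ψ T) x) = Q0 x
  have e : Matrix.mulVec (Ψ T) x = φ (T (φ.symm x)) := by
    show Matrix.mulVec (LinearMap.toMatrix' (φ.conjAlgEquiv F T)) x = _
    rw [LinearMap.toMatrix'_mulVec]
    rfl
  rw [e, hφ, h.isom, ← hφ, φ.apply_symm_apply]

/-- Conjugation by an invertible element as an algebra equivalence. -/
def conjEquiv {R : Type*} [Ring R] [Algebra F R] (u : Rˣ) : R ≃ₐ[F] R where
  toFun x := u * x * (u⁻¹ : Rˣ)
  invFun x := (u⁻¹ : Rˣ) * x * u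
  left_inv x := by simp [mul_assoc]
  right_inv x := by simp [mul_assoc]
  map_mul' x y := by simp [mul_assoc]
  map_add' x y := by simp [mul_add, add_mul]
  commutes' r := by rw [← Algebra.commutes, mul_assoc, Units.mul_inv, mul_one]

theorem minS_conj {g g' : Cfsg.isometryGroup F Q0} (hc : IsConj g g') {A A' : F[X]} (hA : A.Monic) (hA' : A'.Monic)
    (h : MinS ((g : Matrix.GeneralLinearGroup ι F) : Matrix ι ι F) A)
    (h' : MinS ((g' : Matrix.GeneralLinearGroup ι F) : Matrix ι ι F) A') : A = A' := by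
  obtain ⟨c, hc⟩ := isConj_iff.1 hc
  refine MinS.unique (g' : Matrix.GeneralLinearGroup ι F) hA hA' ?_ h'
  have := h.map (conjEquiv (c : Matrix.GeneralLinearGroup ι F))
  rw [← hc]
  exact this

/-- The polynomial with prescribed lower coefficients. -/
noncomputable def pol {m : ℕ} (c : Fin m → F) : F[X] := X ^ m + ((degreeLTEquiv F m).symm c : F[X])

theorem pol_spec {m : ℕ} (c : Fin m → F) :
    (pol c).Monic ∧ (pol c).natDegree = m ∧ ∀ i : Fin m, (pol c).coeff i = c i := by
  have hlt : ((degreeLTEquiv F m).symm c : F[X]).degree < m := mem_degreeLT.1 ((degreeLTEquiv F m).symm c).2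
  refine ⟨monic_X_pow_add hlt, ?_, fun i => ?_⟩
  · rw [pol, natDegree_eq_of_degree_eq_some]
    rw [degree_add_eq_left_of_degree_lt (by rwa [degree_X_pow]), degree_X_pow]
  · rw [pol, coeff_add, coeff_X_pow, if_neg (by omega), zero_add]
    exact congrFun ((degreeLTEquiv F m).apply_symm_apply c) i

theorem card_nz (k : ℕ) :
    Nat.card {c : Fin (k + 1) → F // c 0 ≠ 0} = (Fintype.card F - 1) * Fintype.card F ^ k := by
  classical
  let e : {c : Fin (k + 1) → F // c 0 ≠ 0} ≃ {t : F // t ≠ 0} × (Fin k → F) :=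
    { toFun := fun c => (⟨c.1 0, c.2⟩, Fin.tail c.1)
      invFun := fun p => ⟨Fin.cons p.1.1 p.2, by rw [Fin.cons_zero]; exact p.1.2⟩
      left_inv := fun c => Subtype.ext (Fin.cons_self_tail c.1)
      right_inv := fun p => by refine Prod.ext (Subtype.ext ?_) ?_ <;> simp }
  rw [Nat.card_congr e, Nat.card_prod, Nat.card_fun, Nat.card_fin, Nat.card_eq_fintype_card,
    Fintype.card_subtype_compl, Fintype.card_subtype_eq, Nat.card_eq_fintype_card]

theorem chr_cases (a : F) : chr a = 1 ∨ chr a = -1 := by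
  unfold chr; split_ifs <;> simp

theorem card_good (hd : Scal dl) (k : ℕ) {σ : ℤ} (hσ : σ = 1 ∨ σ = -1) :
    2 * Nat.card {c : Fin (k + 2) → F // c 0 ≠ 0 ∧ chr (c 1 / c 0) = σ} = Nat.card {c : Fin (k + 2) → F // c 0 ≠ 0} := by
  classical
  set τ : (Fin (k + 2) → F) → (Fin (k + 2) → F) := fun c => Function.update c 1 (c 1 + dl * c 0) with hτ
  have h10 : (0 : Fin (k + 2)) ≠ 1 := by simp
  have hinv : Function.Involutive τ := fun c => by
    simp only [hτ, Function.update_self, Function.update_of_ne h10, Function.update_idem, add_assoc,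
      CharTwo.add_self_eq_zero, add_zero, Function.update_eq_self]
  have h0 : ∀ c, τ c 0 = c 0 := fun c => by rw [hτ]; exact Function.update_of_ne h10 _ _
  have hs : ∀ c, c 0 ≠ 0 → chr (τ c 1 / τ c 0) = -chr (c 1 / c 0) := fun c hc => by
    rw [h0, show τ c 1 = c 1 + dl * c 0 by simp [hτ], add_div, mul_div_assoc, div_self hc, mul_one, chr_add hd,
      chr_dl hd, mul_neg, mul_one]
  let P : Set {c : Fin (k + 2) → F // c 0 ≠ 0} := {c | chr (c.1 1 / c.1 0) = σ}
  have e1 : Nat.card P = Nat.card {c : Fin (k + 2) → F // c 0 ≠ 0 ∧ chr (c 1 / c 0) = σ} :=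
    Nat.card_congr (Equiv.subtypeSubtypeEquivSubtypeInter (fun c : Fin (k + 2) → F => c 0 ≠ 0)
      (fun c => chr (c 1 / c 0) = σ))
  have e2 : Nat.card P = Nat.card ↥Pᶜ := by
    refine Nat.card_congr
      { toFun := fun c => ⟨⟨τ c.1.1, by rw [h0]; exact c.1.2⟩, fun h => ?_⟩
        invFun := fun c => ⟨⟨τ c.1.1, by rw [h0]; exact c.1.2⟩, ?_⟩
        left_inv := fun c => Subtype.ext (Subtype.ext (hinv _))
        right_inv := fun c => Subtype.ext (Subtype.ext (hinv _)) }
    · have h1 : chr (τ c.1.1 1 / τ c.1.1 0) = σ := h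
      have h2 : chr (c.1.1 1 / c.1.1 0) = σ := c.2
      rw [hs _ c.1.2, h2] at h1
      omega
    · show chr (τ c.1.1 1 / τ c.1.1 0) = σ
      have h2 : ¬ chr (c.1.1 1 / c.1.1 0) = σ := c.2
      rw [hs _ c.1.2]
      rcases chr_cases (c.1.1 1 / c.1.1 0) with h | h <;> rcases hσ with rfl | rfl <;> omega
  have := Nat.card_congr (Equiv.Set.sumCompl P)
  rw [Nat.card_sum] at this
  omega

/-- The lower bound for a form with Gauss sum `σ q^n`. -/
theorem classes_ge (h0 : OSym Q0 f0 1) {k : ℕ} (hι : Fintype.card ι = 2 * (k + 2)) {σ : ℤ} (hσ : σ = 1 ∨ σ = -1)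
    (hg : gU Q0 = σ * (Fintype.card F : ℤ) ^ (k + 2)) :
    Fintype.card F ^ (k + 2) ≤ 2 * Nat.card (ConjClasses (Cfsg.isometryGroup F Q0)) := by
  classical
  obtain ⟨dl, hd⟩ := exists_scal (F := F)
  have hm : ∀ {A : F[X]}, MinS (mT A) A := fun {A} => ⟨_, model_rel, aeval_model⟩
  have key1 : ∀ c : {c : Fin (k + 2) → F // c 0 ≠ 0 ∧ chr (c 1 / c 0) = σ},
      ∃ g : Cfsg.isometryGroup F Q0, MinS ((g : Matrix.GeneralLinearGroup ι F) : Matrix ι ι F) (pol c.1) := by
    rintro ⟨c, hc0, hc1⟩
    obtain ⟨hA, hdeg, hco⟩ := pol_spec c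
    obtain ⟨_, -, _, hfr⟩ := card_model hA
    have e0 : (pol c).coeff 0 = c 0 := hco 0
    have e1 : (pol c).coeff 1 = c 1 := hco 1
    have hA0 : (pol c).coeff 0 ≠ 0 := by rw [e0]; exact hc0
    refine exists_elt hd h0 (osym_model hA hA0) hm ?_ ?_
    · rw [Module.finrank_prod, hfr, hdeg, hι, two_mul]
    · rw [gU_model hA hd (by omega) hA0, hg, hdeg, e0, e1, hc1, mul_comm]
  have key2 : ∀ c : {c : Fin (k + 1) → F // c 0 ≠ 0},
      ∃ g : Cfsg.isometryGroup F Q0, MinS ((g : Matrix.GeneralLinearGroup ι F) : Matrix ι ι F) (pol c.1 * X) := by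
    rintro ⟨c, hc0⟩
    obtain ⟨hA, hdeg, hco⟩ := pol_spec c
    obtain ⟨_, -, _, hfr⟩ := card_model hA
    have e0 : (pol c).coeff 0 = c 0 := hco 0
    have hA0 : (pol c).coeff 0 ≠ 0 := by rw [e0]; exact hc0
    have hgm := gU_model hA hd (by omega) hA0
    obtain ⟨α, β, hp⟩ : ∃ α β : F, gU (planeQ α β) * chr ((pol c).coeff 1 / (pol c).coeff 0) = σ * (Fintype.card F : ℤ) := by
      by_cases h : chr ((pol c).coeff 1 / (pol c).coeff 0) = σ
      · exact ⟨0, 0, by rw [gU_planeQ_zero hd, h, mul_comm]⟩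
      · refine ⟨dl, 1, ?_⟩
        rw [gU_planeQ_one hd]
        rcases chr_cases ((pol c).coeff 1 / (pol c).coeff 0) with h' | h' <;> rw [h'] at h ⊢ <;>
          rcases hσ with rfl | rfl <;> first | exact absurd rfl h | ring
    obtain ⟨g, hgp⟩ := osym_plane α β
    have hmin : MinS ((mT (pol c)).prodMap (1 : Module.End F (F × F))) (pol c * X) := by
      refine ⟨(Algebra.lsmul F F (AdjoinRoot (pol c) × AdjoinRoot (pol c)) (AdjoinRoot.root (pol c))).prodMap 0, ?_,
        fun p => ?_⟩
      · have h2 : (1 : Module.End F (F × F)) * 1 + 1 = 0 * 1 := by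
          refine LinearMap.ext fun x => ?_
          refine Prod.ext ?_ ?_ <;> simp [CharTwo.add_self_eq_zero]
        refine LinearMap.ext fun x => Prod.ext (LinearMap.congr_fun model_rel x.1) (LinearMap.congr_fun h2 x.2)
      · have e : aeval ((Algebra.lsmul F F (AdjoinRoot (pol c) × AdjoinRoot (pol c)) (AdjoinRoot.root (pol c))).prodMap
            (0 : Module.End F (F × F))) p = LinearMap.prodMapAlgHom F (AdjoinRoot (pol c) × AdjoinRoot (pol c)) (F × F)
              (aeval (Algebra.lsmul F F (AdjoinRoot (pol c) × AdjoinRoot (pol c)) (AdjoinRoot.root (pol c))) p,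
                aeval (0 : Module.End F (F × F)) p) := by
          refine (aeval_algHom_apply (LinearMap.prodMapAlgHom F (AdjoinRoot (pol c) × AdjoinRoot (pol c)) (F × F))
            (Algebra.lsmul F F (AdjoinRoot (pol c) × AdjoinRoot (pol c)) (AdjoinRoot.root (pol c)),
              (0 : Module.End F (F × F))) p).trans ?_
          rw [aeval_prod_apply]
        rw [e]
        have hcop : IsCoprime (pol c) X := by
          refine (Prime.coprime_iff_not_dvd prime_X).2 ?_ |>.symm
          rw [X_dvd_iff]; exact hA0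
        have hp0 : aeval (0 : Module.End F (F × F)) p = 0 ↔ X ∣ p := by
          rw [← coeff_zero_eq_aeval_zero', X_dvd_iff, map_eq_zero_iff _ (FaithfulSMul.algebraMap_injective F _)]
        constructor
        · intro h
          refine hcop.mul_dvd ((aeval_model p).1 ?_) (hp0.1 ?_)
          · exact LinearMap.ext fun v => congrArg Prod.fst (LinearMap.congr_fun h (v, 0))
          · exact LinearMap.ext fun v => congrArg Prod.snd (LinearMap.congr_fun h (0, v))
        · intro h
          rw [(aeval_model p).2 (dvd_trans (dvd_mul_right _ _) h), hp0.2 (dvd_trans (dvd_mul_left _ _) h)]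
          exact LinearMap.ext fun v => rfl
    refine exists_elt hd h0 ((osym_model hA hA0).prod hgp) hmin ?_ ?_
    · rw [Module.finrank_prod, Module.finrank_prod, Module.finrank_prod, Module.finrank_self, hfr, hdeg, hι]; ring
    · rw [gU_prod hd, hgm, hdeg, hg, mul_assoc, mul_comm (chr _), hp, pow_succ _ (k + 1)]; ring
  choose g1 hg1 using key1
  choose g2 hg2 using key2
  have hinj : Function.Injective (Sum.elim (fun c => ConjClasses.mk (g1 c)) (fun c => ConjClasses.mk (g2 c))) := by
    have hmon : ∀ {m : ℕ} (c : Fin (m + 1) → F), (pol c * X).Monic := fun c => (pol_spec c).1.mul monic_X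
    have hne : ∀ (c : {c : Fin (k + 2) → F // c 0 ≠ 0 ∧ chr (c 1 / c 0) = σ}) (c' : Fin (k + 1) → F),
        pol c.1 ≠ pol c' * X := fun c c' e => c.2.1 (by
      rw [← (pol_spec c.1).2.2 0]
      show (pol c.1).coeff 0 = 0
      rw [e, mul_coeff_zero, coeff_X_zero, mul_zero])
    have hext : ∀ {m : ℕ} {c c' : Fin m → F}, pol c = pol c' → c = c' := fun {m c c'} e =>
      funext fun i => by rw [← (pol_spec c).2.2 i, ← (pol_spec c').2.2 i, e]
    rintro (a | a) (b | b) e <;> simp only [Sum.elim_inl, Sum.elim_inr, ConjClasses.mk_eq_mk_iff_isConj] at e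
    · exact congrArg Sum.inl (Subtype.ext (hext (minS_conj e (pol_spec _).1 (pol_spec _).1 (hg1 a) (hg1 b))))
    · exact absurd (minS_conj e (pol_spec _).1 (hmon _) (hg1 a) (hg2 b)) (hne a b.1)
    · exact absurd (minS_conj e (hmon _) (pol_spec _).1 (hg2 a) (hg1 b)).symm (hne b a.1)
    · exact congrArg Sum.inr (Subtype.ext (hext (mul_right_cancel₀ X_ne_zero
        (minS_conj e (hmon _) (hmon _) (hg2 a) (hg2 b)))))
  have h1 := Nat.card_le_card_of_injective _ hinj
  rw [Nat.card_sum] at h1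
  have h2 := card_good hd k hσ
  rw [card_nz (k + 1)] at h2
  rw [card_nz k] at h1
  refine le_trans ?_ (Nat.mul_le_mul_left 2 h1)
  rw [Nat.mul_add, h2, pow_succ, pow_succ]
  obtain ⟨r, hr⟩ : ∃ r, Fintype.card F = r + 2 :=
    ⟨Fintype.card F - 2, by have := Fintype.one_lt_card (α := F); omega⟩
  rw [hr, show r + 2 - 1 = r + 1 by omega]
  nlinarith [Nat.zero_le ((r + 2) ^ k), Nat.zero_le (r * (r + 2) ^ k)]

end H49.Unip2
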