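import Cfsg.Agent.H49.Orth2Class

/-!
An orthogonal element for every monic polynomial with a non-zero constant term, characteristic two.
-/

set_option autoImplicit false
set_option linter.unusedSectionVars false

namespace H49.Unip2

open Polynomial
open H48.SS (IsSymplForm)

variable {F : Type*} [Field F] [CharP F 2]

theorem exists_poly_sqrt [Finite F] (p : F[X]) (hp : derivative p = 0) : ∃ B : F[X], B * B = p := by
  haveI : Fact (Nat.Prime 2) := ⟨Nat.prime_two⟩
  have e := Polynomial.expand_contract 2 hp two_ne_zero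
  refine ⟨(contract 2 p).map (frobeniusEquiv F 2).symm, ?_⟩
  rw [← sq, ← map_frobenius_expand, ← map_expand, e, Polynomial.map_map]
  exact (congrArg (fun φ : F →+* F => p.map φ) (RingHom.ext fun a => by simp)).trans Polynomial.map_id

variable {A : F[X]} (hA : A.Monic)

/-- The top coefficient of the remainder. -/
noncomputable def lam : AdjoinRoot A →ₗ[F] F :=
  (lcoeff F (A.natDegree - 1)).comp (AdjoinRoot.modByMonicHom hA)

theorem lam_mk (p : F[X]) : lam hA (AdjoinRoot.mk A p) = (p %ₘ A).coeff (A.natDegree - 1) := by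
  simp [lam, AdjoinRoot.modByMonicHom_mk]

theorem lam_of_lt {p : F[X]} (hp : p.degree < A.degree) :
    lam hA (AdjoinRoot.mk A p) = p.coeff (A.natDegree - 1) := by
  rw [lam_mk, (modByMonic_eq_self_iff hA).2 hp]

theorem exists_rep (hA : A.Monic) (u : AdjoinRoot A) : ∃ p : F[X], p.degree < A.degree ∧ AdjoinRoot.mk A p = u := by
  obtain ⟨p, rfl⟩ := AdjoinRoot.mk_surjective u
  refine ⟨p %ₘ A, degree_modByMonic_lt p hA, ?_⟩
  rw [AdjoinRoot.mk_eq_mk]
  exact ⟨-(p /ₘ A), by linear_combination modByMonic_add_div p A⟩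

theorem lam_sep {u : AdjoinRoot A} (h : ∀ v, lam hA (u * v) = 0) : u = 0 := by
  obtain ⟨p, hp, rfl⟩ := exists_rep hA u
  by_contra hne
  have hp0 : p ≠ 0 := fun e => hne (by rw [e, map_zero])
  have hm : p.natDegree < A.natDegree := natDegree_lt_natDegree hp0 hp
  have hd : (p * X ^ (A.natDegree - 1 - p.natDegree)).natDegree = A.natDegree - 1 := by
    rw [natDegree_mul hp0 (pow_ne_zero _ X_ne_zero), natDegree_X_pow]; omega
  have := h (AdjoinRoot.mk A (X ^ (A.natDegree - 1 - p.natDegree)))
  rw [← map_mul, lam_of_lt hA (degree_lt_degree (by omega))] at this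
  exact mul_ne_zero hp0 (pow_ne_zero _ X_ne_zero) (leadingCoeff_eq_zero.1 (by rw [leadingCoeff, hd]; exact this))

theorem lam_sq (hA1 : 1 ≤ A.natDegree) {B : F[X]} (hB : B * B = derivative A) (u : AdjoinRoot A) :
    lam hA (u * u) = lam hA (AdjoinRoot.mk A B * u) ^ 2 := by
  obtain ⟨p, hp, rfl⟩ := exists_rep hA u
  rw [← map_mul, ← map_mul, lam_mk, lam_mk]
  set d := A.natDegree with hd
  have hA' : A ≠ 1 := fun e => by rw [hd, e, natDegree_one] at hA1; omega
  set r := (B * p) %ₘ A with hr
  set q := (B * p) /ₘ A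
  set d0 := (p * p) %ₘ A with hd0
  set c := (p * p) /ₘ A
  have e1 : r + A * q = B * p := modByMonic_add_div _ A
  have e2 : d0 + A * c = p * p := modByMonic_add_div _ A
  have e3 := congrArg derivative e2
  rw [map_add, derivative_mul, derivative_mul] at e3
  have key : derivative (d0 * A) = r * r + (q * q + derivative c) * (A * A) := by
    rw [derivative_mul]
    linear_combination A * e3 + (derivative A) * e2 - (r + A * q + B * p) * e1 - p * p * hB
      + (derivative p * p * A + r * A * q - (derivative A * A * c + derivative c * A * A)) *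
        (CharTwo.two_eq_zero (R := F[X]))
  have hdr : r.natDegree < d := natDegree_modByMonic_lt _ hA hA'
  have hdd : d0.natDegree < d := natDegree_modByMonic_lt _ hA hA'
  have hz : q * q + derivative c = 0 := by
    by_contra hne
    have h1 : (derivative (d0 * A) - r * r).natDegree ≤ 2 * d - 2 := by
      refine (natDegree_sub_le _ _).trans (max_le ((natDegree_derivative_le _).trans ?_) ?_)
      · have := natDegree_mul_le (p := d0) (q := A); omega
      · have := natDegree_mul_le (p := r) (q := r); omega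
    rw [key, add_sub_cancel_left, natDegree_mul hne (mul_ne_zero hA.ne_zero hA.ne_zero),
      natDegree_mul hA.ne_zero hA.ne_zero, ← hd] at h1
    omega
  rw [hz, zero_mul, add_zero] at key
  have hc := congrArg (fun z : F[X] => z.coeff (d - 1 + (d - 1))) key
  simp only [coeff_derivative] at hc
  rw [show d - 1 + (d - 1) + 1 = (d - 1) + d by omega,
    coeff_mul_add_eq_of_natDegree_le (f := d0) (g := A) (show d0.natDegree ≤ d - 1 by omega) le_rfl,
    coeff_mul_add_eq_of_natDegree_le (f := r) (g := r) (show r.natDegree ≤ d - 1 by omega)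
      (show r.natDegree ≤ d - 1 by omega), hA.coeff_natDegree, mul_one] at hc
  rw [sq, ← hc, show (((d - 1 + (d - 1) : ℕ) : F) + 1) = 1 by
    push_cast; rw [CharTwo.add_self_eq_zero, zero_add], mul_one]

variable [Fintype F] {dl : F}

theorem sum_chr_lin (hd : Scal dl) {V : Type*} [AddCommGroup V] [Module F V] [Fintype V] (L : V →ₗ[F] F)
    {v₀ : V} (h : L v₀ ≠ 0) : ∑ v : V, chr (L v) = 0 := by
  set m := (dl * (L v₀)⁻¹) • v₀ with hm
  have hm' : L m = dl := by rw [hm, map_smul, smul_eq_mul, mul_assoc, inv_mul_cancel₀ h, mul_one]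
  have e := Fintype.sum_equiv (Equiv.addRight m) (fun v : V => chr (L (v + m))) (fun v => chr (L v)) fun v => rfl
  simp only [map_add, hm', chr_add hd, chr_dl hd, mul_neg, mul_one, Finset.sum_neg_distrib] at e
  omega

/-- The quadratic form of the model. -/
noncomputable def mQ (x : AdjoinRoot A × AdjoinRoot A) : F :=
  lam hA (x.1 * x.1 + AdjoinRoot.root A * (x.1 * x.2) + x.2 * x.2)

/-- Its polar form. -/
noncomputable def mf : LinearMap.BilinForm F (AdjoinRoot A × AdjoinRoot A) :=
  LinearMap.mk₂ F (fun x y => lam hA (AdjoinRoot.root A * (x.1 * y.2 + y.1 * x.2)))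
    (fun x x' y => by simp only [Prod.fst_add, Prod.snd_add, ← map_add]; congr 1; ring)
    (fun c x y => by simp only [Prod.smul_fst, Prod.smul_snd, ← map_smul]; congr 1; simp [mul_smul_comm, smul_mul_assoc, mul_add])
    (fun x y y' => by simp only [Prod.fst_add, Prod.snd_add, ← map_add]; congr 1; ring)
    (fun c x y => by simp only [Prod.smul_fst, Prod.smul_snd, ← map_smul]; congr 1; simp [mul_smul_comm, smul_mul_assoc, mul_add])

/-- The element. -/
noncomputable def mT (A : F[X]) : Module.End F (AdjoinRoot A × AdjoinRoot A) :=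
  (LinearMap.snd F _ _).prod (LinearMap.fst F _ _ + (LinearMap.mulLeft F (AdjoinRoot.root A)).comp (LinearMap.snd F _ _))

theorem mT_apply (x : AdjoinRoot A × AdjoinRoot A) : mT A x = (x.2, x.1 + AdjoinRoot.root A * x.2) := rfl

theorem two_zero : (2 : AdjoinRoot A) = 0 := by
  have := congrArg (algebraMap F (AdjoinRoot A)) (CharTwo.two_eq_zero (R := F))
  rwa [map_ofNat, map_zero] at this

theorem root_inv (h0 : A.coeff 0 ≠ 0) :
    AdjoinRoot.root A * AdjoinRoot.mk A (C (A.coeff 0)⁻¹ * A.divX) = 1 := by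
  rw [← AdjoinRoot.mk_X, ← map_mul, ← map_one (AdjoinRoot.mk A), AdjoinRoot.mk_eq_mk]
  refine ⟨C (A.coeff 0)⁻¹, ?_⟩
  have h1 := X_mul_divX_add A
  have h2 : C (A.coeff 0)⁻¹ * C (A.coeff 0) = 1 := by rw [← C_mul, inv_mul_cancel₀ h0, C_1]
  linear_combination C (A.coeff 0)⁻¹ * h1 - h2 - CharTwo.two_eq_zero (R := F[X])

theorem osym_model (h0 : A.coeff 0 ≠ 0) : OSym (mQ hA) (mf hA) (mT A) := by
  have h2 := two_zero (A := A)
  refine ⟨⟨fun x => ?_, fun x hx => ?_⟩, fun c x => ?_, fun x y => ?_, fun x => ?_⟩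
  · show lam hA _ = 0
    rw [show AdjoinRoot.root A * (x.1 * x.2 + x.1 * x.2) = 0 by
      linear_combination (AdjoinRoot.root A * x.1 * x.2) * h2, map_zero]
  · have hs := root_inv h0
    have k : ∀ {a}, AdjoinRoot.root A * a = 0 → a = 0 := fun {a} e => by
      linear_combination (AdjoinRoot.mk A (C (A.coeff 0)⁻¹ * A.divX)) * e - a * hs
    refine Prod.ext (k (lam_sep hA fun v => ?_)) (k (lam_sep hA fun v => ?_))
    · have := hx (0, v)
      simpa [mf, mul_assoc] using this
    · have := hx (v, 0)
      simpa [mf, mul_comm v, mul_assoc] using this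
  · simp only [mQ, Prod.smul_fst, Prod.smul_snd]
    rw [show c • x.1 * c • x.1 + AdjoinRoot.root A * (c • x.1 * c • x.2) + c • x.2 * c • x.2 =
      (c ^ 2) • (x.1 * x.1 + AdjoinRoot.root A * (x.1 * x.2) + x.2 * x.2) by
        simp only [mul_smul_comm, smul_mul_assoc, sq, smul_add, smul_smul], map_smul, smul_eq_mul]
  · show lam hA _ = lam hA _ + lam hA _ + lam hA _
    rw [← map_add, ← map_add]
    congr 1
    simp only [Prod.fst_add, Prod.snd_add]
    linear_combination (x.1 * y.1 + x.2 * y.2) * h2
  · show lam hA _ = lam hA _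
    congr 1
    simp only [mT_apply]
    linear_combination (AdjoinRoot.root A * x.1 * x.2 + AdjoinRoot.root A * AdjoinRoot.root A * x.2 * x.2) * h2

theorem card_model (hA : A.Monic) : Finite (AdjoinRoot A) ∧ Nat.card (AdjoinRoot A) = Fintype.card F ^ A.natDegree ∧
    Module.Finite F (AdjoinRoot A) ∧ Module.finrank F (AdjoinRoot A) = A.natDegree := by
  have b := (AdjoinRoot.powerBasis hA.ne_zero)
  haveI := (AdjoinRoot.powerBasis hA.ne_zero).finite
  haveI : Finite (AdjoinRoot A) := Module.finite_of_finite F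
  have h := (AdjoinRoot.powerBasis hA.ne_zero).finrank
  rw [AdjoinRoot.powerBasis_dim] at h
  refine ⟨inferInstance, ?_, inferInstance, h⟩
  rw [Module.natCard_eq_pow_finrank (K := F), h, Nat.card_eq_fintype_card]

/-- The Gauss sum of the model. -/
theorem gU_model (hd : Scal dl) (hA1 : 1 ≤ A.natDegree) (h0 : A.coeff 0 ≠ 0) [Finite (AdjoinRoot A)] :
    gU (mQ hA) = (Fintype.card F : ℤ) ^ A.natDegree * chr (A.coeff 1 / A.coeff 0) := by
  classical
  haveI := Fintype.ofFinite (AdjoinRoot A)
  obtain ⟨B, hB⟩ := exists_poly_sqrt (derivative A) (by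
    ext i
    rw [coeff_derivative, coeff_derivative, coeff_zero, mul_assoc]
    rcases Nat.even_or_odd i with ⟨r, rfl⟩ | ⟨r, rfl⟩
    · push_cast
      linear_combination (A.coeff (r + r + 1 + 1) * (r + 1) * (2 * r + 1)) * CharTwo.two_eq_zero (R := F)
    · push_cast
      linear_combination (A.coeff (2 * r + 1 + 1 + 1) * (r + 1) * (2 * r + 3)) * CharTwo.two_eq_zero (R := F))
  set s := AdjoinRoot.root A
  set β := AdjoinRoot.mk A B
  set w := AdjoinRoot.mk A (C (A.coeff 0)⁻¹ * A.divX) with hw
  have hs : s * w = 1 := root_inv h0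
  have hlin : ∀ a b : AdjoinRoot A, chr (mQ hA (a, b)) =
      chr (lam hA (β * β * w)) * chr (lam hA (s * ((a + β * w) * (b + β * w)))) := fun a b => by
    rw [show mQ hA (a, b) = lam hA (a * a) + lam hA (s * (a * b)) + lam hA (b * b) by rw [← map_add, ← map_add]; rfl,
      chr_add hd, chr_add hd, lam_sq hA hA1 hB, lam_sq hA hA1 hB, sq, sq, chr_sq hd, chr_sq hd, ← chr_add hd,
      ← chr_add hd, ← chr_add hd, ← map_add, ← map_add, ← map_add]
    congr 2
    linear_combination -(β * a + β * b + β * β * w) * hs - (β * β * w) * two_zero (A := A)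
  have hval : lam hA (β * β * w) = A.coeff 1 / A.coeff 0 := by
    have e1 := X_mul_divX_add A
    have e2 := X_mul_divX_add (derivative A)
    rw [coeff_derivative, zero_add, Nat.cast_zero, zero_add, mul_one] at e2
    have h2 : C (A.coeff 0)⁻¹ * C (A.coeff 0) = 1 := by rw [← C_mul, inv_mul_cancel₀ h0, C_1]
    have hmk : β * β * w = AdjoinRoot.mk A (C (A.coeff 1 / A.coeff 0) * A.divX + (derivative A).divX) := by
      rw [hw, ← map_mul, ← map_mul, hB, AdjoinRoot.mk_eq_mk]
      refine ⟨C (A.coeff 0)⁻¹ * (derivative A).divX, ?_⟩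
      rw [div_eq_mul_inv, C_mul]
      linear_combination (-(C (A.coeff 0)⁻¹ * A.divX)) * e2 + (C (A.coeff 0)⁻¹ * (derivative A).divX) * e1
        - (derivative A).divX * h2 - (derivative A).divX * CharTwo.two_eq_zero (R := F[X])
    have hdd : (derivative A).natDegree ≤ A.natDegree - 1 := natDegree_derivative_le _
    have hdeg : (C (A.coeff 1 / A.coeff 0) * A.divX + (derivative A).divX).degree < A.degree := by
      refine degree_lt_degree (lt_of_le_of_lt (natDegree_add_le _ _) (max_lt ?_ ?_))
      · refine lt_of_le_of_lt (natDegree_C_mul_le _ _) ?_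
        rw [natDegree_divX_eq_natDegree_tsub_one]; omega
      · rw [natDegree_divX_eq_natDegree_tsub_one]; omega
    rw [hmk, lam_of_lt hA hdeg, coeff_add, coeff_C_mul, coeff_divX, coeff_divX,
      show A.natDegree - 1 + 1 = A.natDegree by omega, hA.coeff_natDegree, mul_one,
      coeff_eq_zero_of_natDegree_lt (show (derivative A).natDegree < A.natDegree by omega), add_zero]
  rw [gU_eq, Fintype.sum_prod_type]
  simp only [hlin, ← Finset.mul_sum, hval]
  rw [mul_comm]
  congr 1
  rw [Fintype.sum_equiv (Equiv.addRight (β * w))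
      (fun a => ∑ b, chr (lam hA (s * ((a + β * w) * (b + β * w)))))
      (fun a => ∑ b, chr (lam hA (s * (a * b)))) fun a =>
        Fintype.sum_equiv (Equiv.addRight (β * w)) _ _ fun b => rfl,
    Finset.sum_eq_single (0 : AdjoinRoot A)]
  · simp only [zero_mul, mul_zero, map_zero, chr_zero, Finset.sum_const, Finset.card_univ, nsmul_eq_mul, mul_one]
    rw [← Nat.card_eq_fintype_card, (card_model hA).2.1]
    push_cast
    rfl
  · intro a _ ha
    obtain ⟨v, hv⟩ := not_forall.1 fun h => ha (by
      linear_combination w * (lam_sep hA (u := s * a) h) - a * hs)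
    refine sum_chr_lin hd ((lam hA).comp (LinearMap.mulLeft F (s * a))) (v₀ := v) hv |>.symm.trans ?_ |>.symm
    simp [mul_assoc]
  · simp

/-- `S` is annihilated exactly by the multiples of `A`. -/
theorem aeval_model (p : F[X]) :
    aeval (Algebra.lsmul F F (AdjoinRoot A × AdjoinRoot A) (AdjoinRoot.root A)) p = 0 ↔ A ∣ p := by
  rw [aeval_algHom_apply, AdjoinRoot.aeval_eq, ← AdjoinRoot.mk_eq_zero]
  refine ⟨fun h => ?_, fun h => by rw [h, map_zero]⟩
  have := congrArg (fun L : Module.End F _ => (L (1, 0)).1) h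
  simpa using this

theorem model_rel : mT A * mT A + 1 =
    Algebra.lsmul F F (AdjoinRoot A × AdjoinRoot A) (AdjoinRoot.root A) * mT A := by
  refine LinearMap.ext fun x => ?_
  have h2 := two_zero (A := A)
  refine Prod.ext ?_ ?_ <;>
    simp only [LinearMap.add_apply, Module.End.mul_apply, Module.End.one_apply, Algebra.lsmul_coe, mT_apply,
      Prod.fst_add, Prod.snd_add, Prod.smul_fst, Prod.smul_snd, smul_eq_mul]
  · linear_combination x.1 * h2
  · linear_combination x.2 * h2

end H49.Unip2
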