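import Cfsg.Agent.H49.Orth2Lower

/-!
The standard forms of both types, and the class number bounds.
-/

set_option autoImplicit false
set_option linter.unusedSectionVars false

namespace H49.Unip2

variable {F : Type*} [Field F] [CharP F 2]

theorem osym_plus (m : ℕ) : ∃ g : LinearMap.BilinForm F (Fin m ⊕ Fin m → F), OSym (Cfsg.quadFormPlus m F) g 1 := by
  classical
  refine ⟨LinearMap.mk₂ F (fun u v => ∑ i : Fin m, (u (.inl i) * v (.inr i) + v (.inl i) * u (.inr i)))
    (fun x x' y => by rw [← Finset.sum_add_distrib]; exact Finset.sum_congr rfl fun i _ => by simp only [Pi.add_apply]; ring)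
    (fun c x y => by rw [smul_eq_mul, Finset.mul_sum]; exact Finset.sum_congr rfl fun i _ => by simp only [Pi.smul_apply, smul_eq_mul]; ring)
    (fun x y y' => by rw [← Finset.sum_add_distrib]; exact Finset.sum_congr rfl fun i _ => by simp only [Pi.add_apply]; ring)
    (fun c x y => by rw [smul_eq_mul, Finset.mul_sum]; exact Finset.sum_congr rfl fun i _ => by simp only [Pi.smul_apply, smul_eq_mul]; ring),
    ⟨fun x => by simp [CharTwo.add_self_eq_zero], fun x hx => funext fun j => ?_⟩,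
    fun c x => ?_, fun x y => ?_, fun x => rfl⟩
  · cases j with
    | inl i => simpa [Pi.single_apply] using hx (Pi.single (.inr i) 1)
    | inr i => simpa [Pi.single_apply] using hx (Pi.single (.inl i) 1)
  · simp only [Cfsg.quadFormPlus, Pi.smul_apply, smul_eq_mul, Finset.mul_sum]
    exact Finset.sum_congr rfl fun i _ => by ring
  · simp only [Cfsg.quadFormPlus, LinearMap.mk₂_apply, Pi.add_apply, ← Finset.sum_add_distrib]
    exact Finset.sum_congr rfl fun i _ => by ring

theorem osym_minus (m : ℕ) {a b : F} (ha : a ≠ 0) :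
    ∃ (g : LinearMap.BilinForm F ((Fin m ⊕ Fin m) ⊕ Fin 2 → F))
      (e : ((Fin m ⊕ Fin m) ⊕ Fin 2 → F) ≃ₗ[F] (Fin m ⊕ Fin m → F) × (F × F)),
      OSym (Cfsg.quadFormMinus m F a b) g 1 ∧
      ∀ x, Cfsg.quadFormMinus m F a b x = Cfsg.quadFormPlus m F (e x).1 + planeQ (b / a ^ 2) 1 (e x).2 := by
  let ψ : (Fin 2 → F) ≃ₗ[F] F × F :=
    { toFun := fun z => (a * z 1, z 0)
      invFun := fun p => ![p.2, a⁻¹ * p.1]
      map_add' := fun z w => by simp [mul_add]
      map_smul' := fun c z => by simp [mul_left_comm]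
      left_inv := fun z => by funext i; fin_cases i <;> simp [ha]
      right_inv := fun p => by simp [ha] }
  let e := (LinearEquiv.sumArrowLequivProdArrow (Fin m ⊕ Fin m) (Fin 2) F F).trans
    ((LinearEquiv.refl F _).prodCongr ψ)
  have hQ : ∀ x, Cfsg.quadFormMinus m F a b x = Cfsg.quadFormPlus m F (e x).1 + planeQ (b / a ^ 2) 1 (e x).2 := by
    intro x
    show _ = Cfsg.quadFormPlus m F (fun i => x (.inl i)) + planeQ (b / a ^ 2) 1 (a * x (.inr 1), x (.inr 0))
    simp only [Cfsg.quadFormMinus, Cfsg.quadFormPlus, planeQ]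
    field_simp
    ring
  obtain ⟨g1, h1⟩ := osym_plus (F := F) m
  obtain ⟨g2, h2⟩ := osym_plane (b / a ^ 2) (1 : F)
  exact ⟨_, e, OSym.comap (h1.prod h2).one e hQ, hQ⟩

variable [Fintype F] {dl : F}

theorem chr_sum (hd : Scal dl) {α : Type*} (s : Finset α) (g : α → F) :
    chr (∑ i ∈ s, g i) = ∏ i ∈ s, chr (g i) := by
  induction s using Finset.cons_induction with
  | empty => simp [chr_zero]
  | cons a s ha ih => rw [Finset.sum_cons, Finset.prod_cons, chr_add hd, ih]

theorem gU_plus (hd : Scal dl) (m : ℕ) : gU (Cfsg.quadFormPlus m F) = (Fintype.card F : ℤ) ^ m := by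
  classical
  have h1 : ∑ p : F × F, chr (p.1 * p.2) = (Fintype.card F : ℤ) := by
    rw [← plane_zero hd (0 : F)]
    exact Finset.sum_congr rfl fun p _ => by congr 1; ring
  rw [gU_eq, ← Fin.prod_const m, ← Finset.prod_congr rfl fun _ _ => h1, Fintype.prod_sum]
  refine Fintype.sum_equiv ((Equiv.sumArrowEquivProdArrow (Fin m) (Fin m) F).trans
    (Equiv.arrowProdEquivProdArrow (Fin m) (fun _ => F) (fun _ => F)).symm) _ _ fun v => ?_
  rw [Cfsg.quadFormPlus, chr_sum hd]
  rfl

/-- The bounds for both types of orthogonal groups in even characteristic. -/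
theorem orth_class_number_bounds {F : Type*} [Field F] [Fintype F] (heven : Even (Fintype.card F)) (n : ℕ)
    (hn : 2 ≤ n) (a b : F) (hab : ∀ z₁ z₂ : F, z₁ ^ 2 + a * z₁ * z₂ + b * z₂ ^ 2 = 0 → z₁ = 0 ∧ z₂ = 0) :
    (Fintype.card F ^ n ≤ 2 * Nat.card (ConjClasses ↥(Cfsg.isometryGroup F (Cfsg.quadFormPlus n F))) ∧
      Nat.card (ConjClasses ↥(Cfsg.isometryGroup F (Cfsg.quadFormPlus n F))) ≤ 15 * Fintype.card F ^ n) ∧
    (Fintype.card F ^ n ≤ 2 * Nat.card (ConjClasses ↥(Cfsg.isometryGroup F (Cfsg.quadFormMinus (n - 1) F a b))) ∧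
      Nat.card (ConjClasses ↥(Cfsg.isometryGroup F (Cfsg.quadFormMinus (n - 1) F a b))) ≤ 15 * Fintype.card F ^ n) := by
  haveI : CharP F 2 := ringChar.of_eq (FiniteField.even_card_iff_char_two.2 (Nat.even_iff.1 heven))
  classical
  obtain ⟨dl, hd⟩ := exists_scal (F := F)
  obtain ⟨k, rfl⟩ : ∃ k, n = k + 2 := ⟨n - 2, by omega⟩
  rw [show k + 2 - 1 = k + 1 by omega]
  have ha : a ≠ 0 := by
    rintro rfl
    obtain ⟨r, hr⟩ := hd.sqrt b
    refine one_ne_zero (hab r 1 ?_).2
    linear_combination hr + b * CharTwo.two_eq_zero (R := F)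
  have hdl : ∀ t : F, t * t + t ≠ b / a ^ 2 := fun t ht => one_ne_zero (hab (a * t) 1 (by
    field_simp at ht
    linear_combination ht + b * CharTwo.two_eq_zero (R := F))).2
  have hd' : Scal (b / a ^ 2) := ⟨hd.sqrt, hdl, fun d => by
    obtain ⟨u, hu⟩ : ∃ u, u * u + u = b / a ^ 2 + dl := (hd.coset _).resolve_left fun ⟨t, ht⟩ => hdl t ht
    refine (hd.coset d).imp_right fun ⟨t, ht⟩ => ⟨t + u, ?_⟩
    linear_combination ht + hu + (t * u + dl) * CharTwo.two_eq_zero (R := F)⟩
  obtain ⟨g, hg⟩ := osym_plus (F := F) (k + 2)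
  obtain ⟨g', e, hg', he⟩ := osym_minus (k + 1) (b := b) ha
  have hgU : gU (Cfsg.quadFormMinus (k + 1) F a b) = (-1) * (Fintype.card F : ℤ) ^ (k + 2) := by
    rw [← gU_equiv (Q := Cfsg.quadFormMinus (k + 1) F a b)
      (Q' := fun x => Cfsg.quadFormPlus (k + 1) F x.1 + planeQ (b / a ^ 2) 1 x.2) e fun x => (he x).symm,
      gU_prod hd, gU_plus hd, gU_planeQ_one hd']
    ring
  have hι : ∀ m : ℕ, Fintype.card ((Fin m ⊕ Fin m) ⊕ Fin 2) = 2 * (m + 1) := fun m => by simp; omega
  have hι' : ∀ m : ℕ, Fintype.card (Fin m ⊕ Fin m) = 2 * m := fun m => by simp; omega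
  exact ⟨⟨classes_ge hg (hι' _) (Or.inl rfl) (by rw [gU_plus hd, one_mul]), card_classes_le hg (hι' _)⟩,
    classes_ge hg' (hι _) (Or.inr rfl) hgU, card_classes_le hg' (hι _)⟩

end H49.Unip2
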