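import Cfsg.Agent.H49.OrthExt3Pairs
import Cfsg.Agent.H49.OrthExtSpread

/-!
Three dimensions over the extension: an element fixing the orthogonal of a line pointwise.
-/

set_option autoImplicit false
set_option linter.unusedSectionVars false

namespace H49

open H43

/-- A semilinear cubic unipotent map fixing a non-zero vector is the identity, in degree at least five. -/
theorem no_cubic {F : Type*} [Field F] [Fintype F] {E : Type*} [Field E] [Fintype E] [Algebra F E]
    (hprime : (Module.finrank F E).Prime) (h5 : 5 ≤ Module.finrank F E) (A : E →ₗ[F] E)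
    (hinj : Function.Injective A) (hmul : ∀ m e, A (e * m) * A 1 = A m * A e) {z : E} (hz : z ≠ 0)
    (hfix : A z = z) (hcub : ∀ e, A (A (A e)) + 3 • A e = 3 • A (A e) + e) : ∀ e, A e = e := by
  have hA1 : A 1 ≠ 0 := fun e => one_ne_zero (hinj (e.trans (map_zero A).symm))
  let φl : E →ₗ[F] E := (LinearMap.mulRight F (A 1)⁻¹).comp A
  have hφl : ∀ e, φl e = A e * (A 1)⁻¹ := fun e => rfl
  let φ : E →ₐ[F] E := AlgHom.ofLinearMap φl (by rw [hφl, mul_inv_cancel₀ hA1]) (fun x y => by
    rw [hφl, hφl, hφl]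
    have := hmul y x
    field_simp
    linear_combination this)
  let σ : E ≃ₐ[F] E := AlgEquiv.ofBijective φ (Finite.injective_iff_bijective.1 φ.injective)
  have hA : ∀ e, A e = A 1 * σ e := fun e => by
    show A e = A 1 * (A e * (A 1)⁻¹)
    field_simp
  by_cases hσ : σ = 1
  · intro e
    have h1 := hA z
    rw [hfix, hσ, AlgEquiv.one_apply] at h1
    have h2 : A 1 = 1 := mul_right_cancel₀ hz (by rw [one_mul, ← h1])
    rw [hA e, hσ, h2, one_mul, AlgEquiv.one_apply]
  exfalso
  have hz1 : A 1 * σ z = z := (hA z).symm.trans hfix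
  have hshift : ∀ y, A (z * y) = z * σ y := fun y => by rw [hA, map_mul, ← mul_assoc, hz1]
  have hord : orderOf σ = Module.finrank F E := by
    haveI := Fact.mk hprime
    refine orderOf_eq_prime ?_ hσ
    rw [← IsGalois.card_aut_eq_finrank F E]
    exact pow_card_eq_one'
  let i : Fin 4 → (E →* E) := fun k => ((σ ^ (k : ℕ) : E ≃ₐ[F] E) : E →ₐ[F] E).toRingHom.toMonoidHom
  have hi : Function.Injective i := fun a b e => by
    have e' : σ ^ (a : ℕ) = σ ^ (b : ℕ) := AlgEquiv.ext fun y => DFunLike.congr_fun e y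
    exact Fin.ext (pow_injOn_Iio_orderOf (by rw [hord]; show (a : ℕ) < _; omega)
      (by rw [hord]; show (b : ℕ) < _; omega) e')
  have hli := (linearIndependent_monoidHom E E).comp i hi
  rw [Fintype.linearIndependent_iff] at hli
  have h0 := hli ![-1, 3, -3, 1] (funext fun y => by
    have h := hcub (z * y)
    rw [hshift, hshift, hshift, ← mul_smul_comm, ← mul_smul_comm, ← mul_add, ← mul_add] at h
    have h' := mul_left_cancel₀ hz h
    simp only [Fintype.sum_apply, Fin.sum_univ_four, Pi.smul_apply, Function.comp_apply, Matrix.cons_val_zero,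
      Matrix.cons_val_one, Matrix.cons_val, smul_eq_mul, Pi.zero_apply, i, nsmul_eq_mul] at h' ⊢
    simp only [Fin.val_zero, Fin.val_one, Fin.val_two, show ((3 : Fin 4) : ℕ) = 3 from rfl, pow_zero, pow_succ, RingHom.toMonoidHom_eq_coe,
      AlgHom.toRingHom_eq_coe, MonoidHom.coe_coe, RingHom.coe_coe, AlgEquiv.coe_algHom, AlgEquiv.mul_apply,
      AlgEquiv.one_apply]
    push_cast at h'
    linear_combination h') 3
  simp at h0

namespace OExt

variable {F : Type*} [Field F] [Fintype F] {E : Type*} [Field E] [Fintype E] [Algebra F E]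
  {V : Type*} [AddCommGroup V] [Module F V] [Module E V] [IsScalarTower F E V]
  [FiniteDimensional F V] [FiniteDimensional E V]
  {Q : QuadraticForm F V} {Qe : QuadraticForm E V} {τ : E →ₗ[F] F} (d : OExt Q Qe τ)
include d

/-- Eichler transformations are cubic. -/
theorem eichler_cubic {u w : V} (hu : Qe u = 0) (huw : polB Qe u w = 0) (x : V) :
    (eichler Qe u w).1 ((eichler Qe u w).1 ((eichler Qe u w).1 x)) + 3 • (eichler Qe u w).1 x =
      3 • (eichler Qe u w).1 ((eichler Qe u w).1 x) + x := by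
  have hw : (eichler Qe u w).1 w = w - (2 * Qe w) • u := by
    rw [d.eichler_perp hu huw huw, polB_self]
  have hu' : (eichler Qe u w).1 u = u := by simpa using d.eichler_line hu huw 1
  have happ : ∀ y, (eichler Qe u w).1 y = y + polB Qe y u • w - (polB Qe y w + Qe w * polB Qe y u) • u :=
    fun y => by rw [eichler_apply hu huw, add_smul, sub_sub]
  rw [happ x]
  simp only [map_add, map_sub, map_smul, hw, hu', happ x]
  module

/-- Eichler transformations indexed by a parameter. -/
noncomputable def eHom {G : Type*} [Group G] (u : V) (f : G → V) (hu : Qe u = 0) (hf : ∀ x, polB Qe u (f x) = 0)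
    (hadd : ∀ x y, f (x * y) = f x + f y) : G →* orthGroup Q :=
  MonoidHom.mk' (fun x => d.res (eichler Qe u (f x))) fun x y => by
    rw [← map_mul, eichler_mul hu (hf x) (hf y), hadd]

variable {M : Subgroup (orthGroup Q)} (hH : ∀ h : orthGroup Qe, d.res (h * h) ∈ M)
include hH

/-- A cubic unipotent element stabilising a line gives an element fixing its orthogonal. -/
theorem central_of_cubic (h5 : 5 ≤ Module.finrank F E) {v : V} (hv : Qe v = 0) (hv0 : v ≠ 0)
    {a : orthGroup Q} (haM : a ∈ M) {A : E →ₗ[F] E} (ha : ∀ c : E, a.1 (c • v) = A c • v)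
    {z : E} (hz0 : z ≠ 0) (hfix : A z = z) (hne : ∃ e, A e ≠ e)
    (hcub : ∀ e, A (A (A e)) + 3 • A e = 3 • A (A e) + e) :
    ∃ C ∈ M, C ≠ 1 ∧ ∀ y, polB Qe v y = 0 → C.1 y = y := by
  have hAinj : Function.Injective A := fun e e' he => by
    have h1 : a.1 (e • v) = a.1 (e' • v) := by rw [ha, ha, he]
    exact d.smul_inj hv0 (a.1.injective h1)
  let Ae := LinearEquiv.ofBijective A (Finite.injective_iff_bijective.1 hAinj)
  have hBA : ∀ c, Ae.symm (A c) = c := fun c => Ae.symm_apply_apply c
  have hAB : ∀ c, A (Ae.symm c) = c := fun c => Ae.apply_symm_apply c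
  have ha' : ∀ c : E, a.1 (Ae.symm c • v) = c • v := fun c => by rw [ha, hAB]
  have hai : ∀ c : E, (a⁻¹).1 (c • v) = Ae.symm c • v := fun c => by
    rw [← ha' c, orth_inv_apply_self]
  have haperp : ∀ y, polB Qe v y = 0 → polB Qe v (a.1 y) = 0 := fun y hy => d.perp_map (fun c => ⟨_, ha' c⟩) hy
  have haiperp : ∀ y, polB Qe v y = 0 → polB Qe v ((a⁻¹).1 y) = 0 := fun y hy =>
    d.perp_map (fun c => ⟨A c, by rw [hai, hBA]⟩) hy
  by_contra hcon
  simp only [not_exists, not_and] at hcon
  -- conjugate roots commute with roots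
  have hcomm : ∀ w, polB Qe v w = 0 → ∀ w', polB Qe v w' = 0 →
      ∀ x, (a * d.res (eichler Qe v w) * a⁻¹).1 ((d.res (eichler Qe v w')).1 x) =
        (d.res (eichler Qe v w')).1 ((a * d.res (eichler Qe v w) * a⁻¹).1 x) := by
    intro w hw w' hw' x
    set P := a * d.res (eichler Qe v w) * a⁻¹ with hP
    set T := d.res (eichler Qe v w') with hT
    by_contra hne
    have hPM : P ∈ M := mul_mem (mul_mem haM (d.root_mem hH hv hw)) (inv_mem haM)
    have hTM : T ∈ M := d.root_mem hH hv hw'
    have hTfix : ∀ c : E, T.1 (c • v) = c • v := fun c => d.eichler_line hv hw' c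
    have hPfix : ∀ c : E, P.1 (c • v) = c • v := fun c => by
      rw [hP, orth_mul_apply, orth_mul_apply, hai, d.res_apply, d.eichler_line hv hw, ha' c]
    have key : ∀ y, polB Qe v y = 0 → P.1 (T.1 y) = T.1 (P.1 y) := by
      intro y hy
      have hPy : ∃ e : E, P.1 y = y + e • v := by
        refine ⟨A (-polB Qe ((a⁻¹).1 y) w), ?_⟩
        rw [hP, orth_mul_apply, orth_mul_apply, d.res_apply, d.eichler_perp hv hw (haiperp y hy), map_sub,
          orth_apply_inv_self, sub_eq_add_neg, ← map_neg, ← neg_smul, ha]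
      obtain ⟨e, he⟩ := hPy
      rw [show T.1 y = y + (-polB Qe y w') • v by
        rw [hT, d.res_apply, d.eichler_perp hv hw' hy, neg_smul, sub_eq_add_neg], he, map_add, map_add, hPfix, hTfix,
        he, show T.1 y = y + (-polB Qe y w') • v by
        rw [hT, d.res_apply, d.eichler_perp hv hw' hy, neg_smul, sub_eq_add_neg]]
      abel
    refine hcon (P * T * P⁻¹ * T⁻¹) (mul_mem (mul_mem (mul_mem hPM hTM) (inv_mem hPM)) (inv_mem hTM))
      (fun e => hne ?_) fun y hy => ?_
    · have h1 : P * T = T * P := by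
        rw [mul_inv_eq_one, mul_inv_eq_iff_eq_mul] at e
        exact e
      rw [← orth_mul_apply, h1, orth_mul_apply]
    · have hPi : ∀ c : E, (P⁻¹).1 (c • v) = c • v := fun c => by
        conv_lhs => rw [← hPfix c]
        exact orth_inv_apply_self P _
      have hTi : ∀ c : E, (T⁻¹).1 (c • v) = c • v := fun c => by
        conv_lhs => rw [← hTfix c]
        exact orth_inv_apply_self T _
      rw [orth_mul_apply, orth_mul_apply, orth_mul_apply,
        key _ (by rw [d.perp_fix hPi, d.perp_fix hTi]; exact hy), orth_apply_inv_self, orth_apply_inv_self]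
  -- hence the conjugation is semilinear
  obtain ⟨x, hx⟩ := exists_polB_eq d.nde hv0 1
  have hlin : ∀ w, polB Qe v w = 0 → ∀ (y : V), polB Qe v y = 0 → ∀ c : E,
      (a * d.res (eichler Qe v w) * a⁻¹).1 (c • y) - c • y =
        c • ((a * d.res (eichler Qe v w) * a⁻¹).1 y - y) := by
    intro w hw
    set P := a * d.res (eichler Qe v w) * a⁻¹ with hP
    have hPfix : ∀ c : E, P.1 (c • v) = c • v := fun c => by
      rw [hP, orth_mul_apply, orth_mul_apply, hai, d.res_apply, d.eichler_line hv hw, ha' c]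
    have hπ : polB Qe v (P.1 x - x) = 0 := by rw [map_sub, d.perp_fix hPfix, sub_self]
    have key : ∀ w', polB Qe v w' = 0 → P.1 w' - w' = -(polB Qe (P.1 x - x) w' • v) := by
      intro w' hw'
      have e1 : (eichler Qe v w').1 x = x + w' - (polB Qe x w' + Qe w') • v := by
        rw [eichler_apply hv hw', polB_comm x v, hx, one_smul, mul_one, add_smul]
        abel
      have h1 := hcomm w hw w' hw' x
      rw [← hP, d.res_apply, d.res_apply, e1, map_sub, map_add, hPfix] at h1
      rw [show P.1 x = x + (P.1 x - x) by abel, map_add (eichler Qe v w').1, e1,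
        d.eichler_perp hv hw' hπ] at h1
      linear_combination (norm := module) h1
    intro y hy c
    rw [key _ (by rw [map_smul, hy, smul_zero]), key y hy, map_smul, smul_eq_mul, smul_neg, smul_smul]
  -- semilinearity of the axis map
  obtain ⟨y', hy'm, hy'v⟩ := exists_orth_notMem (Q := Qe) d.nde (W := E ∙ v) (P := E ∙ v) (by
    rw [finrank_span_singleton hv0]; have := d.big; omega)
  have hy' : polB Qe v y' = 0 := mem_orth_singleton.1 hy'm
  obtain ⟨w₀, hw₀, hyw₀⟩ := exists_orth_polB_eq d.nde hy'v 1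
  have hvw₀ : polB Qe v w₀ = 0 := hw₀ v (Submodule.mem_span_singleton_self v)
  have hmul : ∀ m e : E, A (e * m) * A 1 = A m * A e := by
    intro m e
    have hA1 : A 1 ≠ 0 := fun e0 => one_ne_zero (hAinj (e0.trans (map_zero A).symm))
    set c := A m / A 1 with hc
    set y := a.1 y' with hy
    have hyv : polB Qe v y = 0 := haperp y' hy'
    have hcy : polB Qe v (c • y) = 0 := by rw [map_smul, hyv, smul_zero]
    set m' := polB Qe ((a⁻¹).1 (c • y)) w₀ with hm'
    have hgen : ∀ e : E, A (e * m') = c * A e := by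
      intro e
      have hw : polB Qe v (e • w₀) = 0 := by rw [map_smul, hvw₀, smul_zero]
      have h1 := hlin (e • w₀) hw y hyv c
      have hP : ∀ x, polB Qe v x = 0 → (a * d.res (eichler Qe v (e • w₀)) * a⁻¹).1 x - x =
          A (-(e * polB Qe ((a⁻¹).1 x) w₀)) • v := by
        intro x hx
        rw [orth_mul_apply, orth_mul_apply, d.res_apply, d.eichler_perp hv hw (haiperp x hx), map_sub,
          orth_apply_inv_self, map_smul (polB Qe _), smul_eq_mul, sub_right_comm, sub_self, zero_sub, ← map_neg,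
          ← neg_smul, ha]
      rw [hP _ hcy, hP _ hyv, smul_smul, hy, orth_inv_apply_self, hyw₀, mul_one] at h1
      have h2 := d.smul_inj hv0 h1
      have hneg : ∀ q : E, A (-q) = -A q := fun q => map_neg A q
      rw [hneg, hneg, mul_neg, neg_inj] at h2
      exact h2
    have h1 := hgen 1
    rw [one_mul, hc, div_mul_cancel₀ _ hA1] at h1
    rw [← hAinj h1, hgen, hAinj h1, hc]
    field_simp
  obtain ⟨e, he⟩ := hne
  exact he (no_cubic d.prime h5 A hAinj hmul hz0 hfix hcub e)

/-- The images containing a given subspace. -/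
abbrev Img (M : Subgroup (orthGroup Q)) (Z : Submodule F V) :=
  {W : Submodule F V // Z ≤ W ∧ ∃ g ∈ M, ∃ v : V, Qe v = 0 ∧ v ≠ 0 ∧ W = d.gl g v}

omit hH in
/-- A finite p-group permuting the images fixes as many as there are, modulo p. -/
theorem img_modEq {p : ℕ} [Fact p.Prime] (Z : Submodule F V) {G : Type*} [Group G] [Finite G] (hG : IsPGroup p G)
    (π : G →* orthGroup Q) (hπM : ∀ x, π x ∈ M) (hπ : ∀ x, ∀ z ∈ Z, (π x).1 z ∈ Z) :
    Nat.card (d.Img M Z) ≡ Nat.card {W : d.Img M Z // ∀ x, W.1.map (π x).1.toLinearMap = W.1} [MOD p] := by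
  haveI : Finite V := Module.finite_of_finite F
  letI : MulAction G (d.Img M Z) :=
    { smul := fun x W => ⟨W.1.map (π x).1.toLinearMap, fun z hz => ⟨(π x⁻¹).1 z, W.2.1 (hπ _ z hz), by
          rw [map_inv]; exact orth_apply_inv_self (π x) z⟩, by
        obtain ⟨g, hg, v, hv, hv0, hW⟩ := W.2.2
        exact ⟨π x * g, mul_mem (hπM x) hg, v, hv, hv0, by rw [hW, d.gl_mul]⟩⟩
      one_smul := fun W => Subtype.ext (by
        show W.1.map (π 1).1.toLinearMap = W.1
        rw [map_one]; exact Submodule.map_id _)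
      mul_smul := fun x y W => Subtype.ext (by
        show W.1.map (π (x * y)).1.toLinearMap = (W.1.map (π y).1.toLinearMap).map (π x).1.toLinearMap
        rw [map_mul, ← Submodule.map_comp]; rfl) }
  refine (hG.card_modEq_card_fixedPoints (d.Img M Z)).trans (congrArg (· % p) ?_)
  refine Nat.card_congr (Equiv.subtypeEquivRight fun W => ?_)
  rw [MulAction.mem_fixedPoints]
  exact forall_congr' fun x => Subtype.ext_iff

/-- A cubic element stabilising an image and acting non-trivially on it gives a central element. -/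
theorem central_of_stab (h3 : Module.finrank E V = 3) {n : orthGroup Q} (hn : n ∈ M)
    (hcub : ∀ x, n.1 (n.1 (n.1 x)) + 3 • n.1 x = 3 • n.1 (n.1 x) + x)
    {g : orthGroup Q} (hg : g ∈ M) {v : V} (hv : Qe v = 0) (hv0 : v ≠ 0)
    (hstab : ∀ x ∈ d.gl g v, n.1 x ∈ d.gl g v) {x₀ : V} (hx₀ : x₀ ∈ d.gl g v) (hx₀0 : x₀ ≠ 0)
    (hfix : n.1 x₀ = x₀) {x₁ : V} (hx₁ : x₁ ∈ d.gl g v) (hmov : n.1 x₁ ≠ x₁) :
    ∃ v : V, Qe v = 0 ∧ v ≠ 0 ∧ ∃ C ∈ M, C ≠ 1 ∧ ∀ y, polB Qe v y = 0 → C.1 y = y := by
  refine ⟨v, hv, hv0, ?_⟩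
  have key : ∀ c : E, ∃ c' : E, g.1 (c' • v) = n.1 (g.1 (c • v)) := fun c =>
    d.mem_gl.1 (hstab _ (d.mem_gl.2 ⟨c, rfl⟩))
  choose A hA using key
  have hu : ∀ c c', g.1 (c' • v) = n.1 (g.1 (c • v)) → A c = c' := fun c c' h =>
    d.smul_inj hv0 (g.1.injective ((hA c).trans h.symm))
  let Al : E →ₗ[F] E :=
    { toFun := A
      map_add' := fun a b => hu _ _ (by rw [add_smul, map_add, hA, hA, add_smul, map_add, map_add])
      map_smul' := fun t a => hu _ _ (by
        rw [RingHom.id_apply, smul_assoc t (A a) v, map_smul g.1, hA, smul_assoc t a v, map_smul g.1, map_smul n.1]) }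
  obtain ⟨z, hz⟩ := d.mem_gl.1 hx₀
  obtain ⟨e, he⟩ := d.mem_gl.1 hx₁
  refine d.central_of_cubic hH (d.five_le h3) hv hv0 (a := g⁻¹ * n * g) (A := Al)
    (mul_mem (mul_mem (inv_mem hg) hn) hg) (fun c => ?_) (z := z) (fun e' => hx₀0 ?_)
    (hu _ _ (by rw [hz, hfix])) ⟨e, fun h => hmov ?_⟩ fun c => ?_
  · show (g⁻¹ * n * g).1 (c • v) = A c • v
    rw [orth_mul_apply, orth_mul_apply, ← hA, orth_inv_apply_self]
  · rw [← hz, e', zero_smul, map_zero]
  · rw [← he, ← hA]
    exact congrArg (fun s : E => g.1 (s • v)) h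
  · show A (A (A c)) + 3 • A c = 3 • A (A c) + c
    refine d.smul_inj hv0 (g.1.injective ?_)
    rw [add_smul, add_smul, smul_assoc, smul_assoc, map_add, map_add, map_nsmul, map_nsmul, hA, hA, hA]
    exact hcub _

/-- A moved line gives an element fixing the orthogonal of a line pointwise. -/
theorem exists_central₃ (h3 : Module.finrank E V = 3) {g : orthGroup Q} (hg : g ∈ M) {v : V} (hv : Qe v = 0)
    {c : E} (hmove : g.1 (c • v) ∉ fline (E := E) F (g.1 v)) :
    ∃ v : V, Qe v = 0 ∧ v ≠ 0 ∧ ∃ C ∈ M, C ≠ 1 ∧ ∀ y, polB Qe v y = 0 → C.1 y = y := by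
  obtain ⟨g, hgM, v, u, y, hv, hu, hv0, hu0, hinf, hy, hyu, hyU⟩ := d.exists_prop₃ hH h3 hg hv hmove
  obtain ⟨x₀, hx₀, hx₀0⟩ := Submodule.exists_mem_ne_zero_of_ne_bot hinf
  obtain ⟨z, hz⟩ := mem_fline.1 hx₀.2
  obtain ⟨u', hp⟩ := exists_hypPair d.nde hu hu0
  obtain ⟨w, t₀, ht₀, hwq, huw, hu'w, hdec⟩ := d.exists_unit h3 hp
  have hwq0 : Qe w ≠ 0 := by rw [hwq]; exact smul_ne_zero ht₀ one_ne_zero
  have hyw : polB Qe y w ≠ 0 := by
    intro h0
    obtain ⟨a, b, k, hyk⟩ := hdec y
    rw [← hyk] at hyu h0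
    simp only [map_add, map_smul, LinearMap.add_apply, LinearMap.smul_apply, polB_self, hu, hp.pair,
      polB_comm u' u, polB_comm w u, huw, hu'w, smul_eq_mul, mul_zero, mul_one, zero_add, add_zero,
      mul_eq_zero] at hyu h0
    exact hyU (mem_fline.2 ⟨a, by
      rw [← hyk, hyu, h0.resolve_right (fun h => h.elim d.twoE hwq0), zero_smul, zero_smul, add_zero, add_zero]⟩)
  obtain ⟨b, hb⟩ : ∃ b : E, b * polB Qe y w = z := ⟨z / polB Qe y w, div_mul_cancel₀ _ hyw⟩
  set Z := (d.gl g v ⊓ fline (E := E) F u) ⊔ Submodule.span F {y} with hZ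
  have hZL : Z ≤ d.gl g v := sup_le inf_le_left (by rw [Submodule.span_le, Set.singleton_subset_iff]; exact hy)
  have hwb : ∀ s : E, polB Qe u (s • w) = 0 := fun s => by rw [map_smul, huw, smul_zero]
  haveI : Finite V := Module.finite_of_finite F
  haveI := Fact.mk (CharP.char_is_prime F (ringChar F))
  obtain ⟨n, -, hn⟩ := FiniteField.card F (ringChar F)
  have hcardE : Fintype.card E = ringChar F ^ ((n : ℕ) * Module.finrank F E) := by
    rw [Module.card_eq_pow_finrank (K := F) (V := E), hn, ← pow_mul]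
  have hone : Nat.card (d.Img M Z) ≡ 1 [MOD ringChar F] ∨
      ∃ v : V, Qe v = 0 ∧ v ≠ 0 ∧ ∃ C ∈ M, C ≠ 1 ∧ ∀ y, polB Qe v y = 0 → C.1 y = y := by
    obtain ⟨v', hp'⟩ := exists_hypPair d.nde hv hv0
    obtain ⟨w', t', ht', hwq', hvw', hv'w', hdec'⟩ := d.exists_unit h3 hp'
    have hwb' : ∀ s : E, polB Qe v (s • w') = 0 := fun s => by rw [map_smul, hvw', smul_zero]
    let π : Multiplicative E →* orthGroup Q := (MulAut.conj g).toMonoidHom.comp
      (d.eHom v (fun s : Multiplicative E => s.toAdd • w') hv (fun _ => hwb' _) fun a b => by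
        rw [toAdd_mul, add_smul])
    have hπ : ∀ s x, (π s).1 x = g.1 ((eichler Qe v (s.toAdd • w')).1 ((g⁻¹).1 x)) := fun s x => rfl
    have hπM : ∀ s, π s ∈ M := fun s => mul_mem (mul_mem hgM (d.root_mem hH hv (hwb' _))) (inv_mem hgM)
    have hπfix : ∀ s, ∀ x ∈ d.gl g v, (π s).1 x = x := by
      intro s x hx
      obtain ⟨e, rfl⟩ := d.mem_gl.1 hx
      rw [hπ, orth_inv_apply_self, d.eichler_line hv (hwb' _)]
    have hmod := d.img_modEq (M := M) Z (IsPGroup.of_card (p := ringChar F)
      (by rw [Nat.card_eq_fintype_card, Fintype.card_multiplicative, hcardE])) π hπM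
      (fun s x hx => by rw [hπfix s x (hZL hx)]; exact hx)
    by_cases hother : ∃ W : d.Img M Z, (∀ s, W.1.map (π s).1.toLinearMap = W.1) ∧ W.1 ≠ d.gl g v
    · obtain ⟨⟨W, hZW, g', hg', v₂, hv₂, hv₂0, hW⟩, hWfix, hWne⟩ := hother
      right
      obtain ⟨x, hxW, hxL⟩ : ∃ x ∈ W, x ∉ d.gl g v := by
        by_contra hcon
        simp only [not_exists, not_and, not_not] at hcon
        exact hWne (Submodule.eq_of_le_of_finrank_eq hcon (by
          show Module.finrank F W = _
          rw [hW, d.finrank_gl hv0, d.finrank_gl hv₂0]))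
      set s₁ : Multiplicative E := Multiplicative.ofAdd 1
      refine d.central_of_stab hH h3 (n := π s₁) (hπM _) (fun x => ?_) hg' hv₂ hv₂0 ?_
        (x₀ := x₀) (hW ▸ hZW (Submodule.mem_sup_left hx₀)) hx₀0 (hπfix _ _ hx₀.1) (x₁ := x) (hW ▸ hxW) ?_
      · simp only [hπ, orth_inv_apply_self]
        have e := congrArg g.1 (d.eichler_cubic hv (hwb' s₁.toAdd) ((g⁻¹).1 x))
        rw [map_add, map_add, map_nsmul, map_nsmul, orth_apply_inv_self] at e
        exact e
      · intro x hx
        rw [← hW] at hx ⊢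
        exact (hWfix s₁).le ⟨x, hx, rfl⟩
      · intro hfx
        apply hxL
        rw [hπ] at hfx
        have hfx' := congrArg (g⁻¹).1 hfx
        rw [orth_inv_apply_self] at hfx'
        set x' := (g⁻¹).1 x with hx'
        obtain ⟨a, b', k, hk⟩ := hdec' x'
        rw [show (s₁.toAdd : E) = 1 from rfl, one_smul, eichler_apply hv hvw', add_sub_assoc, add_sub_assoc,
          add_eq_left] at hfx'
        have h1 := congrArg (polB Qe w') hfx'
        simp only [map_sub, map_smul, map_zero, polB_self, polB_comm w' v, hvw', smul_eq_mul, mul_zero,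
          sub_zero, mul_eq_zero] at h1
        have hb0 : polB Qe x' v = 0 := h1.resolve_right fun h => h.elim d.twoE
          (by rw [hwq']; exact smul_ne_zero ht' one_ne_zero)
        rw [hb0, zero_smul, mul_zero, zero_smul, sub_zero, zero_sub, neg_eq_zero, smul_eq_zero] at hfx'
        have hk0 := hfx'.resolve_right hv0
        rw [← hk] at hb0 hk0
        simp only [map_add, map_smul, LinearMap.add_apply, LinearMap.smul_apply, polB_self, hv, hp'.pair,
          polB_comm v' v, polB_comm w' v, hvw', hv'w', smul_eq_mul, mul_zero, mul_one, zero_add, add_zero,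
          mul_eq_zero] at hb0 hk0
        refine d.mem_gl.2 ⟨a, ?_⟩
        have hx'a : x' = a • v := by
          rw [← hk, hb0, hk0.resolve_right (fun h => h.elim d.twoE (by rw [hwq']; exact smul_ne_zero ht' one_ne_zero)),
            zero_smul, zero_smul, add_zero, add_zero]
        rw [← hx'a, hx', orth_apply_inv_self]
    · left
      simp only [not_exists, not_and, not_not] at hother
      refine hmod.trans (congrArg (· % ringChar F) (Nat.card_eq_one_iff_exists.2
        ⟨⟨⟨d.gl g v, hZL, g, hgM, v, hv, hv0, rfl⟩, fun s => ?_⟩, fun W => Subtype.ext (Subtype.ext (hother W.1 W.2))⟩))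
      ext x
      constructor
      · rintro ⟨x', hx', rfl⟩
        change (π s).1 x' ∈ _
        rw [hπfix s x' hx']; exact hx'
      · intro hx
        exact ⟨x, hx, hπfix s x hx⟩
  rcases hone with hone | h
  swap
  · exact h
  let π : Multiplicative F →* orthGroup Q :=
    d.eHom u (fun s : Multiplicative F => (s.toAdd • b) • w) hu (fun _ => hwb _) fun a a' => by
      rw [toAdd_mul, add_smul, add_smul]
  have hπ : ∀ s x, (π s).1 x = (eichler Qe u ((s.toAdd • b) • w)).1 x := fun s x => rfl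
  have hπM : ∀ s, π s ∈ M := fun s => d.root_mem hH hu (hwb _)
  have hπy : ∀ s, (π s).1 y = y - (s.toAdd : F) • x₀ := fun s => by
    rw [hπ, d.eichler_perp hu (hwb _) (by rw [polB_comm]; exact hyu), map_smul, smul_eq_mul, smul_mul_assoc, hb,
      smul_assoc, hz]
  have hπU : ∀ s, ∀ x ∈ fline (E := E) F u, (π s).1 x = x := by
    intro s x hx
    obtain ⟨e, rfl⟩ := mem_fline.1 hx
    exact d.eichler_line hu (hwb _) e
  have hmod := d.img_modEq (M := M) Z (IsPGroup.of_card (p := ringChar F) (n := (n : ℕ))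
    (by rw [Nat.card_eq_fintype_card, Fintype.card_multiplicative, hn])) π hπM (fun s x hx => by
      obtain ⟨a, ha, q, hq, rfl⟩ := Submodule.mem_sup.1 hx
      obtain ⟨t, rfl⟩ := Submodule.mem_span_singleton.1 hq
      rw [map_add, hπU s a ha.2, map_smul, hπy, smul_sub]
      exact Z.add_mem (Submodule.mem_sup_left ha) (Z.sub_mem
        (Submodule.mem_sup_right (Submodule.smul_mem _ t (Submodule.mem_span_singleton_self y)))
        (Z.smul_mem t (Z.smul_mem _ (Submodule.mem_sup_left hx₀)))))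
  obtain ⟨⟨W, hZW, g', hg', v₂, hv₂, hv₂0, hW⟩, hWfix⟩ :
      ∃ W : d.Img M Z, ∀ s, W.1.map (π s).1.toLinearMap = W.1 := by
    by_contra hcon
    have h0 : Nat.card {W : d.Img M Z // ∀ x, W.1.map (π x).1.toLinearMap = W.1} = 0 := by
      rw [Nat.card_eq_zero]
      exact Or.inl ⟨fun W => hcon ⟨W.1, W.2⟩⟩
    have h := (hone.symm.trans hmod).trans (congrArg (· % ringChar F) h0)
    exact (Fact.out (p := (ringChar F).Prime)).not_dvd_one (Nat.modEq_zero_iff_dvd.1 h)
  set s₁ : Multiplicative F := Multiplicative.ofAdd 1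
  refine d.central_of_stab hH h3 (n := π s₁) (hπM _) (fun x => ?_) hg' hv₂ hv₂0 ?_
    (x₀ := x₀) (hW ▸ hZW (Submodule.mem_sup_left hx₀)) hx₀0 (hπU _ _ hx₀.2)
    (x₁ := y) (hW ▸ hZW (Submodule.mem_sup_right (Submodule.mem_span_singleton_self y))) ?_
  · simp only [hπ]
    exact d.eichler_cubic hu (hwb _) x
  · intro x hx
    rw [← hW] at hx ⊢
    exact (hWfix s₁).le ⟨x, hx, rfl⟩
  · rw [hπy]
    intro h
    rw [sub_eq_self, smul_eq_zero] at h
    exact h.elim (fun h => one_ne_zero (show (1 : F) = 0 from h)) hx₀0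

omit hH in
/-- An element fixing the orthogonal of a line is a translation along it. -/
theorem central_form {v : V} (hv0 : v ≠ 0) {C : orthGroup Q} (hfix : ∀ y, polB Qe v y = 0 → C.1 y = y) :
    ∃ δ : V → E, (∀ y, C.1 y = y + δ y • v) ∧ (∀ a b, δ (a + b) = δ a + δ b) ∧
      ∀ y, polB Qe v y = 0 → δ y = 0 := by
  have hmem : ∀ y, ∃ e : E, e • v = C.1 y - y := fun y => mem_fline.1 (show C.1 y - y ∈ fline (E := E) F v by
    rw [← LinearMap.BilinForm.orthogonal_orthogonal d.nd (polB_isRefl Q) (fline (E := E) F v)]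
    intro x hx
    change polB Q x (C.1 y - y) = 0
    rw [map_sub, sub_eq_zero]
    conv_lhs => rw [← hfix x (d.mem_orth_line.1 hx), orth_polB_map])
  choose δ hδ using hmem
  refine ⟨δ, fun y => by rw [hδ, add_sub_cancel], fun a b => d.smul_inj hv0 ?_, fun y hy => d.smul_inj hv0 ?_⟩
  · rw [add_smul, hδ, hδ, hδ, map_add]; abel
  · rw [zero_smul, hδ, hfix y hy, sub_self]

omit hH in
/-- Such an element moves some line. -/
theorem central_not_normal {v : V} (hv : Qe v = 0) (hv0 : v ≠ 0) {C : orthGroup Q} (hC : C ≠ 1)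
    (hfix : ∀ y, polB Qe v y = 0 → C.1 y = y) : ∃ v' : V, Qe v' = 0 ∧ ∃ c : E, C.1 (c • v') ∉ fline (E := E) F (C.1 v') := by
  by_contra hcon
  simp only [not_exists, not_and, not_not] at hcon
  obtain ⟨δ, hδ, hadd, hker⟩ := d.central_form hv0 hfix
  have hlin : ∀ (c : E) x, C.1 (c • x) = c • C.1 x := by
    intro c x
    obtain ⟨c', hc'⟩ := d.normal_of_lines hcon c
    have h := hc' v
    rw [hfix v (by rw [polB_self, hv, mul_zero]), hfix _ (by rw [map_smul, polB_self, hv, mul_zero, smul_zero])] at h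
    rw [hc', d.smul_inj hv0 h.symm]
  obtain ⟨p, hp⟩ := exists_polB_eq d.nde hv0 1
  have hδlin : ∀ (c : E) x, δ (c • x) = c * δ x := fun c x => d.smul_inj hv0 (by
    have h := hlin c x
    rw [hδ, hδ, smul_add, add_right_inj, smul_smul] at h
    exact h)
  have hform : ∀ x, δ x = δ p * polB Qe v x := by
    intro x
    have h := hker (x - polB Qe v x • p) (by rw [map_sub, map_smul, hp, smul_eq_mul, mul_one, sub_self])
    rw [show δ (x - polB Qe v x • p) = δ x + δ ((-polB Qe v x) • p) by rw [← hadd, neg_smul, sub_eq_add_neg],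
      hδlin] at h
    linear_combination h
  apply hC
  refine orth_ext fun x => ?_
  rw [orth_one_apply, hδ, hform, add_eq_left]
  suffices hk : δ p = 0 by rw [hk, zero_mul, zero_smul]
  refine functional_ext d.nz fun s => ?_
  let P : Submodule F E := LinearMap.ker (τ.comp (LinearMap.mulRight F (δ p)))
  refine (d.span_squares (P := P) (fun t => ?_) s : s ∈ P)
  show τ (t * t * δ p) = 0
  have h := orth_qmap C (t • p)
  rw [hδ, hδlin, d.rel, d.rel, qmap_add_smul, hv, mul_zero, add_zero, map_add] at h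
  rw [map_smul (polB Qe), LinearMap.smul_apply, polB_comm p v, hp, smul_eq_mul, mul_one, add_eq_left] at h
  rw [← h]
  congr 1
  ring

end OExt

end H49
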