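import Cfsg.Agent.H43.Restrict
import Cfsg.Agent.H43.Finite

/-!
Zeros of a non-degenerate quadratic form in odd dimension.
-/

set_option autoImplicit false
set_option linter.unusedSectionVars false

universe u v

namespace H49

open H43

variable {F : Type u} [Field F] [Finite F]

/-- At least `q ^ (n - 1)` zeros in odd dimension `n`. -/
theorem card_zeros_aux : ∀ (m : ℕ) {V : Type v} [AddCommGroup V] [Module F V] [FiniteDimensional F V]
    [Finite V] (Q : QuadraticForm F V), (polB Q).Nondegenerate → Module.finrank F V = 2 * m + 1 →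
    Nat.card F ^ (2 * m) ≤ Nat.card {x : V // Q x = 0} := by
  intro m
  induction m with
  | zero =>
    intro V _ _ _ _ Q _ _
    rw [mul_zero, pow_zero]
    haveI : Nonempty {x : V // Q x = 0} := ⟨⟨0, QuadraticMap.map_zero Q⟩⟩
    exact Nat.card_pos
  | succ m ih =>
    intro V _ _ _ _ Q hQ hn
    obtain ⟨z, hz0, hz⟩ := exists_singular Q (by omega)
    obtain ⟨z', hp⟩ := exists_hypPair hQ hz hz0
    set W := (polB Q).orthogonal (Submodule.span F {z, z'}) with hW
    have hWd : Module.finrank F W = 2 * m + 1 := by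
      have h1 := finrank_span_eq_card hp.linearIndependent
      rw [Matrix.range_cons, Matrix.range_cons, Matrix.range_empty, Set.union_empty, Set.singleton_union,
        Fintype.card_fin] at h1
      have h2 := finrank_orth_add hQ (Submodule.span F {z, z'})
      rw [← hW] at h2
      omega
    have hrec := ih (Q.restrict W) (hp.restrict_nondeg hQ) hWd
    have horth : ∀ w : W, polB Q z (w : V) = 0 ∧ polB Q z' (w : V) = 0 := fun w => mem_orth_pair.1 w.2
    have hq : ∀ (c t : F) (w : W), Q (c • z + t • z' + w) = c * t + Q w := fun c t w => by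
      rw [qmap_add, qmap_add, qmap_smul, qmap_smul, hz, hp.right]
      simp only [map_add, map_smul, LinearMap.add_apply, LinearMap.smul_apply, hp.pair, (horth w).1, (horth w).2,
        smul_eq_mul, mul_zero, mul_one, zero_add, add_zero]
      ring
    have hcoord : ∀ (c t : F) (w : W) (c' t' : F) (w' : W),
        c • z + t • z' + (w : V) = c' • z + t' • z' + (w' : V) → c = c' ∧ t = t' ∧ w = w' := by
      intro c t w c' t' w' h
      have h1 := congrArg (polB Q z) h
      have h2 := congrArg (polB Q z') h
      simp only [map_add, map_smul, polB_self, hz, hp.right, hp.pair, polB_comm z' z, (horth w).1, (horth w).2,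
        (horth w').1, (horth w').2, smul_eq_mul, mul_zero, mul_one, zero_add, add_zero] at h1 h2
      subst h1 h2
      exact ⟨rfl, rfl, Subtype.ext (add_left_cancel h)⟩
    let Φ : (Fˣ × W) ⊕ (F × {w : W // Q.restrict W w = 0}) → {x : V // Q x = 0} :=
      Sum.elim (fun p => ⟨(-(Q p.2 / (p.1 : F))) • z + (p.1 : F) • z' + p.2, by
          rw [hq, neg_mul, div_mul_cancel₀ _ p.1.ne_zero, neg_add_cancel]⟩)
        (fun p => ⟨p.1 • z + (0 : F) • z' + (p.2.1 : V), by
          rw [hq, mul_zero, zero_add]; exact p.2.2⟩)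
    have hΦ : Function.Injective Φ := by
      rintro (⟨t, w⟩ | ⟨c, w⟩) (⟨t', w'⟩ | ⟨c', w'⟩) h <;>
        obtain ⟨h1, h2, h3⟩ := hcoord _ _ _ _ _ _ (Subtype.ext_iff.1 h)
      · obtain rfl : t = t' := Units.ext h2
        obtain rfl : w = w' := h3
        rfl
      · exact absurd h2 t.ne_zero
      · exact absurd h2.symm t'.ne_zero
      · obtain rfl : c = c' := h1
        obtain rfl : w = w' := Subtype.ext h3
        rfl
    have hcard := Nat.card_le_card_of_injective Φ hΦ
    haveI := Fintype.ofFinite F
    rw [Nat.card_sum, Nat.card_prod, Nat.card_prod, Nat.card_units, Module.natCard_eq_pow_finrank (K := F) (V := W),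
      hWd] at hcard
    refine le_trans ?_ hcard
    have hq2 : 2 ≤ Nat.card F := Finite.one_lt_card
    obtain ⟨Q', hQ'⟩ : ∃ Q', Nat.card F = Q' + 1 := ⟨Nat.card F - 1, by omega⟩
    calc Nat.card F ^ (2 * (m + 1)) = (Nat.card F - 1) * Nat.card F ^ (2 * m + 1) + Nat.card F * Nat.card F ^ (2 * m) := by
          rw [hQ', Nat.add_sub_cancel]; ring
      _ ≤ _ := Nat.add_le_add_left (Nat.mul_le_mul_left _ hrec) _

/-- At least `q ^ (n - 1)` zeros in odd dimension `n`. -/
theorem card_zeros_ge {V : Type v} [AddCommGroup V] [Module F V] [FiniteDimensional F V] [Finite V]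
    (Q : QuadraticForm F V) (hQ : (polB Q).Nondegenerate) (hodd : Odd (Module.finrank F V)) :
    Nat.card F ^ (Module.finrank F V - 1) ≤ Nat.card {x : V // Q x = 0} := by
  obtain ⟨m, hm⟩ := hodd
  rw [hm, Nat.add_sub_cancel]
  exact card_zeros_aux m Q hQ hm

end H49
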