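import Cfsg.Agent.H49.OrthExtBase
import Cfsg.Agent.H49.ExtFieldOver
import Cfsg.Agent.H49.OrthIsoCount

/-!
For an endomorphism of a field extension of odd degree, some shift by a multiplication maps a given
hyperplane onto a degenerate subspace for the trace form.
-/

set_option autoImplicit false
set_option linter.unusedSectionVars false

namespace H49

open H43

variable {F : Type*} [Field F] [Fintype F] {E : Type*} [Field E] [Fintype E] [Algebra F E] {τ : E →ₗ[F] F}

/-- The shift `f - κ` maps the hyperplane onto a degenerate subspace. -/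
def DegGood (τ : E →ₗ[F] F) (f : E →ₗ[F] E) (z : E) : Prop :=
  ∃ x κ : E, τ (z * x) = 0 ∧ f x - κ * x ≠ 0 ∧ ∀ j, τ (z * j) = 0 → τ ((f x - κ * x) * (f j - κ * j)) = 0

/-- The trace form. -/
noncomputable def trForm (τ : E →ₗ[F] F) : QuadraticForm F E :=
  LinearMap.BilinMap.toQuadraticMap ((LinearMap.mul F E).compr₂ τ)

theorem trForm_apply (x : E) : trForm τ x = τ (x * x) := rfl

theorem polB_trForm (x y : E) : polB (trForm τ) x y = 2 * τ (x * y) := by
  rw [polB_apply, QuadraticMap.polar, trForm_apply, trForm_apply, trForm_apply, add_mul, mul_add, mul_add,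
    map_add, map_add, map_add, mul_comm y x]
  ring

theorem trForm_nondeg (hτ : τ ≠ 0) (h2 : (2 : F) ≠ 0) : (polB (trForm τ)).Nondegenerate := by
  have key : ∀ x : E, (∀ y, polB (trForm τ) x y = 0) → x = 0 := fun x hx => functional_ext hτ fun c => by
    have h := hx c
    rw [polB_trForm, mul_comm x c, mul_eq_zero] at h
    exact h.resolve_left h2
  exact ⟨key, fun x hx => key x fun y => by rw [polB_comm]; exact hx y⟩

section
variable [DecidableEq E] [DecidableEq F]

/-- Non-zero null points with a given multiplier. -/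
def jset (τ : E →ₗ[F] F) (fs : E →ₗ[F] E) (z κ : E) : Finset E :=
  Finset.univ.filter fun i => i ≠ 0 ∧ τ (i * i) = 0 ∧ fs i - κ * i = -z

/-- The eigenvectors with a given value. -/
def eset (f : E →ₗ[F] E) (κ : E) : Finset E := Finset.univ.filter fun y => f y = κ * y

theorem mem_jset {fs : E →ₗ[F] E} {z κ i : E} :
    i ∈ jset τ fs z κ ↔ i ≠ 0 ∧ τ (i * i) = 0 ∧ fs i - κ * i = -z := by simp [jset]

theorem mem_eset {f : E →ₗ[F] E} {κ y : E} : y ∈ eset f κ ↔ f y = κ * y := by simp [eset]

theorem card_eset (f : E →ₗ[F] E) (κ : E) :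
    (eset f κ).card = Fintype.card F ^ Module.finrank F (LinearMap.ker (f - LinearMap.mulLeft F κ)) := by
  rw [← Nat.card_eq_fintype_card, ← Module.natCard_eq_pow_finrank (K := F) (V := LinearMap.ker (f - LinearMap.mulLeft F κ)),
    ← Nat.card_eq_finsetCard]
  refine Nat.card_congr (Equiv.subtypeEquivRight fun y => ?_)
  rw [mem_eset, LinearMap.mem_ker, LinearMap.sub_apply, LinearMap.mulLeft_apply, sub_eq_zero]

variable (hτ : τ ≠ 0) (h2 : (2 : F) ≠ 0) {f fs : E →ₗ[F] E} (hadj : ∀ x y, τ (f x * y) = τ (x * fs y)) {z : E}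
include hτ h2 hadj

/-- Adjoint eigenspaces have the same size. -/
theorem card_eset_adj (κ : E) : (eset fs κ).card = (eset f κ).card := by
  rw [card_eset, card_eset]
  congr 1
  set A := f - LinearMap.mulLeft F κ with hA
  set As := fs - LinearMap.mulLeft F κ with hAs
  have key : LinearMap.ker As = (polB (trForm τ)).orthogonal (LinearMap.range A) := by
    ext y
    constructor
    · rintro hy _ ⟨x, rfl⟩
      have hy' : fs y - κ * y = 0 := hy
      change polB (trForm τ) (A x) y = 0
      rw [polB_trForm, hA, LinearMap.sub_apply, LinearMap.mulLeft_apply, sub_mul, map_sub, hadj, ← map_sub,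
        show x * fs y - κ * x * y = x * (fs y - κ * y) by ring, hy', mul_zero, map_zero, mul_zero]
    · intro hy
      show fs y - κ * y = 0
      refine functional_ext hτ fun c => ?_
      have h := hy (A c) ⟨c, rfl⟩
      change polB (trForm τ) (A c) y = 0 at h
      rw [polB_trForm, hA, LinearMap.sub_apply, LinearMap.mulLeft_apply, sub_mul, map_sub, hadj, ← map_sub,
        show c * fs y - κ * c * y = c * (fs y - κ * y) by ring, mul_eq_zero] at h
      exact h.resolve_left h2
  have h1 := LinearMap.finrank_range_add_finrank_ker A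
  have h3 := finrank_orth_add (trForm_nondeg hτ h2) (LinearMap.range A)
  rw [← key] at h3
  omega

/-- Without a degenerate image, every null point pairs with an eigenvector of its value. -/
theorem exists_pairing (hcon : ¬ DegGood τ f z) {κ i : E} (hi : i ∈ jset τ fs z κ) :
    ∃ y, fs y = κ * y ∧ τ (i * y) ≠ 0 := by
  obtain ⟨hi0, hii, hfi⟩ := mem_jset.1 hi
  by_contra h
  simp only [not_exists, not_and, not_not] at h
  apply hcon
  set A := f - LinearMap.mulLeft F κ with hA
  obtain ⟨x, hx⟩ : i ∈ LinearMap.range A := by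
    rw [← LinearMap.BilinForm.orthogonal_orthogonal (trForm_nondeg hτ h2) (polB_isRefl (trForm τ)) (LinearMap.range A)]
    intro y hy
    change polB (trForm τ) y i = 0
    have hy' : fs y - κ * y = 0 := functional_ext hτ fun c => by
      have h' := hy (A c) ⟨c, rfl⟩
      change polB (trForm τ) (A c) y = 0 at h'
      rw [polB_trForm, hA, LinearMap.sub_apply, LinearMap.mulLeft_apply, sub_mul, map_sub, hadj, ← map_sub,
        show c * fs y - κ * c * y = c * (fs y - κ * y) by ring, mul_eq_zero] at h'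
      exact h'.resolve_left h2
    rw [polB_trForm, mul_comm y i, h y (sub_eq_zero.1 hy'), mul_zero]
  rw [hA, LinearMap.sub_apply, LinearMap.mulLeft_apply] at hx
  have hzx : τ (z * x) = 0 := by
    have e : τ ((f x - κ * x) * i) = τ (x * (fs i - κ * i)) := by
      rw [sub_mul, map_sub, hadj, ← map_sub]; congr 1; ring
    rw [hfi, hx, hii, mul_neg, map_neg, eq_comm, neg_eq_zero, mul_comm] at e
    exact e
  refine ⟨x, κ, hzx, by rw [hx]; exact hi0, fun j hj => ?_⟩
  rw [hx, show i * (f j - κ * j) = f j * i - κ * j * i by ring, map_sub, hadj, ← map_sub,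
    show j * fs i - κ * j * i = j * (fs i - κ * i) by ring, hfi, mul_neg, map_neg, mul_comm, hj, neg_zero]

/-- The eigenspaces of occurring values lie in the hyperplane, disjointly. -/
theorem sum_eset_le (S : Finset E) (hS : ∀ κ ∈ S, (jset τ fs z κ).Nonempty) :
    ∑ κ ∈ S, ((eset fs κ).card - 1) ≤ (Finset.univ.filter fun x => τ (z * x) = 0).card - 1 := by
  set I := Finset.univ.filter fun x => τ (z * x) = 0 with hI
  have h0I : (0 : E) ∈ I := by simp [hI]
  rw [← Finset.card_erase_of_mem h0I]
  calc ∑ κ ∈ S, ((eset fs κ).card - 1) = ∑ κ ∈ S, ((eset f κ).erase 0).card :=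
        Finset.sum_congr rfl fun κ _ => by
          rw [card_eset_adj hτ h2 hadj, Finset.card_erase_of_mem (mem_eset.2 (by simp))]
    _ = (S.biUnion fun κ => (eset f κ).erase 0).card := (Finset.card_biUnion fun a _ b _ hab => by
          refine Finset.disjoint_left.2 fun x hx hx' => hab ?_
          obtain ⟨hx0, hxa⟩ := Finset.mem_erase.1 hx
          obtain ⟨-, hxb⟩ := Finset.mem_erase.1 hx'
          exact mul_right_cancel₀ hx0 ((mem_eset.1 hxa).symm.trans (mem_eset.1 hxb))).symm
    _ ≤ _ := Finset.card_le_card fun x hx => by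
          obtain ⟨κ, hκ, hx⟩ := Finset.mem_biUnion.1 hx
          obtain ⟨hx0, hxe⟩ := Finset.mem_erase.1 hx
          obtain ⟨i, hi⟩ := hS κ hκ
          obtain ⟨-, -, hfi⟩ := mem_jset.1 hi
          refine Finset.mem_erase.2 ⟨hx0, Finset.mem_filter.2 ⟨Finset.mem_univ _, ?_⟩⟩
          have e : τ ((f x - κ * x) * i) = τ (x * (fs i - κ * i)) := by
            rw [sub_mul, map_sub, hadj, ← map_sub]; congr 1; ring
          rw [hfi, mem_eset.1 hxe, sub_self, zero_mul, map_zero, mul_neg, map_neg, eq_comm, neg_eq_zero,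
            mul_comm] at e
          exact e

/-- The null points with a given value, against the eigenspace. -/
theorem jset_bound (hq3 : 3 ≤ Fintype.card F) (hcon : ¬ DegGood τ f z) (κ : E)
    (hne : (jset τ fs z κ).Nonempty) :
    (Fintype.card F - 1) * (jset τ fs z κ).card ≤ 2 * ((eset fs κ).card - 1) ∧
    ((∃ y ∈ eset fs κ, y ≠ 0 ∧ τ (y * y) = 0) →
      (Fintype.card F - 1) * (jset τ fs z κ).card < 2 * ((eset fs κ).card - 1)) := by
  obtain ⟨i₁, hi₁⟩ := hne
  obtain ⟨y, hy, hiy⟩ := exists_pairing hτ h2 hadj hcon hi₁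
  have hy0 : y ≠ 0 := fun e => hiy (by simp [e])
  set K := eset fs κ with hK
  set J := jset τ fs z κ with hJ
  have hKadd : ∀ a b, a ∈ K → b ∈ K → a + b ∈ K := fun a b ha hb => by
    rw [mem_eset] at ha hb ⊢; rw [map_add, ha, hb, mul_add]
  have hKsmul : ∀ (t : F) a, a ∈ K → t • a ∈ K := fun t a ha => by
    rw [mem_eset] at ha ⊢; rw [map_smul, ha, mul_smul_comm]
  have hKcard : Fintype.card F ≤ K.card := by
    rw [← Finset.card_univ]
    exact Finset.card_le_card_of_injOn (fun t => t • y) (fun t _ => hKsmul t y (mem_eset.2 hy))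
      fun a _ b _ h => smul_left_injective F hy0 h
  have key : ∀ y₁ ∈ K, ∀ c : ℕ, (∀ i ∈ J, (Finset.univ.filter fun t : F => τ ((i + t • y₁) * (i + t • y₁)) = 0).card ≤ c) →
      J.card * Fintype.card F ≤ c * K.card := by
    intro y₁ hy₁ c hc
    have hmaps : ∀ p ∈ J ×ˢ (Finset.univ : Finset F), p.1 - i₁ + p.2 • y₁ ∈ K := by
      rintro ⟨i, t⟩ hp
      refine hKadd _ _ ?_ (hKsmul t y₁ hy₁)
      obtain ⟨-, -, e1⟩ := mem_jset.1 (Finset.mem_product.1 hp).1
      obtain ⟨-, -, e2⟩ := mem_jset.1 hi₁
      rw [mem_eset, map_sub, mul_sub]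
      linear_combination e1 - e2
    have hfib : ∀ a ∈ (J ×ˢ (Finset.univ : Finset F)).image (fun p => p.1 - i₁ + p.2 • y₁),
        ((J ×ˢ (Finset.univ : Finset F)).filter fun p => p.1 - i₁ + p.2 • y₁ = a).card ≤ c := by
      intro a ha
      obtain ⟨⟨i, t⟩, hp, rfl⟩ := Finset.mem_image.1 ha
      refine le_trans ?_ (hc i (Finset.mem_product.1 hp).1)
      refine Finset.card_le_card_of_injOn (fun p => t - p.2) (fun p hp' => ?_) ?_
      · obtain ⟨hp1, hp2⟩ := Finset.mem_filter.1 hp'
        obtain ⟨-, e1, -⟩ := mem_jset.1 (Finset.mem_product.1 hp1).1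
        refine Finset.mem_filter.2 ⟨Finset.mem_univ _, ?_⟩
        rw [show i + (t - p.2) • y₁ = p.1 by
          simp only at hp2; rw [sub_smul]; linear_combination -hp2]
        exact e1
      · rintro ⟨a₁, a₂⟩ ha' ⟨b₁, b₂⟩ hb' h
        obtain ⟨-, e1⟩ := Finset.mem_filter.1 ha'
        obtain ⟨-, e2⟩ := Finset.mem_filter.1 hb'
        have h' : a₂ = b₂ := sub_right_injective h
        subst h'
        simp only at e1 e2
        refine Prod.ext ?_ rfl
        show a₁ = b₁
        linear_combination e1 - e2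
    have h1 := Finset.card_le_mul_card_image (J ×ˢ (Finset.univ : Finset F)) c hfib
    rw [Finset.card_product, Finset.card_univ] at h1
    refine h1.trans (Nat.mul_le_mul_left _ (Finset.card_le_card fun a ha => ?_))
    obtain ⟨p, hp, rfl⟩ := Finset.mem_image.1 ha
    exact hmaps p hp
  have hexp : ∀ (i w : E) (t : F), τ (i * i) = 0 →
      τ ((i + t • w) * (i + t • w)) = t * (2 * τ (i * w) + t * τ (w * w)) := by
    intro i w t hi
    rw [show (i + t • w) * (i + t • w) = i * i + (2 * t) • (i * w) + (t * t) • (w * w) by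
      simp only [Algebra.smul_def, map_mul, map_ofNat]; ring, map_add, map_add, map_smul, map_smul, hi,
      smul_eq_mul, smul_eq_mul]
    ring
  obtain ⟨Q', hQ'⟩ : ∃ Q', Fintype.card F = Q' + 1 := ⟨Fintype.card F - 1, by omega⟩
  obtain ⟨K', hK'⟩ : ∃ K', K.card = K' + 1 := ⟨K.card - 1, by omega⟩
  rw [hQ', hK', Nat.add_sub_cancel, Nat.add_sub_cancel]
  by_cases hiso : ∀ a ∈ K, τ (a * a) = 0
  · -- a totally isotropic eigenspace
    have hJ1 : J.card * Fintype.card F ≤ 1 * K.card := by
      refine key y (mem_eset.2 hy) 1 fun i hi => Finset.card_le_one.2 fun a ha b hb => ?_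
      obtain ⟨hi0, hii, hfi⟩ := mem_jset.1 hi
      obtain ⟨-, -, hf₁⟩ := mem_jset.1 hi₁
      have hd : i - i₁ ∈ K := by rw [mem_eset, map_sub, mul_sub]; linear_combination hfi - hf₁
      have horth : τ ((i - i₁) * y) = 0 := by
        have h' := hiso _ (hKadd _ _ hd (mem_eset.2 hy))
        rw [show (i - i₁ + y) * (i - i₁ + y) = (i - i₁) * (i - i₁) + y * y + (2 : F) • ((i - i₁) * y) by
          simp only [Algebra.smul_def, map_ofNat]; ring, map_add, map_add, hiso _ hd, hiso _ (mem_eset.2 hy),
          map_smul, zero_add, zero_add, smul_eq_mul, mul_eq_zero] at h'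
        exact h'.resolve_left h2
      have hiy' : τ (i * y) ≠ 0 := by
        rwa [show i * y = (i - i₁) * y + i₁ * y by ring, map_add, horth, zero_add]
      have hzero : ∀ t, t ∈ Finset.univ.filter (fun t : F => τ ((i + t • y) * (i + t • y)) = 0) → t = 0 := by
        intro t ht
        have := (Finset.mem_filter.1 ht).2
        rw [hexp i y t hii, hiso y (mem_eset.2 hy), mul_zero, add_zero, mul_eq_zero] at this
        exact this.resolve_right (mul_ne_zero h2 hiy')
      rw [hzero a ha, hzero b hb]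
    rw [hQ', hK'] at hJ1
    have hlt : Q' * J.card < 2 * K' := by
      rw [hK'] at hKcard
      rw [hQ'] at hKcard
      nlinarith
    exact ⟨hlt.le, fun _ => hlt⟩
  simp only [not_forall] at hiso
  obtain ⟨y₁, hy₁, hy₁q⟩ := hiso
  have hJ2 : J.card * Fintype.card F ≤ 2 * K.card := by
    refine key y₁ hy₁ 2 fun i hi => ?_
    obtain ⟨-, hii, -⟩ := mem_jset.1 hi
    refine (Finset.card_le_card (t := {0, -(2 * τ (i * y₁)) / τ (y₁ * y₁)}) fun t ht => ?_).trans
      ((Finset.card_insert_le _ _).trans (by rw [Finset.card_singleton]))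
    have h := (Finset.mem_filter.1 ht).2
    rw [hexp i y₁ t hii, mul_eq_zero] at h
    rw [Finset.mem_insert, Finset.mem_singleton]
    refine h.imp id fun h => ?_
    rw [eq_div_iff hy₁q]
    linear_combination h
  rw [hQ', hK'] at hJ2
  rw [hK', hQ'] at hKcard
  refine ⟨by nlinarith, ?_⟩
  rintro ⟨y₀, hy₀, hy₀0, hy₀q⟩
  have hK2 : Fintype.card F * Fintype.card F ≤ K.card := by
    rw [← Finset.card_univ, ← Finset.card_product]
    refine Finset.card_le_card_of_injOn (fun p => p.1 • y₀ + p.2 • y₁)
      (fun p _ => hKadd _ _ (hKsmul _ _ hy₀) (hKsmul _ _ hy₁)) ?_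
    rintro ⟨a, b⟩ - ⟨a', b'⟩ - h
    have h' : (a - a') • y₀ = (b' - b) • y₁ := by
      simp only at h; rw [sub_smul, sub_smul]; linear_combination h
    have hb : b' - b = 0 := by
      have h3 := congrArg (fun w => τ (w * w)) h'
      simp only [smul_mul_smul_comm, map_smul, hy₀q, smul_eq_mul, mul_zero] at h3
      rcases mul_eq_zero.1 h3.symm with e | e
      · exact mul_self_eq_zero.1 e
      · exact absurd e hy₁q
    rw [hb, zero_smul, smul_eq_zero] at h'
    exact Prod.ext (sub_eq_zero.1 (h'.resolve_right hy₀0)) (sub_eq_zero.1 hb).symm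
  rw [hQ', hK'] at hK2
  nlinarith

/-- A degenerate image exists when a null eigenvector's value has null points. -/
theorem degenerate_core (hq3 : 3 ≤ Fintype.card F) (hodd : Odd (Module.finrank F E)) (hz : z ≠ 0)
    {κ₀ i₀ : E} (hi₀ : i₀ ≠ 0) (hi₀i : τ (i₀ * i₀) = 0) (hfi₀ : fs i₀ = κ₀ * i₀) (hne : (jset τ fs z κ₀).Nonempty) :
    DegGood τ f z := by
  by_contra hcon
  set J := Finset.univ.filter fun i : E => i ≠ 0 ∧ τ (i * i) = 0 with hJ
  set S := J.image fun i => (fs i + z) / i with hS
  have hfib : ∀ κ, (J.filter fun i => (fs i + z) / i = κ) = jset τ fs z κ := by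
    intro κ
    ext i
    simp only [hJ, Finset.mem_filter, Finset.mem_univ, true_and, mem_jset]
    constructor
    · rintro ⟨⟨h0, hii⟩, he⟩
      rw [div_eq_iff h0] at he
      exact ⟨h0, hii, by linear_combination he⟩
    · rintro ⟨h0, hii, he⟩
      exact ⟨⟨h0, hii⟩, by rw [div_eq_iff h0]; linear_combination he⟩
  have hSne : ∀ κ ∈ S, (jset τ fs z κ).Nonempty := by
    intro κ hκ
    obtain ⟨i, hi, rfl⟩ := Finset.mem_image.1 hκ
    exact ⟨i, by rw [← hfib]; exact Finset.mem_filter.2 ⟨hi, rfl⟩⟩
  have hκ₀S : κ₀ ∈ S := by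
    obtain ⟨i, hi⟩ := hne
    rw [← hfib, Finset.mem_filter] at hi
    exact Finset.mem_image.2 ⟨i, hi.1, hi.2⟩
  have h1 : (Fintype.card F - 1) * J.card < 2 * ∑ κ ∈ S, ((eset fs κ).card - 1) := by
    rw [Finset.card_eq_sum_card_image (fun i => (fs i + z) / i) J, ← hS, Finset.mul_sum, Finset.mul_sum]
    refine Finset.sum_lt_sum (fun κ hκ => ?_) ⟨κ₀, hκ₀S, ?_⟩
    · rw [hfib]; exact (jset_bound hτ h2 hadj hq3 hcon κ (hSne κ hκ)).1
    · rw [hfib]; exact (jset_bound hτ h2 hadj hq3 hcon κ₀ hne).2 ⟨i₀, mem_eset.2 hfi₀, hi₀, hi₀i⟩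
  have h3 := sum_eset_le hτ h2 hadj (z := z) S hSne
  have h4 : (Finset.univ.filter fun x => τ (z * x) = 0).card ≤ J.card + 1 := by
    refine le_trans (le_of_eq ?_) (le_trans (card_zeros_ge (trForm τ) (trForm_nondeg hτ h2) hodd) (le_of_eq ?_))
    · have hsurj : Function.Surjective (τ.comp (LinearMap.mulLeft F z)) := by
        refine LinearMap.surjective fun h => hz (functional_ext hτ fun c => ?_)
        rw [mul_comm]; exact LinearMap.congr_fun h c
      have h5 := LinearMap.finrank_range_add_finrank_ker (τ.comp (LinearMap.mulLeft F z))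
      rw [LinearMap.range_eq_top.2 hsurj, finrank_top, Module.finrank_self] at h5
      rw [show Module.finrank F E - 1 = Module.finrank F (LinearMap.ker (τ.comp (LinearMap.mulLeft F z))) by omega,
        ← Module.natCard_eq_pow_finrank, ← Nat.card_eq_finsetCard]
      exact Nat.card_congr (Equiv.subtypeEquivRight fun x => by simp)
    · rw [show J = (Finset.univ.filter fun i : E => τ (i * i) = 0).erase 0 by ext i; simp [hJ],
        Finset.card_erase_add_one (by simp), ← Nat.card_eq_finsetCard]
      exact Nat.card_congr (Equiv.subtypeEquivRight fun x => by simp [trForm_apply])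
  have h6 : 2 * J.card ≤ (Fintype.card F - 1) * J.card := Nat.mul_le_mul_right _ (by omega)
  omega

end

/-- Some shift maps the hyperplane onto a degenerate subspace. -/
theorem exists_degenerate (hτ : τ ≠ 0) (h2 : (2 : F) ≠ 0) (hq3 : 3 ≤ Fintype.card F)
    (hodd : Odd (Module.finrank F E)) (hr : 1 < Module.finrank F E) {z : E} (hz : z ≠ 0) (f : E →ₗ[F] E) :
    DegGood τ f z := by
  classical
  have key : ∀ y : E, ∃ a : E, ∀ c, τ (a * c) = τ (f c * y) := fun y =>
    tau_dual_surjective hτ ((τ.comp (LinearMap.mulRight F y)).comp f)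
  choose g hg using key
  have huniq : ∀ y a, (∀ c, τ (a * c) = τ (f c * y)) → g y = a := fun y a h =>
    sub_eq_zero.1 (functional_ext hτ fun c => by
      rw [mul_sub, map_sub, mul_comm c, mul_comm c, hg, h, sub_self])
  let fs : E →ₗ[F] E :=
    { toFun := g
      map_add' := fun a b => huniq _ _ fun c => by rw [add_mul, map_add, hg, hg, mul_add, map_add]
      map_smul' := fun t a => huniq _ _ fun c => by
        rw [RingHom.id_apply, smul_mul_assoc, map_smul, hg, mul_smul_comm, map_smul] }
  have hadj : ∀ x y, τ (f x * y) = τ (x * fs y) := fun x y => by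
    show _ = τ (x * g y)
    rw [mul_comm x, hg]
  by_cases hpair : ∃ κ i i', i ∈ jset τ fs z κ ∧ i' ∈ jset τ fs z κ ∧ i ≠ i'
  · obtain ⟨κ, i, i', hi, hi', hne⟩ := hpair
    obtain ⟨hi0, hii, hfi⟩ := mem_jset.1 hi
    obtain ⟨hi'0, hii', hfi'⟩ := mem_jset.1 hi'
    have hli : i ∉ Submodule.span F ({i'} : Set E) := by
      intro h
      obtain ⟨t, ht⟩ := Submodule.mem_span_singleton.1 h
      rw [← ht, map_smul, mul_smul_comm, ← smul_sub, hfi', smul_neg, neg_inj] at hfi
      have : t = 1 := smul_left_injective F hz (show t • z = (1 : F) • z by rw [one_smul]; exact hfi)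
      exact hne (by rw [← ht, this, one_smul])
    obtain ⟨e, he, he'⟩ := exists_orth_polB_eq (trForm_nondeg hτ h2) hli 2
    have he1 : τ (e * i) = 1 := by
      rw [polB_trForm, mul_comm i e] at he'
      exact mul_left_cancel₀ h2 (by rw [he', mul_one])
    have he0 : τ (e * i') = 0 := by
      have h := he i' (Submodule.mem_span_singleton_self i')
      rw [polB_trForm, mul_comm i' e, mul_eq_zero] at h
      exact h.resolve_left h2
    let f' : E →ₗ[F] E := f + (τ.comp (LinearMap.mulLeft F z)).smulRight e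
    let fs' : E →ₗ[F] E := fs + (τ.comp (LinearMap.mulLeft F e)).smulRight z
    have hadj' : ∀ x y, τ (f' x * y) = τ (x * fs' y) := fun x y => by
      simp only [f', fs', LinearMap.add_apply, LinearMap.smulRight_apply, LinearMap.comp_apply,
        LinearMap.mulLeft_apply, add_mul, mul_add, map_add, hadj, smul_mul_assoc, mul_smul_comm, map_smul,
        smul_eq_mul, mul_comm x z]
      ring
    obtain ⟨x, κ', hx, hne', hj⟩ := degenerate_core (f := f') (fs := fs') hτ h2 hadj' hq3 hodd hz (κ₀ := κ) hi0 hii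
      (by
        simp only [fs', LinearMap.add_apply, LinearMap.smulRight_apply, LinearMap.comp_apply,
          LinearMap.mulLeft_apply, he1, one_smul]
        linear_combination hfi)
      ⟨i', mem_jset.2 ⟨hi'0, hii', by
        simp only [fs', LinearMap.add_apply, LinearMap.smulRight_apply, LinearMap.comp_apply,
          LinearMap.mulLeft_apply, he0, zero_smul, add_zero]
        exact hfi'⟩⟩
    have heq : ∀ j, τ (z * j) = 0 → f' j = f j := fun j hj' => by
      simp only [f', LinearMap.add_apply, LinearMap.smulRight_apply, LinearMap.comp_apply, LinearMap.mulLeft_apply,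
        hj', zero_smul, add_zero]
    refine ⟨x, κ', hx, by rw [← heq x hx]; exact hne', fun j hj' => ?_⟩
    rw [← heq x hx, ← heq j hj']
    exact hj j hj'
  by_contra hcon
  simp only [not_exists, not_and, not_not] at hpair
  set J := Finset.univ.filter fun i : E => i ≠ 0 ∧ τ (i * i) = 0 with hJ
  set S := J.image fun i => (fs i + z) / i with hS
  have hmem : ∀ i ∈ J, i ∈ jset τ fs z ((fs i + z) / i) := by
    intro i hi
    obtain ⟨h0, hii⟩ := (Finset.mem_filter.1 hi).2
    exact mem_jset.2 ⟨h0, hii, by rw [div_mul_cancel₀ _ h0]; ring⟩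
  have hSne : ∀ κ ∈ S, (jset τ fs z κ).Nonempty := by
    intro κ hκ
    obtain ⟨i, hi, rfl⟩ := Finset.mem_image.1 hκ
    exact ⟨i, hmem i hi⟩
  have h1 : J.card = S.card := (Finset.card_image_of_injOn fun a ha b hb h => by
    have h' : (fs a + z) / a = (fs b + z) / b := h
    exact hpair _ a b (hmem a ha) (h' ▸ hmem b hb)).symm
  have h3 := sum_eset_le hτ h2 hadj (z := z) S hSne
  have h3' : (Fintype.card F - 1) * S.card ≤ ∑ κ ∈ S, ((eset fs κ).card - 1) := by
    rw [mul_comm, ← smul_eq_mul, ← Finset.sum_const]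
    refine Finset.sum_le_sum fun κ hκ => Nat.sub_le_sub_right ?_ 1
    obtain ⟨i, hi⟩ := hSne κ hκ
    obtain ⟨y, hy, hiy⟩ := exists_pairing hτ h2 hadj hcon hi
    have hy0 : y ≠ 0 := fun e => hiy (by simp [e])
    rw [← Finset.card_univ]
    exact Finset.card_le_card_of_injOn (fun t => t • y)
      (fun t _ => mem_eset.2 (by rw [map_smul, hy, mul_smul_comm]))
      fun a _ b _ h => smul_left_injective F hy0 h
  obtain ⟨c, hc⟩ : ∃ c, Fintype.card F = c + 3 := ⟨Fintype.card F - 3, by omega⟩
  set I := Finset.univ.filter fun x => τ (z * x) = 0 with hI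
  have h4 : I.card ≤ J.card + 1 := by
    refine le_trans (le_of_eq ?_) (le_trans (card_zeros_ge (trForm τ) (trForm_nondeg hτ h2) hodd) (le_of_eq ?_))
    · have hsurj : Function.Surjective (τ.comp (LinearMap.mulLeft F z)) := by
        refine LinearMap.surjective fun h => hz (functional_ext hτ fun c => ?_)
        rw [mul_comm]; exact LinearMap.congr_fun h c
      have h5 := LinearMap.finrank_range_add_finrank_ker (τ.comp (LinearMap.mulLeft F z))
      rw [LinearMap.range_eq_top.2 hsurj, finrank_top, Module.finrank_self] at h5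
      rw [show Module.finrank F E - 1 = Module.finrank F (LinearMap.ker (τ.comp (LinearMap.mulLeft F z))) by omega,
        ← Module.natCard_eq_pow_finrank, ← Nat.card_eq_finsetCard]
      exact Nat.card_congr (Equiv.subtypeEquivRight fun x => by simp [hI])
    · rw [show J = (Finset.univ.filter fun i : E => τ (i * i) = 0).erase 0 by ext i; simp [hJ],
        Finset.card_erase_add_one (by simp), ← Nat.card_eq_finsetCard]
      exact Nat.card_congr (Equiv.subtypeEquivRight fun x => by simp [trForm_apply])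
  have hI2 : 2 ≤ I.card := by
    obtain ⟨x, hx, hx0⟩ := Submodule.exists_mem_ne_zero_of_ne_bot
      (LinearMap.ker_ne_bot_of_finrank_lt (f := τ.comp (LinearMap.mulLeft F z))
        (by rw [Module.finrank_self]; exact hr))
    exact Finset.one_lt_card.2 ⟨0, by simp [hI], x, by simpa [hI] using hx, fun e => hx0 e.symm⟩
  rw [hc] at h3'
  rw [show c + 3 - 1 = c + 2 by omega] at h3'
  have : 2 * S.card ≤ (c + 2) * S.card := Nat.mul_le_mul_right _ (by omega)
  omega

end H49
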