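import Cfsg.Agent.H49.OrthExtLines
import Cfsg.Agent.H49.OrthExtDegenerate

/-!
Three dimensions over the extension: two moved lines meet, with an orthogonal vector outside.
-/

set_option autoImplicit false
set_option linter.unusedSectionVars false

namespace H49

open H43

/-- Three pairwise orthogonal anisotropic vectors give coordinates in dimension three. -/
theorem frame_decomp {K : Type*} [Field K] {U : Type*} [AddCommGroup U] [Module K U] [FiniteDimensional K U]
    {q : QuadraticForm K U} (h2 : (2 : K) ≠ 0) (h3 : Module.finrank K U = 3) {a b c : U}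
    (ha : q a ≠ 0) (hb : q b ≠ 0) (hc : q c ≠ 0) (hab : polB q a b = 0) (hac : polB q a c = 0)
    (hbc : polB q b c = 0) (x : U) :
    ∃ i j k : K, i • a + j • b + k • c = x := by
  have hli : LinearIndependent K ![a, b, c] := by
    rw [Fintype.linearIndependent_iff]
    intro g hg
    simp only [Fin.sum_univ_three, Matrix.cons_val_zero, Matrix.cons_val_one, Matrix.cons_val] at hg
    have e1 := congrArg (polB q a) hg
    have e2 := congrArg (polB q b) hg
    have e3 := congrArg (polB q c) hg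
    simp only [map_add, map_smul, polB_self, hab, hac, hbc, polB_comm b a, polB_comm c a, polB_comm c b,
      smul_eq_mul, mul_zero, zero_add, add_zero, map_zero, mul_eq_zero] at e1 e2 e3
    intro i
    fin_cases i
    · exact e1.resolve_right fun h => h.elim h2 ha
    · exact e2.resolve_right fun h => h.elim h2 hb
    · exact e3.resolve_right fun h => h.elim h2 hc
  have htop := hli.span_eq_top_of_card_eq_finrank (by rw [Fintype.card_fin, h3])
  have hx : x ∈ Submodule.span K (Set.range ![a, b, c]) := by rw [htop]; trivial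
  obtain ⟨g, hg⟩ := (Submodule.mem_span_range_iff_exists_fun K).1 hx
  simp only [Fin.sum_univ_three, Matrix.cons_val_zero, Matrix.cons_val_one, Matrix.cons_val] at hg
  exact ⟨_, _, _, hg⟩

namespace OExt

variable {F : Type*} [Field F] [Fintype F] {E : Type*} [Field E] [Fintype E] [Algebra F E]
  {V : Type*} [AddCommGroup V] [Module F V] [Module E V] [IsScalarTower F E V]
  [FiniteDimensional F V] [FiniteDimensional E V]
  {Q : QuadraticForm F V} {Qe : QuadraticForm E V} {τ : E →ₗ[F] F} (d : OExt Q Qe τ)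
include d

theorem five_le (h3 : Module.finrank E V = 3) : 5 ≤ Module.finrank F E := by
  have h1 := d.finrank_eq
  have h2 := d.big3 h3
  rw [h3] at h1
  have h4 : Module.finrank F E ≠ 4 := fun e => by
    have h := d.prime; rw [e] at h; exact absurd h (by decide)
  omega

theorem card_three : 3 ≤ Fintype.card F := by
  have h1 : 1 < Fintype.card F := Fintype.one_lt_card
  by_contra h
  have h' : ringChar F = 2 := FiniteField.even_card_iff_char_two.2 (by omega)
  exact d.two (by
    haveI := ringChar.of_eq h'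
    exact CharP.cast_eq_zero F 2)

/-- A vector orthogonal to a hyperbolic pair with value in the ground field, spanning the orthogonal. -/
theorem exists_unit (h3 : Module.finrank E V = 3) {u u' : V} (hp : HypPair Qe u u') :
    ∃ (w : V) (t : F), t ≠ 0 ∧ Qe w = t • 1 ∧ polB Qe u w = 0 ∧ polB Qe u' w = 0 ∧
      ∀ x, ∃ a b c : E, a • u + b • u' + c • w = x := by
  have hr := d.five_le h3
  have hrank := finrank_hyp_orth d.nde hp
  obtain ⟨x, hx, hx0⟩ := Submodule.exists_mem_ne_zero_of_ne_bot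
    (p := (polB Qe).orthogonal (Submodule.span E {u, u'})) (fun e => by rw [e, finrank_bot] at hrank; omega)
  obtain ⟨w, hw, hwq, -⟩ := exists_aniso_orth d.nde (hyp_inf_orth hp) hx hx0 d.twoE
  obtain ⟨t, a, ht, hta⟩ := d.exists_scalar_sq (by omega) hwq
  have ha : a ≠ 0 := fun e => hwq (by rw [hta, e]; simp)
  obtain ⟨w1, w2⟩ := mem_orth_pair.1 (Submodule.smul_mem _ a⁻¹ hw)
  refine ⟨a⁻¹ • w, t, ht, ?_, w1, w2, fun y => ?_⟩
  · rw [qmap_smul, hta, mul_smul_comm]
    congr 1
    field_simp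
  · set W := (polB Qe).orthogonal (Submodule.span E {u, u'}) with hW
    have hw0 : a⁻¹ • w ≠ 0 := smul_ne_zero (inv_ne_zero ha) fun e => hwq (by rw [e, QuadraticMap.map_zero])
    have heq : Submodule.span E {a⁻¹ • w} = W := by
      refine Submodule.eq_of_le_of_finrank_eq ?_ ?_
      · rw [Submodule.span_le, Set.singleton_subset_iff]; exact Submodule.smul_mem _ _ hw
      · rw [finrank_span_singleton hw0]; omega
    have h' := hyp_proj_mem hp y
    rw [← hW, ← heq, Submodule.mem_span_singleton] at h'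
    obtain ⟨c, hc⟩ := h'
    exact ⟨polB Qe y u', polB Qe y u, c, by rw [hc]; abel⟩

/-- A pair of images as a pair with a line. -/
theorem pull {M : Subgroup (orthGroup Q)} {g₁ g₂ : orthGroup Q} (hg₁ : g₁ ∈ M) (hg₂ : g₂ ∈ M) {v : V}
    (hne : d.gl g₁ v ≠ d.gl g₂ v) :
    g₂⁻¹ * g₁ ∈ M ∧ d.gl (g₂⁻¹ * g₁) v ≠ fline (E := E) F v ∧
      Module.finrank F ↥(d.gl (g₂⁻¹ * g₁) v ⊓ fline (E := E) F v) = Module.finrank F ↥(d.gl g₁ v ⊓ d.gl g₂ v) := by
  refine ⟨mul_mem (inv_mem hg₂) hg₁, fun e => hne ?_, ?_⟩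
  · have := congrArg (Submodule.map g₂.1.toLinearMap) e
    rwa [← d.gl_mul, mul_inv_cancel_left] at this
  · rw [← LinearEquiv.finrank_map_eq g₂.1, Submodule.map_inf _ (LinearEquiv.injective _), ← d.gl_mul,
      mul_inv_cancel_left]
    rfl

/-- Two images with a vector of one orthogonal to the other, outside it, pulled back. -/
theorem pull_prop {M : Subgroup (orthGroup Q)} {g₁ g₂ : orthGroup Q} (hg₁ : g₁ ∈ M) (hg₂ : g₂ ∈ M) {v y : V}
    (hy : y ∈ d.gl g₁ v) (hy' : y ∉ d.gl g₂ v) (hperp : ∀ x ∈ d.gl g₂ v, polB Q x y = 0) :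
    ∃ g ∈ M, ∃ y', d.gl g v ≠ fline (E := E) F v ∧
      Module.finrank F ↥(d.gl g v ⊓ fline (E := E) F v) = Module.finrank F ↥(d.gl g₁ v ⊓ d.gl g₂ v) ∧
      y' ∈ d.gl g v ∧ polB Qe y' v = 0 ∧ y' ∉ fline (E := E) F v := by
  obtain ⟨h1, h2, h3⟩ := d.pull hg₁ hg₂ (v := v) fun e => hy' (e ▸ hy)
  refine ⟨_, h1, (g₂⁻¹).1 y, h2, h3, ?_, ?_, fun h => hy' ?_⟩
  · rw [d.gl_mul]; exact ⟨y, hy, rfl⟩
  · rw [polB_comm, ← d.mem_orth_line (F := F)]
    intro x hx
    change polB Q x ((g₂⁻¹).1 y) = 0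
    rw [← orth_polB_map g₂, orth_apply_inv_self]
    obtain ⟨e, rfl⟩ := mem_fline.1 hx
    exact hperp _ (d.mem_gl.2 ⟨e, rfl⟩)
  · obtain ⟨e, he⟩ := mem_fline.1 h
    exact d.mem_gl.2 ⟨e, by rw [he, orth_apply_inv_self]⟩

variable {M : Subgroup (orthGroup Q)} (hH : ∀ h : orthGroup Qe, d.res (h * h) ∈ M)
include hH

/-- Some moved line meets a line, in three dimensions over the extension. -/
theorem exists_meet₃ (h3 : Module.finrank E V = 3) {g : orthGroup Q} (hg : g ∈ M) {v : V} (hv : Qe v = 0) {c : E}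
    (hmove : g.1 (c • v) ∉ fline (E := E) F (g.1 v)) :
    ∃ g' ∈ M, ∃ v u : V, Qe v = 0 ∧ Qe u = 0 ∧ v ≠ 0 ∧ u ≠ 0 ∧ d.gl g' v ≠ fline (E := E) F u ∧
      d.gl g' v ⊓ fline (E := E) F u ≠ ⊥ := by
  have hr := d.five_le h3
  have hv0 : v ≠ 0 := fun e => hmove (by simp [e])
  set a := g.1 v with ha
  have ha0 : a ≠ 0 := fun e => hv0 (g.1.map_eq_zero_iff.1 e)
  set L := d.gl g v with hLdef
  have haL : a ∈ L := d.mem_gl.2 ⟨1, by rw [one_smul]⟩
  by_cases hsing : ∃ a' ∈ L, a' ≠ 0 ∧ Qe a' = 0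
  · obtain ⟨a', ha'L, ha'0, ha'q⟩ := hsing
    refine ⟨g, hg, v, a', hv, ha'q, hv0, ha'0, fun e => hmove ?_, fun e => ha'0 ?_⟩
    · obtain ⟨e₁, he₁⟩ := mem_fline.1 (show a ∈ fline (E := E) F a' from e ▸ haL)
      obtain ⟨e₂, he₂⟩ := mem_fline.1 (show g.1 (c • v) ∈ fline (E := E) F a' from e ▸ d.mem_gl.2 ⟨c, rfl⟩)
      have he₁0 : e₁ ≠ 0 := fun e' => ha0 (by rw [← he₁, e', zero_smul])
      exact mem_fline.2 ⟨e₂ / e₁, by rw [← he₁, smul_smul, div_mul_cancel₀ _ he₁0, he₂]⟩
    · exact (Submodule.mem_bot F).1 (e ▸ ⟨ha'L, d.self_mem_fline a'⟩)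
  simp only [not_exists, not_and] at hsing
  have hqa : Qe a ≠ 0 := hsing a haL ha0
  obtain ⟨h, hM, hha, hne⟩ : ∃ h ∈ M, h.1 a = a ∧ d.gl (h * g) v ≠ L := by
    by_contra hcon
    simp only [not_exists, not_and, not_not] at hcon
    set l := g.1 (c • v) with hl
    have hlL : l ∈ L := d.mem_gl.2 ⟨c, rfl⟩
    set k := polB Qe a l / (2 * Qe a) with hk
    set l₀ := l - k • a with hl₀
    have h2a : (2 : E) * Qe a ≠ 0 := mul_ne_zero d.twoE hqa
    have hal : polB Qe a l₀ = 0 := by
      rw [hl₀, map_sub, map_smul, polB_self, smul_eq_mul, hk, div_mul_cancel₀ _ h2a, sub_self]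
    have hl₀0 : l₀ ≠ 0 := fun e => hmove (mem_fline.2 ⟨k, (sub_eq_zero.1 e).symm⟩)
    obtain ⟨z, hz, hzq, -⟩ := exists_aniso_orth d.nde (singleton_inf_orth hqa d.twoE) (mem_orth_singleton.2 hal)
      hl₀0 d.twoE
    have haz : polB Qe a z = 0 := mem_orth_singleton.1 hz
    have hinf : Submodule.span E {a, z} ⊓ (polB Qe).orthogonal (Submodule.span E {a, z}) = ⊥ := by
      rw [eq_bot_iff]
      rintro x ⟨hx, hx'⟩
      obtain ⟨s, t, rfl⟩ := Submodule.mem_span_pair.1 hx
      obtain ⟨h1, h2⟩ := mem_orth_pair.1 hx'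
      simp only [map_add, map_smul, polB_self, haz, polB_comm z a, smul_eq_mul, mul_zero, zero_add, add_zero,
        mul_eq_zero] at h1 h2
      rw [Submodule.mem_bot, h1.resolve_right fun h => h.elim d.twoE hqa,
        h2.resolve_right fun h => h.elim d.twoE hzq]
      simp
    obtain ⟨x, hx, hx0⟩ := Submodule.exists_mem_ne_zero_of_ne_bot
      (p := (polB Qe).orthogonal (Submodule.span E {a, z})) (fun e => by
        have := finrank_orth_pair d.nde a z
        rw [e, finrank_bot] at this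
        omega)
    obtain ⟨e, he, heq, -⟩ := exists_aniso_orth d.nde hinf hx hx0 d.twoE
    obtain ⟨hae, hze⟩ := mem_orth_pair.1 he
    obtain ⟨h, hM, hfix, κ, hκ, hsum⟩ := d.exists_rot hH hzq heq hze (Or.inl (by omega))
    have hha : h.1 a = a := hfix a haz hae
    have hhai : (h⁻¹).1 a = a := by conv_lhs => rw [← hha, orth_inv_apply_self]
    have hstab : ∀ n : orthGroup Qe, d.res n ∈ M → n.1 a = a → ∀ y ∈ L, n.1 y ∈ L := by
      intro n hn hna y hy
      have heq := hcon (d.res n) hn (by rw [d.res_apply, hna])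
      rw [← heq, d.gl_mul]
      exact ⟨y, hy, rfl⟩
    have hLh := hstab h hM hha
    have hLhi := hstab h⁻¹ (by rw [map_inv]; exact inv_mem hM) hhai
    have hsum' : ∀ y, polB Qe a y = 0 → h.1 y + (h⁻¹).1 y = κ • y := by
      intro y hy
      obtain ⟨i, j, m, rfl⟩ := frame_decomp d.twoE h3 hqa hzq heq haz hae hze y
      have hi : i = 0 := by
        simp only [map_add, map_smul, polB_self, haz, hae, smul_eq_mul, mul_zero, add_zero, mul_eq_zero] at hy
        exact hy.resolve_right fun h => h.elim d.twoE hqa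
      rw [hi, zero_smul, zero_add]
      exact hsum j m
    let S : Subalgebra F E :=
      { carrier := {s | ∀ y ∈ L, polB Qe a y = 0 → s • y ∈ L}
        mul_mem' := fun {p q} hp hq y hy hay => by
          rw [← smul_smul]; exact hp _ (hq y hy hay) (by rw [map_smul, hay, smul_zero])
        add_mem' := fun {p q} hp hq y hy hay => by rw [add_smul]; exact L.add_mem (hp y hy hay) (hq y hy hay)
        algebraMap_mem' := fun t y hy _ => by rw [algebraMap_smul]; exact L.smul_mem t hy }
    haveI := Subalgebra.isSimpleOrder_of_finrank_prime F E d.prime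
    have hS : S = ⊤ := by
      rcases IsSimpleOrder.eq_bot_or_eq_top S with h' | h'
      · exfalso
        apply hκ
        rw [← h']
        intro y hy hay
        rw [← hsum' y hay]
        exact L.add_mem (hLh y hy) (hLhi y hy)
      · exact h'
    have hκ2 : κ - 2 ≠ 0 := fun e' => hκ (by
      rw [sub_eq_zero.1 e', ← map_ofNat (algebraMap F E) 2]; exact Subalgebra.algebraMap_mem _ _)
    have hmem : (κ - 2) • l₀ ∈ L := by
      have e1 : h.1 l + (h⁻¹).1 l - l - l = (κ - 2) • l₀ := by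
        have hs := hsum' l₀ hal
        rw [hl₀, map_sub, map_sub, map_smul, map_smul, hha, hhai] at hs
        rw [sub_smul, two_smul, hl₀]
        linear_combination (norm := module) hs
      rw [← e1]
      exact L.sub_mem (L.sub_mem (L.add_mem (hLh l hlL) (hLhi l hlL)) hlL) hlL
    have hline : ∀ s : E, s • l₀ ∈ L := fun s => by
      have h1 := (show s / (κ - 2) ∈ S by rw [hS]; exact Algebra.mem_top) _ hmem
        (by rw [map_smul, hal, smul_zero])
      rwa [smul_smul, div_mul_cancel₀ _ hκ2] at h1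
    refine hsing l₀ (by simpa using hline 1) hl₀0 ?_
    refine functional_ext d.nz fun s => ?_
    let P : Submodule F E := LinearMap.ker (τ.comp (LinearMap.mulRight F (Qe l₀)))
    refine (d.span_squares (P := P) (fun t => ?_) s : s ∈ P)
    show τ (t * t * Qe l₀) = 0
    rw [← qmap_smul, ← d.rel]
    exact d.gl_singular hv (hline t)
  refine ⟨g⁻¹ * h * g, mul_mem (mul_mem (inv_mem hg) hM) hg, v, v, hv, hv, hv0, hv0, fun e => hne ?_, fun e => hv0 ?_⟩
  · have h1 : d.gl (g * (g⁻¹ * h * g)) v = d.gl g v := by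
      rw [d.gl_mul, e]; rfl
    rwa [← mul_assoc, ← mul_assoc, mul_inv_cancel, one_mul] at h1
  · refine (Submodule.mem_bot F).1 (e ▸ ⟨d.mem_gl.2 ⟨1, ?_⟩, d.self_mem_fline v⟩)
    rw [one_smul, orth_mul_apply, orth_mul_apply, hha, ha, orth_inv_apply_self]

/-- A meeting pair with a vector orthogonal to the line, outside it. -/
theorem exists_prop₃ (h3 : Module.finrank E V = 3) {g : orthGroup Q} (hg : g ∈ M) {v : V} (hv : Qe v = 0) {c : E}
    (hmove : g.1 (c • v) ∉ fline (E := E) F (g.1 v)) :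
    ∃ g' ∈ M, ∃ v u y : V, Qe v = 0 ∧ Qe u = 0 ∧ v ≠ 0 ∧ u ≠ 0 ∧
      d.gl g' v ⊓ fline (E := E) F u ≠ ⊥ ∧ y ∈ d.gl g' v ∧ polB Qe y u = 0 ∧ y ∉ fline (E := E) F u := by
  classical
  have hr := d.five_le h3
  let P : ℕ → Prop := fun n => 0 < n ∧ ∃ g ∈ M, ∃ v u : V, Qe v = 0 ∧ Qe u = 0 ∧ v ≠ 0 ∧ u ≠ 0 ∧
    d.gl g v ≠ fline (E := E) F u ∧ Module.finrank F ↥(d.gl g v ⊓ fline (E := E) F u) = n
  have hex : ∃ n, P n := by
    obtain ⟨g₁, hg₁, v₁, u₁, a1, a2, a3, a4, a5, a6⟩ := d.exists_meet₃ hH h3 hg hv hmove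
    exact ⟨_, Nat.pos_of_ne_zero fun e => a6 (Submodule.finrank_eq_zero.1 e), g₁, hg₁, v₁, u₁, a1, a2, a3, a4, a5, rfl⟩
  obtain ⟨hDpos, g, hgM, v, u, hv, hu, hv0, hu0, hne, hdim⟩ := Nat.find_spec hex
  set D := Nat.find hex with hD
  set L := d.gl g v with hL
  set U := fline (E := E) F u with hU
  by_cases hprop : ∃ y ∈ L, polB Qe y u = 0 ∧ y ∉ U
  · obtain ⟨y, hy, hyu, hyU⟩ := hprop
    exact ⟨g, hgM, v, u, y, hv, hu, hv0, hu0, fun e => by rw [e, finrank_bot] at hdim; omega, hy, hyu, hyU⟩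
  simp only [not_exists, not_and, not_not] at hprop
  obtain ⟨u', hp⟩ := exists_hypPair d.nde hu hu0
  obtain ⟨w, t₀, ht₀, hwq, huw, hu'w, hdec⟩ := d.exists_unit h3 hp
  have hLsing : ∀ x ∈ L, ∀ y ∈ L, polB Q x y = 0 := fun x hx y hy =>
    polB_eq_zero_of_singular (fun z hz => d.gl_singular hv hz) hx hy
  have hUw : ∀ x ∈ U, polB Qe x w = 0 := fun x hx => by
    obtain ⟨e, rfl⟩ := mem_fline.1 hx
    rw [map_smul, LinearMap.smul_apply, huw, smul_zero]
  -- the trace of the line on the image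
  let ζ : E →ₗ[F] V := (LinearMap.toSpanSingleton E V u).restrictScalars F
  set Z : Submodule F E := L.comap ζ with hZ
  have hζ : ∀ e : E, ζ e = e • u := fun e => rfl
  have hζinj : Function.Injective ζ := fun a b e => d.smul_inj hu0 e
  have hZmap : Z.map ζ = L ⊓ U := by
    ext x
    constructor
    · rintro ⟨e, he, rfl⟩; exact ⟨he, mem_fline.2 ⟨e, rfl⟩⟩
    · rintro ⟨hxL, hxU⟩
      obtain ⟨e, rfl⟩ := mem_fline.1 hxU
      exact ⟨e, hxL, rfl⟩
  have hZdim : Module.finrank F Z = D := by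
    rw [← hdim, ← hZmap]; exact (Submodule.equivMapOfInjective ζ hζinj Z).finrank_eq
  have hZI : ∀ z ∈ Z, ∀ x ∈ L, τ (z * polB Qe x u) = 0 := fun z hz x hx => by
    have h := hLsing _ hx _ (show z • u ∈ L from hz)
    rwa [d.polB_eq, map_smul, smul_eq_mul] at h
  obtain ⟨z, hz, hz0⟩ := Submodule.exists_mem_ne_zero_of_ne_bot (p := Z) (fun e => by
    rw [e, finrank_bot] at hZdim; omega)
  by_cases hD2 : 2 ≤ D
  · -- a smaller meeting
    exfalso
    obtain ⟨z₂, hz₂, hz₂'⟩ : ∃ z₂ ∈ Z, z₂ ∉ Submodule.span F ({z} : Set E) := by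
      by_contra hcon
      simp only [not_exists, not_and, not_not] at hcon
      have := Submodule.finrank_mono (show Z ≤ Submodule.span F ({z} : Set E) from hcon)
      rw [finrank_span_singleton hz0] at this
      omega
    have hz₂0 : z₂ ≠ 0 := fun e => hz₂' (by rw [e]; exact Submodule.zero_mem _)
    obtain ⟨t, a, ht, hta⟩ := d.exists_scalar_sq (by omega) (div_ne_zero hz₂0 hz0)
    have ha : a ≠ 0 := fun e => div_ne_zero hz₂0 hz0 (by rw [hta, e]; simp)
    set K := Z ⊓ Z.map (LinearMap.mulLeft F (a * a)) with hK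
    have hKpos : 0 < Module.finrank F K := by
      refine Nat.pos_of_ne_zero fun e => mul_ne_zero (mul_ne_zero ha ha) hz0 ?_
      refine (Submodule.mem_bot F).1 (Submodule.finrank_eq_zero.1 e ▸ ⟨?_, ⟨z, hz, rfl⟩⟩)
      have : a * a * z = t⁻¹ • z₂ := by
        rw [div_eq_iff hz0, smul_mul_assoc] at hta
        rw [hta, smul_smul, inv_mul_cancel₀ ht, one_smul]
      rw [this]
      exact Z.smul_mem _ hz₂
    have hKlt : Module.finrank F K < D := by
      rw [← hZdim]
      refine Submodule.finrank_lt_finrank_of_lt (lt_of_le_of_ne inf_le_left fun e => ?_)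
      have hle : Z ≤ Z.map (LinearMap.mulLeft F (a * a)) := (le_of_eq e.symm).trans inf_le_right
      have heq : Z = Z.map (LinearMap.mulLeft F (a * a)) := Submodule.eq_of_le_of_finrank_le hle
        (Submodule.finrank_map_le _ _)
      let S : Subalgebra F E :=
        { carrier := {s | ∀ e ∈ Z, s * e ∈ Z}
          mul_mem' := fun {p q} hp hq e he => by rw [mul_assoc]; exact hp _ (hq e he)
          add_mem' := fun {p q} hp hq e he => by rw [add_mul]; exact Z.add_mem (hp e he) (hq e he)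
          algebraMap_mem' := fun s e he => by rw [← Algebra.smul_def]; exact Z.smul_mem s he }
      haveI := Subalgebra.isSimpleOrder_of_finrank_prime F E d.prime
      have haS : a * a ∈ S := fun e he => heq.symm ▸ ⟨e, he, rfl⟩
      rcases IsSimpleOrder.eq_bot_or_eq_top S with h | h
      · rw [h, Algebra.mem_bot] at haS
        obtain ⟨s, hs⟩ := haS
        apply hz₂'
        rw [Submodule.mem_span_singleton]
        refine ⟨t * s, ?_⟩
        rw [div_eq_iff hz0] at hta
        rw [hta, ← hs, Algebra.smul_def, Algebra.smul_def, map_mul]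
      · refine hne (Submodule.eq_of_le_of_finrank_eq (fun x hx => ?_) (by rw [d.finrank_fline hu0, d.finrank_gl hv0])).symm
        obtain ⟨e, rfl⟩ := mem_fline.1 hx
        have := (show e / z ∈ S by rw [h]; exact Algebra.mem_top) z hz
        rwa [div_mul_cancel₀ _ hz0] at this
    -- a shear avoiding all extra intersections
    have hwne : (2 : E) * Qe w ≠ 0 := mul_ne_zero d.twoE (by rw [hwq]; exact smul_ne_zero ht₀ one_ne_zero)
    let φ : E → V := fun i => if h : ∃ x ∈ L, polB Qe x u = i then h.choose else 0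
    have hφ : ∀ x ∈ L, polB Qe x w = polB Qe (φ (polB Qe x u)) w := by
      intro x hx
      have h : ∃ y ∈ L, polB Qe y u = polB Qe x u := ⟨x, hx, rfl⟩
      simp only [φ, dif_pos h]
      obtain ⟨h1, h2⟩ := h.choose_spec
      have := hUw _ (hprop _ (L.sub_mem hx h1) (by rw [map_sub, LinearMap.sub_apply, h2, sub_self]))
      rw [map_sub, LinearMap.sub_apply, sub_eq_zero] at this
      exact this
    let β : E → E := fun i => (polB Qe (φ (i / (a * a))) w - polB Qe (φ i) w) / (i * (2 * Qe w))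
    set I := Finset.univ.filter fun i : E => τ (z * i) = 0 with hI
    obtain ⟨b, hb⟩ : ∃ b : E, b ∉ I.image β := by
      by_contra hcon
      simp only [not_exists, not_not] at hcon
      have h1 := Finset.card_le_card (s := Finset.univ) (t := I.image β) fun x _ => hcon x
      have h2 : I.card < Fintype.card E := by
        rw [← Finset.card_univ]
        obtain ⟨s, hs⟩ := d.exists_tau_ne hz0
        exact Finset.card_lt_card (Finset.ssubset_univ_iff.2 fun e => hs (by
          have := (Finset.mem_filter.1 (e.symm ▸ Finset.mem_univ s : s ∈ I)).2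
          rwa [mul_comm]))
      have := Finset.card_image_le (s := I) (f := β)
      rw [Finset.card_univ] at h1
      omega
    have hwb : polB Qe u (b • w) = 0 := by rw [map_smul, huw, smul_zero]
    set k := hscale Qe u u' a * hscale Qe u u' a * eichler Qe u (b • w) with hk
    have hkM : d.res k ∈ M := by
      rw [hk, map_mul]; exact mul_mem (hH _) (d.root_mem hH hu hwb)
    have hku : ∀ e : E, k.1 (e • u) = (a * a * e) • u := fun e => by
      rw [hk, orth_mul_apply, orth_mul_apply, d.eichler_line hu hwb, map_smul, hscale_left hp ha, smul_smul,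
        map_smul, hscale_left hp ha, smul_smul]
      congr 1; ring
    have hkw : (hscale Qe u u' a * hscale Qe u u' a).1 w = w := by
      have e1 := hscale_fix hp ha (by rw [polB_comm]; exact huw) (by rw [polB_comm]; exact hu'w)
      rw [orth_mul_apply, e1, e1]
    have hkxw : ∀ x, polB Qe (k.1 x) w = polB Qe x w + b * polB Qe x u * (2 * Qe w) := by
      intro x
      conv_lhs => arg 2; rw [← hkw]
      rw [hk, orth_mul_apply (hscale Qe u u' a * hscale Qe u u' a), orth_polB_map, eichler_apply hu hwb]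
      simp only [map_add, map_sub, map_smul, LinearMap.add_apply, LinearMap.sub_apply, LinearMap.smul_apply,
        huw, polB_self, smul_eq_mul]
      ring
    have hkxu : ∀ x, polB Qe (k.1 x) u = polB Qe x u / (a * a) := by
      intro x
      rw [eq_div_iff (mul_ne_zero ha ha)]
      have := orth_polB_map k x ((1 : E) • u)
      rw [hku, map_smul, map_smul, smul_eq_mul, smul_eq_mul, one_mul, mul_one] at this
      rw [mul_comm]; exact this
    have hgood : ∀ x ∈ L, k.1 x ∈ L → x ∈ U := by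
      intro x hx hkx
      by_contra hxU
      have hi0 : polB Qe x u ≠ 0 := fun e => hxU (hprop x hx e)
      apply hb
      refine Finset.mem_image.2 ⟨polB Qe x u, Finset.mem_filter.2 ⟨Finset.mem_univ _, hZI z hz x hx⟩, ?_⟩
      have h1 := hφ _ hkx
      rw [hkxu, hkxw] at h1
      simp only [β]
      rw [← h1, ← hφ x hx, div_eq_iff (mul_ne_zero hi0 hwne)]
      ring
    set g' := d.res k * g with hg'
    have hinter : L ⊓ d.gl g' v = K.map ζ := by
      ext y
      constructor
      · rintro ⟨hyL, hy'⟩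
        rw [hg', d.gl_mul] at hy'
        obtain ⟨x, hx, rfl⟩ := hy'
        change k.1 x ∈ L at hyL
        change k.1 x ∈ _
        obtain ⟨e, rfl⟩ := mem_fline.1 (hgood x hx hyL)
        rw [hku] at hyL ⊢
        exact ⟨a * a * e, ⟨hyL, e, hx, rfl⟩, rfl⟩
      · rintro ⟨e, ⟨he, e', he', rfl⟩, rfl⟩
        refine ⟨he, ?_⟩
        rw [hg', d.gl_mul]
        exact ⟨e' • u, he', hku e'⟩
    have hKdim : Module.finrank F ↥(d.gl g' v ⊓ d.gl g v) = Module.finrank F K := by
      rw [inf_comm, hinter]; exact (Submodule.equivMapOfInjective ζ hζinj K).finrank_eq.symm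
    have hne' : d.gl g' v ≠ d.gl g v := fun e => by
      rw [e, inf_idem, d.finrank_gl hv0] at hKdim
      have := (d.finrank_gl (g := g) hv0) ▸ Submodule.finrank_mono (inf_le_left : L ⊓ U ≤ L)
      omega
    obtain ⟨h1, h2, h3'⟩ := d.pull (mul_mem hkM hgM) hgM hne'
    exact Nat.find_min hex hKlt ⟨hKpos, _, h1, v, v, hv, hv, hv0, hv0, h2, h3'.trans hKdim⟩
  -- a one-dimensional meeting
  have hD1 : D = 1 := by omega
  let φ : L →ₗ[F] E := (((polB Qe).flip u).restrictScalars F).domRestrict L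
  let μ : L →ₗ[F] E := ((((2 * t₀)⁻¹ : F) • ((polB Qe).flip w).restrictScalars F)).domRestrict L
  have hφ : ∀ x : L, φ x = polB Qe (x : V) u := fun x => rfl
  have hμ : ∀ x : L, μ x = (2 * t₀)⁻¹ • polB Qe (x : V) w := fun x => rfl
  have hker : LinearMap.ker φ ≤ LinearMap.ker μ := fun x hx => by
    show μ x = 0
    rw [hμ, hUw _ (hprop _ x.2 hx), smul_zero]
  obtain ⟨f, hf⟩ : ∃ f : E →ₗ[F] E, ∀ x : L, f (φ x) = μ x := by
    obtain ⟨f, hf⟩ := LinearMap.exists_extend
      (((LinearMap.ker φ).liftQ μ hker).comp φ.quotKerEquivRange.symm.toLinearMap)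
    refine ⟨f, fun x => ?_⟩
    have h1 := LinearMap.congr_fun hf ⟨φ x, LinearMap.mem_range_self φ x⟩
    simp only [LinearMap.comp_apply, Submodule.subtype_apply, LinearEquiv.coe_coe,
      LinearMap.quotKerEquivRange_symm_apply_image] at h1
    exact h1
  have hrange : ∀ j, τ (z * j) = 0 → ∃ x : L, φ x = j := by
    have hle : LinearMap.range φ ≤ LinearMap.ker (τ.comp (LinearMap.mulLeft F z)) := by
      rintro _ ⟨x, rfl⟩; exact hZI z hz x x.2
    have hk : Module.finrank F (LinearMap.ker φ) ≤ D := by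
      rw [← hdim]
      refine LinearMap.finrank_le_finrank_of_injective
        (f := LinearMap.codRestrict (L ⊓ U) (L.subtype.comp (LinearMap.ker φ).subtype)
          fun x => ⟨x.1.2, hprop _ x.1.2 x.2⟩) ?_
      intro a b e
      exact Subtype.ext (Subtype.ext (congrArg (fun y : ↥(L ⊓ U) => (y : V)) e))
    have h1 := LinearMap.finrank_range_add_finrank_ker φ
    have h5 := LinearMap.finrank_range_add_finrank_ker (τ.comp (LinearMap.mulLeft F z))
    have hsurj : Function.Surjective (τ.comp (LinearMap.mulLeft F z)) := by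
      refine LinearMap.surjective fun h => hz0 (functional_ext d.nz fun c => ?_)
      rw [mul_comm]; exact LinearMap.congr_fun h c
    rw [LinearMap.range_eq_top.2 hsurj, finrank_top, Module.finrank_self] at h5
    rw [show Module.finrank F L = Module.finrank F E from d.finrank_gl hv0] at h1
    have heq := Submodule.eq_of_le_of_finrank_le hle (by omega)
    intro j hj
    exact LinearMap.mem_range.1 (show j ∈ LinearMap.range φ by rw [heq]; exact hj)
  obtain ⟨x, κ, hx, hy, hperp⟩ := exists_degenerate d.nz d.two d.card_three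
    (d.prime.odd_of_ne_two (by omega)) d.prime.one_lt hz0 f
  set yv := f x - κ * x with hyv
  have hx0 : x ≠ 0 := fun e => hy (by rw [hyv, e, map_zero, mul_zero, sub_zero])
  obtain ⟨l, hl⟩ := hrange x hx
  obtain ⟨s, hs⟩ : ∃ s : E, s * x = -2 * yv := ⟨-2 * yv / x, div_mul_cancel₀ _ hx0⟩
  have hws : polB Qe u (s • w) = 0 := by rw [map_smul, huw, smul_zero]
  set T := d.res (eichler Qe u (s • w)) with hT
  have hTM : T ∈ M := d.root_mem hH hu hws
  have h2t : (2 * t₀ : F) ≠ 0 := mul_ne_zero d.two ht₀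
  have hwcoord : ∀ y : L, polB Qe (y : V) w = (2 * t₀) • f (φ y) := fun y => by
    rw [hf, hμ, smul_inv_smul₀ h2t]
  have hdiff : T.1 (l : V) - l = (x * s) • w - (polB Qe (l : V) (s • w) + Qe (s • w) * x) • u := by
    rw [hT, d.res_apply, eichler_apply hu hws, ← hφ, hl]
    module
  have hpair : ∀ y : L, polB Qe (T.1 (l : V) - l) y = (-4 * t₀) • (yv * (f (φ y) - κ * φ y)) := by
    intro y
    rw [hdiff, map_sub, LinearMap.sub_apply, map_smul, LinearMap.smul_apply, map_smul, LinearMap.smul_apply,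
      polB_comm w (y : V), polB_comm u (y : V), ← hφ, hwcoord, map_smul, hwcoord, hl, qmap_smul, hwq]
    simp only [smul_eq_mul, Algebra.smul_def, map_mul, map_neg, map_ofNat, mul_one]
    linear_combination (algebraMap F E t₀) *
      (2 * f (φ y) - φ y * (s + 2 * κ)) * hs +
      (algebraMap F E t₀) * (-2 * φ y * s) * hyv.symm
  have hyT : T.1 (l : V) ∈ d.gl (T * g) v := by rw [d.gl_mul]; exact ⟨_, l.2, rfl⟩
  have hnot : T.1 (l : V) ∉ L := by
    intro h
    have h0 := L.sub_mem h l.2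
    have hu1 : polB Qe (T.1 (l : V) - l) u = 0 := by
      rw [hdiff, map_sub, LinearMap.sub_apply, map_smul, LinearMap.smul_apply, map_smul, LinearMap.smul_apply,
        polB_comm w u, huw, polB_self, hu]
      simp
    have h1 := hUw _ (hprop _ h0 hu1)
    rw [hdiff, map_sub, LinearMap.sub_apply, map_smul, LinearMap.smul_apply, map_smul, LinearMap.smul_apply,
      polB_self, huw, smul_zero, sub_zero, smul_eq_mul, mul_comm x, hs, hwq] at h1
    exact mul_ne_zero (mul_ne_zero (neg_ne_zero.2 d.twoE) hy)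
      (mul_ne_zero d.twoE (smul_ne_zero ht₀ one_ne_zero)) h1
  obtain ⟨g'', hg'', y', hne'', hdim'', hy', hy'u, hy'U⟩ := d.pull_prop (mul_mem hTM hgM) hgM hyT hnot fun p hp' => by
    have e1 : T.1 (l : V) = (T.1 (l : V) - l) + l := by abel
    have h4 : τ (yv * (f (φ ⟨p, hp'⟩) - κ * φ ⟨p, hp'⟩)) = 0 := hperp _ (hZI z hz p hp')
    rw [e1, map_add, hLsing p hp' _ l.2, add_zero, polB_comm, d.polB_eq, hpair ⟨p, hp'⟩, map_smul, h4, smul_zero]
  refine ⟨g'', hg'', v, v, y', hv, hv, hv0, hv0, fun e => ?_, hy', hy'u, hy'U⟩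
  rw [e, finrank_bot] at hdim''
  have hmem : z • u ∈ d.gl (T * g) v ⊓ d.gl g v := by
    refine ⟨?_, hz⟩
    rw [d.gl_mul]
    exact ⟨z • u, hz, d.eichler_line hu hws z⟩
  rw [Submodule.finrank_eq_zero.1 hdim''.symm, Submodule.mem_bot, smul_eq_zero] at hmem
  exact hmem.elim hz0 hu0

end OExt

end H49
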