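import Cfsg.Agent.H49.OrthUnitaryOver
import Cfsg.Agent.H44.Omega

/-!
Extension fields of odd characteristic inside the orthogonal group: basic facts and the start of the
overgroup argument (a line of the extension and a moved line meeting in a hyperplane).
-/

set_option autoImplicit false
set_option linter.unusedSectionVars false

namespace H49

open H43

variable {F : Type*} [Field F] [Fintype F] {E : Type*} [Field E] [Fintype E] [Algebra F E]
  {V : Type*} [AddCommGroup V] [Module F V] [Module E V] [IsScalarTower F E V]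
  [FiniteDimensional F V] [FiniteDimensional E V]

/-- A quadratic form over an extension field of prime degree and its trace form. -/
structure OExt (Q : QuadraticForm F V) (Qe : QuadraticForm E V) (τ : E →ₗ[F] F) : Prop where
  rel : ∀ x, Q x = τ (Qe x)
  nde : (polB Qe).Nondegenerate
  nz : τ ≠ 0
  prime : (Module.finrank F E).Prime
  two : (2 : F) ≠ 0
  big : 3 ≤ Module.finrank E V
  big' : 8 ≤ Module.finrank F V
  big3 : Module.finrank E V = 3 → 10 ≤ Module.finrank F V

theorem functional_ext {τ : E →ₗ[F] F} (hτ : τ ≠ 0) {a : E} (h : ∀ c, τ (c * a) = 0) : a = 0 := by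
  by_contra hne
  apply hτ
  refine LinearMap.ext fun e => ?_
  rw [LinearMap.zero_apply, ← h (e / a), div_mul_cancel₀ _ hne]

/-- The line over the extension, over the ground field. -/
def fline (F : Type*) {E : Type*} [Field F] [Field E] [Algebra F E] {V : Type*} [AddCommGroup V]
    [Module F V] [Module E V] [IsScalarTower F E V] (v : V) : Submodule F V :=
  (Submodule.span E ({v} : Set V)).restrictScalars F

theorem mem_fline {v x : V} : x ∈ fline (E := E) F v ↔ ∃ c : E, c • v = x := by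
  simp [fline, Submodule.mem_span_singleton]

theorem finrank_restrict (W : Submodule E V) :
    Module.finrank F (W.restrictScalars F) = Module.finrank F E * Module.finrank E W := by
  rw [Module.finrank_mul_finrank F E W]
  rfl

/-- A vector outside the radical with non-zero value exists in a non-degenerate orthogonal. -/
theorem exists_aniso_orth {K : Type*} [Field K] {U : Type*} [AddCommGroup U] [Module K U]
    [FiniteDimensional K U] {q : QuadraticForm K U} (hq : (polB q).Nondegenerate) {W : Submodule K U}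
    (hW : W ⊓ (polB q).orthogonal W = ⊥) {x : U} (hx : x ∈ (polB q).orthogonal W) (hx0 : x ≠ 0)
    (h2 : (2 : K) ≠ 0) : ∃ z ∈ (polB q).orthogonal W, q z ≠ 0 ∧ polB q x z ≠ 0 := by
  obtain ⟨y, hy, hxy⟩ : ∃ y ∈ (polB q).orthogonal W, polB q x y ≠ 0 := by
    by_contra hcon
    simp only [not_exists, not_and, not_not] at hcon
    refine hx0 ((Submodule.mem_bot K).1 (hW.le ⟨?_, hx⟩))
    rw [← LinearMap.BilinForm.orthogonal_orthogonal hq (polB_isRefl q) W]
    intro y hy
    change polB q y x = 0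
    rw [polB_comm]
    exact hcon y hy
  by_cases hqy : q y = 0
  swap
  · exact ⟨y, hy, hqy, hxy⟩
  have hxx : polB q x x = 2 * q x := polB_self x
  by_cases h0 : q x = 0
  · refine ⟨y + x, add_mem hy hx, ?_, ?_⟩
    · rw [qmap_add, hqy, h0, polB_comm y x, zero_add, zero_add]; exact hxy
    · rw [map_add, hxx, h0, mul_zero, add_zero]; exact hxy
  · exact ⟨x, hx, h0, by rw [hxx]; exact mul_ne_zero h2 h0⟩

/-- Singular vectors span a non-degenerate orthogonal of dimension at least three. -/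
theorem span_singular_nondeg {K : Type*} [Field K] [Finite K] {U : Type*} [AddCommGroup U] [Module K U]
    [FiniteDimensional K U] {q : QuadraticForm K U} (hq : (polB q).Nondegenerate) {W : Submodule K U}
    (hW : W ⊓ (polB q).orthogonal W = ⊥) (hd : Module.finrank K W + 3 ≤ Module.finrank K U) {x : U}
    (hx : x ∈ (polB q).orthogonal W) :
    x ∈ Submodule.span K {z : U | z ∈ (polB q).orthogonal W ∧ q z = 0} := by
  obtain ⟨z, hz, hz0, hzq⟩ := exists_singular_in (Q := q) ((polB q).orthogonal W) (by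
    have := finrank_orth_add hq W
    omega)
  obtain ⟨y, hy, hzy⟩ : ∃ y ∈ (polB q).orthogonal W, polB q z y ≠ 0 := by
    by_contra hcon
    simp only [not_exists, not_and, not_not] at hcon
    refine hz0 ((Submodule.mem_bot K).1 (hW.le ⟨?_, hz⟩))
    rw [← LinearMap.BilinForm.orthogonal_orthogonal hq (polB_isRefl q) W]
    intro y hy
    change polB q y z = 0
    rw [polB_comm]
    exact hcon y hy
  exact mem_span_singular hz hzq hy hzy hx

/-- The span of an anisotropic vector is non-degenerate. -/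
theorem singleton_inf_orth {K : Type*} [Field K] {U : Type*} [AddCommGroup U] [Module K U]
    {q : QuadraticForm K U} {a : U} (ha : q a ≠ 0) (h2 : (2 : K) ≠ 0) :
    (K ∙ a) ⊓ (polB q).orthogonal (K ∙ a) = ⊥ := by
  rw [eq_bot_iff]
  rintro x ⟨hx, hx'⟩
  obtain ⟨t, rfl⟩ := Submodule.mem_span_singleton.1 hx
  have h : polB q a (t • a) = 0 := hx' a (Submodule.mem_span_singleton_self a)
  rw [map_smul, polB_self, smul_eq_mul, mul_eq_zero] at h
  rw [Submodule.mem_bot, h.resolve_right (mul_ne_zero h2 ha), zero_smul]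

namespace OExt

variable {Q : QuadraticForm F V} {Qe : QuadraticForm E V} {τ : E →ₗ[F] F} (d : OExt Q Qe τ)
include d

theorem polB_eq (x y : V) : polB Q x y = τ (polB Qe x y) := by
  simp [polB_apply, QuadraticMap.polar, d.rel]

theorem twoE : (2 : E) ≠ 0 := by
  rw [← map_ofNat (algebraMap F E) 2]
  exact (map_ne_zero _).2 d.two

theorem be_smul_left (t : F) (x y : V) : polB Qe (t • x) y = t • polB Qe x y := by
  rw [← algebraMap_smul E t x, map_smul, LinearMap.smul_apply, smul_eq_mul, ← Algebra.smul_def]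

theorem be_smul_right (t : F) (x y : V) : polB Qe x (t • y) = t • polB Qe x y := by
  rw [polB_comm, d.be_smul_left, polB_comm]

theorem qe_smul (t : F) (x : V) : Qe (t • x) = (t * t) • Qe x := by
  rw [← algebraMap_smul E t x, qmap_smul, ← map_mul, ← Algebra.smul_def]

theorem nd : (polB Q).Nondegenerate := by
  have key : ∀ x : V, (∀ y, polB Q x y = 0) → x = 0 := fun x h => by
    refine eq_zero_of_polB_eq_zero d.nde fun y => functional_ext d.nz fun c => ?_
    have := h (c • y)
    rwa [d.polB_eq, map_smul, smul_eq_mul] at this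
  exact ⟨key, fun x hx => key x fun y => by rw [polB_comm]; exact hx y⟩

theorem mem_orth_restrict (W : Submodule E V) (x : V) :
    x ∈ (polB Q).orthogonal (W.restrictScalars F) ↔ x ∈ (polB Qe).orthogonal W := by
  constructor
  · intro h y hy
    change polB Qe y x = 0
    refine functional_ext d.nz fun c => ?_
    have h' : polB Q (c • y) x = 0 := h _ (W.smul_mem c hy)
    rwa [d.polB_eq, map_smul, LinearMap.smul_apply, smul_eq_mul] at h'
  · intro h y hy
    change polB Q y x = 0
    rw [d.polB_eq, show polB Qe y x = 0 from h y hy, map_zero]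

theorem mem_orth_line {u x : V} : x ∈ (polB Q).orthogonal (fline (E := E) F u) ↔ polB Qe u x = 0 := by
  rw [fline, d.mem_orth_restrict, mem_orth_singleton]

theorem self_mem_fline (v : V) : v ∈ fline (E := E) F v := mem_fline.2 ⟨1, one_smul _ _⟩

theorem finrank_fline {v : V} (hv : v ≠ 0) : Module.finrank F (fline (E := E) F v) = Module.finrank F E := by
  rw [fline, finrank_restrict, finrank_span_singleton hv, mul_one]

theorem finrank_eq : Module.finrank F V = Module.finrank F E * Module.finrank E V :=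
  (Module.finrank_mul_finrank F E V).symm

theorem q_zero {x : V} (h : Qe x = 0) : Q x = 0 := by rw [d.rel, h, map_zero]

theorem qe_fline {v : V} (hv : Qe v = 0) {x : V} (hx : x ∈ fline (E := E) F v) : Qe x = 0 := by
  obtain ⟨c, rfl⟩ := mem_fline.1 hx
  rw [qmap_smul, hv, mul_zero]

/-- Isometries over the extension, over the ground field. -/
def res : orthGroup Qe →* orthGroup Q :=
  MonoidHom.mk' (fun h => ⟨h.1.restrictScalars F, fun x => by
    rw [d.rel, d.rel, LinearEquiv.restrictScalars_apply, orth_qmap]⟩) fun _ _ => orth_ext fun _ => rfl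

theorem res_apply (h : orthGroup Qe) (x : V) : (d.res h).1 x = h.1 x := rfl

theorem eichler_sq {u w : V} (hu : Qe u = 0) (huw : polB Qe u w = 0) :
    eichler Qe u ((2 : E)⁻¹ • w) * eichler Qe u ((2 : E)⁻¹ • w) = eichler Qe u w := by
  have h0 : polB Qe u ((2 : E)⁻¹ • w) = 0 := by rw [map_smul, huw, smul_zero]
  rw [eichler_mul hu h0 h0, ← two_smul E, smul_inv_smul₀ d.twoE]

/-- The image of a line. -/
def gl (_d : OExt Q Qe τ) (g : orthGroup Q) (v : V) : Submodule F V :=
  (fline (E := E) F v).map g.1.toLinearMap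

theorem mem_gl {g : orthGroup Q} {v x : V} : x ∈ d.gl g v ↔ ∃ c : E, g.1 (c • v) = x := by
  simp only [gl, Submodule.mem_map, mem_fline]
  constructor
  · rintro ⟨y, ⟨c, rfl⟩, rfl⟩
    exact ⟨c, rfl⟩
  · rintro ⟨c, rfl⟩
    exact ⟨_, ⟨c, rfl⟩, rfl⟩

theorem finrank_gl {g : orthGroup Q} {v : V} (hv : v ≠ 0) :
    Module.finrank F (d.gl g v) = Module.finrank F E := by
  rw [gl, LinearEquiv.finrank_map_eq, d.finrank_fline hv]

theorem gl_singular {g : orthGroup Q} {v x : V} (hv : Qe v = 0) (hx : x ∈ d.gl g v) : Q x = 0 := by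
  obtain ⟨c, rfl⟩ := d.mem_gl.1 hx
  rw [orth_qmap]
  exact d.q_zero (by rw [qmap_smul, hv, mul_zero])

theorem gl_mul (g h : orthGroup Q) (v : V) : d.gl (g * h) v = (d.gl h v).map g.1.toLinearMap := by
  rw [gl, gl, ← Submodule.map_comp]
  rfl

theorem gl_one (v : V) : d.gl 1 v = fline (E := E) F v := by
  rw [gl]
  exact Submodule.map_id _

/-- Common zeros of the translated form on a large subspace. -/
theorem exists_zero {N : Submodule F V} (hN : 2 * Module.finrank F E < Module.finrank F N) (y : V) :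
    ∃ x ∈ N, x ≠ 0 ∧ Qe x + polB Qe x y = 0 := by
  classical
  let bN := Module.finBasis F N
  let bE := Module.finBasis F E
  let f : Fin (Module.finrank F E) → MvPolynomial (Fin (Module.finrank F N)) F := fun i =>
    (∑ j, ∑ k, MvPolynomial.C (bE.repr ((2 : E)⁻¹ * polB Qe (bN j : V) (bN k : V)) i) *
      (MvPolynomial.X j * MvPolynomial.X k)) +
    ∑ j, MvPolynomial.C (bE.repr (polB Qe (bN j : V) y) i) * MvPolynomial.X j
  have hdeg : ∀ i, (f i).totalDegree ≤ 2 := fun i => by
    refine (MvPolynomial.totalDegree_add _ _).trans (max_le ?_ ?_)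
    · refine MvPolynomial.totalDegree_finsetSum_le fun j _ => MvPolynomial.totalDegree_finsetSum_le fun k _ => ?_
      refine (MvPolynomial.totalDegree_mul _ _).trans ?_
      rw [MvPolynomial.totalDegree_C]
      refine (Nat.zero_add _).trans_le ((MvPolynomial.totalDegree_mul _ _).trans ?_)
      rw [MvPolynomial.totalDegree_X, MvPolynomial.totalDegree_X]
    · refine MvPolynomial.totalDegree_finsetSum_le fun j _ => (MvPolynomial.totalDegree_mul _ _).trans ?_
      rw [MvPolynomial.totalDegree_C, MvPolynomial.totalDegree_X]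
      omega
  have heval : ∀ (x : Fin (Module.finrank F N) → F) i, MvPolynomial.eval x (f i) =
      bE.repr (Qe ((bN.equivFun.symm x : N) : V) + polB Qe ((bN.equivFun.symm x : N) : V) y) i := by
    intro x i
    have hsum : ((bN.equivFun.symm x : N) : V) = ∑ j, x j • (bN j : V) := by
      simp [Module.Basis.equivFun_symm_apply]
    have hQ : ∀ z, Qe z = (2 : E)⁻¹ * polB Qe z z := fun z => by
      rw [polB_self, inv_mul_cancel_left₀ d.twoE]
    rw [hQ, hsum]
    simp only [map_sum, LinearMap.sum_apply, d.be_smul_left, d.be_smul_right, Finset.mul_sum, mul_smul_comm,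
      map_add, map_smul, Finsupp.coe_add, Pi.add_apply, Finsupp.coe_finsetSum, Finset.sum_apply, Finsupp.coe_smul,
      Pi.smul_apply, smul_eq_mul, f, map_mul, MvPolynomial.eval_C, MvPolynomial.eval_X]
    congr 1
    · rw [Finset.sum_comm]
      exact Finset.sum_congr rfl fun j _ => Finset.sum_congr rfl fun k _ => by
        ring
    · exact Finset.sum_congr rfl fun j _ => mul_comm _ _
  haveI := Fact.mk (CharP.char_is_prime F (ringChar F))
  have hlt : ∑ i, (f i).totalDegree < Fintype.card (Fin (Module.finrank F N)) := by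
    refine lt_of_le_of_lt (Finset.sum_le_sum fun i _ => hdeg i) ?_
    simp only [Finset.sum_const, Finset.card_univ, Fintype.card_fin, smul_eq_mul]
    omega
  have hdvd := char_dvd_card_solutions_of_fintype_sum_lt (ringChar F) hlt
  have h0 : ∀ i, MvPolynomial.eval (0 : Fin (Module.finrank F N) → F) (f i) = 0 := fun i => by
    rw [heval]; simp
  have h1 : 1 < Fintype.card {x : Fin (Module.finrank F N) → F // ∀ i, MvPolynomial.eval x (f i) = 0} :=
    lt_of_lt_of_le (Fact.out (p := (ringChar F).Prime)).one_lt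
      (Nat.le_of_dvd (Fintype.card_pos_iff.2 ⟨⟨0, h0⟩⟩) (by convert hdvd))
  obtain ⟨x, hx⟩ := Fintype.exists_ne_of_one_lt_card h1 ⟨0, h0⟩
  refine ⟨bN.equivFun.symm x.1, SetLike.coe_mem _, fun e => hx (Subtype.ext ?_), ?_⟩
  · exact bN.equivFun.symm.injective (by rw [map_zero]; exact Subtype.ext e)
  · refine bE.repr.map_eq_zero_iff.1 (Finsupp.ext fun i => ?_)
    rw [← heval, x.2 i]
    rfl

variable {M : Subgroup (orthGroup Q)} (hH : ∀ h : orthGroup Qe, d.res (h * h) ∈ M)
include hH

theorem root_mem {u w : V} (hu : Qe u = 0) (huw : polB Qe u w = 0) : d.res (eichler Qe u w) ∈ M := by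
  rw [← d.eichler_sq hu huw]
  exact hH _

/-- Some moved line meets a line without being one. -/
theorem exists_meet (h4 : 4 ≤ Module.finrank E V) {g : orthGroup Q} (hg : g ∈ M) {v : V} (hv : Qe v = 0) {c : E}
    (hmove : g.1 (c • v) ∉ fline (E := E) F (g.1 v)) :
    ∃ g' ∈ M, ∃ v u : V, Qe v = 0 ∧ Qe u = 0 ∧ v ≠ 0 ∧ u ≠ 0 ∧ d.gl g' v ≠ fline (E := E) F u ∧
      d.gl g' v ⊓ fline (E := E) F u ≠ ⊥ := by
  have hv0 : v ≠ 0 := fun e => hmove (by simp [e])
  set a := g.1 v with ha
  have ha0 : a ≠ 0 := fun e => hv0 (g.1.map_eq_zero_iff.1 e)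
  have haL : a ∈ d.gl g v := d.mem_gl.2 ⟨1, by rw [one_smul]⟩
  by_cases hqa : Qe a = 0
  · refine ⟨g, hg, v, a, hv, hqa, hv0, ha0, fun e => hmove (e ▸ d.mem_gl.2 ⟨c, rfl⟩), fun e => ha0 ?_⟩
    exact (Submodule.mem_bot F).1 (e ▸ ⟨haL, d.self_mem_fline a⟩)
  -- some element fixing a moves the line
  obtain ⟨h, hM, hha, hne⟩ : ∃ h ∈ M, h.1 a = a ∧ d.gl (h * g) v ≠ d.gl g v := by
    by_contra hcon
    simp only [not_exists, not_and, not_not] at hcon
    set l := g.1 (c • v) with hl
    have hlL : l ∈ d.gl g v := d.mem_gl.2 ⟨c, rfl⟩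
    have hla : l ∉ Submodule.span E ({a} : Set V) := hmove
    obtain ⟨q, hq, hlq⟩ := exists_orth_polB_eq d.nde hla 1
    obtain ⟨u, hu, hu0, hlu⟩ : ∃ u ∈ (polB Qe).orthogonal (E ∙ a), Qe u = 0 ∧ polB Qe l u ≠ 0 := by
      by_contra hcon'
      simp only [not_exists, not_and, not_not] at hcon'
      have h1 : q ∈ LinearMap.ker (polB Qe l) := Submodule.span_le.2 (fun z hz => hcon' z hz.1 hz.2)
        (span_singular_nondeg d.nde (singleton_inf_orth hqa d.twoE)
          (by rw [finrank_span_singleton ha0]; exact h4) (hq : q ∈ (polB Qe).orthogonal (E ∙ a)))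
      rw [LinearMap.mem_ker, hlq] at h1
      exact one_ne_zero h1
    have hau : polB Qe a u = 0 := mem_orth_singleton.1 hu
    set W := (polB Qe).orthogonal (Submodule.span E {u, a}) with hW
    have hWle : W.restrictScalars F ≤ d.gl g v ⊔ fline (E := E) F u := by
      intro x hx
      set w := (polB Qe l u)⁻¹ • x with hw
      obtain ⟨h1, h2⟩ := mem_orth_pair.1 (W.smul_mem (polB Qe l u)⁻¹ hx : w ∈ W)
      have hfix : (d.res (eichler Qe u w)).1 a = a := by
        rw [d.res_apply, eichler_fix hu0 h1 (by rw [hau]) (by rw [h2])]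
      have heq := hcon _ (d.root_mem hH hu0 h1) hfix
      have hmem : (d.res (eichler Qe u w)).1 l ∈ d.gl g v := by
        rw [← heq, d.gl_mul]; exact ⟨l, hlL, rfl⟩
      rw [d.res_apply, eichler_apply hu0 h1, smul_smul, mul_inv_cancel₀ hlu, one_smul, add_sub_assoc,
        add_sub_assoc, (d.gl g v).add_mem_iff_right hlL, sub_sub, ← add_smul] at hmem
      refine Submodule.mem_sup.2 ⟨_, hmem, _, mem_fline.2 ⟨_, rfl⟩, sub_add_cancel _ _⟩
    have haW : a ∉ W.restrictScalars F := fun h => by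
      have := (mem_orth_pair.1 h).2
      rw [polB_self] at this
      exact mul_ne_zero d.twoE hqa this
    have h1 := Submodule.finrank_lt_finrank_of_lt (lt_of_le_of_ne hWle fun e => haW (e ▸ Submodule.mem_sup_left haL))
    have h2 := Submodule.finrank_add_le_finrank_add_finrank (d.gl g v) (fline (E := E) F u)
    rw [finrank_restrict, hW] at h1
    rw [d.finrank_gl hv0, d.finrank_fline (fun e => hlu (by simp [e]))] at h2
    have h3 := finrank_orth_pair d.nde u a
    have h5 := d.prime.two_le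
    have h6 : Module.finrank F E * 2 ≤
        Module.finrank F E * Module.finrank E ((polB Qe).orthogonal (Submodule.span E {u, a})) :=
      Nat.mul_le_mul_left _ (by omega)
    omega
  refine ⟨g⁻¹ * h * g, mul_mem (mul_mem (inv_mem hg) hM) hg, v, v, hv, hv, hv0, hv0, fun e => hne ?_, fun e => hv0 ?_⟩
  · have h1 : d.gl (g * (g⁻¹ * h * g)) v = d.gl g v := by
      rw [d.gl_mul, e]; rfl
    rwa [← mul_assoc, ← mul_assoc, mul_inv_cancel, one_mul] at h1
  · refine (Submodule.mem_bot F).1 (e ▸ ⟨d.mem_gl.2 ⟨1, ?_⟩, d.self_mem_fline v⟩)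
    rw [one_smul, orth_mul_apply, orth_mul_apply, hha, ha, orth_inv_apply_self]

/-- A maximal pair with a vector orthogonal to the line, outside it: the moved line meets it in a hyperplane. -/
theorem adjacent_of_max {D : ℕ} (hDpos : 0 < D)
    (hpair : ∀ g₁ ∈ M, ∀ g₂ ∈ M, ∀ v : V, Qe v = 0 → v ≠ 0 → d.gl g₁ v ≠ d.gl g₂ v →
      Module.finrank F ↥(d.gl g₁ v ⊓ d.gl g₂ v) ≤ D)
    {g : orthGroup Q} (hgM : g ∈ M) {v u y₀ : V} (hv : Qe v = 0) (hu : Qe u = 0) (hv0 : v ≠ 0) (hu0 : u ≠ 0)
    (hne : d.gl g v ≠ fline (E := E) F u)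
    (hdim : Module.finrank F ↥(d.gl g v ⊓ fline (E := E) F u) = D)
    (hy₀ : y₀ ∈ d.gl g v) (hy₀u : polB Qe y₀ u = 0) (hy₀U : y₀ ∉ fline (E := E) F u)
    (hperp : (∀ w, polB Qe u w = 0 → ∀ z : E, z • u ∈ d.gl g v → polB Qe y₀ w = z →
      ∀ l ∈ d.gl g v, eichlerLin Qe u w l ∈ d.gl g v) → ∀ l ∈ d.gl g v, polB Qe l u = 0) :
    ∃ g' ∈ M, ∃ v u y : V, Qe v = 0 ∧ Qe u = 0 ∧ v ≠ 0 ∧ u ≠ 0 ∧ y ∈ d.gl g' v ∧ polB Qe y u = 0 ∧
      y ∉ fline (E := E) F u ∧ (∀ l ∈ d.gl g' v, ∃ t : F, l - t • y ∈ fline (E := E) F u) := by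
  classical
  set L := d.gl g v with hL
  set U := fline (E := E) F u with hU
  -- roots stabilising L
  have hstab : ∀ w, polB Qe u w = 0 → ∀ Y : Submodule F V, D < Module.finrank F Y →
      (∀ x ∈ Y, x ∈ L ∧ eichlerLin Qe u w x ∈ L) → ∀ l ∈ L, eichlerLin Qe u w l ∈ L := by
    intro w huw Y hY hsub l hl
    set a := d.res (eichler Qe u w) with ha
    have happ : ∀ x, a.1 x = eichlerLin Qe u w x := fun x => by
      rw [ha, d.res_apply, eichler_apply hu huw, eichlerLin_apply]
    have heq : d.gl (a * g) v = L := by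
      by_contra hne'
      have hle : Y.map a.1.toLinearMap ≤ d.gl (a * g) v ⊓ L := by
        rintro _ ⟨x, hx, rfl⟩
        refine ⟨?_, ?_⟩
        · rw [d.gl_mul]; exact ⟨x, (hsub x hx).1, rfl⟩
        · show a.1 x ∈ L
          rw [happ]; exact (hsub x hx).2
      have := (Submodule.finrank_mono hle).trans
        (hpair _ (mul_mem (d.root_mem hH hu huw) hgM) g hgM v hv hv0 hne')
      rw [LinearEquiv.finrank_map_eq] at this
      omega
    rw [← happ, ← heq, d.gl_mul]
    exact ⟨l, hl, rfl⟩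
  obtain ⟨x₁, hx₁, hx₁0⟩ := Submodule.exists_mem_ne_zero_of_ne_bot
    (show L ⊓ U ≠ ⊥ from fun e => by rw [e, finrank_bot] at hdim; omega)
  obtain ⟨z₁, hz₁⟩ := mem_fline.1 hx₁.2
  have hz₁0 : z₁ ≠ 0 := fun e => hx₁0 (by rw [← hz₁, e, zero_smul])
  have hy₀E : y₀ ∉ Submodule.span E ({u} : Set V) := hy₀U
  have huu : polB Qe u u = 0 := by rw [polB_self, hu, mul_zero]
  have hY' : D < Module.finrank F ↥((L ⊓ U) ⊔ Submodule.span F {y₀}) := by
    have hlt : L ⊓ U < (L ⊓ U) ⊔ Submodule.span F {y₀} := lt_of_le_of_ne le_sup_left fun e => hy₀U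
      ((e ▸ Submodule.mem_sup_right (Submodule.mem_span_singleton_self y₀) : y₀ ∈ L ⊓ U)).2
    have := Submodule.finrank_lt_finrank_of_lt hlt
    omega
  -- the roots indexed by a value at y₀
  have hval : ∀ w, polB Qe u w = 0 → ∀ z, z • u ∈ L → polB Qe y₀ w = z →
      ∀ l ∈ L, eichlerLin Qe u w l ∈ L := by
    intro w huw z hz hyw
    refine hstab w huw _ hY' fun x hx => ?_
    obtain ⟨x', hx', q, hq, rfl⟩ := Submodule.mem_sup.1 hx
    obtain ⟨t, rfl⟩ := Submodule.mem_span_singleton.1 hq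
    obtain ⟨e, rfl⟩ := mem_fline.1 hx'.2
    refine ⟨L.add_mem hx'.1 (L.smul_mem t hy₀), ?_⟩
    rw [eichlerLin_apply, map_add (polB Qe), LinearMap.add_apply, LinearMap.add_apply, d.be_smul_left,
      d.be_smul_left, hy₀u, hyw, map_smul, LinearMap.smul_apply, LinearMap.smul_apply, huu, huw]
    simp only [smul_zero, add_zero, zero_smul, sub_zero, zero_add, mul_zero, smul_assoc]
    exact L.sub_mem (L.add_mem hx'.1 (L.smul_mem t hy₀)) (L.smul_mem t hz)
  obtain ⟨w₀, hw₀, hyw₀⟩ := exists_orth_polB_eq d.nde hy₀E z₁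
  have huw₀ : polB Qe u w₀ = 0 := hw₀ u (Submodule.mem_span_singleton_self u)
  have hz₁L : z₁ • u ∈ L := hz₁ ▸ hx₁.1
  have hLperp : ∀ l ∈ L, polB Qe l u = 0 := hperp hval
  have hZtop : ¬ ∀ e : E, e • u ∈ L := fun hall => hne (Submodule.eq_of_le_of_finrank_eq
    (fun x hx => by obtain ⟨e, rfl⟩ := mem_fline.1 hx; exact hall e)
    (by rw [d.finrank_fline hu0, d.finrank_gl hv0])).symm
  have hgamma : ∀ l ∈ L, l ∈ Submodule.span E ({u, y₀} : Set V) := by
    intro l hl
    by_contra hl'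
    obtain ⟨p, hp, hlp⟩ := exists_orth_polB_eq d.nde hl' 1
    have hp1 : polB Qe u p = 0 := hp u (Submodule.subset_span (Set.mem_insert _ _))
    have hp2 : polB Qe y₀ p = 0 := hp y₀ (Submodule.subset_span (Set.mem_insert_of_mem _ rfl))
    apply hZtop
    intro e
    set w := w₀ + (e - polB Qe l w₀) • p with hw
    have := hval w (by rw [hw, map_add, map_smul, huw₀, hp1, smul_zero, add_zero]) z₁ hz₁L
      (by rw [hw, map_add, map_smul, hyw₀, hp2, smul_zero, add_zero]) l hl
    rw [eichlerLin_apply, hLperp l hl, hw, map_add, map_smul, hlp, smul_eq_mul, mul_one, add_sub_cancel] at this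
    simp only [zero_smul, add_zero, mul_zero, sub_zero] at this
    have h' := L.sub_mem hl this
    rwa [sub_sub_cancel] at h'
  let R : Subalgebra F E :=
    { carrier := {e | ∀ z : E, z • u ∈ L → (z * e) • u ∈ L}
      mul_mem' := fun {a b} ha hb z hz => by rw [← mul_assoc]; exact hb _ (ha z hz)
      add_mem' := fun {a b} ha hb z hz => by rw [mul_add, add_smul]; exact L.add_mem (ha z hz) (hb z hz)
      algebraMap_mem' := fun t z hz => by
        rw [mul_comm, ← Algebra.smul_def, smul_assoc]; exact L.smul_mem t hz }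
  haveI := Subalgebra.isSimpleOrder_of_finrank_prime F E d.prime
  have hR : R = ⊥ := by
    rcases IsSimpleOrder.eq_bot_or_eq_top R with h | h
    · exact h
    exfalso
    apply hZtop
    intro e
    have he : e / z₁ ∈ R := h ▸ Algebra.mem_top
    have := he z₁ hz₁L
    rwa [mul_div_cancel₀ _ hz₁0] at this
  refine ⟨g, hgM, v, u, y₀, hv, hu, hv0, hu0, hy₀, hy₀u, hy₀U, fun l hl => ?_⟩
  obtain ⟨δ, γ, hl'⟩ := Submodule.mem_span_pair.1 (hgamma l hl)
  have hγ : γ ∈ R := by
    intro z hz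
    obtain ⟨w, hw, hyw⟩ := exists_orth_polB_eq d.nde hy₀E z
    have huw : polB Qe u w = 0 := hw u (Submodule.mem_span_singleton_self u)
    have := hval w huw z hz hyw l hl
    rw [eichlerLin_apply, hLperp l hl] at this
    simp only [zero_smul, add_zero, mul_zero, sub_zero] at this
    have h' := L.sub_mem hl this
    rw [sub_sub_cancel, ← hl', map_add, map_smul, map_smul, LinearMap.add_apply, LinearMap.smul_apply,
      LinearMap.smul_apply, huw, hyw, smul_zero, zero_add, smul_eq_mul, mul_comm] at h'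
    exact h'
  rw [hR, Algebra.mem_bot] at hγ
  obtain ⟨t, rfl⟩ := hγ
  exact ⟨t, mem_fline.2 ⟨δ, by rw [← hl', algebraMap_smul, add_sub_cancel_right]⟩⟩


/-- A moved line orthogonal to a line, meeting it in a hyperplane. -/
theorem exists_adjacent (h4 : 4 ≤ Module.finrank E V) {g : orthGroup Q} (hg : g ∈ M) {v : V} (hv : Qe v = 0) {c : E}
    (hmove : g.1 (c • v) ∉ fline (E := E) F (g.1 v)) :
    ∃ g' ∈ M, ∃ v u y : V, Qe v = 0 ∧ Qe u = 0 ∧ v ≠ 0 ∧ u ≠ 0 ∧ y ∈ d.gl g' v ∧ polB Qe y u = 0 ∧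
      y ∉ fline (E := E) F u ∧ (∀ l ∈ d.gl g' v, ∃ t : F, l - t • y ∈ fline (E := E) F u) := by
  classical
  set r := Module.finrank F E with hr
  let P : ℕ → Prop := fun n => ∃ g ∈ M, ∃ v u : V, Qe v = 0 ∧ Qe u = 0 ∧ v ≠ 0 ∧ u ≠ 0 ∧
    d.gl g v ≠ fline (E := E) F u ∧ Module.finrank F ↥(d.gl g v ⊓ fline (E := E) F u) = n
  obtain ⟨g₁, hg₁, v₁, u₁, a1, a2, a3, a4, a5, a6⟩ := d.exists_meet hH h4 hg hv hmove
  set n₀ := Module.finrank F ↥(d.gl g₁ v₁ ⊓ fline (E := E) F u₁)
  have hn₀ : 0 < n₀ := Nat.pos_of_ne_zero fun e => a6 (Submodule.finrank_eq_zero.1 e)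
  have hP₀ : P n₀ := ⟨g₁, hg₁, v₁, u₁, a1, a2, a3, a4, a5, rfl⟩
  have hbound : ∀ n, P n → n ≤ r := by
    rintro n ⟨g, -, v, u, -, -, hv, -, -, rfl⟩
    exact (Submodule.finrank_mono inf_le_left).trans (d.finrank_gl hv).le
  set D := Nat.findGreatest P r with hD
  have hPD : P D := Nat.findGreatest_spec (hbound _ hP₀) hP₀
  have hDpos : 0 < D := hn₀.trans_le (Nat.le_findGreatest (hbound _ hP₀) hP₀)
  have hmax : ∀ n, P n → n ≤ D := fun n hn => Nat.le_findGreatest (hbound n hn) hn
  have hpair : ∀ g₁ ∈ M, ∀ g₂ ∈ M, ∀ v : V, Qe v = 0 → v ≠ 0 → d.gl g₁ v ≠ d.gl g₂ v →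
      Module.finrank F ↥(d.gl g₁ v ⊓ d.gl g₂ v) ≤ D := by
    intro g₁ hg₁ g₂ hg₂ v hv hv0 hne
    refine hmax _ ⟨g₂⁻¹ * g₁, mul_mem (inv_mem hg₂) hg₁, v, v, hv, hv, hv0, hv0, fun e => hne ?_, ?_⟩
    · have := congrArg (Submodule.map g₂.1.toLinearMap) e
      rwa [← d.gl_mul, mul_inv_cancel_left] at this
    · rw [← LinearEquiv.finrank_map_eq g₂.1, Submodule.map_inf _ (LinearEquiv.injective _), ← d.gl_mul,
        mul_inv_cancel_left]
      rfl
  -- a maximal pair with a vector orthogonal to the line, outside it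
  obtain ⟨g, hgM, v, u, hv, hu, hv0, hu0, hne, hdim, y₀, hy₀, hy₀u, hy₀U⟩ : ∃ g ∈ M, ∃ v u : V, Qe v = 0 ∧
      Qe u = 0 ∧ v ≠ 0 ∧ u ≠ 0 ∧ d.gl g v ≠ fline (E := E) F u ∧
      Module.finrank F ↥(d.gl g v ⊓ fline (E := E) F u) = D ∧
      ∃ y ∈ d.gl g v, polB Qe y u = 0 ∧ y ∉ fline (E := E) F u := by
    obtain ⟨g, hgM, v, u, hv, hu, hv0, hu0, hne, hdim⟩ := hPD
    by_cases hex : ∃ y ∈ d.gl g v, polB Qe y u = 0 ∧ y ∉ fline (E := E) F u
    · exact ⟨g, hgM, v, u, hv, hu, hv0, hu0, hne, hdim, hex⟩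
    simp only [not_exists, not_and, not_not] at hex
    obtain ⟨y, hy, hyu⟩ : ∃ y ∈ d.gl g v, polB Qe y u ≠ 0 := by
      by_contra hcon
      simp only [not_exists, not_and, not_not] at hcon
      exact hne (Submodule.eq_of_le_of_finrank_eq (fun y hy => hex y hy (hcon y hy))
        (by rw [d.finrank_gl hv0, d.finrank_fline hu0]))
    set N := (polB Q).orthogonal (d.gl g v ⊔ fline (E := E) F u) with hN
    obtain ⟨n, hn, hn0, hzero⟩ := d.exists_zero (N := N) (by
      have h1 := finrank_orth_add d.nd (d.gl g v ⊔ fline (E := E) F u)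
      have h2 := Submodule.finrank_sup_add_finrank_inf_eq (d.gl g v) (fline (E := E) F u)
      rw [d.finrank_gl hv0, d.finrank_fline hu0, hdim] at h2
      rw [← hN] at h1
      have hn := d.finrank_eq
      have h3 := Nat.mul_le_mul_left (Module.finrank F E) h4
      omega) y
    have hnu : polB Qe u n = 0 := d.mem_orth_line.1 fun x hx => hn x (Submodule.mem_sup_right hx)
    set w := (polB Qe y u)⁻¹ • n with hw
    have huw : polB Qe u w = 0 := by rw [map_smul, hnu, smul_zero]
    set a := d.res (eichler Qe u w) with ha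
    have haM : a ∈ M := d.root_mem hH hu huw
    have hay : a.1 y = y + n := by
      rw [ha, d.res_apply, eichler_apply hu huw, hw, smul_smul, mul_inv_cancel₀ hyu, one_smul, map_smul, qmap_smul,
        sub_sub, ← add_smul, smul_eq_mul]
      rw [show (polB Qe y u)⁻¹ * polB Qe y n + (polB Qe y u)⁻¹ * (polB Qe y u)⁻¹ * Qe n * polB Qe y u = 0 by
        rw [polB_comm y n]; field_simp; linear_combination hzero, zero_smul, sub_zero]
    have hafix : ∀ x ∈ fline (E := E) F u, a.1 x = x := by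
      intro x hx
      obtain ⟨e, rfl⟩ := mem_fline.1 hx
      rw [ha, d.res_apply, eichler_fix hu huw]
      · simp [polB_self, hu]
      · simp [hw, hnu]
    have hnL : n ∉ d.gl g v := by
      intro h
      obtain ⟨e, he⟩ := mem_fline.1 (hex n h (by rw [polB_comm]; exact hnu))
      apply hn0
      rw [← he] at hzero ⊢
      rw [qmap_smul, hu, mul_zero, zero_add, map_smul, LinearMap.smul_apply, smul_eq_mul, polB_comm u y,
        mul_eq_zero] at hzero
      rw [hzero.resolve_right hyu, zero_smul]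
    have hne' : d.gl (a * g) v ≠ d.gl g v := fun e => by
      have h1 : a.1 y ∈ d.gl (a * g) v := by rw [d.gl_mul]; exact ⟨y, hy, rfl⟩
      rw [e, hay, (d.gl g v).add_mem_iff_right hy] at h1
      exact hnL h1
    have hag : a * g ∈ M := mul_mem haM hgM
    refine ⟨g⁻¹ * (a * g), mul_mem (inv_mem hgM) hag, v, v, hv, hv, hv0, hv0, ?_, ?_,
      (g⁻¹).1 (a.1 y), ?_, ?_, ?_⟩
    · intro e
      apply hne'
      have := congrArg (Submodule.map g.1.toLinearMap) e
      rwa [← d.gl_mul, mul_inv_cancel_left] at this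
    · refine le_antisymm (hmax _ ⟨g⁻¹ * (a * g), mul_mem (inv_mem hgM) hag, v, v, hv, hv, hv0, hv0, fun e => hne' ?_, rfl⟩) ?_
      · have := congrArg (Submodule.map g.1.toLinearMap) e
        rwa [← d.gl_mul, mul_inv_cancel_left] at this
      · rw [← hdim]
        have hsub : (d.gl g v ⊓ fline (E := E) F u) ≤ d.gl (a * g) v ⊓ d.gl g v := by
          rintro x ⟨h1, h2⟩
          refine ⟨?_, h1⟩
          rw [d.gl_mul]
          exact ⟨x, h1, hafix x h2⟩
        refine (Submodule.finrank_mono hsub).trans (le_of_eq ?_)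
        conv_rhs => rw [← LinearEquiv.finrank_map_eq g.1, Submodule.map_inf _ (LinearEquiv.injective _),
          ← d.gl_mul, mul_inv_cancel_left]
        rfl
    · rw [d.gl_mul]
      exact ⟨a.1 y, by rw [d.gl_mul]; exact ⟨y, hy, rfl⟩, rfl⟩
    · rw [polB_comm, ← d.mem_orth_line (F := F)]
      intro x hx
      change polB Q x ((g⁻¹).1 (a.1 y)) = 0
      rw [← orth_polB_map g, orth_apply_inv_self, hay, map_add]
      obtain ⟨e, rfl⟩ := mem_fline.1 hx
      have hx' : g.1 (e • v) ∈ d.gl g v := d.mem_gl.2 ⟨e, rfl⟩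
      rw [polB_eq_zero_of_singular (fun z hz => d.gl_singular hv hz) hx' hy,
        hn _ (Submodule.mem_sup_left hx'), add_zero]
    · intro h
      apply hnL
      obtain ⟨e, he⟩ := mem_fline.1 h
      have : g.1 ((g⁻¹).1 (a.1 y)) ∈ d.gl g v := d.mem_gl.2 ⟨e, by rw [he]⟩
      rwa [orth_apply_inv_self, hay, (d.gl g v).add_mem_iff_right hy] at this
  refine d.adjacent_of_max hH hDpos hpair hgM hv hu hv0 hu0 hne hdim hy₀ hy₀u hy₀U fun hval => ?_
  set L := d.gl g v with hL
  set U := fline (E := E) F u with hU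
  obtain ⟨x₁, hx₁, hx₁0⟩ := Submodule.exists_mem_ne_zero_of_ne_bot
    (show L ⊓ U ≠ ⊥ from fun e => by rw [e, finrank_bot] at hdim; omega)
  obtain ⟨z₁, hz₁⟩ := mem_fline.1 hx₁.2
  have hy₀E : y₀ ∉ Submodule.span E ({u} : Set V) := hy₀U
  obtain ⟨w₀, hw₀, hyw₀⟩ := exists_orth_polB_eq d.nde hy₀E z₁
  have huw₀ : polB Qe u w₀ = 0 := hw₀ u (Submodule.mem_span_singleton_self u)
  have hz₁L : z₁ • u ∈ L := hz₁ ▸ hx₁.1
  intro l hl
  by_contra hlu
  set W := (polB Qe).orthogonal (Submodule.span E {u, y₀}) with hW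
  have hle : W.restrictScalars F ≤ L ⊔ U := by
    intro x hx
    set x' := (polB Qe l u)⁻¹ • x with hx'
    obtain ⟨h1, h2⟩ := mem_orth_pair.1 (W.smul_mem (polB Qe l u)⁻¹ hx : x' ∈ W)
    have k0 := hval w₀ huw₀ z₁ hz₁L hyw₀ l hl
    have k1 := hval (w₀ + x') (by rw [map_add, huw₀, h1, add_zero]) z₁ hz₁L
      (by rw [map_add, hyw₀, h2, add_zero]) l hl
    have := L.sub_mem k1 k0
    rw [eichlerLin_apply, eichlerLin_apply] at this
    set b := polB Qe l u
    set cc := polB Qe l (w₀ + x') + Qe (w₀ + x') * b - (polB Qe l w₀ + Qe w₀ * b)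
    have e : x = (l + b • (w₀ + x') - polB Qe l (w₀ + x') • u - (Qe (w₀ + x') * b) • u -
        (l + b • w₀ - polB Qe l w₀ • u - (Qe w₀ * b) • u)) + cc • u := by
      rw [smul_add, hx', smul_inv_smul₀ hlu]
      simp only [cc]
      module
    rw [e]
    exact Submodule.add_mem_sup this (mem_fline.2 ⟨_, rfl⟩)
  have h1 := Submodule.finrank_mono hle
  have h2 := Submodule.finrank_sup_add_finrank_inf_eq L U
  rw [d.finrank_gl hv0, d.finrank_fline hu0, hdim] at h2
  rw [finrank_restrict, hW] at h1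
  have h3 := finrank_orth_pair d.nde u y₀
  have h4 := h4
  have h6 : Module.finrank F E * 2 ≤ Module.finrank F E * Module.finrank E ((polB Qe).orthogonal (Submodule.span E {u, y₀})) :=
    Nat.mul_le_mul_left _ (by omega)
  omega

end OExt

end H49
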