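import Cfsg.Agent.H49.OrthExtStart

/-!
Planes inside the lines of the extension, transport of lines, and rotations of a plane.
-/

set_option autoImplicit false
set_option linter.unusedSectionVars false

namespace H49

open H43

/-- A hyperbolic pair spans a non-degenerate plane. -/
theorem hyp_inf_orth {K : Type*} [Field K] {U : Type*} [AddCommGroup U] [Module K U]
    {q : QuadraticForm K U} {a b : U} (h : HypPair q a b) :
    Submodule.span K {a, b} ⊓ (polB q).orthogonal (Submodule.span K {a, b}) = ⊥ := by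
  rw [eq_bot_iff]
  rintro x ⟨hx, hx'⟩
  obtain ⟨s, t, rfl⟩ := Submodule.mem_span_pair.1 hx
  obtain ⟨h1, h2⟩ := mem_orth_pair.1 hx'
  simp only [map_add, map_smul, polB_self, h.left, h.right, h.pair, polB_comm b a, smul_eq_mul, mul_zero,
    mul_one, zero_add, add_zero] at h1 h2
  simp [h1, h2]

/-- Both coordinates along a hyperbolic pair can be removed. -/
theorem hyp_proj_mem {K : Type*} [Field K] {U : Type*} [AddCommGroup U] [Module K U]
    {q : QuadraticForm K U} {a b : U} (h : HypPair q a b) (x : U) :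
    x - polB q x b • a - polB q x a • b ∈ (polB q).orthogonal (Submodule.span K {a, b}) := by
  refine mem_orth_pair.2 ⟨?_, ?_⟩
  · simp [polB_self, h.left, h.pair, polB_comm a x]
  · simp [polB_self, h.right, h.pair, polB_comm b a, polB_comm b x]

theorem finrank_hyp_orth {K : Type*} [Field K] {U : Type*} [AddCommGroup U] [Module K U]
    [FiniteDimensional K U] {q : QuadraticForm K U} (hq : (polB q).Nondegenerate) {a b : U}
    (h : HypPair q a b) :
    Module.finrank K ((polB q).orthogonal (Submodule.span K {a, b})) + 2 = Module.finrank K U := by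
  have h1 := finrank_span_eq_card h.linearIndependent
  rw [Matrix.range_cons, Matrix.range_cons, Matrix.range_empty, Set.union_empty, Set.singleton_union,
    Fintype.card_fin] at h1
  have h2 := finrank_orth_add hq (Submodule.span K {a, b})
  omega

section pairs

variable {F : Type*} [Field F] {V : Type*} [AddCommGroup V] [Module F V] [FiniteDimensional F V]
  {Q : QuadraticForm F V}

theorem oPair_congr {M : Subgroup (orthGroup Q)} {y y' w : V} {hy : Q y = 0} (e : y = y') (hy' : Q y' = 0)
    (h : w ∈ oPair Q M hy) : w ∈ oPair Q M hy' := by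
  subst e
  exact h

theorem oPair_map' {M : Subgroup (orthGroup Q)} {g : orthGroup Q} (hg : g ∈ M) {y y' w : V} {hy : Q y = 0}
    (e : g.1 y = y') (hy' : Q y' = 0) (h : w ∈ oPair Q M hy) : g.1 w ∈ oPair Q M hy' :=
  oPair_congr e hy' (oPair_map hg hy (by rw [orth_qmap, hy]) h)

theorem mem_oPair_zero {M : Subgroup (orthGroup Q)} {y : V} {hy : Q y = 0} (e : y = 0) (w : V) :
    w ∈ oPair Q M hy := by
  subst e
  refine ⟨by simp, fun t => ?_⟩
  rw [show eichler Q (0 : V) (t • w) = 1 from orth_ext fun x => by simp [eichler_apply hy (by simp)]]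
  exact one_mem _

theorem mem_oPair_smul {M : Subgroup (orthGroup Q)} {y w : V} {hy : Q y = 0} {t : F} (ht : t ≠ 0)
    (hy' : Q (t • y) = 0) (h : w ∈ oPair Q M hy) : w ∈ oPair Q M hy' := by
  refine ⟨by rw [map_smul, LinearMap.smul_apply, h.1, smul_zero], fun s => ?_⟩
  rw [show s • w = t⁻¹ • (t * s) • w by rw [smul_smul, inv_mul_cancel_left₀ ht],
    eichler_smul_left hy (by rw [map_smul, h.1, smul_zero]) ht]
  exact h.2 _

end pairs

namespace OExt

variable {F : Type*} [Field F] [Fintype F] {E : Type*} [Field E] [Fintype E] [Algebra F E]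
  {V : Type*} [AddCommGroup V] [Module F V] [Module E V] [IsScalarTower F E V]
  [FiniteDimensional F V] [FiniteDimensional E V]
  {Q : QuadraticForm F V} {Qe : QuadraticForm E V} {τ : E →ₗ[F] F} (d : OExt Q Qe τ)
include d

theorem qs {u : V} (hu : Qe u = 0) (c : E) : Q (c • u) = 0 := d.q_zero (by rw [qmap_smul, hu, mul_zero])

theorem exists_ker (a : E) : ∃ c : E, c ≠ 0 ∧ τ (a * c) = 0 := by
  obtain ⟨c, hc, hc0⟩ := Submodule.exists_mem_ne_zero_of_ne_bot
    (LinearMap.ker_ne_bot_of_finrank_lt (f := τ.comp (LinearMap.mulLeft F a))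
      (by rw [Module.finrank_self]; exact d.prime.one_lt))
  exact ⟨c, hc0, hc⟩

theorem exists_tau_ne {a : E} (ha : a ≠ 0) : ∃ c : E, τ (c * a) ≠ 0 := by
  by_contra hcon
  simp only [not_exists, not_not] at hcon
  exact ha (functional_ext d.nz hcon)

/-- An element with square in the ground field lies there, in odd degree. -/
theorem sq_mem_bot (hr : 3 ≤ Module.finrank F E) {x : E} (hx : x * x ∈ (⊥ : Subalgebra F E)) :
    x ∈ (⊥ : Subalgebra F E) := by
  obtain ⟨p, hp⟩ := Algebra.mem_bot.1 hx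
  let S : Subalgebra F E := (Submodule.span F {(1 : E), x}).toSubalgebra (Submodule.subset_span (Set.mem_insert _ _))
    (fun a b ha hb => by
      obtain ⟨i, j, rfl⟩ := Submodule.mem_span_pair.1 ha
      obtain ⟨i', j', rfl⟩ := Submodule.mem_span_pair.1 hb
      refine Submodule.mem_span_pair.2 ⟨i * i' + j * j' * p, i * j' + j * i', ?_⟩
      simp only [Algebra.smul_def, map_add, map_mul, hp]
      ring)
  haveI := Subalgebra.isSimpleOrder_of_finrank_prime F E d.prime
  classical
  rcases IsSimpleOrder.eq_bot_or_eq_top S with h | h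
  · rw [← h]
    exact Submodule.subset_span (Set.mem_insert_of_mem _ rfl)
  · exfalso
    have h1 := finrank_span_le_card (R := F) ({(1 : E), x} : Set E)
    have h2 : Submodule.span F {(1 : E), x} = ⊤ := by
      rw [← Submodule.toSubalgebra_toSubmodule (Submodule.span F {(1 : E), x})]
      exact (congrArg Subalgebra.toSubmodule h).trans Algebra.top_toSubmodule
    rw [h2, finrank_top] at h1
    have h3 : ({(1 : E), x} : Set E).toFinset.card ≤ 2 := by
      rw [Set.toFinset_insert, Set.toFinset_singleton]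
      exact (Finset.card_insert_le _ _).trans (by rw [Finset.card_singleton])
    omega

/-- In odd degree every element is a scalar times a square. -/
theorem exists_scalar_sq (hr : 3 ≤ Module.finrank F E) {y : E} (hy : y ≠ 0) :
    ∃ (t : F) (a : E), t ≠ 0 ∧ y = t • (a * a) := by
  by_cases hsq : IsSquare (y)
  · obtain ⟨a, ha⟩ := hsq
    exact ⟨1, a, one_ne_zero, by rw [one_smul, ← ha]⟩
  have hcF : ringChar F ≠ 2 := fun h => d.two (by
    haveI := ringChar.of_eq h
    exact CharP.cast_eq_zero F 2)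
  have hcE : ringChar E ≠ 2 := fun h => d.twoE (by
    haveI := ringChar.of_eq h
    exact CharP.cast_eq_zero E 2)
  obtain ⟨t, ht⟩ := FiniteField.exists_nonsquare hcF
  have ht0 : t ≠ 0 := fun e => ht (e ▸ ⟨0, by simp⟩)
  have htE0 : algebraMap F E t ≠ 0 := (map_ne_zero _).2 ht0
  have htE : ¬ IsSquare (algebraMap F E t) := by
    rintro ⟨b, hb⟩
    obtain ⟨c, hc⟩ := Algebra.mem_bot.1 (d.sq_mem_bot hr (x := b) (Algebra.mem_bot.2 ⟨t, hb⟩))
    exact ht ⟨c, (algebraMap F E).injective (by rw [hb, map_mul, hc])⟩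
  rw [FiniteField.isSquare_iff hcE htE0] at htE
  rw [FiniteField.isSquare_iff hcE hy] at hsq
  have h : IsSquare (y / algebraMap F E t) := by
    rw [FiniteField.isSquare_iff hcE (div_ne_zero hy htE0), div_pow,
      (FiniteField.pow_dichotomy hcE hy).resolve_left hsq, (FiniteField.pow_dichotomy hcE htE0).resolve_left htE,
      div_self (neg_ne_zero.2 one_ne_zero)]
  obtain ⟨a, ha⟩ := h
  refine ⟨t, a, ht0, ?_⟩
  rw [← ha, Algebra.smul_def]
  field_simp

/-- In odd degree the Cayley transform has square in the ground field only on the ground field. -/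
theorem mem_bot_of_cayley (hr : 3 ≤ Module.finrank F E) {x : E} (hs : x ∉ (⊥ : Subalgebra F E))
    (hmem : ((1 - x) / (1 + x)) * ((1 - x) / (1 + x)) ∈ (⊥ : Subalgebra F E)) :
    x ∈ (⊥ : Subalgebra F E) := by
  obtain ⟨a, ha⟩ := Algebra.mem_bot.1 (d.sq_mem_bot hr hmem)
  have h2E := d.twoE
  have hx1 : 1 + x ≠ 0 := fun h => hs (by
    rw [show x = algebraMap F E (-1) by rw [map_neg, map_one]; linear_combination h]
    exact Subalgebra.algebraMap_mem _ _)
  refine Algebra.mem_bot.2 ⟨(1 - a) / (1 + a), ?_⟩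
  have hA1 : 1 + (1 - x) / (1 + x) ≠ 0 := by
    rw [one_add_div hx1, add_add_sub_cancel, one_add_one_eq_two]
    exact div_ne_zero h2E hx1
  rw [map_div₀, map_sub, map_add, map_one, ha, div_eq_iff hA1]
  field_simp
  ring

/-- In degree two a non-square lies outside the ground field, and so does the square of its Cayley
transform. -/
theorem nonsquare_rot (h2r : Module.finrank F E = 2) {ν : E} (hns : ¬ IsSquare (-ν)) :
    ν ∉ (⊥ : Subalgebra F E) ∧
      ((1 - ν) / (1 + ν)) * ((1 - ν) / (1 + ν)) ∉ (⊥ : Subalgebra F E) := by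
  have h2E := d.twoE
  have hcF : ringChar F ≠ 2 := fun h => d.two (by
    haveI := ringChar.of_eq h
    exact CharP.cast_eq_zero F 2)
  have hcE : ringChar E ≠ 2 := fun h => h2E (by
    haveI := ringChar.of_eq h
    exact CharP.cast_eq_zero E 2)
  have hodd : Odd (Fintype.card F) := Nat.odd_iff.2 (FiniteField.odd_card_of_char_ne_two hcF)
  obtain ⟨k, hk⟩ := hodd
  have hcard : Fintype.card E = Fintype.card F ^ 2 := by
    rw [Module.card_eq_pow_finrank (K := F) (V := E), h2r]
  have hhalf : Fintype.card E / 2 = (Fintype.card F + 1) * k := by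
    rw [hcard, hk]
    have : (2 * k + 1) ^ 2 = 2 * ((2 * k + 1 + 1) * k) + 1 := by ring
    omega
  -- the ground field consists of squares
  have hFsq : ∀ a : F, IsSquare (algebraMap F E a) := by
    intro a
    by_cases ha : a = 0
    · exact ⟨0, by simp [ha]⟩
    rw [FiniteField.isSquare_iff hcE ((map_ne_zero _).2 ha), hhalf, ← map_pow, mul_comm,
      pow_mul, pow_succ, FiniteField.pow_card, ← pow_two, ← pow_mul,
      show k * 2 = Fintype.card F - 1 by omega, FiniteField.pow_card_sub_one_eq_one a ha, map_one]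
  have hν0 : ν ∉ (⊥ : Subalgebra F E) := fun h => by
    obtain ⟨a, rfl⟩ := Algebra.mem_bot.1 h
    exact hns (by rw [← map_neg]; exact hFsq _)
  refine ⟨hν0, fun hmem => ?_⟩
  obtain ⟨a, ha⟩ := Algebra.mem_bot.1 hmem
  set A := (1 - ν) / (1 + ν) with hA
  have hν1 : 1 + ν ≠ 0 := fun h => hν0 (by
    rw [show ν = algebraMap F E (-1) by rw [map_neg, map_one]; linear_combination h]
    exact Subalgebra.algebraMap_mem _ _)
  by_cases hsq : IsSquare a
  · obtain ⟨b, rfl⟩ := hsq
    rw [map_mul] at ha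
    have hAb : A ∈ (⊥ : Subalgebra F E) := by
      rcases mul_self_eq_mul_self_iff.1 ha with e | e
      · exact Algebra.mem_bot.2 ⟨b, e⟩
      · exact Algebra.mem_bot.2 ⟨-b, by rw [map_neg, e, neg_neg]⟩
    obtain ⟨c, hc⟩ := Algebra.mem_bot.1 hAb
    apply hν0
    refine Algebra.mem_bot.2 ⟨(1 - c) / (1 + c), ?_⟩
    have hA1 : 1 + A ≠ 0 := by
      rw [hA, one_add_div hν1, add_add_sub_cancel, one_add_one_eq_two]
      exact div_ne_zero h2E hν1
    rw [map_div₀, map_sub, map_add, map_one, hc, div_eq_iff hA1, hA]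
    field_simp
    ring
  -- the conjugate of the transform is its negative
  have ha0 : a ≠ 0 := fun e => hsq (e ▸ ⟨0, by simp⟩)
  have hap : a ^ k = -1 := by
    have h1 := (FiniteField.pow_dichotomy hcF ha0).resolve_left fun h =>
      hsq ((FiniteField.isSquare_iff hcF ha0).2 h)
    rwa [show Fintype.card F / 2 = k by omega] at h1
  let φ := FiniteField.frobeniusAlgHom F E
  have hφ : ∀ y, φ y = y ^ Fintype.card F := fun y => rfl
  have hφA : φ A = -A := by
    rw [hφ, hk, pow_succ, pow_mul, pow_two, ← ha, ← map_pow, hap, map_neg, map_one, neg_one_mul]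
  have hφν : ν * φ ν = 1 := by
    rw [hA, map_div₀, map_sub, map_add, map_one] at hφA
    have hd : 1 + φ ν ≠ 0 := fun h => hν1 ((map_eq_zero φ).1 (by rw [map_add, map_one]; exact h))
    field_simp at hφA
    apply mul_left_cancel₀ h2E
    linear_combination -hφA
  apply hns
  rw [FiniteField.isSquare_iff hcE (neg_ne_zero.2 fun h => hν0 (by rw [h]; exact zero_mem _)), hhalf,
    pow_mul, pow_succ, ← hφ, map_neg, neg_mul_neg, mul_comm, hφν, one_pow]

variable {M : Subgroup (orthGroup Q)} (hH : ∀ h : orthGroup Qe, d.res (h * h) ∈ M)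
include hH

/-- Scaling along a hyperbolic pair by a square. -/
theorem exists_torus_fix {u u' : V} (hp : HypPair Qe u u') {a : E} (ha : a ≠ 0) :
    ∃ t ∈ M, (∀ c : E, t.1 (c • u) = (a * a * c) • u) ∧
      ∀ w, polB Qe w u = 0 → polB Qe w u' = 0 → t.1 w = w := by
  refine ⟨d.res (hscale Qe u u' a * hscale Qe u u' a), hH _, fun c => ?_, fun w h1 h2 => ?_⟩
  · rw [d.res_apply, orth_mul_apply, map_smul, hscale_left hp ha, smul_smul, map_smul, hscale_left hp ha,
      smul_smul]
    congr 1
    ring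
  · rw [d.res_apply, orth_mul_apply, hscale_fix hp ha h1 h2, hscale_fix hp ha h1 h2]

/-- Singular lines are permuted transitively. -/
theorem exists_transport {a b : V} (ha : Qe a = 0) (ha0 : a ≠ 0) (hb : Qe b = 0) (hb0 : b ≠ 0) :
    ∃ g : orthGroup Qe, d.res g ∈ M ∧ ∃ c : E, c ≠ 0 ∧ g.1 a = c • b := by
  have step : ∀ a b : V, Qe a = 0 → Qe b = 0 → polB Qe a b ≠ 0 →
      ∃ g : orthGroup Qe, d.res g ∈ M ∧ ∃ c : E, c ≠ 0 ∧ g.1 a = c • b := by
    intro a b ha hb hab
    obtain ⟨β, hβ⟩ : ∃ β, β = (polB Qe a b)⁻¹ • b := ⟨_, rfl⟩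
    have hp : HypPair Qe a β :=
      ⟨ha, by rw [hβ, qmap_smul, hb, mul_zero], by rw [hβ, map_smul, smul_eq_mul, inv_mul_cancel₀ hab]⟩
    obtain ⟨x, hx, hx0⟩ := Submodule.exists_mem_ne_zero_of_ne_bot
      (p := (polB Qe).orthogonal (Submodule.span E {a, β})) (fun e => by
        have := finrank_hyp_orth d.nde hp
        rw [e, finrank_bot] at this
        have := d.big
        omega)
    obtain ⟨w, hw, hs, -⟩ := exists_aniso_orth d.nde (hyp_inf_orth hp) hx hx0 d.twoE
    obtain ⟨hw1, hw2⟩ := mem_orth_pair.1 hw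
    set s := Qe w with hsdef
    have haw' : polB Qe a ((-s⁻¹) • w) = 0 := by rw [map_smul, hw1, smul_zero]
    have h1 : (eichler Qe β w).1 a = a + w - s • β := by
      rw [eichler_apply hp.right hw2, hp.pair, hw1, ← hsdef]
      module
    have h2 : (eichler Qe a ((-s⁻¹) • w)).1 β = (-s⁻¹) • (a + w - s • β) := by
      rw [eichler_apply ha haw', polB_comm β a, hp.pair, map_smul, hw2, smul_zero, qmap_smul, ← hsdef]
      match_scalars <;> field_simp <;> ring
    refine ⟨(eichler Qe a ((-s⁻¹) • w))⁻¹ * eichler Qe β w, ?_, -s * (polB Qe a b)⁻¹,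
      mul_ne_zero (neg_ne_zero.2 hs) (inv_ne_zero hab), ?_⟩
    · rw [map_mul, map_inv]
      exact mul_mem (inv_mem (d.root_mem hH ha haw')) (d.root_mem hH hp.right hw2)
    · rw [orth_mul_apply, h1, show a + w - s • β = (eichler Qe a ((-s⁻¹) • w)).1 ((-s) • β) by
        rw [map_smul (eichler Qe a ((-s⁻¹) • w)).1, h2, smul_smul, neg_mul_neg, mul_inv_cancel₀ hs, one_smul],
        orth_inv_apply_self, hβ, smul_smul]
  by_cases hab : polB Qe a b = 0
  swap
  · exact step a b ha hb hab
  obtain ⟨y, hya, hyb⟩ : ∃ y, polB Qe a y ≠ 0 ∧ polB Qe b y ≠ 0 := by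
    obtain ⟨y₁, h1⟩ := exists_polB_eq d.nde ha0 1
    obtain ⟨y₂, h2⟩ := exists_polB_eq d.nde hb0 1
    by_cases e1 : polB Qe b y₁ = 0
    swap
    · exact ⟨y₁, by rw [h1]; exact one_ne_zero, e1⟩
    by_cases e2 : polB Qe a y₂ = 0
    swap
    · exact ⟨y₂, e2, by rw [h2]; exact one_ne_zero⟩
    refine ⟨y₁ + y₂, ?_, ?_⟩
    · rw [map_add, h1, e2, add_zero]; exact one_ne_zero
    · rw [map_add, h2, e1, zero_add]; exact one_ne_zero
  set c := y + (-(Qe y / polB Qe a y)) • a with hc
  have hcq : Qe c = 0 := by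
    rw [hc, qmap_add_smul, ha, polB_comm y a]
    field_simp
    ring
  have hca : polB Qe a c ≠ 0 := by rw [hc, map_add, map_smul, polB_self, ha]; simpa using hya
  have hcb : polB Qe c b ≠ 0 := by
    rw [hc, map_add, LinearMap.add_apply, map_smul, LinearMap.smul_apply, hab, smul_zero, add_zero, polB_comm]
    exact hyb
  obtain ⟨g, hg, p, hp0, hgp⟩ := step a c ha hcq hca
  obtain ⟨g', hg', p', hp0', hgp'⟩ := step c b hcq hb hcb
  refine ⟨g' * g, by rw [map_mul]; exact mul_mem hg' hg, p * p', mul_ne_zero hp0 hp0', ?_⟩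
  rw [orth_mul_apply, hgp, map_smul, hgp', smul_smul]

/-- From a linked pair, all planes inside every line. -/
theorem line_planes {u : V} (hu : Qe u = 0) (hu0 : u ≠ 0) {e : E} (he : e ≠ 0) {l : V}
    (hl : l ∈ oPair Q M (d.qs hu e)) (hul : polB Qe u l = 0) (hlU : l ∉ fline (E := E) F u)
    {p : V} (hp : Qe p = 0) (x y : E) : y • p ∈ oPair Q M (d.qs hp x) := by
  by_cases hp0 : p = 0
  · rw [show y • p = 0 by rw [hp0, smul_zero]]
    exact Submodule.zero_mem _
  have hA : ∀ y : E, y • u ∈ oPair Q M (d.qs hu e) := by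
    intro y
    obtain ⟨w, hw, hlw⟩ := exists_orth_polB_eq d.nde (show l ∉ Submodule.span E ({u} : Set V) from hlU) y
    have huw : polB Qe u w = 0 := hw u (Submodule.mem_span_singleton_self u)
    have h1 := oPair_fix (d.root_mem hH hu huw) (by rw [d.res_apply]; exact d.eichler_line hu huw e) hl
    rw [d.res_apply, d.eichler_perp hu huw hul, hlw] at h1
    have h2 := sub_mem hl h1
    rwa [sub_sub_cancel] at h2
  have hB : ∀ x y : E, y • u ∈ oPair Q M (d.qs hu x) := by
    intro y x
    let P : Submodule F E :=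
      { carrier := {c | (c * e) • u ∈ oPair Q M (d.qs hu x)}
        add_mem' := fun {a b} ha hb => by
          show ((a + b) * e) • u ∈ oPair Q M (d.qs hu x)
          rw [add_mul, add_smul]; exact add_mem ha hb
        zero_mem' := by
          show ((0 : E) * e) • u ∈ oPair Q M (d.qs hu x)
          rw [zero_mul, zero_smul]; exact Submodule.zero_mem _
        smul_mem' := fun t a ha => by
          show ((t • a) * e) • u ∈ oPair Q M (d.qs hu x)
          rw [smul_mul_assoc, smul_assoc]; exact Submodule.smul_mem _ t ha }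
    have hP : ∀ a : E, a * a ∈ P := by
      intro a
      by_cases ha : a = 0
      · rw [ha, mul_zero]; exact P.zero_mem
      obtain ⟨v', hp'⟩ := exists_hypPair d.nde hu hu0
      obtain ⟨t, htM, ht, -⟩ := d.exists_torus_fix hH hp' ha
      have h1 := oPair_map' htM (ht e) (d.qs hu _) (hA (x / (a * a)))
      rw [ht, mul_div_cancel₀ _ (mul_ne_zero ha ha)] at h1
      exact oPair_symm (d.qs hu _) (d.qs hu x) h1
    have : (y / e * e) • u ∈ oPair Q M (d.qs hu x) := d.span_squares hP (y / e)
    rw [div_mul_cancel₀ _ he] at this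
    exact oPair_symm (d.qs hu x) (d.qs hu y) this
  obtain ⟨g, hg, c, hc, hgu⟩ := d.exists_transport hH hu hu0 hp hp0
  have h1 := oPair_map' hg (show (d.res g).1 ((x / c) • u) = x • p by
    rw [d.res_apply, map_smul, hgu, smul_smul, div_mul_cancel₀ _ hc]) (d.qs hp x) (hB (x / c) (y / c))
  rwa [d.res_apply, map_smul, hgu, smul_smul, div_mul_cancel₀ _ hc] at h1

/-- Singular partners of one vector of a line are partners of the line. -/
theorem spread_sing {u u' : V} (hp : HypPair Qe u u') {e : E} (he : e ≠ 0) {w : V} (hwu : polB Qe w u = 0)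
    (hwu' : polB Qe w u' = 0) (hw : Q w = 0) (hwD : w ∈ oPair Q M (d.qs hp.left e)) (x : E) :
    w ∈ oPair Q M (d.qs hp.left x) := by
  refine oPair_symm hw (d.qs hp.left x) ?_
  let P : Submodule F E :=
    { carrier := {c | (c * e) • u ∈ oPair Q M hw}
      add_mem' := fun {a b} ha hb => by
        show ((a + b) * e) • u ∈ oPair Q M hw
        rw [add_mul, add_smul]; exact add_mem ha hb
      zero_mem' := by
        show ((0 : E) * e) • u ∈ oPair Q M hw
        rw [zero_mul, zero_smul]; exact Submodule.zero_mem _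
      smul_mem' := fun t a ha => by
        show ((t • a) * e) • u ∈ oPair Q M hw
        rw [smul_mul_assoc, smul_assoc]; exact Submodule.smul_mem _ t ha }
  have hP : ∀ a : E, a * a ∈ P := by
    intro a
    by_cases ha : a = 0
    · rw [ha, mul_zero]; exact P.zero_mem
    obtain ⟨t, htM, ht, htfix⟩ := d.exists_torus_fix hH hp ha
    have h1 := oPair_map' htM (ht e) (d.qs hp.left _) hwD
    rw [htfix w hwu hwu'] at h1
    exact oPair_symm (d.qs hp.left _) hw h1
  have : (x / e * e) • u ∈ oPair Q M hw := d.span_squares hP (x / e)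
  rwa [div_mul_cancel₀ _ he] at this

/-- In odd degree, partners of one vector of a line are partners of the line. -/
theorem spread_odd (hr : 3 ≤ Module.finrank F E) {u u' : V} (hp : HypPair Qe u u') {e : E} (he : e ≠ 0) {w : V}
    (hwu : polB Qe w u = 0) (hwu' : polB Qe w u' = 0) (hwD : w ∈ oPair Q M (d.qs hp.left e)) (x : E) :
    w ∈ oPair Q M (d.qs hp.left x) := by
  by_cases hx : x = 0
  · exact mem_oPair_zero (by rw [hx, zero_smul]) w
  obtain ⟨t, a, ht, hxa⟩ : ∃ (t : F) (a : E), t ≠ 0 ∧ x = t • (a * a * e) := by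
    obtain ⟨t, a, ht, h⟩ := d.exists_scalar_sq hr (div_ne_zero hx he)
    exact ⟨t, a, ht, by rw [← smul_mul_assoc, ← h, div_mul_cancel₀ _ he]⟩
  have ha0 : a ≠ 0 := fun e' => hx (by rw [hxa, e']; simp)
  obtain ⟨T, hTM, hT, hTfix⟩ := d.exists_torus_fix hH hp ha0
  have h2 := oPair_map' hTM (hT e) (d.qs hp.left _) hwD
  rw [hTfix w hwu hwu'] at h2
  exact oPair_congr (by rw [hxa, smul_assoc]) (d.qs hp.left x)
    (mem_oPair_smul ht (by rw [← smul_assoc]; exact d.qs hp.left _) h2)

/-- A rotation of an anisotropic-based plane with trace outside the ground field; in degree two the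
plane must be anisotropic. -/
theorem exists_rot {z e : V} (hz : Qe z ≠ 0) (he : Qe e ≠ 0)
    (hze : polB Qe z e = 0)
    (hr : 3 ≤ Module.finrank F E ∨ ¬ IsSquare (-(Qe e / Qe z))) :
    ∃ h : orthGroup Qe, d.res h ∈ M ∧ (∀ x, polB Qe x z = 0 → polB Qe x e = 0 → h.1 x = x) ∧
      ∃ κ : E, κ ∉ (⊥ : Subalgebra F E) ∧ ∀ p q : E,
        h.1 (p • z + q • e) + (h⁻¹).1 (p • z + q • e) = κ • (p • z + q • e) := by
  set ν := Qe e / Qe z with hν
  have hν0 : ν ≠ 0 := div_ne_zero he hz
  obtain ⟨s, hs, hsA⟩ : ∃ s : E, ν * (s * s) ∉ (⊥ : Subalgebra F E) ∧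
      ((1 - ν * (s * s)) / (1 + ν * (s * s))) * ((1 - ν * (s * s)) / (1 + ν * (s * s))) ∉
        (⊥ : Subalgebra F E) := by
    rcases (lt_or_ge (Module.finrank F E) 3).symm with hr' | hr'
    swap
    · refine ⟨1, ?_⟩
      rw [mul_one, mul_one]
      exact d.nonsquare_rot (by have := d.prime.two_le; omega) (hr.resolve_left (by omega))
    obtain ⟨s, hs⟩ : ∃ s : E, ν * (s * s) ∉ (⊥ : Subalgebra F E) := by
      by_contra hcon
      simp only [not_exists, not_not] at hcon
      have htop : ∀ y : E, y ∈ (⊥ : Subalgebra F E) := by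
        intro y
        have := d.span_squares (P := (Subalgebra.toSubmodule (⊥ : Subalgebra F E)).comap (LinearMap.mulLeft F ν))
          hcon (y / ν)
        rw [Submodule.mem_comap, LinearMap.mulLeft_apply, mul_div_cancel₀ _ hν0] at this
        exact this
      have h1 : Module.finrank F E ≤ 1 := finrank_le_one (1 : E) fun y => by
        obtain ⟨c, hc⟩ := Algebra.mem_bot.1 (htop y)
        exact ⟨c, by rw [← hc, Algebra.algebraMap_eq_smul_one]⟩
      omega
    refine ⟨s, hs, fun hmem => hs ?_⟩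
    exact d.mem_bot_of_cayley hr' hs hmem
  set x := ν * (s * s) with hx
  have h2E := d.twoE
  have hx1 : 1 + x ≠ 0 := fun h => hs (by
    rw [show x = algebraMap F E (-1) by rw [map_neg, map_one]; linear_combination h]
    exact Subalgebra.algebraMap_mem _ _)
  set y := z + s • e with hy
  have hqy : Qe y = Qe z * (1 + x) := by
    rw [hy, qmap_add_smul, hze, hx, hν]
    field_simp
    ring
  set A := (1 - x) / (1 + x) with hA
  have hA' : A * A ∉ (⊥ : Subalgebra F E) := hsA
  have hry : ∀ w : V, (refl Qe y).1 w = w - ((Qe z * (1 + x))⁻¹ * polB Qe w y) • y := fun w => by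
    rw [refl_apply, hqy]
  have byz : polB Qe z y = 2 * Qe z := by rw [hy, map_add, map_smul, polB_self, hze, smul_zero, add_zero]
  have bye : polB Qe e y = s * (2 * Qe e) := by
    rw [hy, map_add, map_smul, polB_comm e z, hze, polB_self, zero_add, smul_eq_mul]
  have rzz : (refl Qe z).1 z = -z := refl_self hz
  have rze : (refl Qe z).1 e = e := refl_fix (by rw [polB_comm, hze])
  set s₀ := refl Qe y * refl Qe z with hs₀
  have hs₀i : s₀⁻¹ = refl Qe z * refl Qe y := by rw [hs₀, mul_inv_rev, refl_inv, refl_inv]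
  have hsum : ∀ p q : E, s₀.1 (p • z + q • e) + (s₀⁻¹).1 (p • z + q • e) = (2 * A) • (p • z + q • e) := by
    intro p q
    have hk : s₀.1 z + (s₀⁻¹).1 z = (2 * A) • z := by
      rw [hs₀i, hs₀, orth_mul_apply, orth_mul_apply, rzz, map_neg, hry, map_sub, map_smul, rzz, byz, hy, map_add,
        map_smul, rzz, rze, hA]
      match_scalars <;> field_simp <;> ring
    have hk' : s₀.1 e + (s₀⁻¹).1 e = (2 * A) • e := by
      rw [hs₀i, hs₀, orth_mul_apply, orth_mul_apply, rze, hry, map_sub, map_smul, rze, bye, hy, map_add,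
        map_smul, rzz, rze, hA, hx, hν]
      have hx1' : 1 + Qe e / Qe z * (s * s) ≠ 0 := by rw [← hν, ← hx]; exact hx1
      have hx1'' : Qe z + Qe e * (s * s) ≠ 0 := fun h => hx1' (by field_simp; linear_combination h)
      have hx1''' : Qe e * s ^ 2 + Qe z ≠ 0 := fun h => hx1'' (by linear_combination h)
      match_scalars <;> field_simp <;> ring_nf <;> field_simp <;> ring
    simp only [map_add, map_smul]
    linear_combination (norm := module) p • hk + q • hk'
  refine ⟨s₀ * s₀, hH s₀, fun w hw1 hw2 => ?_, (2 * A) * (2 * A) - 2, fun hmem => hA' ?_, fun p q => ?_⟩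
  · have hwy : polB Qe w y = 0 := by rw [hy, map_add, map_smul, hw1, hw2, smul_zero, add_zero]
    have hfix : s₀.1 w = w := by rw [hs₀, orth_mul_apply, refl_fix hw1, refl_fix hwy]
    rw [orth_mul_apply, hfix, hfix]
  · obtain ⟨c, hc⟩ := Algebra.mem_bot.1 hmem
    refine Algebra.mem_bot.2 ⟨(c + 2) / 4, ?_⟩
    rw [map_div₀, map_add, map_ofNat, map_ofNat, hc, div_eq_iff (by
      rw [show (4 : E) = 2 * 2 by norm_num]; exact mul_ne_zero h2E h2E)]
    ring
  · set v := p • z + q • e with hv
    have h1 := hsum p q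
    rw [← hv] at h1
    have h2 : (s₀⁻¹).1 v = (2 * A) • v - s₀.1 v := eq_sub_of_add_eq' h1
    have h3 : s₀.1 v = (2 * A) • v - (s₀⁻¹).1 v := eq_sub_of_add_eq h1
    have e1 : (s₀ * s₀).1 v = (2 * A) • s₀.1 v - v := by
      rw [orth_mul_apply]
      conv_lhs => rw [h3, map_sub, map_smul, orth_apply_inv_self]
    have e2 : ((s₀ * s₀)⁻¹).1 v = (2 * A) • (s₀⁻¹).1 v - v := by
      rw [mul_inv_rev, orth_mul_apply]
      conv_lhs => rw [h2, map_sub, map_smul, orth_inv_apply_self]
    rw [e1, e2, h2]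
    module

end OExt

end H49
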