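import Cfsg.Agent.H49.OrthExtBase
import Cfsg.Agent.H49.ExtFieldOver

/-!
From a moved line of the extension to a long root group of the orthogonal group over the ground field.
-/

set_option autoImplicit false
set_option linter.unusedSectionVars false

namespace H49

open H43

section pairs

variable {F : Type*} [Field F] {V : Type*} [AddCommGroup V] [Module F V] [FiniteDimensional F V]
  {Q : QuadraticForm F V}

/-- The vectors w with all Eichler transformations of (y, F w) inside M. -/
noncomputable def oPair (Q : QuadraticForm F V) (M : Subgroup (orthGroup Q)) {y : V} (hy : Q y = 0) :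
    Submodule F V where
  carrier := {w | polB Q y w = 0 ∧ ∀ t : F, eichler Q y (t • w) ∈ M}
  add_mem' := fun {a b} ha hb => ⟨by rw [map_add, ha.1, hb.1, add_zero], fun t => by
    rw [smul_add, ← eichler_mul hy (by rw [map_smul, ha.1, smul_zero]) (by rw [map_smul, hb.1, smul_zero])]
    exact mul_mem (ha.2 t) (hb.2 t)⟩
  zero_mem' := ⟨map_zero _, fun t => by rw [smul_zero, eichler_zero hy]; exact one_mem _⟩
  smul_mem' := fun c a ha => ⟨by rw [map_smul, ha.1, smul_zero], fun t => by rw [smul_smul]; exact ha.2 _⟩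

theorem oPair_symm {M : Subgroup (orthGroup Q)} {u w : V} (hu : Q u = 0) (hw : Q w = 0)
    (h : w ∈ oPair Q M hu) : u ∈ oPair Q M hw := by
  refine ⟨by rw [polB_comm]; exact h.1, fun t => ?_⟩
  have h1 : polB Q w (t • u) = 0 := by rw [map_smul, polB_comm, h.1, smul_zero]
  have h2 : polB Q u (-t • w) = 0 := by rw [map_smul, h.1, smul_zero]
  rw [show eichler Q w (t • u) = eichler Q u (-t • w) from orth_ext fun x => by
    rw [eichler_apply hw h1, eichler_apply hu h2, qmap_smul, qmap_smul, hu, hw]
    simp only [map_smul, smul_eq_mul, mul_zero, zero_mul, zero_smul, sub_zero]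
    module]
  exact h.2 _

/-- The commutator rule. -/
theorem oPair_rule {M : Subgroup (orthGroup Q)} {u w a b : V} (hu : Q u = 0) (hw : Q w = 0)
    (huw : polB Q u w = 0) (ha : a ∈ oPair Q M hu) (hb : b ∈ oPair Q M hw) (hwa : polB Q w a = 0)
    (hub : polB Q u b = 0) (hba : polB Q b a ≠ 0) : u ∈ oPair Q M hw := by
  refine ⟨by rw [polB_comm]; exact huw, fun t => ?_⟩
  set c := -t / polB Q b a with hc
  have hwu : polB Q w u = 0 := by rw [polB_comm]; exact huw
  have h1 : polB Q u (c • a) = 0 := by rw [map_smul, ha.1, smul_zero]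
  have himg : (eichler Q u (c • a)).1 b = b + t • u := by
    rw [eichler_apply hu h1, map_smul, polB_comm b u, hub, smul_eq_mul, hc, div_mul_cancel₀ _ hba]
    simp
  have hfix : (eichler Q u (c • a)).1 w = w := eichler_fix hu h1 hwu (by rw [map_smul, hwa, smul_zero])
  have e : eichler Q w (t • u) =
      eichler Q u (c • a) * eichler Q w b * (eichler Q u (c • a))⁻¹ * (eichler Q w b)⁻¹ := by
    rw [eichler_conj _ hw hb.1, himg, hfix, eichler_inv hw hb.1,
      eichler_mul hw (by rw [map_add, hb.1, map_smul, hwu, smul_zero, add_zero]) (by rw [map_neg, hb.1, neg_zero])]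
    congr 1
    abel
  rw [e]
  have hb1 : eichler Q w b ∈ M := by simpa using hb.2 1
  exact mul_mem (mul_mem (mul_mem (ha.2 c) hb1) (inv_mem (ha.2 c))) (inv_mem hb1)

theorem oPair_map {M : Subgroup (orthGroup Q)} {g : orthGroup Q} (hg : g ∈ M) {y w : V} (hy : Q y = 0)
    (hy' : Q (g.1 y) = 0) (h : w ∈ oPair Q M hy) : g.1 w ∈ oPair Q M hy' := by
  refine ⟨by rw [orth_polB_map]; exact h.1, fun t => ?_⟩
  rw [← map_smul g.1, ← eichler_conj g hy (by rw [map_smul, h.1, smul_zero])]
  exact mul_mem (mul_mem hg (h.2 t)) (inv_mem hg)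

theorem oPair_fix {M : Subgroup (orthGroup Q)} {g : orthGroup Q} (hg : g ∈ M) {y w : V} {hy : Q y = 0}
    (he : g.1 y = y) (h : w ∈ oPair Q M hy) : g.1 w ∈ oPair Q M hy := by
  have := oPair_map hg hy (by rw [he]; exact hy) h
  simpa only [he] using this

end pairs

namespace OExt

variable {F : Type*} [Field F] [Fintype F] {E : Type*} [Field E] [Fintype E] [Algebra F E]
  {V : Type*} [AddCommGroup V] [Module F V] [Module E V] [IsScalarTower F E V]
  [FiniteDimensional F V] [FiniteDimensional E V]
  {Q : QuadraticForm F V} {Qe : QuadraticForm E V} {τ : E →ₗ[F] F} (d : OExt Q Qe τ)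
include d

/-- The squares span the extension. -/
theorem span_squares {P : Submodule F E} (h : ∀ a : E, a * a ∈ P) (e : E) : e ∈ P := by
  have h2 := d.twoE
  have h1 := P.sub_mem (h ((e + 1) / 2)) (h ((e - 1) / 2))
  rwa [show (e + 1) / 2 * ((e + 1) / 2) - (e - 1) / 2 * ((e - 1) / 2) = e by field_simp; ring] at h1

theorem smul_inj {v : V} (hv : v ≠ 0) {a b : E} (h : a • v = b • v) : a = b :=
  smul_left_injective E hv h

/-- The orthogonal of a line is preserved by stabilisers of the line. -/
theorem perp_map {g : orthGroup Q} {v : V} (hg : ∀ c : E, ∃ c' : E, g.1 (c' • v) = c • v) {x : V}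
    (hx : polB Qe v x = 0) : polB Qe v (g.1 x) = 0 := by
  refine functional_ext d.nz fun c => ?_
  obtain ⟨c', hc'⟩ := hg c
  rw [← smul_eq_mul, ← LinearMap.smul_apply, ← map_smul, ← d.polB_eq, ← hc', orth_polB_map, d.polB_eq,
    map_smul, LinearMap.smul_apply, hx, smul_zero, map_zero]

/-- Isometries fixing a line pointwise preserve the values on it. -/
theorem perp_fix {g : orthGroup Q} {v : V} (hg : ∀ c : E, g.1 (c • v) = c • v) (x : V) :
    polB Qe v (g.1 x) = polB Qe v x := by
  refine sub_eq_zero.1 (functional_ext d.nz fun c => ?_)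
  rw [← map_sub, ← smul_eq_mul, ← LinearMap.smul_apply, ← map_smul, ← d.polB_eq, map_sub]
  conv_lhs => arg 1; rw [← hg c, orth_polB_map]
  rw [sub_self]

theorem eichler_line {v w : V} (hv : Qe v = 0) (hvw : polB Qe v w = 0) (c : E) :
    (eichler Qe v w).1 (c • v) = c • v := by
  rw [eichler_fix hv hvw]
  · simp [polB_self, hv]
  · simp [hvw]

theorem eichler_perp {v w : V} (hv : Qe v = 0) (hvw : polB Qe v w = 0) {y : V} (hy : polB Qe v y = 0) :
    (eichler Qe v w).1 y = y - polB Qe y w • v := by
  rw [eichler_apply hv hvw, polB_comm y v, hy]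
  simp

variable {M : Subgroup (orthGroup Q)} (hH : ∀ h : orthGroup Qe, d.res (h * h) ∈ M)
include hH

/-- Scaling a line by a square. -/
theorem exists_torus {v : V} (hv : Qe v = 0) (hv0 : v ≠ 0) {a : E} (ha : a ≠ 0) :
    ∃ t ∈ M, ∀ c : E, t.1 (c • v) = (a * a * c) • v := by
  obtain ⟨v', hp⟩ := exists_hypPair d.nde hv hv0
  refine ⟨d.res (hscale Qe v v' a * hscale Qe v v' a), hH _, fun c => ?_⟩
  rw [d.res_apply, orth_mul_apply, map_smul, hscale_left hp ha, smul_smul, map_smul, hscale_left hp ha,
    smul_smul]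
  congr 1
  ring

/-- The axis transvections on a moved line. -/
theorem exists_axis
    (hadj : ∃ g' ∈ M, ∃ v u y : V, Qe v = 0 ∧ Qe u = 0 ∧ v ≠ 0 ∧ u ≠ 0 ∧ y ∈ d.gl g' v ∧ polB Qe y u = 0 ∧
      y ∉ fline (E := E) F u ∧ (∀ l ∈ d.gl g' v, ∃ t : F, l - t • y ∈ fline (E := E) F u)) :
    ∃ g' ∈ M, ∃ (v u : V) (h : E), Qe v = 0 ∧ Qe u = 0 ∧ v ≠ 0 ∧ u ≠ 0 ∧ h ≠ 0 ∧
      (∀ z, τ (h * z) = 0 → g'.1 (z • v) ∈ fline (E := E) F u ∧
        ∃ a ∈ M, ∀ c : E, a.1 (c • v) = (c + τ (h * c) • z) • v) ∧
      ∀ ξ, τ (h * ξ) ≠ 0 → polB Qe (g'.1 (ξ • v)) u = 0 ∧ g'.1 (ξ • v) ∉ fline (E := E) F u := by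
  obtain ⟨g, hgM, v, u, y, hv, hu, hv0, hu0, hy, hyu, hyU, hL⟩ := hadj
  obtain ⟨p, hp, hyp⟩ := exists_orth_polB_eq d.nde (show y ∉ Submodule.span E ({u} : Set V) from hyU) 1
  have hup : polB Qe u p = 0 := hp u (Submodule.mem_span_singleton_self u)
  obtain ⟨f, hf, -⟩ := Submodule.exists_dual_map_eq_bot_of_notMem (p := (⊥ : Submodule F E)) (x := (1 : E))
    (by simp) inferInstance
  let σ : E →ₗ[F] F := (f 1)⁻¹ • f
  have hσ : ∀ t : F, σ (t • (1 : E)) = t := fun t => by simp [σ, hf, mul_comm]
  let η : E →ₗ[F] F :=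
    { toFun := fun c => σ (polB Qe (g.1 (c • v)) p)
      map_add' := fun a b => by rw [add_smul, map_add g.1, map_add (polB Qe), LinearMap.add_apply, map_add σ]
      map_smul' := fun t a => by
        rw [smul_assoc, map_smul g.1, d.be_smul_left, map_smul σ, RingHom.id_apply] }
  have hη : ∀ c : E, g.1 (c • v) - η c • y ∈ fline (E := E) F u := by
    intro c
    obtain ⟨t, ht⟩ := hL _ (d.mem_gl.2 ⟨c, rfl⟩)
    have : η c = t := by
      obtain ⟨e, he⟩ := mem_fline.1 ht
      show σ (polB Qe (g.1 (c • v)) p) = t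
      rw [show g.1 (c • v) = e • u + t • y by rw [he, sub_add_cancel], map_add, LinearMap.add_apply, d.be_smul_left,
        hyp, show polB Qe (e • u) p = 0 by simp [hup], zero_add, hσ]
    rw [this]; exact ht
  obtain ⟨h, hh⟩ := tau_dual_surjective d.nz η
  have hη1 : ∀ c : E, ∃ e : E, g.1 (c • v) = e • u + τ (h * c) • y := fun c => by
    obtain ⟨e, he⟩ := mem_fline.1 (hη c)
    exact ⟨e, by rw [hh, he, sub_add_cancel]⟩
  have hperp : ∀ c : E, polB Qe (g.1 (c • v)) u = 0 := fun c => by
    obtain ⟨e, he⟩ := hη1 c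
    rw [he, map_add, LinearMap.add_apply, map_smul, LinearMap.smul_apply, polB_self, hu, mul_zero, smul_zero,
      zero_add, d.be_smul_left, hyu, smul_zero]
  refine ⟨g, hgM, v, u, h, hv, hu, hv0, hu0, ?_, fun z hz => ?_, fun ξ hξ => ⟨hperp ξ, ?_⟩⟩
  · intro e
    apply hyU
    obtain ⟨c, hc⟩ := d.mem_gl.1 hy
    obtain ⟨e', he'⟩ := hη1 c
    rw [e, zero_mul, map_zero, zero_smul, add_zero, hc] at he'
    exact mem_fline.2 ⟨e', he'.symm⟩
  · obtain ⟨z', hz'⟩ := hη1 z
    rw [hz, zero_smul, add_zero] at hz'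
    refine ⟨mem_fline.2 ⟨z', hz'.symm⟩, ?_⟩
    obtain ⟨w, hw, hyw⟩ := exists_orth_polB_eq d.nde (show y ∉ Submodule.span E ({u} : Set V) from hyU) (-z')
    have huw : polB Qe u w = 0 := hw u (Submodule.mem_span_singleton_self u)
    refine ⟨g⁻¹ * d.res (eichler Qe u w) * g,
      mul_mem (mul_mem (inv_mem hgM) (d.root_mem hH hu huw)) hgM, fun c => ?_⟩
    rw [orth_mul_apply, orth_mul_apply, d.res_apply]
    obtain ⟨e, he⟩ := hη1 c
    have himg : (eichler Qe u w).1 (g.1 (c • v)) = g.1 ((c + τ (h * c) • z) • v) := by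
      rw [eichler_apply hu huw, hperp c, add_smul, smul_assoc, map_add g.1, map_smul g.1, hz']
      conv_lhs => arg 1; arg 2; arg 1; rw [he, map_add, LinearMap.add_apply, map_smul, LinearMap.smul_apply, huw,
        smul_zero, zero_add, d.be_smul_left, hyw]
      simp only [mul_zero, zero_smul, add_zero, sub_zero, smul_neg, neg_smul, sub_neg_eq_add, smul_assoc]
    rw [himg, orth_inv_apply_self]
  · intro hmem
    obtain ⟨e, he⟩ := hη1 ξ
    apply hyU
    rw [← (fline (E := E) F u).smul_mem_iff hξ]
    rw [he] at hmem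
    exact ((fline (E := E) F u).add_mem_iff_right (mem_fline.2 ⟨e, rfl⟩)).1 hmem

/-- A non-trivial element fixing the orthogonal of a line pointwise. -/
theorem exists_central {v : V} {h : E} (hv : Qe v = 0) (hv0 : v ≠ 0) (hh : h ≠ 0)
    (haxis : ∀ z, τ (h * z) = 0 → ∃ a ∈ M, ∀ c : E, a.1 (c • v) = (c + τ (h * c) • z) • v) :
    ∃ C ∈ M, C ≠ 1 ∧ ∀ y, polB Qe v y = 0 → C.1 y = y := by
  obtain ⟨z, hz, hz0⟩ : ∃ z, τ (h * z) = 0 ∧ z ≠ 0 := by
    obtain ⟨z, hz, hz0⟩ := Submodule.exists_mem_ne_zero_of_ne_bot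
      (LinearMap.ker_ne_bot_of_finrank_lt (f := τ.comp (LinearMap.mulLeft F h))
        (by rw [Module.finrank_self]; exact d.prime.one_lt))
    exact ⟨z, hz, hz0⟩
  obtain ⟨a, haM, ha⟩ := haxis z hz
  set A : E → E := fun e => e + τ (h * e) • z with hA
  have hAinv : ∀ e, A (e - τ (h * e) • z) = e := fun e => by
    simp [hA, mul_sub, map_sub, mul_smul_comm, hz]
  have hAinj : Function.Injective A := fun e e' he => by
    have h1 : τ (h * e) = τ (h * e') := by
      have := congrArg (fun x => τ (h * x)) he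
      simpa [hA, mul_add, mul_smul_comm, hz] using this
    simpa [hA, h1] using he
  have ha' : ∀ c : E, a.1 ((c - τ (h * c) • z) • v) = c • v := fun c => by
    rw [ha]; exact congrArg (· • v) (hAinv c)
  have hai : ∀ c : E, (a⁻¹).1 (c • v) = (c - τ (h * c) • z) • v := fun c => by
    rw [← ha' c, orth_inv_apply_self]
  have haperp : ∀ y, polB Qe v y = 0 → polB Qe v (a.1 y) = 0 := fun y hy => d.perp_map (fun c => ⟨_, ha' c⟩) hy
  have haiperp : ∀ y, polB Qe v y = 0 → polB Qe v ((a⁻¹).1 y) = 0 := fun y hy =>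
    d.perp_map (fun c => ⟨A c, by
      rw [hai]; show (A c - τ (h * A c) • z) • v = c • v
      exact congrArg (· • v) (hAinj (hAinv _))⟩) hy
  by_contra hcon
  simp only [not_exists, not_and] at hcon
  -- conjugate roots commute with roots
  have hcomm : ∀ w, polB Qe v w = 0 → ∀ w', polB Qe v w' = 0 →
      ∀ x, (a * d.res (eichler Qe v w) * a⁻¹).1 ((d.res (eichler Qe v w')).1 x) =
        (d.res (eichler Qe v w')).1 ((a * d.res (eichler Qe v w) * a⁻¹).1 x) := by
    intro w hw w' hw' x
    set P := a * d.res (eichler Qe v w) * a⁻¹ with hP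
    set T := d.res (eichler Qe v w') with hT
    by_contra hne
    have hPM : P ∈ M := mul_mem (mul_mem haM (d.root_mem hH hv hw)) (inv_mem haM)
    have hTM : T ∈ M := d.root_mem hH hv hw'
    have hTfix : ∀ c : E, T.1 (c • v) = c • v := fun c => d.eichler_line hv hw' c
    have hPfix : ∀ c : E, P.1 (c • v) = c • v := fun c => by
      rw [hP, orth_mul_apply, orth_mul_apply, hai, d.res_apply, d.eichler_line hv hw, ha' c]
    have key : ∀ y, polB Qe v y = 0 → P.1 (T.1 y) = T.1 (P.1 y) := by
      intro y hy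
      have hPy : ∃ e : E, P.1 y = y + e • v := by
        refine ⟨A (-polB Qe ((a⁻¹).1 y) w), ?_⟩
        rw [hP, orth_mul_apply, orth_mul_apply, d.res_apply, d.eichler_perp hv hw (haiperp y hy), map_sub,
          orth_apply_inv_self, sub_eq_add_neg, ← map_neg, ← neg_smul, ha]
      obtain ⟨e, he⟩ := hPy
      rw [show T.1 y = y + (-polB Qe y w') • v by
        rw [hT, d.res_apply, d.eichler_perp hv hw' hy, neg_smul, sub_eq_add_neg], he, map_add, map_add, hPfix, hTfix,
        he, show T.1 y = y + (-polB Qe y w') • v by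
        rw [hT, d.res_apply, d.eichler_perp hv hw' hy, neg_smul, sub_eq_add_neg]]
      abel
    refine hcon (P * T * P⁻¹ * T⁻¹) (mul_mem (mul_mem (mul_mem hPM hTM) (inv_mem hPM)) (inv_mem hTM))
      (fun e => hne ?_) fun y hy => ?_
    · have h1 : P * T = T * P := by
        rw [mul_inv_eq_one, mul_inv_eq_iff_eq_mul] at e
        exact e
      rw [← orth_mul_apply, h1, orth_mul_apply]
    · have hPi : ∀ c : E, (P⁻¹).1 (c • v) = c • v := fun c => by
        conv_lhs => rw [← hPfix c]
        exact orth_inv_apply_self P _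
      have hTi : ∀ c : E, (T⁻¹).1 (c • v) = c • v := fun c => by
        conv_lhs => rw [← hTfix c]
        exact orth_inv_apply_self T _
      rw [orth_mul_apply, orth_mul_apply, orth_mul_apply,
        key _ (by rw [d.perp_fix hPi, d.perp_fix hTi]; exact hy), orth_apply_inv_self, orth_apply_inv_self]
  -- hence the conjugation is semilinear
  obtain ⟨x, hx⟩ := exists_polB_eq d.nde hv0 1
  have hlin : ∀ w, polB Qe v w = 0 → ∀ (y : V), polB Qe v y = 0 → ∀ c : E,
      (a * d.res (eichler Qe v w) * a⁻¹).1 (c • y) - c • y =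
        c • ((a * d.res (eichler Qe v w) * a⁻¹).1 y - y) := by
    intro w hw
    set P := a * d.res (eichler Qe v w) * a⁻¹ with hP
    have hPfix : ∀ c : E, P.1 (c • v) = c • v := fun c => by
      rw [hP, orth_mul_apply, orth_mul_apply, hai, d.res_apply, d.eichler_line hv hw, ha' c]
    have hπ : polB Qe v (P.1 x - x) = 0 := by rw [map_sub, d.perp_fix hPfix, sub_self]
    have key : ∀ w', polB Qe v w' = 0 → P.1 w' - w' = -(polB Qe (P.1 x - x) w' • v) := by
      intro w' hw'
      have e1 : (eichler Qe v w').1 x = x + w' - (polB Qe x w' + Qe w') • v := by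
        rw [eichler_apply hv hw', polB_comm x v, hx, one_smul, mul_one, add_smul]
        abel
      have h1 := hcomm w hw w' hw' x
      rw [← hP, d.res_apply, d.res_apply, e1, map_sub, map_add, hPfix] at h1
      rw [show P.1 x = x + (P.1 x - x) by abel, map_add (eichler Qe v w').1, e1,
        d.eichler_perp hv hw' hπ] at h1
      linear_combination (norm := module) h1
    intro y hy c
    rw [key _ (by rw [map_smul, hy, smul_zero]), key y hy, map_smul, smul_eq_mul, smul_neg, smul_smul]
  -- semilinearity of the axis map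
  obtain ⟨y', hy'm, hy'v⟩ := exists_orth_notMem (Q := Qe) d.nde (W := E ∙ v) (P := E ∙ v) (by
    rw [finrank_span_singleton hv0]; have := d.big; omega)
  have hy' : polB Qe v y' = 0 := mem_orth_singleton.1 hy'm
  obtain ⟨w₀, hw₀, hyw₀⟩ := exists_orth_polB_eq d.nde hy'v 1
  have hvw₀ : polB Qe v w₀ = 0 := hw₀ v (Submodule.mem_span_singleton_self v)
  have hmul : ∀ m e : E, A (e * m) * A 1 = A m * A e := by
    intro m e
    have hA1 : A 1 ≠ 0 := fun e0 => one_ne_zero (hAinj (e0.trans (by simp [hA])))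
    set c := A m / A 1 with hc
    set y := a.1 y' with hy
    have hyv : polB Qe v y = 0 := haperp y' hy'
    have hcy : polB Qe v (c • y) = 0 := by rw [map_smul, hyv, smul_zero]
    set m' := polB Qe ((a⁻¹).1 (c • y)) w₀ with hm'
    have hgen : ∀ e : E, A (e * m') = c * A e := by
      intro e
      have hw : polB Qe v (e • w₀) = 0 := by rw [map_smul, hvw₀, smul_zero]
      have h1 := hlin (e • w₀) hw y hyv c
      have hP : ∀ x, polB Qe v x = 0 → (a * d.res (eichler Qe v (e • w₀)) * a⁻¹).1 x - x =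
          A (-(e * polB Qe ((a⁻¹).1 x) w₀)) • v := by
        intro x hx
        rw [orth_mul_apply, orth_mul_apply, d.res_apply, d.eichler_perp hv hw (haiperp x hx), map_sub,
          orth_apply_inv_self, map_smul (polB Qe _), smul_eq_mul, sub_right_comm, sub_self, zero_sub, ← map_neg,
          ← neg_smul, ha]
      rw [hP _ hcy, hP _ hyv, smul_smul, hy, orth_inv_apply_self, hyw₀, mul_one] at h1
      have h2 := d.smul_inj hv0 h1
      have hneg : ∀ q : E, A (-q) = -A q := fun q => by
        simp [hA, mul_neg, add_comm]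
      rw [hneg, hneg, mul_neg, neg_inj] at h2
      exact h2
    have h1 := hgen 1
    rw [one_mul, hc, div_mul_cancel₀ _ hA1] at h1
    rw [← hAinj h1, hgen, hAinj h1, hc]
    field_simp
  have hA1 : A 1 ≠ 0 := fun e0 => one_ne_zero (hAinj (e0.trans (by simp [hA])))
  let S : Subalgebra F E :=
    { carrier := {e | A e = e * A 1}
      mul_mem' := fun {p q} hp hq => by
        apply mul_right_cancel₀ hA1
        rw [hmul q p]
        rw [show A q = q * A 1 from hq, show A p = p * A 1 from hp]
        ring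
      add_mem' := fun {p q} hp hq => by
        show A (p + q) = (p + q) * A 1
        rw [add_mul, ← show A p = p * A 1 from hp, ← show A q = q * A 1 from hq]
        simp only [hA, mul_add, map_add, add_smul]
        abel
      algebraMap_mem' := fun t => by
        show A _ = _
        rw [← Algebra.smul_def, Algebra.algebraMap_eq_smul_one]
        simp [hA, mul_smul_comm, map_smul, smul_add, smul_smul] }
  haveI := Subalgebra.isSimpleOrder_of_finrank_prime F E d.prime
  obtain ⟨ξ, hξ⟩ : ∃ ξ, τ (h * ξ) = 1 := by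
    obtain ⟨c, hc⟩ : ∃ c, τ (h * c) ≠ 0 := by
      by_contra hcon
      simp only [not_exists, not_not] at hcon
      exact hh (functional_ext d.nz fun c => by rw [mul_comm, hcon])
    exact ⟨(τ (h * c))⁻¹ • c, by rw [mul_smul_comm, map_smul, smul_eq_mul, inv_mul_cancel₀ hc]⟩
  by_cases hr : 3 ≤ Module.finrank F E
  · obtain ⟨z', hz', hzz'⟩ : ∃ z', τ (h * z') = 0 ∧ ∀ t : F, z' ≠ t • z := by
      by_contra hcon
      simp only [not_exists, not_and, not_forall, not_not] at hcon
      have h1 : Module.finrank F (LinearMap.ker (τ.comp (LinearMap.mulLeft F h))) ≤ 1 :=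
        finrank_le_one (⟨z, hz⟩ : LinearMap.ker (τ.comp (LinearMap.mulLeft F h))) fun w => by
          obtain ⟨t, ht⟩ := hcon w.1 w.2
          exact ⟨t, Subtype.ext ht.symm⟩
      have h2 := LinearMap.finrank_range_add_finrank_ker (τ.comp (LinearMap.mulLeft F h))
      have h3 := Submodule.finrank_le (LinearMap.range (τ.comp (LinearMap.mulLeft F h)))
      rw [Module.finrank_self] at h3
      omega
    have hAz : A z = z := by simp [hA, hz]
    have hAz' : A z' = z' := by simp [hA, hz']
    have ht : z' / z ∈ S := by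
      show A (z' / z) = z' / z * A 1
      apply mul_right_cancel₀ hz0
      have := hmul z (z' / z)
      rw [div_mul_cancel₀ _ hz0, hAz, hAz'] at this
      rw [mul_comm, ← this, mul_right_comm, div_mul_cancel₀ _ hz0]
    have hS : S = ⊤ := by
      rcases IsSimpleOrder.eq_bot_or_eq_top S with h' | h'
      · exfalso
        rw [h', Algebra.mem_bot] at ht
        obtain ⟨t, ht⟩ := ht
        exact hzz' t (by rw [Algebra.smul_def, ht, div_mul_cancel₀ _ hz0])
      · exact h'
    have e1 : A z = z * A 1 := show z ∈ S by rw [hS]; exact Algebra.mem_top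
    have e2 : A ξ = ξ * A 1 := show ξ ∈ S by rw [hS]; exact Algebra.mem_top
    rw [hAz] at e1
    have hA11 : A 1 = 1 := mul_left_cancel₀ hz0 (by rw [mul_one]; exact e1.symm)
    rw [hA11, mul_one] at e2
    simp [hA, hξ, hz0] at e2
  · have hr2 : Module.finrank F E = 2 := by have := d.prime.two_le; omega
    set t := ξ / z with ht
    have hξt : ξ = t * z := by rw [ht, div_mul_cancel₀ _ hz0]
    have hAt : A t = (t + 1) * A 1 := by
      apply mul_right_cancel₀ hz0
      have := hmul z t
      rw [← hξt, show A ξ = ξ + z by simp [hA, hξ], show A z = z by simp [hA, hz]] at this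
      rw [mul_comm, ← this, hξt]
      ring
    have hnot : ∀ s : F, t ≠ algebraMap F E s := fun s hs => by
      rw [hξt, hs, ← Algebra.smul_def, mul_smul_comm, map_smul, hz, smul_zero] at hξ
      exact zero_ne_one hξ
    have hli : LinearIndependent F ![(1 : E), t] := by
      rw [LinearIndependent.pair_iff' one_ne_zero]
      exact fun s hs => hnot s (by rw [Algebra.algebraMap_eq_smul_one]; exact hs.symm)
    have htop := hli.span_eq_top_of_card_eq_finrank (by rw [Fintype.card_fin, hr2])
    rw [Matrix.range_cons, Matrix.range_cons, Matrix.range_empty, Set.union_empty, Set.singleton_union] at htop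
    obtain ⟨q, p, hpq⟩ := Submodule.mem_span_pair.1 (htop ▸ Submodule.mem_top : t * t ∈ Submodule.span F {(1 : E), t})
    have h1 := hmul t t
    have h3 : A (t * t) = q • A 1 + p • A t := by
      rw [← hpq]
      simp only [hA, mul_add, mul_smul_comm, map_add, map_smul, add_smul, smul_add, smul_smul, smul_eq_mul]
      abel
    rw [h3, hAt] at h1
    rw [Algebra.smul_def, Algebra.smul_def] at h1
    rw [Algebra.smul_def, Algebra.smul_def] at hpq
    apply hnot ((p - 1) / 2)
    have h4 : (t + 1) * (t + 1) = algebraMap F E q + algebraMap F E p * (t + 1) := by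
      apply mul_right_cancel₀ (mul_ne_zero hA1 hA1)
      linear_combination -h1
    rw [map_div₀, map_sub, map_one, map_ofNat, eq_div_iff d.twoE]
    linear_combination h4 + hpq

end OExt

end H49
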