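import Cfsg.Agent.H49.OrthExtPlanes

/-!
A long root group from an axis and a central element.
-/

set_option autoImplicit false
set_option linter.unusedSectionVars false

namespace H49

open H43

namespace OExt

variable {F : Type*} [Field F] [Fintype F] {E : Type*} [Field E] [Fintype E] [Algebra F E]
  {V : Type*} [AddCommGroup V] [Module F V] [Module E V] [IsScalarTower F E V]
  [FiniteDimensional F V] [FiniteDimensional E V]
  {Q : QuadraticForm F V} {Qe : QuadraticForm E V} {τ : E →ₗ[F] F} (d : OExt Q Qe τ)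
include d

variable {M : Subgroup (orthGroup Q)} (hH : ∀ h : orthGroup Qe, d.res (h * h) ∈ M)
include hH

/-- A long root group from an axis and a central element. -/
theorem exists_root {v : V} {h : E} (hv : Qe v = 0) {C : orthGroup Q} (hC : C ∈ M)
    (hCfix : ∀ y, polB Qe v y = 0 → C.1 y = y) {δ : V →ₗ[F] E} (hδ : ∀ y, C.1 y = y + δ y • v)
    {μ : E} (hμ : ∀ y, τ (h * δ y) = polB Q y (μ • v))
    (haxis : ∀ z, τ (h * z) = 0 → ∃ a ∈ M, ∀ c : E, a.1 (c • v) = (c + τ (h * c) • z) • v)
    (hv0 : v ≠ 0) {z : E} (hz : τ (h * z) = 0) :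
    τ (h * μ) = 0 ∧ z • v ∈ oPair Q M (d.q_zero (show Qe (μ • v) = 0 by rw [qmap_smul, hv, mul_zero])) := by
  have hQU : ∀ e : E, Q (e • v) = 0 := fun e => d.q_zero (by rw [qmap_smul, hv, mul_zero])
  have hBU : ∀ e e' : E, polB Q (e • v) (e' • v) = 0 := fun e e' => by
    rw [d.polB_eq]; simp [polB_self, hv]
  have hCv : ∀ e : E, C.1 (e • v) = e • v := fun e => hCfix _ (by rw [map_smul, polB_self, hv, mul_zero, smul_zero])
  have hδ0 : ∀ e : E, δ (e • v) = 0 := fun e => by
    have := hδ (e • v)
    rw [hCv, eq_comm, add_eq_left, smul_eq_zero] at this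
    exact this.resolve_right hv0
  have hskew : ∀ y t, polB Q (δ y • v) t = - polB Q y (δ t • v) := by
    intro y t
    have := orth_polB_map C y t
    simp only [hδ, map_add, LinearMap.add_apply, hBU, add_zero] at this
    linear_combination this
  have hself : ∀ y, polB Q y (δ y • v) = 0 := fun y => by
    have := orth_qmap C y
    rw [hδ, qmap_add, hQU, add_zero, add_eq_left] at this
    exact this
  have hμ0 : τ (h * μ) = 0 := by
    obtain ⟨p, hp⟩ := exists_polB_eq d.nde hv0 1
    let κ : V →ₗ[F] F :=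
      { toFun := fun x => τ (h * polB Qe x p)
        map_add' := fun a b => by rw [map_add (polB Qe), LinearMap.add_apply, mul_add, map_add τ]
        map_smul' := fun t a => by rw [d.be_smul_left, mul_smul_comm, map_smul τ, RingHom.id_apply] }
    let x₁ := ((polB Q).toDual d.nd).symm κ
    have hx₁ : ∀ e : E, polB Q x₁ (e • v) = τ (h * e) := fun e => by
      rw [LinearMap.BilinForm.apply_toDual_symm_apply]
      show τ (h * polB Qe (e • v) p) = _
      rw [map_smul, LinearMap.smul_apply, hp, smul_eq_mul, mul_one]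
    rw [← hx₁ μ, ← hμ x₁, ← hx₁]
    exact hself x₁
  refine ⟨hμ0, by rw [d.polB_eq]; simp [polB_self, hv], fun s => ?_⟩
  have hsz : τ (h * (s • z)) = 0 := by rw [mul_smul_comm, map_smul, hz, smul_zero]
  obtain ⟨a, haM, ha⟩ := haxis _ hsz
  have hmem : a * C * a⁻¹ * C⁻¹ ∈ M := mul_mem (mul_mem (mul_mem haM hC) (inv_mem haM)) (inv_mem hC)
  have hh0 : polB Q (μ • v) (s • (z • v)) = 0 := by rw [map_smul, hBU, smul_zero]
  convert hmem using 1
  refine orth_ext fun x => ?_
  rw [eichler_apply (hQU μ) hh0, qmap_smul, hQU, mul_zero, zero_mul, zero_smul, sub_zero, orth_mul_apply,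
    orth_mul_apply, orth_mul_apply]
  have hCi : (C⁻¹).1 x = x + (-δ x) • v := by
    apply C.1.injective
    rw [orth_apply_inv_self, map_add, hCv, hδ, neg_smul, add_neg_cancel_right]
  rw [hCi]
  set y := (a⁻¹).1 (x + (-δ x) • v) with hy
  have hay : a.1 y = x + (-δ x) • v := orth_apply_inv_self a _
  rw [hδ, map_add, hay, ha]
  have hval : ∀ e : E, polB Q y (e • v) = polB Q x (e • v) + τ (h * e) * polB Q x ((s • z) • v) := by
    intro e
    have := orth_polB_map a y (e • v)
    rw [hay, ha, map_add (polB Q), LinearMap.add_apply, hBU, add_zero, add_smul, map_add, smul_assoc (τ (h * e)),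
      map_smul (polB Q x), smul_eq_mul] at this
    exact this.symm
  have h1 : τ (h * δ y) = polB Q x (μ • v) := by
    rw [hμ, hval, hμ0, zero_mul, add_zero]
  have h2 : (δ y - δ x) • v = -(polB Q x ((s • z) • v) • (μ • v)) := by
    rw [← sub_eq_zero, sub_neg_eq_add]
    refine eq_zero_of_polB_eq_zero d.nd fun t => ?_
    rw [sub_smul, map_add, LinearMap.add_apply, map_sub, LinearMap.sub_apply, hskew, hskew,
      map_smul (polB Q), LinearMap.smul_apply, smul_eq_mul, hval, hμ, polB_comm (μ • v) t]
    ring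
  rw [h1, ← smul_assoc s z v]
  linear_combination (norm := (match_scalars <;> (first | ring1 | (simp only [Algebra.smul_def]; ring1)))) -h2

end OExt

end H49
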