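import Cfsg.Agent.H49.OrthExtRoot

/-!
The starting plane.
-/

set_option autoImplicit false
set_option linter.unusedSectionVars false

namespace H49

open H43

namespace OExt

variable {F : Type*} [Field F] [Fintype F] {E : Type*} [Field E] [Fintype E] [Algebra F E]
  {V : Type*} [AddCommGroup V] [Module F V] [Module E V] [IsScalarTower F E V]
  [FiniteDimensional F V] [FiniteDimensional E V]
  {Q : QuadraticForm F V} {Qe : QuadraticForm E V} {τ : E →ₗ[F] F} (d : OExt Q Qe τ)
include d

variable {M : Subgroup (orthGroup Q)} (hH : ∀ h : orthGroup Qe, d.res (h * h) ∈ M)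
include hH

/-- The starting plane: a vector of a line paired with one orthogonal to it outside. -/
theorem exists_start
    (hadj : ∃ g' ∈ M, ∃ v u y : V, Qe v = 0 ∧ Qe u = 0 ∧ v ≠ 0 ∧ u ≠ 0 ∧ y ∈ d.gl g' v ∧ polB Qe y u = 0 ∧
      y ∉ fline (E := E) F u ∧ (∀ l ∈ d.gl g' v, ∃ t : F, l - t • y ∈ fline (E := E) F u)) :
    ∃ (u : V) (hu : Qe u = 0) (e : E), u ≠ 0 ∧ e ≠ 0 ∧ ∃ l ∈ oPair Q M (d.q_zero (show Qe (e • u) = 0 by
      rw [qmap_smul, hu, mul_zero])), polB Qe u l = 0 ∧ l ∉ fline (E := E) F u := by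
  obtain ⟨g, hgM, v, u, h, hv, hu, hv0, hu0, hh, hax, hout⟩ := d.exists_axis hH hadj
  have haxis : ∀ z, τ (h * z) = 0 → ∃ a ∈ M, ∀ c : E, a.1 (c • v) = (c + τ (h * c) • z) • v :=
    fun z hz => (hax z hz).2
  obtain ⟨C, hC, hC1, hCfix⟩ := d.exists_central hH hv hv0 hh haxis
  obtain ⟨p, hp⟩ := exists_polB_eq d.nde hv0 1
  let δ : V →ₗ[F] E :=
    { toFun := fun x => polB Qe (C.1 x - x) p
      map_add' := fun a b => by
        rw [map_add, ← LinearMap.add_apply, ← map_add (polB Qe)]
        congr 2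
        abel
      map_smul' := fun t a => by rw [map_smul, ← smul_sub, d.be_smul_left, RingHom.id_apply] }
  have hδ : ∀ y, C.1 y = y + δ y • v := by
    intro y
    have hmem : C.1 y - y ∈ fline (E := E) F v := by
      rw [← LinearMap.BilinForm.orthogonal_orthogonal d.nd (polB_isRefl Q) (fline (E := E) F v)]
      intro x hx
      change polB Q x (C.1 y - y) = 0
      have hx' := d.mem_orth_line.1 hx
      rw [map_sub, sub_eq_zero]
      conv_lhs => rw [← hCfix x hx', orth_polB_map]
    obtain ⟨e, he⟩ := mem_fline.1 hmem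
    have : δ y = e := by
      show polB Qe (C.1 y - y) p = e
      rw [← he, map_smul, LinearMap.smul_apply, hp, smul_eq_mul, mul_one]
    rw [this, he, add_sub_cancel]
  have hδne : ∃ y, δ y ≠ 0 := by
    by_contra hcon
    simp only [not_exists, not_not] at hcon
    exact hC1 (orth_ext fun y => by rw [hδ, hcon, zero_smul, add_zero, orth_one_apply])
  have hQU : ∀ e : E, Q (e • v) = 0 := fun e => d.q_zero (by rw [qmap_smul, hv, mul_zero])
  have hmu : ∀ h' : E, ∃ μ : E, ∀ y, τ (h' * δ y) = polB Q y (μ • v) := by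
    intro h'
    let κ : V →ₗ[F] F := τ.comp ((LinearMap.mulLeft F h').comp δ)
    set m := ((polB Q).toDual d.nd).symm κ with hm
    have hmy : ∀ y, polB Q m y = κ y := fun y => LinearMap.BilinForm.apply_toDual_symm_apply ..
    obtain ⟨μ, hμ⟩ := mem_fline.1 (show m ∈ fline (E := E) F v by
      rw [← LinearMap.BilinForm.orthogonal_orthogonal d.nd (polB_isRefl Q) (fline (E := E) F v)]
      intro x hx
      change polB Q x m = 0
      rw [polB_comm, hmy]
      have h1 := hδ x
      rw [hCfix x (d.mem_orth_line.1 hx), eq_comm, add_eq_left, smul_eq_zero] at h1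
      show τ (h' * δ x) = 0
      rw [h1.resolve_right hv0, mul_zero, map_zero])
    exact ⟨μ, fun y => by rw [hμ, polB_comm, hmy]; rfl⟩
  -- translate a plane
  have finish : ∀ (g' : orthGroup Q), g' ∈ M → ∀ (z ξ : E), z ≠ 0 → g'.1 (z • v) ∈ fline (E := E) F u →
      polB Qe (g'.1 (ξ • v)) u = 0 → g'.1 (ξ • v) ∉ fline (E := E) F u → ξ • v ∈ oPair Q M (hQU z) →
      ∃ (u : V) (hu : Qe u = 0) (e : E), u ≠ 0 ∧ e ≠ 0 ∧ ∃ l ∈ oPair Q M (d.q_zero (show Qe (e • u) = 0 by
        rw [qmap_smul, hu, mul_zero])), polB Qe u l = 0 ∧ l ∉ fline (E := E) F u := by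
    intro g' hg' z ξ hz0 h1 h2 h3 h4
    obtain ⟨e, he⟩ := mem_fline.1 h1
    have he0 : e ≠ 0 := fun e0 => by
      rw [e0, zero_smul, eq_comm, g'.1.map_eq_zero_iff, smul_eq_zero] at he
      exact hv0 (he.resolve_left hz0)
    refine ⟨u, hu, e, hu0, he0, g'.1 (ξ • v), ?_, by rw [polB_comm]; exact h2, h3⟩
    have h5 := oPair_map hg' (hQU z) (by rw [orth_qmap, hQU]) h4
    simpa only [← he] using h5
  by_cases hr : 3 ≤ Module.finrank F E
  · -- change the axis
    have hsc : ∀ b : E, b ≠ 0 → ∀ z, τ (h * (b * b) * z) = 0 →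
        ∃ a ∈ M, ∀ c : E, a.1 (c • v) = (c + τ (h * (b * b) * c) • z) • v := by
      intro b hb z hz
      obtain ⟨t, htM, ht⟩ := d.exists_torus hH hv hv0 (inv_ne_zero hb)
      obtain ⟨a, haM, ha⟩ := haxis (b * b * z) (by rw [← mul_assoc]; exact hz)
      refine ⟨t * a * t⁻¹, mul_mem (mul_mem htM haM) (inv_mem htM), fun c => ?_⟩
      have h1 : (t⁻¹).1 (c • v) = (b * b * c) • v := by
        conv_lhs => rw [show c = b⁻¹ * b⁻¹ * (b * b * c) by field_simp, ← ht, orth_inv_apply_self]
      rw [orth_mul_apply, orth_mul_apply, h1, ha, ht, ← mul_assoc h]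
      congr 1
      rw [mul_add, mul_smul_comm]
      congr 1 <;> [field_simp; (congr 1; field_simp)]
    -- an axis with non-zero centre
    obtain ⟨b, μ, hb, hμ, hμ0⟩ : ∃ b μ : E, b ≠ 0 ∧ (∀ y, τ (h * (b * b) * δ y) = polB Q y (μ • v)) ∧ μ ≠ 0 := by
      by_contra hcon
      obtain ⟨y, hy⟩ := hδne
      apply hy
      refine (mul_eq_zero.1 (functional_ext d.nz (a := h * δ y) fun c => ?_)).resolve_left hh
      let P : Submodule F E := LinearMap.ker (τ.comp (LinearMap.mulRight F (h * δ y)))
      refine (d.span_squares (P := P) (fun b => ?_) c : c ∈ P)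
      show τ (b * b * (h * δ y)) = 0
      by_cases hb : b = 0
      · simp [hb]
      obtain ⟨μ, hμ⟩ := hmu (h * (b * b))
      have : μ = 0 := by_contra fun hne => hcon ⟨b, μ, hb, hμ, hne⟩
      rw [show b * b * (h * δ y) = h * (b * b) * δ y by ring, hμ, this, zero_smul, map_zero]
    have hplane : ∀ z, τ (h * (b * b) * z) = 0 → z • v ∈ oPair Q M (hQU μ) := fun z hz =>
      (d.exists_root hH hv hC hCfix hδ hμ (hsc b hb) hv0 hz).2
    have hμker : τ (h * (b * b) * μ) = 0 :=
      (d.exists_root hH hv hC hCfix hδ hμ (hsc b hb) hv0 (z := 0) (by simp)).1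
    obtain ⟨b', hb', hb'μ⟩ : ∃ b' : E, b' ≠ 0 ∧ τ (h * (b' * b') * μ) ≠ 0 := by
      by_contra hcon
      apply hμ0
      refine (mul_eq_zero.1 (functional_ext d.nz (a := h * μ) fun c => ?_)).resolve_left hh
      let P : Submodule F E := LinearMap.ker (τ.comp (LinearMap.mulRight F (h * μ)))
      refine (d.span_squares (P := P) (fun b => ?_) c : c ∈ P)
      show τ (b * b * (h * μ)) = 0
      by_cases hb : b = 0
      · simp [hb]
      rw [show b * b * (h * μ) = h * (b * b) * μ by ring]
      exact by_contra fun hne => hcon ⟨b, hb, hne⟩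
    obtain ⟨z, hz, hz0⟩ := Submodule.exists_mem_ne_zero_of_ne_bot
      (LinearMap.ker_ne_bot_of_finrank_lt (f := (τ.comp (LinearMap.mulLeft F (h * (b * b)))).prod
        (τ.comp (LinearMap.mulLeft F (h * (b' * b'))))) (by rw [Module.finrank_prod, Module.finrank_self]; omega))
    have hz1 : τ (h * (b * b) * z) = 0 := congrArg Prod.fst (hz : _ = _)
    have hz2 : τ (h * (b' * b') * z) = 0 := congrArg Prod.snd (hz : _ = _)
    -- a kernel element of the second axis outside the first
    obtain ⟨z', hz', hz'1⟩ : ∃ z', τ (h * (b' * b') * z') = 0 ∧ τ (h * (b * b) * z') ≠ 0 := by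
      by_contra hcon
      simp only [not_exists, not_and, not_not] at hcon
      set K₁ := LinearMap.ker (τ.comp (LinearMap.mulLeft F (h * (b * b)))) with hK₁
      set K₂ := LinearMap.ker (τ.comp (LinearMap.mulLeft F (h * (b' * b')))) with hK₂
      have hle : K₂ ≤ K₁ := fun x hx => hcon x hx
      have hlt : K₂ < K₁ := lt_of_le_of_ne hle fun e => hb'μ (show μ ∈ K₂ from e ▸ hμker)
      have h1 := Submodule.finrank_lt_finrank_of_lt hlt
      have h2 := LinearMap.finrank_range_add_finrank_ker (τ.comp (LinearMap.mulLeft F (h * (b' * b'))))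
      have h3 := Submodule.finrank_le (LinearMap.range (τ.comp (LinearMap.mulLeft F (h * (b' * b')))))
      have h4 : K₁ ≠ ⊤ := fun e => by
        obtain ⟨c, hc⟩ : ∃ c, τ (h * (b * b) * c) ≠ 0 := by
          by_contra hcon'
          simp only [not_exists, not_not] at hcon'
          exact mul_ne_zero hh (mul_ne_zero hb hb) (functional_ext d.nz fun c => by rw [mul_comm, hcon'])
        exact hc (show c ∈ K₁ by rw [e]; trivial)
      have h5 := Submodule.finrank_lt h4
      rw [Module.finrank_self] at h3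
      rw [← hK₂] at h2
      omega
    obtain ⟨a, haM, ha⟩ := hsc b' hb' z' hz'
    have h5 : μ • v ∈ oPair Q M (hQU z) := oPair_symm (hQU μ) (hQU z) (hplane z hz1)
    have h6 := oPair_fix haM (by rw [ha, hz2, zero_smul, add_zero]) h5
    rw [ha, add_smul, (oPair Q M (hQU z)).add_mem_iff_right h5, smul_assoc, Submodule.smul_mem_iff _ hb'μ] at h6
    obtain ⟨t, htM, ht⟩ := d.exists_torus hH hv hv0 hb
    have hg' : g * t ∈ M := mul_mem hgM htM
    refine finish _ hg' z z' hz0 ?_ ?_ ?_ h6
    · rw [orth_mul_apply, ht]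
      exact (hax _ (by rw [← mul_assoc]; exact hz1)).1
    · rw [orth_mul_apply, ht]
      exact (hout _ (by rw [← mul_assoc]; exact hz'1)).1
    · rw [orth_mul_apply, ht]
      exact (hout _ (by rw [← mul_assoc]; exact hz'1)).2
  -- degree two
  have hr2 : Module.finrank F E = 2 := by have := d.prime.two_le; omega
  obtain ⟨z, hz, hz0⟩ := Submodule.exists_mem_ne_zero_of_ne_bot
    (LinearMap.ker_ne_bot_of_finrank_lt (f := τ.comp (LinearMap.mulLeft F h))
      (by rw [Module.finrank_self]; exact d.prime.one_lt))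
  have hz' : τ (h * z) = 0 := hz
  obtain ⟨c₁, hc₁⟩ : ∃ c, τ (h * c) ≠ 0 := by
    by_contra hcon
    simp only [not_exists, not_not] at hcon
    exact hh (functional_ext d.nz fun c => by rw [mul_comm, hcon])
  obtain ⟨ξ, hξ⟩ : ∃ ξ, τ (h * ξ) = 1 :=
    ⟨(τ (h * c₁))⁻¹ • c₁, by rw [mul_smul_comm, map_smul, smul_eq_mul, inv_mul_cancel₀ hc₁]⟩
  set t := ξ / z with ht
  have hξt : ξ = t * z := by rw [ht, div_mul_cancel₀ _ hz0]
  have hnot : ∀ s : F, t ≠ algebraMap F E s := fun s hs => by
    rw [hξt, hs, ← Algebra.smul_def, mul_smul_comm, map_smul, hz', smul_zero] at hξ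
    exact zero_ne_one hξ
  have hli : LinearIndependent F ![(1 : E), t] := by
    rw [LinearIndependent.pair_iff' one_ne_zero]
    exact fun s hs => hnot s (by rw [Algebra.algebraMap_eq_smul_one]; exact hs.symm)
  have htop := hli.span_eq_top_of_card_eq_finrank (by rw [Fintype.card_fin, hr2])
  rw [Matrix.range_cons, Matrix.range_cons, Matrix.range_empty, Set.union_empty, Set.singleton_union] at htop
  have hcoord : ∀ e : E, ∃ i j : F, e = i • z + j • ξ := fun e => by
    obtain ⟨i, j, hij⟩ := Submodule.mem_span_pair.1 (htop ▸ Submodule.mem_top : e / z ∈ Submodule.span F {(1 : E), t})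
    refine ⟨i, j, ?_⟩
    rw [hξt, ← div_mul_cancel₀ e hz0, ← hij, add_mul, smul_mul_assoc, smul_mul_assoc, one_mul]
  -- the central element is a root element
  obtain ⟨Z, hZ⟩ : ∃ Z, Z = z • v := ⟨_, rfl⟩
  obtain ⟨X, hX⟩ : ∃ X, X = ξ • v := ⟨_, rfl⟩
  obtain ⟨i₁, hi₁⟩ : ∃ i : F, ∀ y, τ (h * δ y) = i * polB Q y Z := by
    obtain ⟨μ, hμ⟩ := hmu h
    have hμker := (d.exists_root hH hv hC hCfix hδ hμ haxis hv0 (z := 0) (by simp)).1
    obtain ⟨i, j, hij⟩ := hcoord μ
    rw [hij, mul_add, map_add, mul_smul_comm, map_smul, hz', smul_zero, zero_add, mul_smul_comm, map_smul, hξ,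
      smul_eq_mul, mul_one] at hμker
    exact ⟨i, fun y => by rw [hμ, hij, hμker, zero_smul, add_zero, smul_assoc, map_smul, smul_eq_mul, hZ]⟩
  have hδξ : ∀ y, δ y - τ (h * δ y) • ξ ∈ Submodule.span F {z} := fun y => by
    obtain ⟨i, j, hij⟩ := hcoord (δ y)
    rw [hij, mul_add, map_add, mul_smul_comm, map_smul, hz', smul_zero, zero_add, mul_smul_comm, map_smul, hξ,
      smul_eq_mul, mul_one, add_sub_cancel_right]
    exact Submodule.smul_mem _ _ (Submodule.mem_span_singleton_self z)
  have hQU' : ∀ W, W = z • v → Q W = 0 := fun W e => by rw [e]; exact hQU z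
  have hskew0 : ∀ y, polB Q y (δ y • v) = 0 := fun y => by
    have := orth_qmap C y
    rw [hδ, qmap_add, hQU, add_zero, add_eq_left] at this
    exact this
  have hD : ∀ y, δ y • v = i₁ • (polB Q y Z • X - polB Q y X • Z) := by
    intro y
    obtain ⟨p, hp⟩ := Submodule.mem_span_singleton.1 (hδξ y)
    have e : δ y • v = τ (h * δ y) • X + p • Z := by
      rw [hX, hZ, ← smul_assoc, ← smul_assoc, ← add_smul, hp, add_sub_cancel]
    have h0 := hskew0 y
    rw [e, map_add, map_smul, map_smul, hi₁, smul_eq_mul, smul_eq_mul] at h0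
    rw [e, hi₁]
    by_cases hyZ : polB Q y Z = 0
    · obtain ⟨y₁, hy₁Z, hy₁X⟩ : ∃ y₁, polB Q y₁ Z ≠ 0 ∧ polB Q y₁ X = 0 := by
        have hZX : Z ∉ Submodule.span F {X} := fun hmem => by
          obtain ⟨s, hs⟩ := Submodule.mem_span_singleton.1 hmem
          rw [hX, hZ, ← smul_assoc] at hs
          have := congrArg (fun e => τ (h * e)) (d.smul_inj hv0 hs)
          simp only [mul_smul_comm, map_smul, hξ, hz', smul_eq_mul, mul_one] at this
          rw [this, zero_smul, zero_smul, eq_comm, smul_eq_zero] at hs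
          exact hz0 (hs.resolve_right hv0)
        obtain ⟨w, hw, hwX⟩ := exists_orth_polB_eq d.nd hZX 1
        exact ⟨w, by rw [polB_comm, hwX]; exact one_ne_zero, by
          rw [polB_comm]; exact hw X (Submodule.mem_span_singleton_self X)⟩
      obtain ⟨p₁, hp₁⟩ := Submodule.mem_span_singleton.1 (hδξ y₁)
      obtain ⟨p₂, hp₂⟩ := Submodule.mem_span_singleton.1 (hδξ (y + y₁))
      have e1 : δ y₁ • v = τ (h * δ y₁) • X + p₁ • Z := by
        rw [hX, hZ, ← smul_assoc, ← smul_assoc, ← add_smul, hp₁, add_sub_cancel]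
      have e2 : δ (y + y₁) • v = τ (h * δ (y + y₁)) • X + p₂ • Z := by
        rw [hX, hZ, ← smul_assoc, ← smul_assoc, ← add_smul, hp₂, add_sub_cancel]
      have k1 := hskew0 y₁
      rw [e1, map_add, map_smul, map_smul, hy₁X, smul_zero, zero_add, smul_eq_mul, mul_eq_zero] at k1
      have k1' := k1.resolve_right hy₁Z
      have hp12 : p₂ = p + p₁ := by
        apply smul_left_injective F hz0
        show p₂ • z = (p + p₁) • z
        rw [add_smul, hp, hp₁, hp₂, map_add, mul_add, map_add, add_smul]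
        abel
      have k2 := hskew0 (y + y₁)
      rw [e2, hp12, k1', add_zero] at k2
      simp only [map_add, LinearMap.add_apply, map_smul, smul_eq_mul, mul_add, hyZ, hy₁X, add_zero, zero_add, hi₁,
        mul_zero] at k2
      have k3 : p + i₁ * polB Q y X = 0 := by
        apply mul_right_cancel₀ hy₁Z
        rw [zero_mul]; linear_combination k2
      rw [hyZ, show p = -(i₁ * polB Q y X) by linear_combination k3]
      module
    · have hp' : p = -(i₁ * polB Q y X) := by
        apply mul_right_cancel₀ hyZ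
        linear_combination h0
      rw [hp']
      module
  have hi₁0 : i₁ ≠ 0 := fun e => by
    obtain ⟨y, hy⟩ := hδne
    have := hD y
    rw [e, zero_smul, smul_eq_zero] at this
    exact hy (this.resolve_right hv0)
  have hZX0 : polB Q Z X = 0 := by
    rw [hX, hZ, d.polB_eq]; simp [polB_self, hv]
  have hroot : eichler Q Z (i₁ • X) ∈ M := by
    convert hC using 1
    refine orth_ext fun y => ?_
    rw [eichler_apply (hQU' Z hZ) (by rw [map_smul, hZX0, smul_zero]), hδ, hD, qmap_smul, hX, hQU ξ, mul_zero,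
      zero_mul, zero_smul, sub_zero, ← hX, map_smul, smul_eq_mul]
    module
  obtain ⟨q, p, hpq⟩ := Submodule.mem_span_pair.1 (htop ▸ Submodule.mem_top : t * t ∈ Submodule.span F {(1 : E), t})
  have hscal : ∀ s : F, eichler Q Z ((s * s * i₁) • X) ∈ M := by
    intro s
    by_cases hs : s = 0
    · rw [hs, mul_zero, zero_mul, zero_smul, eichler_zero (hQU' Z hZ)]; exact one_mem _
    have hdisc : q + p * p / 4 ≠ 0 := by
      intro h0
      apply hnot (p / 2)
      have h4 : (4 : F) ≠ 0 := by
        rw [show (4 : F) = 2 * 2 by norm_num]; exact mul_ne_zero d.two d.two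
      have h1 : (t - algebraMap F E (p / 2)) ^ 2 = 0 := by
        have e : algebraMap F E q = -(algebraMap F E p * algebraMap F E p / 4) := by
          rw [show q = -(p * p / 4) by linear_combination h0, map_neg, map_div₀, map_mul, map_ofNat]
        rw [Algebra.smul_def, Algebra.smul_def, e] at hpq
        rw [map_div₀, map_ofNat]
        have := d.twoE
        have h4E : (4 : E) ≠ 0 := by rw [show (4 : E) = 2 * 2 by norm_num]; exact mul_ne_zero d.twoE d.twoE
        field_simp at hpq ⊢
        linear_combination -hpq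
      exact sub_eq_zero.1 (pow_eq_zero_iff two_ne_zero |>.1 h1)
    obtain ⟨a', b, hab⟩ := FiniteField.exists_root_sum_quadratic
      (f := Polynomial.C 1 * Polynomial.X ^ 2 + Polynomial.C 0 * Polynomial.X + Polynomial.C (-s))
      (g := Polynomial.C (-(q + p * p / 4)) * Polynomial.X ^ 2 + Polynomial.C 0 * Polynomial.X + Polynomial.C 0)
      (Polynomial.degree_quadratic one_ne_zero) (Polynomial.degree_quadratic (neg_ne_zero.2 hdisc))
      (FiniteField.odd_card_of_char_ne_two (fun h => d.two (by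
        haveI := ringChar.of_eq h
        exact CharP.cast_eq_zero F 2)))
    simp only [Polynomial.eval_add, Polynomial.eval_mul, Polynomial.eval_C, Polynomial.eval_pow,
      Polynomial.eval_X] at hab
    set a := a' - b * p / 2 with ha
    have hN : a * a + a * b * p - b * b * q = s := by
      have := d.two
      have h4 : (4 : F) ≠ 0 := by rw [show (4 : F) = 2 * 2 by norm_num]; exact mul_ne_zero d.two d.two
      rw [ha]
      field_simp at hab ⊢
      linear_combination hab
    have hlam : (algebraMap F E a + algebraMap F E b * t) ≠ 0 := fun e0 => by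
      by_cases hb : b = 0
      · rw [hb, map_zero, zero_mul, add_zero, map_eq_zero] at e0
        rw [e0, hb] at hN
        exact hs (by rw [← hN]; ring)
      · apply hnot (-a / b)
        rw [map_div₀, map_neg, eq_div_iff ((map_ne_zero _).2 hb)]
        linear_combination e0
    obtain ⟨T, hTM, hT⟩ := d.exists_torus hH hv hv0 hlam
    have hmem := mul_mem (mul_mem hTM hroot) (inv_mem hTM)
    rw [eichler_conj T (hQU' Z hZ) (by rw [map_smul, hZX0, smul_zero])] at hmem
    have hT1 : T.1 Z = (a * a + b * b * q) • Z + (2 * a * b + b * b * p) • X := by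
      rw [hZ, hX, hT, ← smul_assoc, ← smul_assoc, ← add_smul]
      congr 1
      rw [hξt, Algebra.smul_def, Algebra.smul_def, map_add, map_add, map_mul, map_mul, map_mul, map_mul, map_mul,
        map_mul, map_mul, map_ofNat]
      rw [Algebra.smul_def, Algebra.smul_def] at hpq
      linear_combination -(algebraMap F E b) ^ 2 * z * hpq
    have hT2 : T.1 X = ((2 * a * b + b * b * p) * q) • Z + (a * a + b * b * q + (2 * a * b + b * b * p) * p) • X := by
      rw [hZ, hX, hT, ← smul_assoc, ← smul_assoc, ← add_smul]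
      congr 1
      rw [hξt, Algebra.smul_def, Algebra.smul_def]
      simp only [map_add, map_mul, map_ofNat]
      rw [Algebra.smul_def, Algebra.smul_def] at hpq
      linear_combination -((algebraMap F E b) ^ 2 * z * (algebraMap F E p + t) + 2 * algebraMap F E a * algebraMap F E b * z) * hpq
    convert hmem using 1
    refine orth_ext fun x => ?_
    rw [eichler_apply (hQU' Z hZ) (by rw [map_smul, hZX0, smul_zero]),
      eichler_apply (by rw [orth_qmap, hQU' Z hZ]) (by rw [orth_polB_map, map_smul, hZX0, smul_zero]), orth_qmap,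
      qmap_smul, qmap_smul, show Q X = 0 by rw [hX]; exact hQU ξ, map_smul T.1, hT1, hT2, ← hN]
    simp only [map_add, map_smul, smul_eq_mul, mul_zero, zero_mul, zero_smul, sub_zero]
    module
  refine finish g hgM z ξ hz0 (hax z hz').1 (hout ξ (by rw [hξ]; exact one_ne_zero)).1
    (hout ξ (by rw [hξ]; exact one_ne_zero)).2 ⟨by rw [← hX, ← hZ]; exact hZX0, fun s => ?_⟩
  rw [← hX, ← hZ]
  have h2 := d.two
  have hinv : ∀ w, polB Q Z w = 0 → eichler Q Z w ∈ M → eichler Q Z (-w) ∈ M := fun w hw hm => by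
    rw [← eichler_inv (hQU' Z hZ) hw]; exact inv_mem hm
  have hsum := mul_mem (hscal ((s / i₁ + 1) / 2))
    (hinv _ (by rw [map_smul, hZX0, smul_zero]) (hscal ((s / i₁ - 1) / 2)))
  rw [eichler_mul (hQU' Z hZ) (by rw [map_smul, hZX0, smul_zero]) (by rw [map_neg, map_smul, hZX0, smul_zero, neg_zero]),
    ← sub_eq_add_neg, ← sub_smul] at hsum
  convert hsum using 3
  field_simp
  ring

end OExt

end H49
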