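import Cfsg.Agent.H43.Eichler

/-!
Overgroups of the unitary group inside the orthogonal group of even dimension, any characteristic.
-/

set_option autoImplicit false
set_option linter.unusedSectionVars false

namespace H49

open H43

variable {F : Type*} [Field F] [Finite F] {V : Type*} [AddCommGroup V] [Module F V]
  [FiniteDimensional F V] {Q : QuadraticForm F V}

/-- Membership in the orthogonal of a finite span. -/
theorem mem_orth_range {ι : Type*} (f : ι → V) (z : V) :
    z ∈ (polB Q).orthogonal (Submodule.span F (Set.range f)) ↔ ∀ i, polB Q (f i) z = 0 := by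
  constructor
  · exact fun h i => h _ (Submodule.subset_span ⟨i, rfl⟩)
  · intro h y hy
    change polB Q y z = 0
    induction hy using Submodule.span_induction with
    | mem x hx => obtain ⟨i, rfl⟩ := hx; exact h i
    | zero => simp
    | add a b _ _ ha hb => simp [ha, hb]
    | smul c a _ ha => simp [ha]

theorem finrank_span_tuple {k : ℕ} (f : Fin k → V) :
    Module.finrank F (Submodule.span F (Set.range f)) ≤ k := by
  have := finrank_range_le_card (R := F) f
  rwa [Fintype.card_fin] at this

/-- One singular vector outside the subspace gives a spanning set of singular vectors of its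
orthogonal. -/
theorem span_singular_orth_of_exists (hQ : (polB Q).Nondegenerate) {W : Submodule F V}
    (hex : ∃ z ∈ (polB Q).orthogonal W, z ∉ W ∧ Q z = 0) {x : V} (hx : x ∈ (polB Q).orthogonal W) :
    x ∈ Submodule.span F {z : V | z ∈ (polB Q).orthogonal W ∧ Q z = 0} := by
  set U := (polB Q).orthogonal W with hU
  obtain ⟨z, hz, hzW, hzQ⟩ := hex
  obtain ⟨y, hy, hzy⟩ : ∃ y ∈ U, polB Q z y ≠ 0 := by
    by_contra hcon
    simp only [not_exists, not_and, not_not] at hcon
    apply hzW
    rw [← LinearMap.BilinForm.orthogonal_orthogonal hQ (polB_isRefl Q) W]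
    intro y hy
    change polB Q y z = 0
    rw [polB_comm]
    exact hcon y hy
  exact mem_span_singular hz hzQ hy hzy hx

/-- A singular vector of the orthogonal outside the subspace: a non-degenerate part of dimension
three, or of dimension two with a non-singular radical. -/
theorem exists_sing_outside (hQ : (polB Q).Nondegenerate) {W : Submodule F V}
    (h : Module.finrank F ↥((polB Q).orthogonal W ⊓ W) + Module.finrank F W + 3 ≤ Module.finrank F V ∨
      (Module.finrank F ↥((polB Q).orthogonal W ⊓ W) + Module.finrank F W + 2 ≤ Module.finrank F V ∧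
        ∃ r ∈ (polB Q).orthogonal W ⊓ W, Q r ≠ 0)) :
    ∃ z ∈ (polB Q).orthogonal W, z ∉ W ∧ Q z = 0 := by
  set U := (polB Q).orthogonal W with hU
  obtain ⟨C', hC'⟩ := Submodule.exists_isCompl (U ⊓ W)
  have hdimC : Module.finrank F V ≤
      Module.finrank F ↥(U ⊓ C') + Module.finrank F ↥(U ⊓ W) + Module.finrank F W := by
    have h1 := Submodule.finrank_sup_add_finrank_inf_eq U C'
    have h2 := Submodule.finrank_le (U ⊔ C')
    have h3 := Submodule.finrank_add_eq_of_isCompl hC'
    have h5 := finrank_orth_add hQ W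
    rw [← hU] at h5
    omega
  have hout : ∀ c ∈ U ⊓ C', c ≠ 0 → c ∉ W := fun c hc hc0 h =>
    hc0 ((Submodule.mem_bot F).1 (hC'.disjoint.le_bot ⟨⟨hc.1, h⟩, hc.2⟩))
  rcases h with h | ⟨h, r, hr, hr0⟩
  · obtain ⟨z, hz, hz0, hzQ⟩ := exists_singular_in (Q := Q) (U ⊓ C') (by omega)
    exact ⟨z, hz.1, hout z hz hz0, hzQ⟩
  · have hnd : ∀ c ∈ U ⊓ C', (∀ e ∈ U ⊓ C', polB Q c e = 0) → c = 0 := by
      intro c hc hce
      by_contra hc0
      refine hout c hc hc0 ?_
      rw [← LinearMap.BilinForm.orthogonal_orthogonal hQ (polB_isRefl Q) W]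
      intro e he
      change polB Q e c = 0
      obtain ⟨e₁, he₁, e₂, he₂, rfl⟩ := Submodule.mem_sup.1
        (hC'.sup_eq_top ▸ Submodule.mem_top : e ∈ (U ⊓ W) ⊔ C')
      have he₂U : e₂ ∈ U := by
        have := sub_mem he he₁.1
        rwa [add_sub_cancel_left] at this
      rw [map_add, LinearMap.add_apply, hc.1 e₁ he₁.2, zero_add, polB_comm]
      exact hce e₂ ⟨he₂U, he₂⟩
    have hnd' : (polB (Q.comp (U ⊓ C').subtype)).Nondegenerate := by
      have key : ∀ c : ↥(U ⊓ C'), (∀ e : ↥(U ⊓ C'), polB (Q.comp (U ⊓ C').subtype) c e = 0) → c = 0 := by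
        intro c hce
        refine Subtype.ext (hnd c c.2 fun e he => ?_)
        have := hce ⟨e, he⟩
        simpa [polB_apply, QuadraticMap.polar] using this
      exact ⟨key, fun c hce => key c fun e => by rw [polB_comm]; exact hce e⟩
    obtain ⟨⟨c, hc⟩, hcQ⟩ := exists_qmap_eq hnd' (by omega) (-Q r) (neg_ne_zero.mpr hr0)
    have hcQ' : Q c = -Q r := by simpa using hcQ
    have hc0 : c ≠ 0 := fun e => hr0 (by
      rw [e, QuadraticMap.map_zero] at hcQ'
      exact neg_eq_zero.1 hcQ'.symm)
    refine ⟨r + c, add_mem hr.1 hc.1, fun e => hout c hc hc0 (by simpa using sub_mem e hr.2), ?_⟩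
    rw [qmap_add, hcQ', hc.1 r hr.2]
    ring

/-- Singular vectors span the orthogonal of a small subspace. -/
theorem span_singular_orth (hQ : (polB Q).Nondegenerate) {W : Submodule F V}
    (hdim : 2 * Module.finrank F W + 3 ≤ Module.finrank F V) {x : V} (hx : x ∈ (polB Q).orthogonal W) :
    x ∈ Submodule.span F {z : V | z ∈ (polB Q).orthogonal W ∧ Q z = 0} := by
  refine span_singular_orth_of_exists hQ (exists_sing_outside hQ (Or.inl ?_)) hx
  have := Submodule.finrank_mono (inf_le_right : (polB Q).orthogonal W ⊓ W ≤ W)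
  omega

/-- As `exists_sing_notMem`, for a subspace with a singular vector outside it in its orthogonal. -/
theorem exists_sing_notMem_of_exists (hQ : (polB Q).Nondegenerate) {W : Submodule F V}
    (hex : ∃ z ∈ (polB Q).orthogonal W, z ∉ W ∧ Q z = 0) {P : Submodule F V}
    (hP : ∃ x ∈ (polB Q).orthogonal W, x ∉ P) : ∃ z ∈ (polB Q).orthogonal W, Q z = 0 ∧ z ∉ P := by
  by_contra hcon
  simp only [not_exists, not_and, not_not] at hcon
  obtain ⟨x, hx, hxP⟩ := hP
  exact hxP (Submodule.span_le.2 (fun z hz => hcon z hz.1 hz.2) (span_singular_orth_of_exists hQ hex hx))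

/-- Bilinear extension of orthogonality to spans. -/
theorem polB_span_eq_zero {S : Set V} (h : ∀ a ∈ S, ∀ b ∈ S, polB Q a b = 0) {a b : V}
    (ha : a ∈ Submodule.span F S) (hb : b ∈ Submodule.span F S) : polB Q a b = 0 := by
  induction ha using Submodule.span_induction with
  | mem a ha =>
    induction hb using Submodule.span_induction with
    | mem b hb => exact h a ha b hb
    | zero => simp
    | add b c _ _ ib ic => rw [map_add, ib, ic, add_zero]
    | smul c b _ ib => rw [map_smul, ib, smul_zero]
  | zero => simp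
  | add a c _ _ ia ic => rw [map_add, LinearMap.add_apply, ia, ic, add_zero]
  | smul c a _ ia => rw [map_smul, LinearMap.smul_apply, ia, smul_zero]

/-- Pairwise orthogonal singular vectors span a totally singular subspace. -/
theorem qmap_span_zero {S : Set V} (h0 : ∀ a ∈ S, Q a = 0) (h : ∀ a ∈ S, ∀ b ∈ S, polB Q a b = 0) :
    ∀ z ∈ Submodule.span F S, Q z = 0 := by
  intro z hz
  have hperp : ∀ a ∈ Submodule.span F S, ∀ b ∈ Submodule.span F S, polB Q a b = 0 :=
    fun a ha b hb => polB_span_eq_zero h ha hb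
  induction hz using Submodule.span_induction with
  | mem a ha => exact h0 a ha
  | zero => exact QuadraticMap.map_zero Q
  | add a b ha hb ia ib => rw [qmap_add, ia, ib, hperp a ha b hb]; simp
  | smul c a _ ia => rw [qmap_smul, ia, mul_zero]
theorem exists_sing_notMem (hQ : (polB Q).Nondegenerate) {W : Submodule F V}
    (hdim : 2 * Module.finrank F W + 3 ≤ Module.finrank F V) {P : Submodule F V}
    (hP : ∃ x ∈ (polB Q).orthogonal W, x ∉ P) : ∃ z ∈ (polB Q).orthogonal W, Q z = 0 ∧ z ∉ P := by
  by_contra hcon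
  simp only [not_exists, not_and, not_not] at hcon
  obtain ⟨x, hx, hxP⟩ := hP
  exact hxP (Submodule.span_le.2 (fun z hz => hcon z hz.1 hz.2) (span_singular_orth hQ hdim hx))

theorem exists_orth_notMem (hQ : (polB Q).Nondegenerate) {W P : Submodule F V}
    (h : Module.finrank F W + Module.finrank F P < Module.finrank F V) :
    ∃ x ∈ (polB Q).orthogonal W, x ∉ P := by
  by_contra hcon
  simp only [not_exists, not_and, not_not] at hcon
  have h1 := Submodule.finrank_mono (show (polB Q).orthogonal W ≤ P from hcon)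
  have h2 := finrank_orth_add hQ W
  omega

/-- A quadratic extension acting by similitudes, as the multiplication by a generator. -/
structure UOStr (Q : QuadraticForm F V) (L : V →ₗ[F] V) (s n : F) : Prop where
  nd : (polB Q).Nondegenerate
  sq : ∀ x, L (L x) = s • L x - n • x
  adj : ∀ x y, polB Q (L x) y = polB Q x (s • y - L y)
  qL : ∀ x, Q (L x) = n * Q x
  alt : ∀ x, polB Q x (L x) = s * Q x
  irr : ∀ t : F, t * t - s * t + n ≠ 0
  big : 10 ≤ Module.finrank F V

namespace UOStr

variable {L : V →ₗ[F] V} {s n : F} (d : UOStr Q L s n)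
include d

/-- The line over the extension. -/
abbrev line (_d : UOStr Q L s n) (y : V) : Submodule F V := Submodule.span F {y, L y}

theorem line_invariant (y : V) : ∀ z ∈ d.line y, L z ∈ d.line y := by
  intro z hz
  obtain ⟨a, b, rfl⟩ := Submodule.mem_span_pair.1 hz
  exact Submodule.mem_span_pair.2 ⟨-(b * n), a + b * s, by
    rw [map_add, map_smul, map_smul, d.sq]; module⟩

theorem self_mem_line (y : V) : y ∈ d.line y := Submodule.subset_span (Set.mem_insert _ _)

theorem L_mem_line (y : V) : L y ∈ d.line y := d.line_invariant y y (d.self_mem_line y)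

theorem line_singular {y : V} (hy : Q y = 0) : ∀ z ∈ d.line y, Q z = 0 := by
  intro z hz
  obtain ⟨a, b, rfl⟩ := Submodule.mem_span_pair.1 hz
  rw [qmap_add, qmap_smul, qmap_smul, d.qL, hy]
  simp [d.alt, hy]

theorem finrank_line (y : V) : Module.finrank F (d.line y) ≤ 2 := by
  classical
  refine le_trans (finrank_span_le_card _) ?_
  simp only [Set.toFinset_insert, Set.toFinset_singleton]
  exact Finset.card_le_two

/-- The shifts of the generator are invertible on invariant subspaces. -/
theorem mem_of_shift {W : Submodule F V} (hW : ∀ z ∈ W, L z ∈ W) {z : V} {c : F}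
    (h : L z - c • z ∈ W) : z ∈ W := by
  have h1 := W.sub_mem (hW _ h) (W.smul_mem (s - c) h)
  have e : L (L z - c • z) - (s - c) • (L z - c • z) = (-(c * c - s * c + n)) • z := by
    rw [map_sub, map_smul, d.sq]; module
  rw [e] at h1
  exact (W.smul_mem_iff (neg_ne_zero.2 (d.irr c))).1 h1

theorem coeff_zero {W : Submodule F V} (hW : ∀ z ∈ W, L z ∈ W) {z : V} (hz : z ∉ W) {a b : F}
    (h : a • z + b • L z ∈ W) : a = 0 ∧ b = 0 := by
  by_cases hb : b = 0
  · refine ⟨?_, hb⟩
    by_contra ha
    rw [hb, zero_smul, add_zero] at h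
    exact hz ((W.smul_mem_iff ha).1 h)
  · refine absurd (d.mem_of_shift hW (z := z) (c := -(a / b)) ?_) hz
    have e : L z - -(a / b) • z = b⁻¹ • (a • z + b • L z) := by
      rw [smul_add, smul_smul, smul_smul, inv_mul_cancel₀ hb, div_eq_inv_mul]; module
    rw [e]
    exact W.smul_mem _ h

theorem perp_L_comm {y z : V} (h1 : polB Q y z = 0) (h2 : polB Q (L y) z = 0) : polB Q y (L z) = 0 := by
  rw [d.adj, map_sub, map_smul, h1, smul_zero, zero_sub, neg_eq_zero] at h2
  exact h2

theorem polB_L_self {y : V} (hy : Q y = 0) : polB Q y (L y) = 0 := by rw [d.alt, hy, mul_zero]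

variable {M : Subgroup (orthGroup Q)}
  (hH : ∀ g ∈ commutator (orthGroup Q), (∀ x, g.1 (L x) = L (g.1 x)) → g ∈ M)
include hH

/-- The vectors paired with a singular vector in M. -/
noncomputable def pairSub (_d : UOStr Q L s n) (M : Subgroup (orthGroup Q)) {y : V} (hy : Q y = 0) :
    Submodule F V where
  carrier := {w | polB Q y w = 0 ∧ ∀ t : F, eichler Q y (t • w) ∈ M}
  add_mem' := fun {a b} ha hb => ⟨by rw [map_add, ha.1, hb.1, add_zero], fun t => by
    rw [smul_add, ← eichler_mul hy (by rw [map_smul, ha.1, smul_zero]) (by rw [map_smul, hb.1, smul_zero])]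
    exact mul_mem (ha.2 t) (hb.2 t)⟩
  zero_mem' := ⟨map_zero _, fun t => by rw [smul_zero, eichler_zero hy]; exact one_mem _⟩
  smul_mem' := fun c a ha => ⟨by rw [map_smul, ha.1, smul_zero], fun t => by rw [smul_smul]; exact ha.2 _⟩

theorem pair_L {v : V} (hv : Q v = 0) : L v ∈ d.pairSub M hv := by
  refine ⟨d.polB_L_self hv, fun t => ?_⟩
  have h0 : polB Q v (t • L v) = 0 := by rw [map_smul, d.polB_L_self hv, smul_zero]
  have := d.big
  refine hH _ ?_ fun x => ?_
  · rw [commutator_eq_eichlerSub d.nd (by omega)]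
    exact eichler_mem hv h0
  · have e1 : polB Q (L x) (L v) = n * polB Q x v := by
      rw [d.adj, d.sq]; simp
    have e2 : polB Q (L x) v = s * polB Q x v - polB Q x (L v) := by
      rw [d.adj]; simp
    rw [eichler_apply hv h0, eichler_apply hv h0]
    simp only [map_add, map_sub, map_smul, LinearMap.smul_apply, smul_eq_mul, d.sq, qmap_smul, d.qL, hv, mul_zero,
      zero_mul, zero_smul, sub_zero, e1, e2]
    module

theorem pair_symm {u w : V} (hu : Q u = 0) (hw : Q w = 0) (h : w ∈ d.pairSub M hu) :
    u ∈ d.pairSub M hw := by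
  refine ⟨by rw [polB_comm]; exact h.1, fun t => ?_⟩
  have h1 : polB Q w (t • u) = 0 := by rw [map_smul, polB_comm, h.1, smul_zero]
  have h2 : polB Q u (-t • w) = 0 := by rw [map_smul, h.1, smul_zero]
  rw [show eichler Q w (t • u) = eichler Q u (-t • w) from orth_ext fun x => by
    rw [eichler_apply hw h1, eichler_apply hu h2, qmap_smul, qmap_smul, hu, hw]
    simp only [map_smul, smul_eq_mul, mul_zero, zero_mul, zero_smul, sub_zero]
    module]
  exact h.2 _

/-- The commutator rule. -/
theorem rule {u w a b : V} (hu : Q u = 0) (hw : Q w = 0) (huw : polB Q u w = 0) (ha : a ∈ d.pairSub M hu)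
    (hb : b ∈ d.pairSub M hw) (hwa : polB Q w a = 0) (hub : polB Q u b = 0) (hba : polB Q b a ≠ 0) :
    u ∈ d.pairSub M hw := by
  refine ⟨by rw [polB_comm]; exact huw, fun t => ?_⟩
  set c := -t / polB Q b a with hc
  have hwu : polB Q w u = 0 := by rw [polB_comm]; exact huw
  have h1 : polB Q u (c • a) = 0 := by rw [map_smul, ha.1, smul_zero]
  have himg : (eichler Q u (c • a)).1 b = b + t • u := by
    rw [eichler_apply hu h1, map_smul, polB_comm b u, hub, smul_eq_mul, hc, div_mul_cancel₀ _ hba]
    simp
  have hfix : (eichler Q u (c • a)).1 w = w := eichler_fix hu h1 hwu (by rw [map_smul, hwa, smul_zero])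
  have e : eichler Q w (t • u) =
      eichler Q u (c • a) * eichler Q w b * (eichler Q u (c • a))⁻¹ * (eichler Q w b)⁻¹ := by
    rw [eichler_conj _ hw hb.1, himg, hfix, eichler_inv hw hb.1,
      eichler_mul hw (by rw [map_add, hb.1, map_smul, hwu, smul_zero, add_zero]) (by rw [map_neg, hb.1, neg_zero])]
    congr 1
    abel
  rw [e]
  have hb1 : eichler Q w b ∈ M := by simpa using hb.2 1
  exact mul_mem (mul_mem (mul_mem (ha.2 c) hb1) (inv_mem (ha.2 c))) (inv_mem hb1)

/-- One partner off the line gives the orthogonal of the line. -/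
theorem pair_orth_line {y x : V} (hy : Q y = 0) (hy0 : y ≠ 0) (hx : x ∈ d.pairSub M hy) (hxy : x ∉ d.line y) :
    ∀ z, polB Q y z = 0 → polB Q (L y) z = 0 → z ∈ d.pairSub M hy := by
  have hbig := d.big
  have key : ∀ x, x ∈ d.pairSub M hy → x ∉ d.line y →
      ∀ z, polB Q y z = 0 → polB Q (L y) z = 0 → polB Q x z = 0 → z ∈ d.pairSub M hy := by
    intro x hx hxy
    have hgen : ∀ v, Q v = 0 → polB Q y v = 0 → polB Q (L y) v = 0 → polB Q x v = 0 → polB Q (L x) v ≠ 0 →
        v ∈ d.pairSub M hy := by
      intro v hv h1 h2 h3 h4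
      refine d.rule hH hv hy (by rw [polB_comm]; exact h1) (d.pair_L hH hv) hx (d.perp_L_comm h1 h2)
        (by rw [polB_comm]; exact h3) fun e => h4 ?_
      rw [d.adj, map_sub, map_smul, h3, e, smul_zero, sub_zero]
    set P := Submodule.span F (Set.range ![y, L y, x, L x]) with hP
    have hmem : ∀ i, ![y, L y, x, L x] i ∈ P := fun i => Submodule.subset_span ⟨i, rfl⟩
    -- singular vectors outside P
    have hout : ∀ v, Q v = 0 → polB Q y v = 0 → polB Q (L y) v = 0 → polB Q x v = 0 → v ∉ P →
        v ∈ d.pairSub M hy := by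
      intro v hv h1 h2 h3 hvP
      by_cases h4 : polB Q (L x) v = 0
      swap
      · exact hgen v hv h1 h2 h3 h4
      set W := Submodule.span F (Set.range ![y, L y, x, v]) with hW
      have hLx : L x ∉ W := by
        intro h
        obtain ⟨c, hc⟩ := (Submodule.mem_span_range_iff_exists_fun F).1 h
        simp [Fin.sum_univ_four] at hc
        by_cases hd : c 3 = 0
        · apply hxy
          refine d.mem_of_shift (d.line_invariant y) (c := c 2) ?_
          rw [← hc, hd, zero_smul, add_zero, add_sub_cancel_right]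
          exact Submodule.mem_span_pair.2 ⟨_, _, rfl⟩
        · apply hvP
          rw [← P.smul_mem_iff hd]
          have e : c 3 • v = L x - (c 0 • y + c 1 • L y + c 2 • x) := by rw [← hc]; abel
          rw [e]
          exact P.sub_mem (hmem 3) (P.add_mem (P.add_mem (P.smul_mem _ (hmem 0)) (P.smul_mem _ (hmem 1)))
            (P.smul_mem _ (hmem 2)))
      obtain ⟨q, hq, hLq⟩ := exists_orth_polB_eq d.nd hLx 1
      have hex : ∃ z ∈ (polB Q).orthogonal W, z ∉ W ∧ Q z = 0 := by
        have hW4 := finrank_span_tuple (F := F) ![y, L y, x, v]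
        rw [← hW] at hW4
        have hrW := Submodule.finrank_mono (inf_le_right : (polB Q).orthogonal W ⊓ W ≤ W)
        by_cases hn11 : 11 ≤ Module.finrank F V
        · exact exists_sing_outside d.nd (Or.inl (by omega))
        by_cases hr : Module.finrank F ↥((polB Q).orthogonal W ⊓ W) ≤ 3
        · exact exists_sing_outside d.nd (Or.inl (by omega))
        by_cases hns : ∃ r ∈ (polB Q).orthogonal W ⊓ W, Q r ≠ 0
        · exact exists_sing_outside d.nd (Or.inr ⟨by omega, hns⟩)
        -- three mutually orthogonal singular lines would span six dimensions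
        exfalso
        push Not at hns
        have heq : (polB Q).orthogonal W ⊓ W = W :=
          Submodule.eq_of_le_of_finrank_le inf_le_right (by omega)
        rw [heq] at hns
        have hper : ∀ a ∈ W, ∀ b ∈ W, polB Q a b = 0 := fun a ha b hb =>
          (heq.symm ▸ hb : b ∈ (polB Q).orthogonal W ⊓ W).1 a ha
        have hmW : ∀ i, ![y, L y, x, v] i ∈ W := fun i => Submodule.subset_span ⟨i, rfl⟩
        have hxq : Q x = 0 := hns x (hmW 2)
        have e1 : polB Q (L y) x = 0 := hper _ (hmW 1) _ (hmW 2)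
        have hzero := qmap_span_zero (Q := Q) (S := Set.range ![y, L y, x, L x, v, L v]) (by
          rintro _ ⟨i, rfl⟩
          fin_cases i <;> simp [hy, hxq, hv, d.qL]) (by
          have hpair : ∀ {a b : V}, Q a = 0 → Q b = 0 → polB Q a b = 0 → polB Q (L a) b = 0 →
              polB Q a (L b) = 0 ∧ polB Q (L a) (L b) = 0 := by
            intro a b _ _ e0 e
            refine ⟨d.perp_L_comm e0 e, ?_⟩
            rw [d.adj, d.sq]
            simp [e0]
          obtain ⟨p1, p2⟩ := hpair hy hxq hx.1 e1
          obtain ⟨p3, p4⟩ := hpair hy hv h1 h2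
          obtain ⟨p5, p6⟩ := hpair hxq hv h3 h4
          have l1 := d.polB_L_self hy
          have l2 := d.polB_L_self hxq
          have l3 := d.polB_L_self hv
          rintro _ ⟨i, rfl⟩ _ ⟨j, rfl⟩
          fin_cases i <;> fin_cases j <;>
            first
              | (simp [polB_self, hy, hxq, hv, d.qL]; done)
              | (simp [hx.1, e1, h1, h2, h3, h4, p1, p2, p3, p4, p5, p6, l1, l2, l3]; done)
              | (rw [polB_comm]; simp [hx.1, e1, h1, h2, h3, h4, p1, p2, p3, p4, p5, p6, l1, l2, l3]))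
        set P5 := Submodule.span F (Set.range ![y, L y, x, L x, v]) with hP5
        set P6 := Submodule.span F (Set.range ![y, L y, x, L x, v, L v]) with hP6
        have h56 : P5 ≤ P6 := Submodule.span_mono (by
          rintro _ ⟨i, rfl⟩
          exact ⟨Fin.castSucc i, by fin_cases i <;> rfl⟩)
        have hW5 : W < P5 := by
          refine lt_of_le_of_ne (Submodule.span_le.2 ?_) fun e => hLx (e ▸ Submodule.subset_span ⟨3, rfl⟩)
          rintro _ ⟨i, rfl⟩
          fin_cases i
          exacts [Submodule.subset_span ⟨0, rfl⟩, Submodule.subset_span ⟨1, rfl⟩,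
            Submodule.subset_span ⟨2, rfl⟩, Submodule.subset_span ⟨4, rfl⟩]
        have hLv : L v ∉ P5 := by
          intro h
          obtain ⟨c, hc⟩ := (Submodule.mem_span_range_iff_exists_fun F).1 h
          simp [Fin.sum_univ_five] at hc
          refine hvP (d.mem_of_shift (W := P) ?_ (c := c 4) ?_)
          · intro z hz
            obtain ⟨e, he⟩ := (Submodule.mem_span_range_iff_exists_fun F).1 hz
            rw [← he]
            simp only [Fin.sum_univ_four, map_add, map_smul]
            simp only [Matrix.cons_val, d.sq]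
            exact P.add_mem (P.add_mem (P.add_mem (P.smul_mem _ (hmem 1))
              (P.smul_mem _ (P.sub_mem (P.smul_mem _ (hmem 1)) (P.smul_mem _ (hmem 0)))))
              (P.smul_mem _ (hmem 3)))
              (P.smul_mem _ (P.sub_mem (P.smul_mem _ (hmem 3)) (P.smul_mem _ (hmem 2))))
          · rw [← hc]
            simp only [add_sub_cancel_right]
            exact P.add_mem (P.add_mem (P.add_mem (P.smul_mem _ (hmem 0)) (P.smul_mem _ (hmem 1)))
              (P.smul_mem _ (hmem 2))) (P.smul_mem _ (hmem 3))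
        have h57 : P5 < P6 := lt_of_le_of_ne h56 fun e => hLv (e ▸ Submodule.subset_span ⟨5, rfl⟩)
        have k1 := Submodule.finrank_lt_finrank_of_lt hW5
        have k2 := Submodule.finrank_lt_finrank_of_lt h57
        have k3 := two_mul_finrank_singular_le d.nd P6 hzero
        have k4 := finrank_span_tuple (F := F) ![y, L y, x, L x, v, L v]
        rw [← hP6] at k4
        have k5 := finrank_orth_add d.nd W
        have k6 := Submodule.finrank_mono (show W ≤ (polB Q).orthogonal W from heq.ge.trans inf_le_left)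
        omega
      obtain ⟨a, haW, ha, haL⟩ := exists_sing_notMem_of_exists d.nd hex
        (P := (polB Q).orthogonal (F ∙ L x)) ⟨q, hq, fun h => one_ne_zero (α := F) (by
          rw [← hLq]; exact mem_orth_singleton.1 h)⟩
      rw [hW, mem_orth_range] at haW
      have haL' : polB Q (L x) a ≠ 0 := fun e => haL (mem_orth_singleton.2 e)
      have k1 : polB Q y a = 0 := haW 0
      have k2 : polB Q (L y) a = 0 := haW 1
      have k3 : polB Q x a = 0 := haW 2
      have k4 : polB Q v a = 0 := haW 3
      have i1 := hgen a ha k1 k2 k3 haL'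
      have i2 := hgen (v + a) (by rw [qmap_add, hv, ha, k4]; simp) (by rw [map_add, h1, k1, add_zero])
        (by rw [map_add, h2, k2, add_zero]) (by rw [map_add, h3, k3, add_zero])
        (by rw [map_add, h4, zero_add]; exact haL')
      simpa using (d.pairSub M hy).sub_mem i2 i1
    intro z h1 h2 h3
    set W := Submodule.span F (Set.range ![y, L y, x]) with hW
    have hdimW := finrank_span_tuple (F := F) ![y, L y, x]
    rw [← hW] at hdimW
    have hz : z ∈ (polB Q).orthogonal W := by
      rw [hW, mem_orth_range]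
      intro i; fin_cases i <;> assumption
    refine (Submodule.span_le.2 ?_) (span_singular_orth d.nd (by omega) hz)
    rintro v ⟨hvW, hv⟩
    rw [hW, mem_orth_range] at hvW
    have j1 : polB Q y v = 0 := hvW 0
    have j2 : polB Q (L y) v = 0 := hvW 1
    have j3 : polB Q x v = 0 := hvW 2
    by_cases hvP : v ∈ P
    swap
    · exact hout v hv j1 j2 j3 hvP
    by_cases hvW3 : v ∈ W
    · refine (Submodule.span_le.2 ?_) hvW3
      rintro _ ⟨i, rfl⟩
      fin_cases i
      · change y ∈ d.pairSub M hy
        refine ⟨by rw [polB_self, hy, mul_zero], fun t => ?_⟩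
        have h0 : polB Q y (t • y) = 0 := by rw [map_smul, polB_self, hy, mul_zero, smul_zero]
        rw [show eichler Q y (t • y) = 1 from orth_ext fun u => by
          rw [eichler_apply hy h0, qmap_smul, hy, orth_one_apply, map_smul, smul_eq_mul]
          simp only [mul_zero, zero_mul, zero_smul, sub_zero]
          module]
        exact one_mem M
      · exact d.pair_L hH hy
      · exact hx
    -- the vector is orthogonal to both lines
    obtain ⟨e, he⟩ := (Submodule.mem_span_range_iff_exists_fun F).1 hvP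
    simp [Fin.sum_univ_four] at he
    have hv4 : polB Q (L x) v = 0 := by
      have he3 : e 3 ≠ 0 := fun e0 => hvW3 (by
        rw [← he, e0, zero_smul, add_zero]
        exact (Submodule.mem_span_range_iff_exists_fun F).2 ⟨![e 0, e 1, e 2], by simp [Fin.sum_univ_three]⟩)
      have h0 : polB Q v v = 0 := by rw [polB_self, hv, mul_zero]
      nth_rw 1 [← he] at h0
      simp only [map_add, LinearMap.add_apply, map_smul, LinearMap.smul_apply, j1, j2, j3, smul_zero,
        zero_add, smul_eq_mul, mul_zero, mul_eq_zero] at h0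
      exact h0.resolve_left he3
    obtain ⟨c₀, hc₀W, hvc₀⟩ := exists_orth_polB_eq d.nd hvW3 1
    have hmW : ∀ i, ![y, L y, x] i ∈ W := fun i => Submodule.subset_span ⟨i, rfl⟩
    set c := c₀ - Q c₀ • v with hc
    have hvv : polB Q v v = 0 := by rw [polB_self, hv, mul_zero]
    have hvc : polB Q v c = 1 := by rw [hc, map_sub, map_smul, hvv, smul_zero, sub_zero, hvc₀]
    have hcq : Q c = 0 := by
      rw [hc, qmap_sub, qmap_smul, hv, map_smul, polB_comm c₀ v, hvc₀, smul_eq_mul]
      ring
    have hcW : ∀ i, polB Q (![y, L y, x] i) c = 0 := fun i => by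
      have hvi : polB Q (![y, L y, x] i) v = 0 := by fin_cases i <;> assumption
      rw [hc, map_sub, map_smul, hc₀W _ (hmW i), hvi, smul_zero, sub_zero]
    set W5 := Submodule.span F (Set.range ![y, L y, x, v, c]) with hW5
    obtain ⟨u, hu, u', hu', huu⟩ : ∃ u ∈ (polB Q).orthogonal W5, ∃ u' ∈ (polB Q).orthogonal W5,
        polB Q u u' ≠ 0 := by
      by_contra hcon
      simp only [not_exists, not_and, not_not] at hcon
      have hle : (polB Q).orthogonal W5 ≤ W5 := by
        intro u hu
        rw [← LinearMap.BilinForm.orthogonal_orthogonal d.nd (polB_isRefl Q) W5]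
        intro u' hu'
        exact hcon u' hu' u hu
      have k1 := finrank_orth_add d.nd W5
      have k2 := finrank_span_tuple (F := F) ![y, L y, x, v, c]
      rw [← hW5] at k2
      have k3 := Submodule.eq_of_le_of_finrank_le hle (by omega)
      have hvm : v ∈ W5 := Submodule.subset_span ⟨3, rfl⟩
      have hcm : c ∈ (polB Q).orthogonal W5 := by rw [k3]; exact Submodule.subset_span ⟨4, rfl⟩
      exact one_ne_zero (α := F) (by rw [← hvc]; exact hcm v hvm)
    have hin : ∀ u ∈ (polB Q).orthogonal W5, u + c - Q u • v ∈ d.pairSub M hy := by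
      intro u hu
      rw [hW5, mem_orth_range] at hu
      have u1 : polB Q y u = 0 := hu 0
      have u2 : polB Q (L y) u = 0 := hu 1
      have u3 : polB Q x u = 0 := hu 2
      have u4 : polB Q v u = 0 := hu 3
      have u5 : polB Q c u = 0 := hu 4
      refine hout _ ?_ ?_ ?_ ?_ fun hP' => ?_
      · rw [qmap_sub, qmap_add, qmap_smul, hv, hcq, map_smul, map_add, LinearMap.add_apply,
          polB_comm u v, u4, polB_comm c v, hvc, polB_comm u c, u5, smul_eq_mul]
        ring
      · rw [map_sub, map_add, map_smul, u1, show polB Q y c = 0 from hcW 0, j1]; simp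
      · rw [map_sub, map_add, map_smul, u2, show polB Q (L y) c = 0 from hcW 1, j2]; simp
      · rw [map_sub, map_add, map_smul, u3, show polB Q x c = 0 from hcW 2, j3]; simp
      · obtain ⟨g, hg⟩ := (Submodule.mem_span_range_iff_exists_fun F).1 hP'
        have h' := congrArg (polB Q v) hg
        rw [map_sum, Finset.sum_eq_zero fun i _ => by
          rw [map_smul]
          have : polB Q v (![y, L y, x, L x] i) = 0 := by
            rw [polB_comm]; fin_cases i <;> assumption
          rw [this, smul_zero], map_sub, map_add, u4, hvc, map_smul, hvv, smul_zero, zero_add,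
          sub_zero] at h'
        exact zero_ne_one h'
    have key' := sub_mem (sub_mem (add_mem (hin u hu) (hin u' hu')) (hin _ (add_mem hu hu')))
      (hin 0 (Submodule.zero_mem _))
    rw [show u + c - Q u • v + (u' + c - Q u' • v) - (u + u' + c - Q (u + u') • v) -
        (0 + c - Q (0 : V) • v) = polB Q u u' • v by
      rw [qmap_add, QuadraticMap.map_zero]; module] at key'
    exact ((d.pairSub M hy).smul_mem_iff huu).1 key'
  set W := Submodule.span F (Set.range ![y, L y, x]) with hW
  have hdimW := finrank_span_tuple (F := F) ![y, L y, x]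
  rw [← hW] at hdimW
  obtain ⟨x', hx'W, hx'⟩ := exists_orth_notMem d.nd (W := W) (P := W) (by omega)
  rw [hW, mem_orth_range] at hx'W
  have hmemW : ∀ i, ![y, L y, x] i ∈ W := fun i => Submodule.subset_span ⟨i, rfl⟩
  have hline : d.line y ≤ W := Submodule.span_le.2 fun z hz => by
    rcases hz with rfl | rfl
    · exact hmemW 0
    · exact hmemW 1
  have hx'D : x' ∈ d.pairSub M hy := key x hx hxy x' (hx'W 0) (hx'W 1) (hx'W 2)
  have hx'y : x' ∉ d.line y := fun h => hx' (hline h)
  have hxW' : x ∉ Submodule.span F (Set.range ![y, L y, x']) := by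
    intro h
    obtain ⟨c, hc⟩ := (Submodule.mem_span_range_iff_exists_fun F).1 h
    simp [Fin.sum_univ_three] at hc
    by_cases hd : c 2 = 0
    · rw [hd, zero_smul, add_zero] at hc
      exact hxy (Submodule.mem_span_pair.2 ⟨_, _, hc⟩)
    · apply hx'
      rw [← W.smul_mem_iff hd]
      have e : c 2 • x' = x - (c 0 • y + c 1 • L y) := by rw [← hc]; abel
      rw [e]
      exact W.sub_mem (hmemW 2) (W.add_mem (W.smul_mem _ (hmemW 0)) (W.smul_mem _ (hmemW 1)))
  obtain ⟨p, hp, hxp⟩ := exists_orth_polB_eq d.nd hxW' 1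
  intro z h1 h2
  have hp' : ∀ i, polB Q (![y, L y, x'] i) p = 0 := fun i => hp _ (Submodule.subset_span ⟨i, rfl⟩)
  have p1 : polB Q y p = 0 := hp' 0
  have p2 : polB Q (L y) p = 0 := hp' 1
  have p3 : polB Q x' p = 0 := hp' 2
  have i1 := key x' hx'D hx'y p p1 p2 p3
  have i2 := key x hx hxy (z - polB Q x z • p) (by rw [map_sub, map_smul, h1, p1]; simp)
    (by rw [map_sub, map_smul, h2, p2]; simp) (by rw [map_sub, map_smul, hxp]; simp)
  have := (d.pairSub M hy).add_mem i2 ((d.pairSub M hy).smul_mem (polB Q x z) i1)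
  rwa [sub_add_cancel] at this

omit hH in
/-- A singular vector orthogonal to two singular lines, off both. -/
theorem exists_link {u w : V} (hu : Q u = 0) (hw : Q w = 0) : ∃ c, Q c = 0 ∧ polB Q u c = 0 ∧
    polB Q (L u) c = 0 ∧ polB Q w c = 0 ∧ polB Q (L w) c = 0 ∧ c ∉ d.line u ∧ c ∉ d.line w := by
  have hbig := d.big
  set W := Submodule.span F (Set.range ![u, L u, w, L w]) with hW
  have hdimW := finrank_span_tuple (F := F) ![u, L u, w, L w]
  rw [← hW] at hdimW
  have hP := Submodule.finrank_add_le_finrank_add_finrank (d.line u) (d.line w)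
  have h1 := d.finrank_line u
  have h2 := d.finrank_line w
  have finish : (∃ z ∈ (polB Q).orthogonal W, z ∉ W ∧ Q z = 0) → ∃ c, Q c = 0 ∧ polB Q u c = 0 ∧
      polB Q (L u) c = 0 ∧ polB Q w c = 0 ∧ polB Q (L w) c = 0 ∧ c ∉ d.line u ∧ c ∉ d.line w := by
    intro hex
    obtain ⟨c, hcW, hc, hcP⟩ := exists_sing_notMem_of_exists d.nd hex (P := d.line u ⊔ d.line w)
      (exists_orth_notMem d.nd (by omega))
    rw [hW, mem_orth_range] at hcW
    exact ⟨c, hc, hcW 0, hcW 1, hcW 2, hcW 3, fun h => hcP (Submodule.mem_sup_left h),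
      fun h => hcP (Submodule.mem_sup_right h)⟩
  by_cases hsame : w ∈ d.line u ∨ u ∈ d.line w
  · refine finish (exists_sing_outside d.nd (Or.inl ?_))
    have hle : Module.finrank F W ≤ 2 := by
      rcases hsame with h | h
      · refine le_trans (Submodule.finrank_mono (Submodule.span_le.2 ?_)) h1
        rintro _ ⟨i, rfl⟩
        fin_cases i
        exacts [d.self_mem_line u, d.L_mem_line u, h, d.line_invariant u w h]
      · refine le_trans (Submodule.finrank_mono (Submodule.span_le.2 ?_)) h2
        rintro _ ⟨i, rfl⟩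
        fin_cases i
        exacts [h, d.line_invariant w u h, d.self_mem_line w, d.L_mem_line w]
    have := Submodule.finrank_mono (inf_le_right : (polB Q).orthogonal W ⊓ W ≤ W)
    omega
  push Not at hsame
  by_cases hperp : polB Q u w = 0 ∧ polB Q (L u) w = 0
  · obtain ⟨e1, e2⟩ := hperp
    have e3 := d.perp_L_comm e1 e2
    refine ⟨u + w, by rw [qmap_add, hu, hw, e1]; simp, ?_, ?_, ?_, ?_,
      fun h => hsame.1 (by simpa using sub_mem h (d.self_mem_line u)),
      fun h => hsame.2 (by simpa using sub_mem h (d.self_mem_line w))⟩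
    · rw [map_add, polB_self, hu, mul_zero, e1, zero_add]
    · rw [map_add, polB_comm (L u) u, d.polB_L_self hu, e2, zero_add]
    · rw [map_add, polB_comm w u, e1, polB_self, hw, mul_zero, zero_add]
    · rw [map_add, polB_comm (L w) u, e3, polB_comm (L w) w, d.polB_L_self hw, zero_add]
  refine finish (exists_sing_outside d.nd (Or.inl ?_))
  have hlt : (polB Q).orthogonal W ⊓ W < W := lt_of_le_of_ne inf_le_right fun e => hperp
    ⟨((e.symm ▸ Submodule.subset_span ⟨2, rfl⟩ : w ∈ (polB Q).orthogonal W ⊓ W)).1 u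
        (Submodule.subset_span ⟨0, rfl⟩),
      ((e.symm ▸ Submodule.subset_span ⟨2, rfl⟩ : w ∈ (polB Q).orthogonal W ⊓ W)).1 (L u)
        (Submodule.subset_span ⟨1, rfl⟩)⟩
  have := Submodule.finrank_lt_finrank_of_lt hlt
  omega

omit hH in
theorem not_mem_line_symm {u z : V} (hz : z ∉ d.line u) (hu : u ≠ 0) : u ∉ d.line z := by
  intro h
  obtain ⟨a, b, hab⟩ := Submodule.mem_span_pair.1 h
  obtain ⟨ha, hb⟩ := d.coeff_zero (d.line_invariant u) hz (a := a) (b := b) (by rw [hab]; exact d.self_mem_line u)
  exact hu (by rw [← hab, ha, hb, zero_smul, zero_smul, add_zero])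

/-- An element moving a line off all lines gives the commutator subgroup. -/
theorem commutator_le_of_moves {g : orthGroup Q} (hg : g ∈ M) {v : V} (hv : Q v = 0)
    (hmove : g.1 (L v) ∉ d.line (g.1 v)) : commutator (orthGroup Q) ≤ M := by
  have hbig := d.big
  have hgv : Q (g.1 v) = 0 := by rw [orth_qmap, hv]
  have hstart : g.1 (L v) ∈ d.pairSub M hgv := by
    refine ⟨by rw [orth_polB_map, d.polB_L_self hv], fun t => ?_⟩
    rw [← map_smul g.1, ← eichler_conj g hv (by rw [map_smul, d.polB_L_self hv, smul_zero])]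
    exact mul_mem (mul_mem hg ((d.pair_L hH hv).2 t)) (inv_mem hg)
  have hgv0 : g.1 v ≠ 0 := fun e => hmove (by
    simp [g.1.map_eq_zero_iff.1 e])
  have h₀ := d.pair_orth_line hH hgv hgv0 hstart hmove
  set u₀ := g.1 v
  have hall : ∀ u, ∀ hu : Q u = 0, u ≠ 0 → ∀ z, polB Q u z = 0 → polB Q (L u) z = 0 → z ∈ d.pairSub M hu := by
    intro u hu hu0
    obtain ⟨c, hc, c1, c2, c3, c4, hcu₀, hcu⟩ := d.exists_link hgv hu
    have hc0 : c ≠ 0 := fun e => hcu (by rw [e]; exact Submodule.zero_mem _)
    have hD : u₀ ∈ d.pairSub M hc := d.pair_symm hH hgv hc (h₀ c c1 c2)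
    have hcall := d.pair_orth_line hH hc hc0 hD (d.not_mem_line_symm hcu₀ hgv0)
    have hcD : c ∈ d.pairSub M hu := d.pair_symm hH hc hu
      (hcall u (by rw [polB_comm]; exact c3) (by rw [polB_comm]; exact d.perp_L_comm c3 c4))
    exact d.pair_orth_line hH hu hu0 hcD hcu
  rw [commutator_eq_closure_singular d.nd (by omega), Subgroup.closure_le]
  rintro _ ⟨u, w, hu, hw, huw, rfl⟩
  rcases eq_or_ne u 0 with rfl | hu0
  · rw [show eichler Q (0 : V) w = 1 from orth_ext fun x => by
      simp [eichler_apply hu huw]]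
    exact M.one_mem
  rcases eq_or_ne w 0 with rfl | hw0
  · rw [eichler_zero hu]; exact M.one_mem
  set U₁ := (polB Q).orthogonal (Submodule.span F (Set.range ![u, L u, w])) with hU₁
  set U₂ := (polB Q).orthogonal (Submodule.span F (Set.range ![w, L w, u])) with hU₂
  obtain ⟨a, ha, b, hb, hba⟩ : ∃ a ∈ U₁, ∃ b ∈ U₂, polB Q b a ≠ 0 := by
    by_contra hcon
    simp only [not_exists, not_and, not_not] at hcon
    have hle : U₁ ≤ (polB Q).orthogonal U₂ := fun a ha b hb => hcon a ha b hb
    rw [hU₂, LinearMap.BilinForm.orthogonal_orthogonal d.nd (polB_isRefl Q)] at hle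
    have h1 := Submodule.finrank_mono hle
    have h2 := finrank_span_tuple (F := F) ![w, L w, u]
    have h3 := finrank_span_tuple (F := F) ![u, L u, w]
    have h4 := finrank_orth_add d.nd (Submodule.span F (Set.range ![u, L u, w]))
    rw [← hU₁] at h4
    omega
  rw [hU₁, mem_orth_range] at ha
  rw [hU₂, mem_orth_range] at hb
  have := d.rule hH hu hw huw (hall u hu hu0 a (ha 0) (ha 1)) (hall w hw hw0 b (hb 0) (hb 1))
    (ha 2) (hb 2) hba
  have := (d.pair_symm hH hw hu this).2 1
  rwa [one_smul] at this

omit hH in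
/-- An isometry preserving all singular lines normalises the extension. -/
theorem normal_of_lines {g : orthGroup Q} (h : ∀ v, Q v = 0 → g.1 (L v) ∈ d.line (g.1 v)) :
    ∃ a b : F, b ≠ 0 ∧ ∀ x, g.1 (L x) = a • g.1 x + b • L (g.1 x) := by
  have hbig := d.big
  choose! af bf hab using fun v hv => Submodule.mem_span_pair.1 (h v hv)
  have hpair : ∀ v w, Q v = 0 → Q w = 0 → polB Q v w = 0 → v ≠ 0 → g.1 w ∉ d.line (g.1 v) →
      af v = af w ∧ bf v = bf w := by
    intro v w hv hw hvw hv0 hgw
    have e := hab (v + w) (by rw [qmap_add, hv, hw, hvw]; simp)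
    rw [map_add L, map_add g.1, map_add g.1, ← hab v hv, ← hab w hw, map_add L] at e
    have e1 : (af (v + w) - af w) • g.1 w + (bf (v + w) - bf w) • L (g.1 w) =
        (af v - af (v + w)) • g.1 v + (bf v - bf (v + w)) • L (g.1 v) := by
      linear_combination (norm := module) e
    obtain ⟨k1, k2⟩ := d.coeff_zero (d.line_invariant _) hgw (a := af (v + w) - af w) (b := bf (v + w) - bf w) (by
      rw [e1]; exact Submodule.mem_span_pair.2 ⟨_, _, rfl⟩)
    rw [k1, k2, zero_smul, zero_smul, add_zero, eq_comm] at e1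
    have hgv : g.1 v ∉ (⊥ : Submodule F V) := fun e => hv0 (g.1.map_eq_zero_iff.1 ((Submodule.mem_bot F).1 e))
    obtain ⟨k3, k4⟩ := d.coeff_zero (W := ⊥) (fun z hz => by simp_all) hgv ((Submodule.mem_bot F).2 e1)
    exact ⟨(sub_eq_zero.1 k3).trans (sub_eq_zero.1 k1), (sub_eq_zero.1 k4).trans (sub_eq_zero.1 k2)⟩
  have hsame : ∀ v w, Q v = 0 → Q w = 0 → v ≠ 0 → w ≠ 0 → af v = af w ∧ bf v = bf w := by
    intro v w hv hw hv0 hw0
    have hdimW := finrank_span_tuple (F := F) ![v, L v, w, L w]
    have k1 := d.finrank_line v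
    have k2 := d.finrank_line w
    have k3 := d.finrank_line (g.1 v)
    have k4 := d.finrank_line (g.1 w)
    have hP : Module.finrank F ↥((d.line (g.1 v) ⊔ d.line (g.1 w)).map g.1.symm.toLinearMap) ≤ 4 := by
      have := Submodule.finrank_add_le_finrank_add_finrank (d.line (g.1 v)) (d.line (g.1 w))
      have := Submodule.finrank_map_le g.1.symm.toLinearMap (d.line (g.1 v) ⊔ d.line (g.1 w))
      omega
    set W := Submodule.span F (Set.range ![v, L v, w, L w]) with hW
    by_cases hdirect : polB Q v w = 0 ∧ g.1 w ∉ d.line (g.1 v)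
    · exact hpair v w hv hw hdirect.1 hv0 hdirect.2
    have hex : ∃ z ∈ (polB Q).orthogonal W, z ∉ W ∧ Q z = 0 := by
      refine exists_sing_outside d.nd (Or.inl ?_)
      have hrW := Submodule.finrank_mono (inf_le_right : (polB Q).orthogonal W ⊓ W ≤ W)
      by_cases hlt : Module.finrank F ↥((polB Q).orthogonal W ⊓ W) < Module.finrank F W
      · omega
      have heq : (polB Q).orthogonal W ⊓ W = W :=
        Submodule.eq_of_le_of_finrank_le inf_le_right (by omega)
      have hvw : polB Q v w = 0 :=
        ((heq.symm ▸ Submodule.subset_span ⟨2, rfl⟩ : w ∈ (polB Q).orthogonal W ⊓ W)).1 v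
          (Submodule.subset_span ⟨0, rfl⟩)
      have hgw : g.1 w ∈ d.line (g.1 v) := not_not.1 fun h => hdirect ⟨hvw, h⟩
      -- then both vectors lie on one line
      have hmap : (d.line v).map g.1.toLinearMap = d.line (g.1 v) := by
        refine Submodule.eq_of_le_of_finrank_le ?_ ?_
        · rintro _ ⟨z, hz, rfl⟩
          obtain ⟨a, b, rfl⟩ := Submodule.mem_span_pair.1 hz
          simp only [map_add, map_smul]
          exact add_mem (Submodule.smul_mem _ _ (d.self_mem_line _)) (Submodule.smul_mem _ _ (h v hv))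
        · rw [LinearEquiv.finrank_map_eq]
          refine le_trans k3 (le_of_eq ?_)
          rw [← Fintype.card_fin 2, ← finrank_span_eq_card (R := F) (b := ![v, L v]) ?_,
            Matrix.range_cons, Matrix.range_cons, Matrix.range_empty, Set.union_empty, Set.singleton_union]
          rw [LinearIndependent.pair_iff]
          intro a b hab
          exact d.coeff_zero (W := ⊥) (fun z hz => by simp_all) (z := v) (by simpa using hv0)
            ((Submodule.mem_bot F).2 hab)
      rw [← hmap] at hgw
      obtain ⟨z, hz, hzw⟩ := hgw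
      have hwv : w ∈ d.line v := g.1.injective hzw ▸ hz
      have hle : Module.finrank F W ≤ 2 := by
        refine le_trans (Submodule.finrank_mono (Submodule.span_le.2 ?_)) k1
        rintro _ ⟨i, rfl⟩
        fin_cases i
        exacts [d.self_mem_line v, d.L_mem_line v, hwv, d.line_invariant v w hwv]
      omega
    obtain ⟨c, hcW, hc, hcP⟩ := exists_sing_notMem_of_exists d.nd hex
      (P := (d.line (g.1 v) ⊔ d.line (g.1 w)).map g.1.symm.toLinearMap)
      (exists_orth_notMem d.nd (by omega))
    rw [hW, mem_orth_range] at hcW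
    have hg' : g.1 c ∉ d.line (g.1 v) ⊔ d.line (g.1 w) := fun e => hcP
      ⟨_, e, g.1.symm_apply_apply c⟩
    have i1 := hpair v c hv hc (hcW 0) hv0 (fun e => hg' (Submodule.mem_sup_left e))
    have i2 := hpair w c hw hc (hcW 2) hw0 (fun e => hg' (Submodule.mem_sup_right e))
    exact ⟨i1.1.trans i2.1.symm, i1.2.trans i2.2.symm⟩
  obtain ⟨v₀, hv₀0, hv₀⟩ := exists_singular_ne_zero Q (by omega)
  have hlin : ∀ x, g.1 (L x) = af v₀ • g.1 x + bf v₀ • L (g.1 x) := by
    intro x
    induction (mem_span_all_singular d.nd hv₀0 hv₀ x) using Submodule.span_induction with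
    | mem v hv =>
      by_cases hv0 : v = 0
      · simp [hv0]
      · obtain ⟨i1, i2⟩ := hsame v v₀ hv hv₀ hv0 hv₀0
        rw [← i1, ← i2, hab v hv]
    | zero => simp
    | add a b _ _ ha hb => rw [map_add L, map_add g.1, ha, hb, map_add g.1, map_add L]; module
    | smul c a _ ha => rw [map_smul L, map_smul g.1, ha, map_smul g.1, map_smul L]; module
  refine ⟨_, _, fun e => ?_, hlin⟩
  have h1 := hlin v₀
  rw [e, zero_smul, add_zero, ← map_smul, g.1.injective.eq_iff] at h1
  obtain ⟨k1, k2⟩ := d.coeff_zero (W := ⊥) (fun z hz => by simp_all) (z := v₀) (by simpa using hv₀0)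
    (a := -af v₀) (b := 1) ((Submodule.mem_bot F).2 (by rw [one_smul, h1]; module))
  exact one_ne_zero k2

omit hH in
/-- Some element of the commutator subgroup does not normalise the extension. -/
theorem exists_not_normal : ∃ g ∈ commutator (orthGroup Q), ¬ ∃ a b : F, ∀ x,
    g.1 (L x) = a • g.1 x + b • L (g.1 x) := by
  have hbig := d.big
  obtain ⟨u, hu0, hu⟩ := exists_singular_ne_zero Q (by omega)
  obtain ⟨w, hw, u1, u2, -, -, hwline, -⟩ := d.exists_link hu hu
  refine ⟨eichler Q u w, by rw [commutator_eq_eichlerSub d.nd (by omega)]; exact eichler_mem hu u1, ?_⟩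
  rintro ⟨a, b, hab⟩
  obtain ⟨z, hz, hzw⟩ := exists_orth_polB_eq d.nd hwline 1
  have z1 : polB Q u z = 0 := hz u (d.self_mem_line u)
  have z2 : polB Q (L u) z = 0 := hz _ (d.L_mem_line u)
  have h := hab z
  rw [eichler_apply hu u1, eichler_apply hu u1, polB_comm z u, z1, polB_comm z w, hzw, hw,
    polB_comm (L z) u, d.perp_L_comm z1 z2] at h
  simp only [zero_smul, add_zero, mul_zero, sub_zero, one_smul, map_sub] at h
  have hzline : z ∉ d.line u := by
    intro e
    obtain ⟨p, q, rfl⟩ := Submodule.mem_span_pair.1 e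
    rw [map_add, map_smul, map_smul, polB_comm w u, u1, polB_comm w (L u), u2] at hzw
    simp at hzw
  obtain ⟨k1, k2⟩ := d.coeff_zero (d.line_invariant u) hzline (a := -a) (b := 1 - b) (by
    have e : (-a) • z + (1 - b) • L z = polB Q (L z) w • u - a • u - b • L u := by
      linear_combination (norm := module) h
    rw [e]
    exact sub_mem (sub_mem (Submodule.smul_mem _ _ (d.self_mem_line u)) (Submodule.smul_mem _ _ (d.self_mem_line u)))
      (Submodule.smul_mem _ _ (d.L_mem_line u)))
  rw [neg_eq_zero] at k1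
  rw [k1, ← sub_eq_zero.1 k2, zero_smul, zero_add, one_smul] at h
  obtain ⟨-, k4⟩ := d.coeff_zero (W := ⊥) (fun z hz => by simp_all) (z := u) (by simpa using hu0)
    (a := -polB Q (L z) w) (b := 1) ((Submodule.mem_bot F).2 (by linear_combination (norm := module) h))
  exact one_ne_zero k4

end UOStr

end H49
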