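import Mathlib
import Cfsg.Agent.H43.Eichler
import Cfsg.Agent.H47.Alternating

/-!
An orthogonal space as the tensor product of two symplectic spaces: contractions and root elements.
-/

set_option autoImplicit false
set_option linter.unusedSectionVars false

namespace H49

open scoped TensorProduct
open H43

variable {F : Type*} [Field F] [Fintype F]
  {V₁ : Type*} [AddCommGroup V₁] [Module F V₁] [FiniteDimensional F V₁]
  {V₂ : Type*} [AddCommGroup V₂] [Module F V₂] [FiniteDimensional F V₂]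
  {V : Type*} [AddCommGroup V] [Module F V] [FiniteDimensional F V]

/-- A quadratic form whose polar form is the product of two alternating forms and which vanishes on pure tensors. -/
structure PT (F : Type*) [Field F] (V₁ : Type*) [AddCommGroup V₁] [Module F V₁] (V₂ : Type*) [AddCommGroup V₂]
    [Module F V₂] (V : Type*) [AddCommGroup V] [Module F V] where
  Φ : (V₁ ⊗[F] V₂) ≃ₗ[F] V
  ω : LinearMap.BilinForm F V₁
  β : LinearMap.BilinForm F V₂
  Q : QuadraticForm F V
  ω_alt : ∀ a, ω a a = 0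
  ω_nd : ω.Nondegenerate
  β_alt : ∀ x, β x x = 0
  β_nd : β.Nondegenerate
  Q_nd : (H43.polB Q).Nondegenerate
  Q_pure : ∀ a x, Q (Φ (a ⊗ₜ x)) = 0
  f_pure : ∀ a b x y, H43.polB Q (Φ (a ⊗ₜ x)) (Φ (b ⊗ₜ y)) = ω a b * β x y

/-- Equality of a skew pairing read backwards. -/
theorem alt_swap {W : Type*} [AddCommGroup W] [Module F W] (B : LinearMap.BilinForm F W) (h : ∀ a, B a a = 0)
    (a b : W) : B a b = -B b a := by
  have h' := h (a + b)
  simp only [map_add, LinearMap.add_apply, h, add_zero, zero_add] at h'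
  linear_combination h'

/-- A vector pairing to one. -/
theorem alt_exists_one {W : Type*} [AddCommGroup W] [Module F W] {B : LinearMap.BilinForm F W}
    (hB : B.Nondegenerate) {u : W} (hu : u ≠ 0) : ∃ w, B u w = 1 := by
  obtain ⟨w, hw⟩ : ∃ w, B u w ≠ 0 := by
    by_contra hcon
    simp only [not_exists, not_not] at hcon
    exact hu (hB.1 u hcon)
  exact ⟨(B u w)⁻¹ • w, by rw [map_smul, smul_eq_mul, inv_mul_cancel₀ hw]⟩

/-- A vector separating a second one from the first. -/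
theorem alt_exists_sep {W : Type*} [AddCommGroup W] [Module F W] {B : LinearMap.BilinForm F W}
    (hB : B.Nondegenerate) {w u : W} (hw : w ∉ Submodule.span F {u}) : ∃ l, B w l = 1 ∧ B u l = 0 := by
  rcases eq_or_ne u 0 with rfl | hu
  · obtain ⟨l, hl⟩ := alt_exists_one hB (u := w) (fun e => hw (by rw [e]; exact zero_mem _))
    exact ⟨l, hl, by simp⟩
  obtain ⟨e, he⟩ := alt_exists_one hB hu
  obtain ⟨l, hl, hwl⟩ : ∃ l, B u l = 0 ∧ B w l ≠ 0 := by
    by_contra hcon
    simp only [not_exists, not_and, not_not] at hcon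
    refine hw (Submodule.mem_span_singleton.2 ⟨B w e, (sub_eq_zero.1 (hB.1 _ fun x => ?_)).symm⟩)
    have h1 := hcon (x - B u x • e) (by rw [map_sub, map_smul, he, smul_eq_mul, mul_one, sub_self])
    rw [map_sub, map_smul, smul_eq_mul] at h1
    rw [map_sub, LinearMap.sub_apply, map_smul, LinearMap.smul_apply, smul_eq_mul]
    linear_combination h1
  exact ⟨(B w l)⁻¹ • l, by rw [map_smul, smul_eq_mul, inv_mul_cancel₀ hwl],
    by rw [map_smul, hl, smul_zero]⟩

/-- Two vectors in the orthogonal of two others pairing to one. -/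
theorem alt_exists_pair {W : Type*} [AddCommGroup W] [Module F W] [FiniteDimensional F W]
    {B : LinearMap.BilinForm F W} (hB : B.Nondegenerate) (ha : ∀ a, B a a = 0) (hW : 5 ≤ Module.finrank F W)
    (u v : W) : ∃ w w', B u w = 0 ∧ B v w = 0 ∧ B u w' = 0 ∧ B v w' = 0 ∧ B w w' = 1 := by
  classical
  by_contra hcon
  simp only [not_exists, not_and] at hcon
  set S : Submodule F W := Submodule.span F {u, v} with hS
  set K := LinearMap.BilinForm.orthogonal B S with hK
  have hmem : ∀ x ∈ K, B u x = 0 ∧ B v x = 0 := fun x hx =>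
    ⟨hx u (Submodule.subset_span (Set.mem_insert _ _)), hx v (Submodule.subset_span (Set.mem_insert_of_mem _ rfl))⟩
  have hrefl : B.IsRefl := fun a b h => by rw [alt_swap B ha, h, neg_zero]
  have hsub : K ≤ S := by
    intro x hx
    rw [← LinearMap.BilinForm.orthogonal_orthogonal hB hrefl S]
    intro z hz
    by_contra hzx
    exact hcon ((B z x)⁻¹ • z) x (by simp [(hmem z hz).1]) (by simp [(hmem z hz).2]) (hmem x hx).1 (hmem x hx).2
      (by rw [map_smul, LinearMap.smul_apply, smul_eq_mul, inv_mul_cancel₀ hzx])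
  have h1 := Submodule.finrank_mono hsub
  have h2 := finrank_span_le_card (R := F) ({u, v} : Set W)
  have h3 : ({u, v} : Set W).toFinset.card ≤ 2 := by
    rw [Set.toFinset_insert, Set.toFinset_singleton]
    exact (Finset.card_insert_le _ _).trans (by rw [Finset.card_singleton])
  have h4 := LinearMap.BilinForm.finrank_orthogonal hB S
  rw [← hK] at h4
  rw [← hS] at h2
  omega

namespace PT

variable (d : PT F V₁ V₂ V)

/-- Pure tensors. -/
def t : V₁ →ₗ[F] V₂ →ₗ[F] V := (TensorProduct.mk F V₁ V₂).compr₂ d.Φ.toLinearMap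

theorem t_apply (a : V₁) (x : V₂) : d.t a x = d.Φ (a ⊗ₜ x) := rfl

theorem f_t (a b : V₁) (x y : V₂) : polB d.Q (d.t a x) (d.t b y) = d.ω a b * d.β x y := d.f_pure a b x y

theorem q_t (a : V₁) (x : V₂) : d.Q (d.t a x) = 0 := d.Q_pure a x

theorem ω_swap (a b : V₁) : d.ω a b = -d.ω b a := alt_swap d.ω d.ω_alt a b

theorem β_swap (x y : V₂) : d.β x y = -d.β y x := alt_swap d.β d.β_alt x y

theorem β_zero_comm {x y : V₂} (h : d.β x y = 0) : d.β y x = 0 := by rw [d.β_swap, h, neg_zero]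

theorem ω_zero_comm {a b : V₁} (h : d.ω a b = 0) : d.ω b a = 0 := by rw [d.ω_swap, h, neg_zero]

theorem ω_ext {a a' : V₁} (h : ∀ c, d.ω a c = d.ω a' c) : a = a' :=
  sub_eq_zero.1 (d.ω_nd.1 _ fun c => by rw [map_sub, LinearMap.sub_apply, h, sub_self])

/-- Equality on pure tensors determines a linear map. -/
theorem hom_ext {M : Type*} [AddCommGroup M] [Module F M] {g h : V →ₗ[F] M}
    (hgh : ∀ a x, g (d.t a x) = h (d.t a x)) : g = h := by
  have : g ∘ₗ d.Φ.toLinearMap = h ∘ₗ d.Φ.toLinearMap := TensorProduct.ext' fun a x => hgh a x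
  exact LinearMap.ext fun v => by simpa using LinearMap.congr_fun this (d.Φ.symm v)

theorem equiv_ext {g h : V ≃ₗ[F] V} (hgh : ∀ a x, g (d.t a x) = h (d.t a x)) : g = h :=
  LinearEquiv.toLinearMap_injective (d.hom_ext hgh)

theorem orth_ext' {g h : orthGroup d.Q} (hgh : ∀ a x, g.1 (d.t a x) = h.1 (d.t a x)) : g = h :=
  Subtype.ext (d.equiv_ext hgh)

include d in
theorem finrank_eq : Module.finrank F V = Module.finrank F V₁ * Module.finrank F V₂ := by
  rw [← d.Φ.finrank_eq, Module.finrank_tensorProduct]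

include d in
theorem even₁ : Even (Module.finrank F V₁) :=
  H47.alt_finrank_even _ d.ω d.ω_alt (fun v hv => d.ω_nd.1 v fun u => by rw [d.ω_swap, hv, neg_zero]) rfl

include d in
theorem even₂ : Even (Module.finrank F V₂) :=
  H47.alt_finrank_even _ d.β d.β_alt (fun v hv => d.β_nd.1 v fun u => by rw [d.β_swap, hv, neg_zero]) rfl

/-- The contraction with `v`. -/
noncomputable def Cr (v : V₂) : V →ₗ[F] V₁ :=
  (d.ω.toDual d.ω_nd).symm.toLinearMap ∘ₗ (polB d.Q).compl₂ (d.t.flip v)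

theorem ω_Cr (v : V₂) (z : V) (c : V₁) : d.ω (d.Cr v z) c = polB d.Q z (d.t c v) :=
  LinearMap.BilinForm.apply_toDual_symm_apply (hB := d.ω_nd) _ _

theorem Cr_t (v : V₂) (a : V₁) (x : V₂) : d.Cr v (d.t a x) = d.β x v • a :=
  d.ω_ext fun c => by rw [d.ω_Cr, d.f_t, map_smul, LinearMap.smul_apply, smul_eq_mul, mul_comm]

theorem Cr_add (v w : V₂) (z : V) : d.Cr (v + w) z = d.Cr v z + d.Cr w z :=
  d.ω_ext fun c => by simp only [d.ω_Cr, map_add, LinearMap.add_apply]

theorem Cr_smul (k : F) (v : V₂) (z : V) : d.Cr (k • v) z = k • d.Cr v z :=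
  d.ω_ext fun c => by simp only [d.ω_Cr, map_smul, LinearMap.smul_apply]

theorem ext_Cr {z z' : V} (h : ∀ v, d.Cr v z = d.Cr v z') : z = z' := by
  refine sub_eq_zero.1 (d.Q_nd.1 _ fun w => ?_)
  have : polB d.Q (z - z') = 0 := d.hom_ext fun a x => by
    rw [← d.ω_Cr, map_sub, h, sub_self, map_zero, LinearMap.zero_apply, LinearMap.zero_apply]
  rw [this, LinearMap.zero_apply]

/-- The column of `v`. -/
def W (v : V₂) : Submodule F V := LinearMap.range (d.t.flip v)

theorem t_mem_W (a : V₁) (v : V₂) : d.t a v ∈ d.W v := ⟨a, rfl⟩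

theorem mem_W_iff {v : V₂} {z : V} : z ∈ d.W v ↔ ∃ a, d.t a v = z := Iff.rfl

theorem t_left_injective {v : V₂} (hv : v ≠ 0) {a a' : V₁} (h : d.t a v = d.t a' v) : a = a' := by
  obtain ⟨w, hw⟩ := alt_exists_one d.β_nd hv
  have := congrArg (d.Cr w) h
  rwa [d.Cr_t, d.Cr_t, hw, one_smul, one_smul] at this

theorem finrank_W {v : V₂} (hv : v ≠ 0) : Module.finrank F (d.W v) = Module.finrank F V₁ :=
  LinearMap.finrank_range_of_inj (fun _ _ h => d.t_left_injective hv h)

theorem Cr_W {v : V₂} {z : V} (hz : z ∈ d.W v) {w : V₂} (h : d.β v w = 0) : d.Cr w z = 0 := by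
  obtain ⟨a, rfl⟩ := hz
  rw [LinearMap.flip_apply, d.Cr_t, h, zero_smul]

/-- Membership in a column by contractions with the orthogonal of its point. -/
theorem mem_W {v : V₂} (hv : v ≠ 0) {z : V} (h : ∀ w, d.β v w = 0 → d.Cr w z = 0) : z ∈ d.W v := by
  obtain ⟨e, he⟩ := alt_exists_one d.β_nd hv
  refine ⟨d.Cr e z, d.ext_Cr fun w => ?_⟩
  have h0 : d.β v (w - d.β v w • e) = 0 := by rw [map_sub, map_smul, he, smul_eq_mul, mul_one, sub_self]
  have h1 := h _ h0
  rw [sub_eq_add_neg, ← neg_smul, d.Cr_add, d.Cr_smul, neg_smul, add_neg_eq_zero] at h1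
  rw [LinearMap.flip_apply, d.Cr_t, h1]

/-- A linear map vanishing on the pure tensors orthogonal to a column vanishes on the orthogonal of the column. -/
theorem eq_zero_on_perp {M : Type*} [AddCommGroup M] [Module F M] {v : V₂} (hv : v ≠ 0) {L : V →ₗ[F] M}
    (h : ∀ a x, d.β v x = 0 → L (d.t a x) = 0) {z : V} (hz : d.Cr v z = 0) : L z = 0 := by
  obtain ⟨e, he⟩ := alt_exists_one d.β_nd hv
  have : L ∘ₗ (LinearMap.id + d.t.flip e ∘ₗ d.Cr v) = 0 := d.hom_ext fun a x => by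
    show L (d.t a x + d.t (d.Cr v (d.t a x)) e) = 0
    rw [d.Cr_t, map_smul, LinearMap.smul_apply, ← map_smul, ← map_add]
    exact h _ _ (by rw [map_add, map_smul, he, smul_eq_mul, mul_one, d.β_swap x v, add_neg_cancel])
  have h1 := LinearMap.congr_fun this z
  simpa [hz] using h1

/-- The product of two automorphisms. -/
noncomputable def tens (a : V₁ ≃ₗ[F] V₁) (c : V₂ ≃ₗ[F] V₂) : V ≃ₗ[F] V :=
  d.Φ.symm ≪≫ₗ TensorProduct.congr a c ≪≫ₗ d.Φ

theorem tens_t (a : V₁ ≃ₗ[F] V₁) (c : V₂ ≃ₗ[F] V₂) (e : V₁) (x : V₂) :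
    d.tens a c (d.t e x) = d.t (a e) (c x) := by
  simp [tens, t_apply]

theorem tens_mul (a a' : V₁ ≃ₗ[F] V₁) (c c' : V₂ ≃ₗ[F] V₂) :
    d.tens a c * d.tens a' c' = d.tens (a * a') (c * c') :=
  d.equiv_ext fun e x => by
    show d.tens a c (d.tens a' c' (d.t e x)) = _
    rw [d.tens_t, d.tens_t, d.tens_t]
    rfl

theorem tens_one : d.tens 1 1 = 1 := d.equiv_ext fun e x => by rw [d.tens_t]; rfl

theorem tens_inv (a : V₁ ≃ₗ[F] V₁) (c : V₂ ≃ₗ[F] V₂) : (d.tens a c)⁻¹ = d.tens a⁻¹ c⁻¹ :=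
  inv_eq_of_mul_eq_one_right (by rw [d.tens_mul, mul_inv_cancel, mul_inv_cancel, d.tens_one])

/-- Product isometries. -/
def IsTens (g : orthGroup d.Q) : Prop := ∃ a c, g.1 = d.tens a c

variable {d}

theorem IsTens.mul {g h : orthGroup d.Q} (hg : d.IsTens g) (hh : d.IsTens h) : d.IsTens (g * h) := by
  obtain ⟨a, c, hg⟩ := hg
  obtain ⟨a', c', hh⟩ := hh
  exact ⟨_, _, by rw [Subgroup.coe_mul, hg, hh, d.tens_mul]⟩

theorem IsTens.inv {g : orthGroup d.Q} (hg : d.IsTens g) : d.IsTens g⁻¹ := by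
  obtain ⟨a, c, hg⟩ := hg
  exact ⟨_, _, by rw [InvMemClass.coe_inv, hg, d.tens_inv]⟩

variable (d)

/-- The transvection `x ↦ x + c β(x,w) w`. -/
noncomputable def tv₂ (w : V₂) (c : F) : V₂ ≃ₗ[F] V₂ :=
  LinearEquiv.ofLinearMap (LinearMap.id + (c • d.β.flip w).smulRight w)
    (LinearMap.id + ((-c) • d.β.flip w).smulRight w)
    (by
      ext x
      simp [d.β_alt])
    (by
      ext x
      simp [d.β_alt])

theorem tv₂_apply (w : V₂) (c : F) (x : V₂) : d.tv₂ w c x = x + (c * d.β x w) • w := rfl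

/-- The transvection `x ↦ x + c ω(x,a) a`. -/
noncomputable def tv₁ (a : V₁) (c : F) : V₁ ≃ₗ[F] V₁ :=
  LinearEquiv.ofLinearMap (LinearMap.id + (c • d.ω.flip a).smulRight a)
    (LinearMap.id + ((-c) • d.ω.flip a).smulRight a)
    (by
      ext x
      simp [d.ω_alt])
    (by
      ext x
      simp [d.ω_alt])

theorem tv₁_apply (a : V₁) (c : F) (x : V₁) : d.tv₁ a c x = x + (c * d.ω x a) • a := rfl

theorem tv₁_symm (a : V₁) (c : F) (x : V₁) : (d.tv₁ a c).symm x = x + (-c * d.ω x a) • a := rfl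

theorem right_apply (w : V₂) (c : F) (z : V) :
    d.tens 1 (d.tv₂ w c) z = z + c • d.t (d.Cr w z) w := by
  have : (d.tens 1 (d.tv₂ w c)).toLinearMap = LinearMap.id + c • (d.t.flip w ∘ₗ d.Cr w) :=
    d.hom_ext fun a x => by
      show d.tens 1 (d.tv₂ w c) (d.t a x) = d.t a x + c • d.t (d.Cr w (d.t a x)) w
      rw [d.tens_t, d.tv₂_apply, d.Cr_t, map_add, map_smul, map_smul, LinearMap.smul_apply, smul_smul]
      rfl
  exact LinearMap.congr_fun this z

theorem right_mem (w : V₂) (c : F) : d.tens 1 (d.tv₂ w c) ∈ orthGroup d.Q := fun z => by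
  rw [d.right_apply, qmap_add_smul, d.q_t, ← d.ω_Cr, d.ω_alt]
  ring

/-- The root element of the column of `w`. -/
noncomputable def rt (w : V₂) (c : F) : orthGroup d.Q := ⟨d.tens 1 (d.tv₂ w c), d.right_mem w c⟩

theorem rt_apply (w : V₂) (c : F) (z : V) : (d.rt w c).1 z = z + c • d.t (d.Cr w z) w := d.right_apply w c z

theorem rt_t (w : V₂) (c : F) (a : V₁) (x : V₂) : (d.rt w c).1 (d.t a x) = d.t a (d.tv₂ w c x) :=
  d.tens_t _ _ _ _

theorem rt_tens (w : V₂) (c : F) : d.IsTens (d.rt w c) := ⟨_, _, rfl⟩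

theorem rt_inv (w : V₂) (c : F) : (d.rt w c)⁻¹ = d.rt w (-c) := by
  refine inv_eq_of_mul_eq_one_right (H43.orth_ext fun z => ?_)
  rw [orth_mul_apply, d.rt_apply, d.rt_apply, map_add, map_smul, d.Cr_t, d.β_alt, zero_smul, smul_zero, add_zero,
    orth_one_apply]
  module

theorem left_mem (a : V₁) (c : F) : d.tens (d.tv₁ a c) 1 ∈ orthGroup d.Q := by
  obtain ⟨L, hL⟩ : ∃ L : V →ₗ[F] V₂, ∀ z y, d.β (L z) y = polB d.Q z (d.t a y) :=
    ⟨(d.β.toDual d.β_nd).symm.toLinearMap ∘ₗ (polB d.Q).compl₂ (d.t a), fun z y =>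
      LinearMap.BilinForm.apply_toDual_symm_apply (hB := d.β_nd) _ _⟩
  have h : (d.tens (d.tv₁ a c) 1).toLinearMap = LinearMap.id + c • (d.t a ∘ₗ L) := d.hom_ext fun b x => by
    show d.tens (d.tv₁ a c) 1 (d.t b x) = d.t b x + c • d.t a (L (d.t b x))
    have e : L (d.t b x) = d.ω b a • x := by
      refine sub_eq_zero.1 (d.β_nd.1 _ fun y => ?_)
      rw [map_sub, LinearMap.sub_apply, hL, d.f_t, map_smul, LinearMap.smul_apply, smul_eq_mul, sub_self]
    rw [d.tens_t, d.tv₁_apply, e, map_add, LinearMap.add_apply, map_smul, LinearMap.smul_apply, map_smul, smul_smul]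
    rfl
  intro z
  rw [show d.tens (d.tv₁ a c) 1 z = z + c • d.t a (L z) from LinearMap.congr_fun h z, qmap_add_smul, d.q_t,
    ← hL, d.β_alt]
  ring

/-- The root element of the row of `a`. -/
noncomputable def lt (a : V₁) (c : F) : orthGroup d.Q := ⟨d.tens (d.tv₁ a c) 1, d.left_mem a c⟩

theorem lt_t (a : V₁) (c : F) (b : V₁) (x : V₂) : (d.lt a c).1 (d.t b x) = d.t (d.tv₁ a c b) x :=
  d.tens_t _ _ _ _

theorem lt_inv_t (a : V₁) (c : F) (b : V₁) (x : V₂) :
    ((d.lt a c)⁻¹).1 (d.t b x) = d.t ((d.tv₁ a c).symm b) x := by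
  show (d.tens (d.tv₁ a c) 1)⁻¹ (d.t b x) = _
  rw [d.tens_inv, d.tens_t]
  rfl

theorem Cr_lt (a : V₁) (c : F) (v : V₂) (z : V) : d.Cr v ((d.lt a c).1 z) = d.tv₁ a c (d.Cr v z) := by
  have : d.Cr v ∘ₗ (d.lt a c).1.toLinearMap = (d.tv₁ a c).toLinearMap ∘ₗ d.Cr v := d.hom_ext fun b x => by
    show d.Cr v ((d.lt a c).1 (d.t b x)) = d.tv₁ a c (d.Cr v (d.t b x))
    rw [d.lt_t, d.Cr_t, d.Cr_t, map_smul]
  exact LinearMap.congr_fun this z

theorem lt_tens (a : V₁) (c : F) : d.IsTens (d.lt a c) := ⟨_, _, rfl⟩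

/-- The Siegel element of `v` and an orthogonal `w`. -/
noncomputable def sg (v w : V₂) : orthGroup d.Q := d.rt (v + w) 1 * d.rt v (-1) * d.rt w (-1)

theorem sg_apply {v w : V₂} (h : d.β v w = 0) (z : V) :
    (d.sg v w).1 z = z + d.t (d.Cr w z) v + d.t (d.Cr v z) w := by
  simp only [sg, orth_mul_apply, d.rt_apply, map_add, map_smul, d.Cr_t, d.Cr_add, d.β_alt, h, d.β_zero_comm h,
    zero_smul, smul_zero, add_zero, LinearMap.add_apply, map_zero, LinearMap.zero_apply]
  module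

theorem sg_tens (v w : V₂) : d.IsTens (d.sg v w) :=
  ((d.rt_tens _ _).mul (d.rt_tens _ _)).mul (d.rt_tens _ _)

end PT

end H49
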