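import Cfsg.Agent.H49.PairNonRigid

/-!
In the rigid case the images of columns are columns.
-/

set_option autoImplicit false
set_option linter.unusedSectionVars false

namespace H49

namespace PT

open H43

variable {F : Type*} [Field F] [Fintype F]
  {V₁ : Type*} [AddCommGroup V₁] [Module F V₁] [FiniteDimensional F V₁]
  {V₂ : Type*} [AddCommGroup V₂] [Module F V₂] [FiniteDimensional F V₂]
  {V : Type*} [AddCommGroup V] [Module F V] [FiniteDimensional F V]
  (d : PT F V₁ V₂ V)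

/-- Isometries acting on the second factor alone. -/
def RightTens (g : orthGroup d.Q) : Prop := ∃ c, g.1 = d.tens 1 c

variable {d} {M : Subgroup (orthGroup d.Q)}

theorem RightTens.mul {g h : orthGroup d.Q} (hg : d.RightTens g) (hh : d.RightTens h) : d.RightTens (g * h) := by
  obtain ⟨c, hg⟩ := hg
  obtain ⟨c', hh⟩ := hh
  exact ⟨_, by rw [Subgroup.coe_mul, hg, hh, d.tens_mul, one_mul]⟩

theorem RightTens.inv {g : orthGroup d.Q} (hg : d.RightTens g) : d.RightTens g⁻¹ := by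
  obtain ⟨c, hg⟩ := hg
  exact ⟨_, by rw [InvMemClass.coe_inv, hg, d.tens_inv, inv_one]⟩

theorem rightTens_rt (w : V₂) (c : F) : d.RightTens (d.rt w c) := ⟨_, rfl⟩

theorem rightTens_sg (v w : V₂) : d.RightTens (d.sg v w) :=
  ((rightTens_rt _ _).mul (rightTens_rt _ _)).mul (rightTens_rt _ _)

theorem Cr_neg (v : V₂) (z : V) : d.Cr (-v) z = -d.Cr v z := by
  rw [← neg_one_smul F v, d.Cr_smul, neg_one_smul]

theorem Cr_W_zero {v w : V₂} (h : d.β v w = 0) (a : V₁) : d.Cr w (d.t a v) = 0 := by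
  rw [d.Cr_t, h, zero_smul]

/-- A vector orthogonal to the orthogonal of a column lies in the column. -/
theorem mem_W_of_perp {v : V₂} (hv : v ≠ 0) {u : V} (h : ∀ z, d.Cr v z = 0 → polB d.Q z u = 0) : u ∈ d.W v :=
  d.mem_W hv fun x hx => d.ω_ext fun c => by
    rw [d.ω_Cr, polB_comm, h _ (by rw [d.Cr_t, d.β_zero_comm hx, zero_smul]), map_zero, LinearMap.zero_apply]

/-- Linear in the point. -/
noncomputable def CrL (z : V) : V₂ →ₗ[F] V₁ where
  toFun v := d.Cr v z
  map_add' v w := d.Cr_add v w z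
  map_smul' k v := d.Cr_smul k v z

section

variable (hO : d.Over M) (hS : d.Small M) (hR : d.Rigid M)
include hO hS hR

/-- The shape of a radical element. -/
theorem InU.form {v : V₂} (hv : v ≠ 0) {y : orthGroup d.Q} (hy : d.InU M v y) :
    ∃ w₀ : V₂, ∃ s : F, d.β v w₀ = 0 ∧ y = d.rt v s * d.sg v w₀ := by
  obtain ⟨e, he⟩ := alt_exists_one d.β_nd hv
  obtain ⟨a₀, ha₀⟩ : ∃ a : V₁, a ≠ 0 :=
    Module.finrank_pos_iff_exists_ne_zero.1 (lt_of_lt_of_le (by norm_num) hO.pos)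
  obtain ⟨c₀, hc₀⟩ := alt_exists_one d.ω_nd ha₀
  let L : V₂ →ₗ[F] F := d.ω.flip c₀ ∘ₗ d.CrL (y.1 (d.t a₀ e) - d.t a₀ e) ∘ₗ
    (LinearMap.id - (d.β v).smulRight e)
  have hL : ∀ x, L x = d.ω (d.comp y e (x - d.β v x • e) a₀) c₀ := fun x => rfl
  obtain ⟨w, hw⟩ : ∃ w, ∀ x, d.β w x = L x :=
    ⟨(d.β.toDual d.β_nd).symm L, fun x => LinearMap.BilinForm.apply_toDual_symm_apply (hB := d.β_nd) _ _⟩
  have hvw : d.β v w = 0 := by
    refine d.β_zero_comm ?_
    rw [hw, hL, d.β_alt, zero_smul, sub_zero, comp_apply, hy.Cr_move, map_zero, LinearMap.zero_apply]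
  have hcomp : ∀ x, d.β v x = 0 → ∀ X, d.comp y e x X = d.β w x • X := by
    intro x hx X
    obtain ⟨s, hs⟩ := hR v hv y hy e he x hx
    rw [hs, hw, hL, hx, zero_smul, sub_zero, hs, map_smul, LinearMap.smul_apply, hc₀, smul_eq_mul, mul_one]
  have hsgU := sg_inU hO hS hvw
  have hy1 : d.InU M v (y * d.sg v w) := hy.mul hsgU
  set y1 := y * d.sg v w with hy1def
  have hev : d.β e v = -1 := by rw [d.β_swap, he]
  have hcomp1 : ∀ x, d.β v x = 0 → ∀ X, d.comp y1 e x X = 0 := fun x hx X => by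
    rw [hy1def, comp_mul hy hsgU e hx, hcomp x hx, comp_apply, d.sg_apply hvw, add_assoc, add_sub_cancel_left,
      map_add, d.Cr_t, d.Cr_t, d.Cr_t, d.Cr_t, hev, hx, zero_smul, zero_add, smul_smul, mul_neg, mul_one, neg_smul,
      add_neg_cancel]
  have hcol : ∀ X, y1.1 (d.t X e) - d.t X e ∈ d.W v := fun X => d.mem_W hv fun x hx => hcomp1 x hx X
  have hfix : ∀ z, d.Cr v z = 0 → y1.1 z = z := by
    intro z hz
    obtain ⟨a, ha⟩ := hy1.2.2 z hz
    rw [LinearMap.flip_apply] at ha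
    have h0 : a = 0 := d.ω_ext fun X => by
      have h := orth_polB_map y1 z (d.t X e)
      obtain ⟨R, hR'⟩ := hcol X
      rw [LinearMap.flip_apply] at hR'
      rw [show y1.1 z = z + d.t a v by rw [ha, add_sub_cancel],
        show y1.1 (d.t X e) = d.t X e + d.t R v by rw [hR', add_sub_cancel]] at h
      simp only [map_add, LinearMap.add_apply, d.f_t, d.β_alt, he, mul_zero, mul_one, add_zero, ← d.ω_Cr, hz,
        map_zero, LinearMap.zero_apply] at h
      rw [map_zero, LinearMap.zero_apply]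
      linear_combination h
    rw [h0, map_zero, LinearMap.zero_apply, eq_comm, sub_eq_zero] at ha
    exact ha
  set S : V₁ →ₗ[F] V₁ := -(d.Cr e ∘ₗ (y1.1.toLinearMap - LinearMap.id) ∘ₗ d.t.flip e) with hSdef
  have hform : ∀ z, y1.1 z = z + d.t (S (d.Cr v z)) v := by
    intro z
    obtain ⟨R, hR'⟩ := hcol (d.Cr v z)
    rw [LinearMap.flip_apply] at hR'
    have hSz : S (d.Cr v z) = -R := by
      show -(d.Cr e (y1.1 (d.t (d.Cr v z) e) - d.t (d.Cr v z) e)) = -R
      rw [← hR', d.Cr_t, he, one_smul]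
    have hz : d.Cr v (z + d.t (d.Cr v z) e) = 0 := by rw [map_add, d.Cr_t, hev, neg_smul, one_smul, add_neg_cancel]
    have e0 := hfix _ hz
    rw [map_add] at e0
    rw [hSz, map_neg, LinearMap.neg_apply]
    linear_combination (norm := abel) e0 + hR'
  obtain ⟨s, hs⟩ := hS v hv S ⟨y1, hy1.1, hform⟩
  refine ⟨-w, s, by rw [map_neg, hvw, neg_zero], ?_⟩
  have hrt : y1 = d.rt v s := orth_ext fun z => by
    rw [hform, hs, d.rt_apply, map_smul, LinearMap.smul_apply]
  have hvw' : d.β v (-w) = 0 := by rw [map_neg, hvw, neg_zero]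
  have hinv : d.sg v w * d.sg v (-w) = 1 := orth_ext fun z => by
    rw [orth_mul_apply, d.sg_apply hvw, d.sg_apply hvw', orth_one_apply]
    simp only [map_add, d.Cr_t, Cr_neg, map_neg, LinearMap.neg_apply, LinearMap.add_apply, d.β_alt, hvw,
      d.β_zero_comm hvw, zero_smul, neg_zero, map_zero, LinearMap.zero_apply, add_zero, zero_add]
    abel
  rw [← hrt, hy1def, mul_assoc, hinv, mul_one]

theorem InU.rightTens {v : V₂} (hv : v ≠ 0) {y : orthGroup d.Q} (hy : d.InU M v y) : d.RightTens y := by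
  obtain ⟨w₀, s, -, rfl⟩ := InU.form hO hS hR hv hy
  exact (rightTens_rt _ _).mul (rightTens_sg _ _)

omit hS hR in
/-- If a conjugate of a root element acts on the second factor alone, the column goes to a column. -/
theorem root_image {g : orthGroup d.Q} {w : V₂} (hw : w ≠ 0) (h : d.RightTens (g * d.rt w 1 * g⁻¹)) :
    ∃ q, q ≠ 0 ∧ ∀ a, g.1 (d.t a w) ∈ d.W q := by
  obtain ⟨c, hc⟩ := h
  obtain ⟨a₀, ha₀⟩ : ∃ a : V₁, a ≠ 0 :=
    Module.finrank_pos_iff_exists_ne_zero.1 (lt_of_lt_of_le (by norm_num) hO.pos)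
  have happ : ∀ z, d.tens 1 c z = z + g.1 (d.t (d.Cr w ((g⁻¹).1 z)) w) := fun z => by
    rw [← hc, orth_mul_apply, orth_mul_apply, d.rt_apply, one_smul, map_add, orth_apply_inv_self]
  obtain ⟨x₀, hx₀⟩ : ∃ x₀, c x₀ ≠ x₀ := by
    by_contra hcon
    simp only [not_exists, not_not] at hcon
    obtain ⟨x, hx⟩ := alt_exists_one d.β_nd hw
    have h1 := happ (g.1 (d.t a₀ x))
    rw [show d.tens 1 c = 1 from d.equiv_ext fun a y => by rw [d.tens_t, hcon]; rfl, orth_inv_apply_self, d.Cr_t,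
      d.β_swap, hx] at h1
    have h2 : g.1 (d.t ((-1 : F) • a₀) w) = 0 := add_left_cancel (h1.symm.trans (add_zero _).symm)
    rw [LinearEquiv.map_eq_zero_iff] at h2
    have h3 := d.t_left_injective hw (a' := 0) (by rw [h2, map_zero, LinearMap.zero_apply])
    rw [neg_smul, one_smul, neg_eq_zero] at h3
    exact ha₀ h3
  refine ⟨c x₀ - x₀, sub_ne_zero.2 hx₀, fun a => ?_⟩
  have hle : d.W (c x₀ - x₀) ≤ (d.W w).map g.1.toLinearMap := by
    rintro _ ⟨b, rfl⟩
    refine ⟨_, d.t_mem_W (d.Cr w ((g⁻¹).1 (d.t b x₀))) w, ?_⟩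
    have h1 := happ (d.t b x₀)
    rw [d.tens_t, LinearEquiv.coe_one, id] at h1
    rw [LinearMap.flip_apply, map_sub, h1, LinearEquiv.coe_coe, add_sub_cancel_left]
  have heq := Submodule.eq_of_le_of_finrank_eq hle (by
    rw [d.finrank_W (sub_ne_zero.2 hx₀), g.1.finrank_map_eq, d.finrank_W hw])
  rw [heq]
  exact ⟨_, d.t_mem_W a w, rfl⟩

/-- The stabiliser of a column moves the orthogonal columns to columns. -/
theorem col_stab {g : orthGroup d.Q} (hg : g ∈ M) {v : V₂} (hv : v ≠ 0) (hgW : ∀ a, g.1 (d.t a v) ∈ d.W v)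
    {w : V₂} (hw : w ≠ 0) (hvw : d.β v w = 0) : ∃ q, q ≠ 0 ∧ ∀ a, g.1 (d.t a w) ∈ d.W q := by
  obtain ⟨e, he⟩ := alt_exists_one d.β_nd hv
  have hev : d.β e v = -1 := by rw [d.β_swap, he]
  let A : V₁ →ₗ[F] V₁ := d.Cr e ∘ₗ g.1.toLinearMap ∘ₗ d.t.flip v
  have hA : ∀ a, g.1 (d.t a v) = d.t (A a) v := fun a => by
    obtain ⟨b, hb⟩ := hgW a
    rw [LinearMap.flip_apply] at hb
    show _ = d.t (d.Cr e (g.1 (d.t a v))) v
    rw [← hb, d.Cr_t, he, one_smul]
  have hAinj : Function.Injective A := fun a b hab =>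
    d.t_left_injective hv (g.1.injective (by rw [hA, hA, hab]))
  have hAsurj := LinearMap.injective_iff_surjective.1 hAinj
  obtain ⟨B, hB⟩ : ∃ B : V₁ →ₗ[F] V₁, ∀ X c, d.ω (B X) c = d.ω X (A c) :=
    ⟨(d.ω.toDual d.ω_nd).symm.toLinearMap ∘ₗ d.ω.compl₂ A,
      fun X c => LinearMap.BilinForm.apply_toDual_symm_apply (hB := d.ω_nd) _ _⟩
  have hCinv : ∀ z, d.Cr v ((g⁻¹).1 z) = B (d.Cr v z) := fun z => d.ω_ext fun c => by
    rw [d.ω_Cr, hB, d.ω_Cr, ← orth_polB_map g, orth_apply_inv_self, hA]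
  obtain ⟨ρ, hρ⟩ := hS v hv (A ∘ₗ B) ⟨g * d.rt v 1 * g⁻¹, mul_mem (mul_mem hg (hO.right v 1)) (inv_mem hg),
    fun z => by
      rw [orth_mul_apply, orth_mul_apply, d.rt_apply, one_smul, map_add, orth_apply_inv_self, hA, hCinv]
      rfl⟩
  have hBinj : Function.Injective B := (injective_iff_map_eq_zero B).2 fun X hX => d.ω_ext fun c => by
    obtain ⟨c', rfl⟩ := hAsurj c
    rw [← hB, hX, map_zero, LinearMap.zero_apply, LinearMap.zero_apply]
  have hρ0 : ρ ≠ 0 := by
    intro h0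
    obtain ⟨a₀, ha₀⟩ : ∃ a : V₁, a ≠ 0 :=
      Module.finrank_pos_iff_exists_ne_zero.1 (lt_of_lt_of_le (by norm_num) hO.pos)
    have := hρ a₀
    rw [h0, zero_smul, LinearMap.comp_apply] at this
    exact ha₀ (hBinj (((injective_iff_map_eq_zero A).1 hAinj _ this).trans (map_zero B).symm))
  have hsim : ∀ a c, d.ω (A a) (A c) = ρ * d.ω a c := fun a c => by
    have e1 : B (A a) = ρ • a := hAinj (by
      have := hρ (A a)
      rw [LinearMap.comp_apply] at this
      rw [this, map_smul])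
    rw [← hB, e1, map_smul, LinearMap.smul_apply, smul_eq_mul]
  -- the conjugate of a Siegel element
  have hsgU := (sg_inU hO hS hvw).conj hg hgW
  obtain ⟨w'', s'', hvw'', hyform⟩ := InU.form hO hS hR hv hsgU
  have hperp : ∀ z, d.Cr v z = 0 → A (d.Cr w ((g⁻¹).1 z)) = d.Cr w'' z := fun z hz => by
    have h := congrArg (fun y : orthGroup d.Q => y.1 z) hyform
    simp only [orth_mul_apply, d.sg_apply hvw, d.sg_apply hvw'', d.rt_apply, hCinv, hz, map_zero,
      LinearMap.zero_apply, add_zero, map_add, orth_apply_inv_self, d.Cr_t, d.β_alt, zero_smul, smul_zero, hA] at h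
    exact d.t_left_injective hv (add_left_cancel h)
  have himg : ∀ X, g.1 (d.t X w) - ρ⁻¹ • d.t (A X) w'' ∈ d.W v := fun X => by
    refine mem_W_of_perp hv fun z hz => ?_
    have h1 : polB d.Q z (g.1 (d.t X w)) = d.ω (d.Cr w ((g⁻¹).1 z)) X := by
      rw [d.ω_Cr, ← orth_polB_map g ((g⁻¹).1 z), orth_apply_inv_self]
    rw [map_sub, h1, map_smul, smul_eq_mul, ← d.ω_Cr, ← hperp z hz, hsim, ← mul_assoc, inv_mul_cancel₀ hρ0,
      one_mul, sub_self]
  set u := g * d.rt w 1 * g⁻¹ with hu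
  have huapp : ∀ z, u.1 z = z + g.1 (d.t (d.Cr w ((g⁻¹).1 z)) w) := fun z => by
    rw [hu, orth_mul_apply, orth_mul_apply, d.rt_apply, one_smul, map_add, orth_apply_inv_self]
  have hw''W : ∀ a, d.Cr w'' (d.t a v) = 0 := Cr_W_zero hvw''
  have hU : d.InU M v (d.rt w'' (-ρ⁻¹) * u) := by
    refine ⟨mul_mem (hO.right _ _) (mul_mem (mul_mem hg (hO.right _ _)) (inv_mem hg)), fun a => ?_, fun z hz => ?_⟩
    · obtain ⟨a', ha'⟩ := hAsurj a
      have e1 : (g⁻¹).1 (d.t a v) = d.t a' v := g.1.injective (by rw [orth_apply_inv_self, hA, ha'])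
      rw [orth_mul_apply, huapp, e1, Cr_W_zero hvw, map_zero, LinearMap.zero_apply, map_zero, add_zero,
        d.rt_apply, hw''W, map_zero, LinearMap.zero_apply, smul_zero, add_zero]
    · obtain ⟨R, hR'⟩ := himg (d.Cr w ((g⁻¹).1 z))
      rw [LinearMap.flip_apply, hperp z hz] at hR'
      have e1 : u.1 z = z + ρ⁻¹ • d.t (d.Cr w'' z) w'' + d.t R v := by rw [huapp, hR']; abel
      rw [orth_mul_apply, e1, d.rt_apply]
      have e2 : d.Cr w'' (z + ρ⁻¹ • d.t (d.Cr w'' z) w'' + d.t R v) = d.Cr w'' z := by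
        rw [map_add, map_add, map_smul, d.Cr_t, d.β_alt, zero_smul, smul_zero, add_zero, hw''W, add_zero]
      rw [e2]
      convert d.t_mem_W R v using 1
      module
  have hRu : d.RightTens u := by
    have h := (rightTens_rt w'' (-ρ⁻¹)).inv.mul (InU.rightTens hO hS hR hv hU)
    rwa [inv_mul_cancel_left] at h
  exact root_image hO hw hRu

/-- Orthogonal columns follow a column. -/
theorem col_step {g : orthGroup d.Q} (hg : g ∈ M) {v q : V₂} (hv : v ≠ 0) (hq : q ≠ 0)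
    (hgW : ∀ a, g.1 (d.t a v) ∈ d.W q) {w : V₂} (hw : w ≠ 0) (hvw : d.β v w = 0) :
    ∃ q', q' ≠ 0 ∧ ∀ a, g.1 (d.t a w) ∈ d.W q' := by
  obtain ⟨h, hh, c, -, hc, hcq, -⟩ := hO.move₂ hq hv
  obtain ⟨p, hp, hpW⟩ := col_stab hO hS hR (mul_mem hh hg) hv (fun a => by
    obtain ⟨b, hb⟩ := hgW a
    rw [orth_mul_apply, ← hb, LinearMap.flip_apply, hc, hcq]
    exact d.t_mem_W b v) hw hvw
  refine ⟨c.symm p, by simpa using hp, fun a => ?_⟩
  obtain ⟨b, hb⟩ := hpW a
  rw [LinearMap.flip_apply, orth_mul_apply, show d.t b p = h.1 (d.t b (c.symm p)) by rw [hc, c.apply_symm_apply]]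
    at hb
  rw [← h.1.injective hb]
  exact d.t_mem_W _ _

omit hO hS hR in
/-- Automorphisms mapping every column onto a column are products. -/
theorem isTens_of_points {g : orthGroup d.Q} (hn₁ : 1 ≤ Module.finrank F V₁) (hn₂ : 2 ≤ Module.finrank F V₂)
    (h : ∀ w, w ≠ 0 → ∃ q, q ≠ 0 ∧ ∀ a, g.1 (d.t a w) ∈ d.W q) : d.IsTens g := by
  classical
  obtain ⟨v, hv⟩ : ∃ v : V₂, v ≠ 0 := Module.finrank_pos_iff_exists_ne_zero.1 (lt_of_lt_of_le Nat.two_pos hn₂)
  obtain ⟨a₀, ha₀⟩ : ∃ a : V₁, a ≠ 0 := Module.finrank_pos_iff_exists_ne_zero.1 hn₁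
  obtain ⟨q, hq, hqW⟩ := h v hv
  obtain ⟨e, he⟩ := alt_exists_one d.β_nd hq
  let A : V₁ →ₗ[F] V₁ := d.Cr e ∘ₗ g.1.toLinearMap ∘ₗ d.t.flip v
  have hA : ∀ a, g.1 (d.t a v) = d.t (A a) q := fun a => by
    obtain ⟨b, hb⟩ := hqW a
    rw [LinearMap.flip_apply] at hb
    show _ = d.t (d.Cr e (g.1 (d.t a v))) q
    rw [← hb, d.Cr_t, he, one_smul]
  have hinj : Function.Injective A := fun a b hab =>
    d.t_left_injective hv (g.1.injective (by rw [hA, hA, hab]))
  have hsurj := LinearMap.injective_iff_surjective.1 hinj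
  have key : ∀ w, w ∉ Submodule.span F ({v} : Set V₂) → ∃ p, ∀ a, g.1 (d.t a w) = d.t (A a) p := by
    intro w hw
    have hw0 : w ≠ 0 := fun e => hw (e ▸ zero_mem _)
    have hvw : v + w ≠ 0 := fun e => hw (by
      rw [eq_neg_of_add_eq_zero_right e]; exact neg_mem (Submodule.mem_span_singleton_self v))
    obtain ⟨p, hp, hpW⟩ := h w hw0
    obtain ⟨m, hm, hmW⟩ := h (v + w) hvw
    have hne : p ∉ Submodule.span F ({q} : Set V₂) := by
      intro hmem
      obtain ⟨k, rfl⟩ := Submodule.mem_span_singleton.1 hmem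
      obtain ⟨b, hb⟩ := hpW a₀
      obtain ⟨b', hb'⟩ := hsurj (k • b)
      rw [LinearMap.flip_apply, map_smul, ← LinearMap.smul_apply, ← map_smul, ← hb', ← hA,
        EmbeddingLike.apply_eq_iff_eq] at hb
      obtain ⟨l, hl1, hl0⟩ := alt_exists_sep d.β_nd hw
      have := congrArg (d.Cr l) hb
      rw [d.Cr_t, d.Cr_t, hl1, hl0, one_smul, zero_smul] at this
      exact ha₀ this.symm
    obtain ⟨l, hl1, hl0⟩ := alt_exists_sep d.β_nd hne
    have hne' : q ∉ Submodule.span F ({p} : Set V₂) := fun hmem => by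
      obtain ⟨k, hk⟩ := Submodule.mem_span_singleton.1 hmem
      rcases eq_or_ne k 0 with rfl | hk0
      · exact hq (by rw [← hk, zero_smul])
      · exact hne (Submodule.mem_span_singleton.2 ⟨k⁻¹, by rw [← hk, smul_smul, inv_mul_cancel₀ hk0, one_smul]⟩)
    obtain ⟨l', hl'1, hl'0⟩ := alt_exists_sep d.β_nd hne'
    refine ⟨(d.β m l / d.β m l') • p, fun a => ?_⟩
    obtain ⟨b, hb⟩ := hpW a
    obtain ⟨r, hr⟩ := hmW a
    rw [LinearMap.flip_apply] at hb hr
    have he' : d.t (A a) q + d.t b p = d.t r m := by rw [hr, map_add, map_add, hA, hb]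
    have e1 := congrArg (d.Cr l') he'
    have e2 := congrArg (d.Cr l) he'
    simp only [map_add, d.Cr_t, hl1, hl0, hl'1, hl'0, one_smul, zero_smul, add_zero, zero_add] at e1 e2
    rw [← hb, map_smul, e1]
    rcases eq_or_ne (d.β m l') 0 with h0 | h0
    · rw [h0, zero_smul] at e1
      have : a = 0 := hinj (e1.trans (map_zero A).symm)
      subst this
      have hb0 : b = 0 := d.t_left_injective hp (by rw [hb]; simp)
      simp [hb0, h0]
    · rw [map_smul, LinearMap.smul_apply, smul_smul, div_mul_cancel₀ _ h0, e2, map_smul, LinearMap.smul_apply]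
  have hall : ∀ w, ∃ p, ∀ a, g.1 (d.t a w) = d.t (A a) p := by
    intro w
    by_cases hw : w ∈ Submodule.span F ({v} : Set V₂)
    · obtain ⟨k, rfl⟩ := Submodule.mem_span_singleton.1 hw
      exact ⟨k • q, fun a => by rw [map_smul, map_smul, map_smul, hA]⟩
    · exact key w hw
  choose γ hγ using hall
  have tinj : ∀ {x y : V₂}, (∀ a, d.t (A a) x = d.t (A a) y) → x = y := fun {x y} hxy => by
    obtain ⟨a, ha⟩ := hsurj a₀
    refine sub_eq_zero.1 (d.β_nd.1 _ fun z => ?_)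
    have := congrArg (d.Cr z) (hxy a)
    rw [d.Cr_t, d.Cr_t, ha] at this
    rw [map_sub, LinearMap.sub_apply, smul_left_injective F ha₀ this, sub_self]
  let C : V₂ →ₗ[F] V₂ :=
    { toFun := γ
      map_add' := fun w w' => tinj fun a => by simp only [map_add, ← hγ]
      map_smul' := fun k w => tinj fun a => by simp only [map_smul, ← hγ, RingHom.id_apply] }
  have hC : Function.Injective C := (injective_iff_map_eq_zero C).2 fun w hw => by
    by_contra hne
    obtain ⟨a, ha⟩ := hsurj a₀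
    have h0 : g.1 (d.t a w) = 0 := by rw [hγ, show γ w = 0 from hw, map_zero]
    rw [LinearEquiv.map_eq_zero_iff] at h0
    obtain ⟨z, hz⟩ := alt_exists_one d.β_nd hne
    have := congrArg (d.Cr z) h0
    rw [d.Cr_t, hz, one_smul, map_zero] at this
    exact ha₀ (by rw [← ha, this, map_zero])
  refine ⟨LinearEquiv.ofInjectiveEndo A hinj, LinearEquiv.ofInjectiveEndo C hC, d.equiv_ext fun a w => ?_⟩
  rw [d.tens_t, hγ]
  rfl

/-- An element mapping one column onto a column is a product. -/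
theorem tens_of_point {g : orthGroup d.Q} (hg : g ∈ M) {v q : V₂} (hv : v ≠ 0) (hq : q ≠ 0)
    (hgW : ∀ a, g.1 (d.t a v) ∈ d.W q) : d.IsTens g := by
  refine isTens_of_points (by have := hO.pos; omega) (by have := hO.six; omega) fun w hw => ?_
  obtain ⟨z, z', h1, h2, -, -, h5⟩ := alt_exists_pair d.β_nd d.β_alt (by have := hO.six; omega) v w
  have hz : z ≠ 0 := fun e => one_ne_zero (α := F) (by rw [← h5, e, map_zero, LinearMap.zero_apply])
  obtain ⟨p, hp, hpW⟩ := col_step hO hS hR hg hv hq hgW hz h1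
  exact col_step hO hS hR hg hz hp hpW hw (d.β_zero_comm h2)

end

end PT

end H49
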