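import Cfsg.Agent.H49.PairBase

/-!
One Eichler transformation of pure tensors together with the product group gives the commutator subgroup.
-/

set_option autoImplicit false
set_option linter.unusedSectionVars false

namespace H49

namespace PT

open H43

variable {F : Type*} [Field F] [Fintype F]
  {V₁ : Type*} [AddCommGroup V₁] [Module F V₁] [FiniteDimensional F V₁]
  {V₂ : Type*} [AddCommGroup V₂] [Module F V₂] [FiniteDimensional F V₂]
  {V : Type*} [AddCommGroup V] [Module F V] [FiniteDimensional F V]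
  (d : PT F V₁ V₂ V)

/-- The standing hypotheses. -/
structure Over (M : Subgroup (orthGroup d.Q)) : Prop where
  right : ∀ w c, d.rt w c ∈ M
  left : ∀ a c, d.lt a c ∈ M
  pos : 2 ≤ Module.finrank F V₁
  six : 6 ≤ Module.finrank F V₂
  gap : Module.finrank F V₁ + 2 ≤ Module.finrank F V₂
  exc : Module.finrank F V₁ = 2 → ∃ c : F, c ≠ 0 ∧ c ≠ 1

/-- The vectors paired with a singular vector in the group. -/
noncomputable def pr (M : Subgroup (orthGroup d.Q)) {u : V} (hu : d.Q u = 0) : Submodule F V where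
  carrier := {w | polB d.Q u w = 0 ∧ ∀ t : F, eichler d.Q u (t • w) ∈ M}
  add_mem' := fun {a b} ha hb => ⟨by rw [map_add, ha.1, hb.1, add_zero], fun t => by
    rw [smul_add, ← eichler_mul hu (by rw [map_smul, ha.1, smul_zero]) (by rw [map_smul, hb.1, smul_zero])]
    exact mul_mem (ha.2 t) (hb.2 t)⟩
  zero_mem' := ⟨map_zero _, fun t => by rw [smul_zero, eichler_zero hu]; exact one_mem _⟩
  smul_mem' := fun c a ha => ⟨by rw [map_smul, ha.1, smul_zero], fun t => by rw [smul_smul]; exact ha.2 _⟩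

variable {d} {M : Subgroup (orthGroup d.Q)}

theorem pr_map {g : orthGroup d.Q} (hg : g ∈ M) {u w : V} (hu : d.Q u = 0) (hgu : d.Q (g.1 u) = 0)
    (h : w ∈ d.pr M hu) : g.1 w ∈ d.pr M hgu := by
  refine ⟨by rw [orth_polB_map, h.1], fun t => ?_⟩
  rw [← map_smul g.1, ← eichler_conj g hu (by rw [map_smul, h.1, smul_zero])]
  exact mul_mem (mul_mem hg (h.2 t)) (inv_mem hg)

theorem pr_congr {u u' : V} (e : u = u') (hu : d.Q u = 0) (hu' : d.Q u' = 0) {w : V} (h : w ∈ d.pr M hu) :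
    w ∈ d.pr M hu' := by subst e; exact h

theorem pr_symm {u w : V} (hu : d.Q u = 0) (hw : d.Q w = 0) (h : w ∈ d.pr M hu) : u ∈ d.pr M hw := by
  refine ⟨by rw [polB_comm]; exact h.1, fun t => ?_⟩
  have h1 : polB d.Q w (t • u) = 0 := by rw [map_smul, polB_comm, h.1, smul_zero]
  have h2 : polB d.Q u (-t • w) = 0 := by rw [map_smul, h.1, smul_zero]
  rw [show eichler d.Q w (t • u) = eichler d.Q u (-t • w) from orth_ext fun x => by
    rw [eichler_apply hw h1, eichler_apply hu h2, qmap_smul, qmap_smul, hu, hw]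
    simp only [map_smul, smul_eq_mul, mul_zero, zero_mul, zero_smul, sub_zero]
    module]
  exact h.2 _

/-- The commutator rule. -/
theorem pr_rule {u w a b : V} (hu : d.Q u = 0) (hw : d.Q w = 0) (huw : polB d.Q u w = 0) (ha : a ∈ d.pr M hu)
    (hb : b ∈ d.pr M hw) (hwa : polB d.Q w a = 0) (hub : polB d.Q u b = 0) (hba : polB d.Q b a ≠ 0) :
    u ∈ d.pr M hw := by
  refine ⟨by rw [polB_comm]; exact huw, fun t => ?_⟩
  set c := -t / polB d.Q b a with hc
  have hwu : polB d.Q w u = 0 := by rw [polB_comm]; exact huw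
  have h1 : polB d.Q u (c • a) = 0 := by rw [map_smul, ha.1, smul_zero]
  have himg : (eichler d.Q u (c • a)).1 b = b + t • u := by
    rw [eichler_apply hu h1, map_smul, polB_comm b u, hub, smul_eq_mul, hc, div_mul_cancel₀ _ hba]
    simp
  have hfix : (eichler d.Q u (c • a)).1 w = w := eichler_fix hu h1 hwu (by rw [map_smul, hwa, smul_zero])
  have e : eichler d.Q w (t • u) =
      eichler d.Q u (c • a) * eichler d.Q w b * (eichler d.Q u (c • a))⁻¹ * (eichler d.Q w b)⁻¹ := by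
    rw [eichler_conj _ hw hb.1, himg, hfix, eichler_inv hw hb.1,
      eichler_mul hw (by rw [map_add, hb.1, map_smul, hwu, smul_zero, add_zero]) (by rw [map_neg, hb.1, neg_zero])]
    congr 1
    abel
  rw [e]
  have hb1 : eichler d.Q w b ∈ M := by simpa using hb.2 1
  exact mul_mem (mul_mem (mul_mem (ha.2 c) hb1) (inv_mem (ha.2 c))) (inv_mem hb1)

section moves

variable (hO : d.Over M)
include hO

/-- A vector can be moved to a non-orthogonal one fixing what is orthogonal to their difference. -/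
theorem Over.step₂ {v v' : V₂} (h : d.β v v' ≠ 0) : ∃ g ∈ M, ∃ c : V₂ ≃ₗ[F] V₂, d.IsTens g ∧
    (∀ a x, g.1 (d.t a x) = d.t a (c x)) ∧ c v = v' ∧ (∀ x, d.β x (v' - v) = 0 → c x = x) ∧
    (∀ x y, d.β (c x) (c y) = d.β x y) := by
  refine ⟨d.rt (v' - v) (d.β v v')⁻¹, hO.right _ _, d.tv₂ (v' - v) (d.β v v')⁻¹, d.rt_tens _ _,
    fun a x => d.rt_t _ _ a x, ?_, fun x hx => ?_, fun x y => ?_⟩
  · rw [d.tv₂_apply, map_sub, d.β_alt, sub_zero, inv_mul_cancel₀ h, one_smul, add_sub_cancel]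
  · rw [d.tv₂_apply, hx, mul_zero, zero_smul, add_zero]
  · simp only [d.tv₂_apply, map_add, LinearMap.add_apply, map_smul, LinearMap.smul_apply, smul_eq_mul,
      d.β_alt, d.β_swap (v' - v) y]
    ring

/-- Transitivity on non-zero vectors. -/
theorem Over.move₂ {v v' : V₂} (hv : v ≠ 0) (hv' : v' ≠ 0) : ∃ g ∈ M, ∃ c : V₂ ≃ₗ[F] V₂, d.IsTens g ∧
    (∀ a x, g.1 (d.t a x) = d.t a (c x)) ∧ c v = v' ∧ (∀ x y, d.β (c x) (c y) = d.β x y) := by
  obtain ⟨w, h1, h2⟩ : ∃ w, d.β v w ≠ 0 ∧ d.β w v' ≠ 0 := by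
    obtain ⟨w₁, hw₁⟩ := alt_exists_one d.β_nd hv
    obtain ⟨w₂, hw₂⟩ := alt_exists_one d.β_nd hv'
    by_cases c1 : d.β w₁ v' = 0
    · by_cases c2 : d.β v w₂ = 0
      · refine ⟨w₁ + w₂, by simp [hw₁, c2], ?_⟩
        rw [map_add, LinearMap.add_apply, c1, zero_add, d.β_swap, hw₂]
        simp
      · exact ⟨w₂, c2, by rw [d.β_swap, hw₂]; simp⟩
    · exact ⟨w₁, by rw [hw₁]; exact one_ne_zero, c1⟩
  obtain ⟨g₁, hg₁, c₁, ht₁, hc₁, hv₁, -, hi₁⟩ := hO.step₂ h1
  obtain ⟨g₂, hg₂, c₂, ht₂, hc₂, hv₂, -, hi₂⟩ := hO.step₂ h2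
  exact ⟨g₂ * g₁, mul_mem hg₂ hg₁, c₁.trans c₂, ht₂.mul ht₁, fun a x => by
    rw [orth_mul_apply, hc₁, hc₂]; rfl, by simp [hv₁, hv₂], fun x y => (hi₂ _ _).trans (hi₁ x y)⟩

/-- Transitivity on non-zero vectors of the first factor. -/
theorem Over.move₁ {a a' : V₁} (ha : a ≠ 0) (ha' : a' ≠ 0) : ∃ g ∈ M, ∃ m : V₁ ≃ₗ[F] V₁,
    (∀ b x, g.1 (d.t b x) = d.t (m b) x) ∧ m a = a' ∧ (∀ x y, d.ω (m x) (m y) = d.ω x y) := by
  have step : ∀ a b : V₁, d.ω a b ≠ 0 → ∃ g ∈ M, ∃ m : V₁ ≃ₗ[F] V₁,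
      (∀ b x, g.1 (d.t b x) = d.t (m b) x) ∧ m a = b ∧ (∀ x y, d.ω (m x) (m y) = d.ω x y) := fun a b h =>
    ⟨d.lt (b - a) (d.ω a b)⁻¹, hO.left _ _, d.tv₁ (b - a) (d.ω a b)⁻¹, fun c x => d.lt_t _ _ c x, by
      rw [d.tv₁_apply, map_sub, d.ω_alt, sub_zero, inv_mul_cancel₀ h, one_smul, add_sub_cancel], fun x y => by
      simp only [d.tv₁_apply, map_add, LinearMap.add_apply, map_smul, LinearMap.smul_apply, smul_eq_mul,
        d.ω_alt, d.ω_swap (b - a) y]
      ring⟩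
  obtain ⟨w, h1, h2⟩ : ∃ w, d.ω a w ≠ 0 ∧ d.ω w a' ≠ 0 := by
    obtain ⟨w₁, hw₁⟩ := alt_exists_one d.ω_nd ha
    obtain ⟨w₂, hw₂⟩ := alt_exists_one d.ω_nd ha'
    by_cases c1 : d.ω w₁ a' = 0
    · by_cases c2 : d.ω a w₂ = 0
      · refine ⟨w₁ + w₂, by simp [hw₁, c2], ?_⟩
        rw [map_add, LinearMap.add_apply, c1, zero_add, d.ω_swap, hw₂]
        simp
      · exact ⟨w₂, c2, by rw [d.ω_swap, hw₂]; simp⟩
    · exact ⟨w₁, by rw [hw₁]; exact one_ne_zero, c1⟩
  obtain ⟨g₁, hg₁, m₁, hm₁, ha₁, hi₁⟩ := step a w h1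
  obtain ⟨g₂, hg₂, m₂, hm₂, ha₂, hi₂⟩ := step w a' h2
  exact ⟨g₂ * g₁, mul_mem hg₂ hg₁, m₁.trans m₂, fun b x => by rw [orth_mul_apply, hm₁, hm₂]; rfl,
    by simp [ha₁, ha₂], fun x y => (hi₂ _ _).trans (hi₁ x y)⟩

/-- A product move of a non-zero pure vector to another. -/
theorem Over.move {a a' : V₁} {v v' : V₂} (ha : a ≠ 0) (ha' : a' ≠ 0) (hv : v ≠ 0) (hv' : v' ≠ 0) :
    ∃ g ∈ M, ∃ (m : V₁ ≃ₗ[F] V₁) (c : V₂ ≃ₗ[F] V₂), (∀ b x, g.1 (d.t b x) = d.t (m b) (c x)) ∧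
      m a = a' ∧ c v = v' ∧ (∀ x y, d.ω (m x) (m y) = d.ω x y) ∧ (∀ x y, d.β (c x) (c y) = d.β x y) := by
  obtain ⟨g₁, hg₁, m, hm, hma, hmi⟩ := hO.move₁ ha ha'
  obtain ⟨g₂, hg₂, c, -, hc, hcv, hci⟩ := hO.move₂ hv hv'
  exact ⟨g₁ * g₂, mul_mem hg₁ hg₂, m, c, fun b x => by rw [orth_mul_apply, hc, hm], hma, hcv, hmi, hci⟩

theorem Over.five : 5 ≤ Module.finrank F V := by
  have h1 := hO.pos
  have h2 := hO.six
  have := Nat.mul_le_mul h1 h2
  rw [d.finrank_eq]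
  omega

end moves

/-- A pair of pure tensors with different points in both factors. -/
def Mixed (d : PT F V₁ V₂ V) (M : Subgroup (orthGroup d.Q)) : Prop :=
  ∃ p q v e, d.ω p q ≠ 0 ∧ d.β v e = 0 ∧ v ≠ 0 ∧ e ∉ Submodule.span F ({v} : Set V₂) ∧
    d.t q e ∈ d.pr M (d.q_t p v)

/-- A pair of pure tensors with one point in the second factor. -/
def Pure (d : PT F V₁ V₂ V) (M : Subgroup (orthGroup d.Q)) : Prop :=
  ∃ a b v, d.ω a b = 0 ∧ v ≠ 0 ∧ a ≠ 0 ∧ b ∉ Submodule.span F ({a} : Set V₁) ∧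
    d.t b v ∈ d.pr M (d.q_t a v)

section main

variable (hO : d.Over M)
include hO

theorem Over.mixed_all (hM : Mixed d M) {a : V₁} {v : V₂} (ha : a ≠ 0) (hv : v ≠ 0) (q : V₁) {x : V₂}
    (hx : d.β v x = 0) : d.t q x ∈ d.pr M (d.q_t a v) := by
  obtain ⟨p, q₀, v₀, e, hpq, hve, hv₀, he, hmem⟩ := hM
  have hp : p ≠ 0 := fun h => hpq (by rw [h, map_zero, LinearMap.zero_apply])
  let P' : Submodule F V₁ := (d.pr M (d.q_t p v₀)).comap (d.t.flip e)
  have hP' : ∀ q', q' ∈ P' ↔ d.t q' e ∈ d.pr M (d.q_t p v₀) := fun _ => Iff.rfl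
  have hinv : ∀ y, d.ω p y = 0 → d.ω q₀ y ≠ 0 → y ∈ P' := fun y hy hqy => by
    have h : (d.lt y 1).1 (d.t q₀ e) ∈ d.pr M (d.q_t p v₀) :=
      pr_congr (by rw [d.lt_t, d.tv₁_apply, hy, mul_zero, zero_smul, add_zero]) _ _
        (pr_map (hO.left y 1) (d.q_t p v₀) (by rw [orth_qmap, d.q_t]) hmem)
    have h1 : d.t (q₀ + (1 * d.ω q₀ y) • y) e ∈ d.pr M (d.q_t p v₀) := by
      rw [← d.tv₁_apply, ← d.lt_t]
      exact h
    have h3 := P'.sub_mem ((hP' _).2 h1) ((hP' _).2 hmem)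
    rw [add_sub_cancel_left, one_mul] at h3
    exact (P'.smul_mem_iff hqy).1 h3
  have hqp : d.ω q₀ p ≠ 0 := fun h => hpq (d.ω_zero_comm h)
  have hpP := hinv p (d.ω_alt p) hqp
  have hall : ∀ q', q' ∈ P' := fun q' => by
    set y := q' - (d.ω p q' / d.ω p q₀) • q₀ with hy
    have hpy : d.ω p y = 0 := by rw [hy, map_sub, map_smul, smul_eq_mul, div_mul_cancel₀ _ hpq, sub_self]
    have hyP : y ∈ P' := by
      by_cases hqy : d.ω q₀ y = 0
      · have := hinv (y + p) (by rw [map_add, hpy, d.ω_alt, add_zero]) (by rw [map_add, hqy, zero_add]; exact hqp)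
        simpa using P'.sub_mem this hpP
      · exact hinv y hpy hqy
    have := P'.add_mem hyP (P'.smul_mem (d.ω p q' / d.ω p q₀) ((hP' _).2 hmem))
    rwa [hy, sub_add_cancel] at this
  let E' : Submodule F V₂ := ⨅ q' : V₁, (d.pr M (d.q_t p v₀)).comap (d.t q')
  have hE' : ∀ x, x ∈ E' ↔ ∀ q', d.t q' x ∈ d.pr M (d.q_t p v₀) := fun x => by simp [E']
  have heE : e ∈ E' := (hE' e).2 hall
  have hinv₂ : ∀ y, d.β v₀ y = 0 → d.β e y ≠ 0 → y ∈ E' := fun y hy hey => by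
    refine (hE' y).2 fun q' => ?_
    have h := pr_map (hO.right y 1) (d.q_t p v₀) (by rw [orth_qmap, d.q_t]) ((hE' e).1 heE q')
    have h1 : d.t q' (e + (1 * d.β e y) • y) ∈ d.pr M (d.q_t p v₀) := by
      rw [← d.tv₂_apply, ← d.rt_t]
      exact pr_congr (by rw [d.rt_t, d.tv₂_apply, hy, mul_zero, zero_smul, add_zero]) _ _ h
    have h3 := Submodule.sub_mem _ h1 ((hE' e).1 heE q')
    rw [map_add, add_sub_cancel_left, one_mul, map_smul] at h3
    exact (Submodule.smul_mem_iff _ hey).1 h3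
  obtain ⟨g, hg, m, c, hgt, hma, hcv, -, hci⟩ := hO.move hp ha hv₀ hv
  have hpre : d.β v₀ (c.symm x) = 0 := by rw [← hci, hcv, c.apply_symm_apply, hx]
  have hmemE : c.symm x ∈ E' := by
    obtain ⟨y₀, hy₀, hy₀v⟩ := alt_exists_sep d.β_nd he
    by_cases hey : d.β e (c.symm x) = 0
    · have h1 := hinv₂ (c.symm x + y₀) (by rw [map_add, hpre, hy₀v, add_zero])
        (by rw [map_add, hey, hy₀, zero_add]; exact one_ne_zero)
      have h2 := hinv₂ y₀ hy₀v (by rw [hy₀]; exact one_ne_zero)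
      simpa using E'.sub_mem h1 h2
    · exact hinv₂ _ hpre hey
  have h : g.1 (d.t (m.symm q) (c.symm x)) ∈ d.pr M (d.q_t a v) := pr_congr (by rw [hgt, hma, hcv]) _ _
    (pr_map hg (d.q_t p v₀) (by rw [orth_qmap, d.q_t]) ((hE' _).1 hmemE (m.symm q)))
  rwa [hgt, m.apply_symm_apply, c.apply_symm_apply] at h

/-- Orthogonal pure tensors are paired. -/
theorem Over.pure_pair (hM : Mixed d M) {a b : V₁} {v u : V₂} (ha : a ≠ 0) (hb : b ≠ 0) (hv : v ≠ 0)
    (hu : u ≠ 0) (h : polB d.Q (d.t b u) (d.t a v) = 0) : d.t b u ∈ d.pr M (d.q_t a v) := by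
  obtain ⟨w', w, h1, h2, h3, h4, h5⟩ :=
    alt_exists_pair d.β_nd d.β_alt (by have := hO.six; omega) u v
  obtain ⟨q₂, hq⟩ := alt_exists_one d.ω_nd ha
  refine pr_rule (d.q_t b u) (d.q_t a v) h (hO.mixed_all hM hb hu q₂ h3) (hO.mixed_all hM ha hv a h2) ?_ ?_ ?_
  · rw [d.f_t, h4, mul_zero]
  · rw [d.f_t, h1, mul_zero]
  · rw [d.f_t, hq, h5, one_mul]
    exact one_ne_zero

/-- The full radical at a pure point. -/
theorem Over.full (hM : Mixed d M) {a : V₁} {v : V₂} (ha : a ≠ 0) (hv : v ≠ 0) {z : V}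
    (hz : polB d.Q (d.t a v) z = 0) : z ∈ d.pr M (d.q_t a v) := by
  obtain ⟨e, he⟩ := alt_exists_one d.β_nd hv
  have he0 : e ≠ 0 := fun h => one_ne_zero (α := F) (by rw [← he, h, map_zero])
  set X := d.Cr v z with hX
  have h0 : d.Cr v (z + d.t X e) = 0 := by
    rw [map_add, d.Cr_t, ← hX, d.β_swap, he, neg_smul, one_smul, add_neg_cancel]
  have hz0 : z + d.t X e ∈ d.pr M (d.q_t a v) := by
    rw [← Submodule.Quotient.mk_eq_zero]
    exact d.eq_zero_on_perp hv (L := (d.pr M (d.q_t a v)).mkQ)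
      (fun b x hx => (Submodule.Quotient.mk_eq_zero _).2 (hO.mixed_all hM ha hv b hx)) h0
  have hXe : d.t X e ∈ d.pr M (d.q_t a v) := by
    by_cases hX0 : X = 0
    · rw [hX0, map_zero, LinearMap.zero_apply]; exact zero_mem _
    · refine hO.pure_pair hM ha hX0 hv he0 ?_
      rw [d.f_t, hX, d.ω_Cr, polB_comm, hz, zero_mul]
  simpa using Submodule.sub_mem _ hz0 hXe

/-- A mixed pair gives the commutator subgroup. -/
theorem Over.commutator_le_of_mixed (hM : Mixed d M) : commutator (orthGroup d.Q) ≤ M := by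
  rw [commutator_eq_closure_singular d.Q_nd hO.five, Subgroup.closure_le]
  rintro _ ⟨u, w, hu, -, huw, rfl⟩
  rcases eq_or_ne u 0 with rfl | hu0
  · rw [show eichler d.Q (0 : V) w = 1 from orth_ext fun x => by simp [eichler_apply hu huw]]
    exact M.one_mem
  obtain ⟨a, v, hav⟩ : ∃ a v, polB d.Q u (d.t a v) ≠ 0 := by
    by_contra hcon
    simp only [not_exists, not_not] at hcon
    exact hu0 (eq_zero_of_polB_eq_zero d.Q_nd fun z => LinearMap.congr_fun
      (d.hom_ext (g := polB d.Q u) (h := 0) fun a x => by simp [hcon a x]) z)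
  set y' := d.t a v with hy'
  have ha : a ≠ 0 := fun e => hav (by simp [hy', e])
  have hv : v ≠ 0 := fun e => hav (by simp [hy', e])
  obtain ⟨b, hb⟩ := alt_exists_one d.ω_nd ha
  obtain ⟨x, hx⟩ := alt_exists_one d.β_nd hv
  have hu' : polB d.Q y' u ≠ 0 := by rw [polB_comm]; exact hav
  set k := polB d.Q y' u with hk
  set y := d.t (k • b) x with hy
  have hyy : polB d.Q y' y = k := by
    rw [hy', hy, d.f_t, map_smul, hb, hx, smul_eq_mul, mul_one, mul_one]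
  have hb0 : k • b ≠ 0 := smul_ne_zero hu' fun e => one_ne_zero (α := F) (by rw [← hb, e, map_zero])
  have hx0 : x ≠ 0 := fun e => one_ne_zero (α := F) (by rw [← hx, e, map_zero])
  set s := k⁻¹ • (u - y) with hs
  have hsy : polB d.Q y' s = 0 := by rw [hs, map_smul, map_sub, hyy, ← hk, sub_self, smul_zero]
  have hg : eichler d.Q y' s ∈ M := by simpa using (hO.full hM ha hv (z := s) hsy).2 1
  have himg : (eichler d.Q y' s).1 y = u := by
    have hQy' : d.Q y' = 0 := d.q_t a v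
    have hQy : d.Q y = 0 := d.q_t _ x
    have hyy' : polB d.Q y y' = k := by rw [polB_comm, hyy]
    have hyself : polB d.Q y y = 0 := by rw [polB_self, hQy, mul_zero]
    rw [eichler_apply hQy' hsy, hyy', hs, qmap_smul, qmap_sub, hu, hQy, map_smul, map_sub, hyself,
      polB_comm u y, smul_eq_mul]
    match_scalars <;> field_simp <;> ring
  set g := eichler d.Q y' s
  have hw' : polB d.Q y ((g⁻¹).1 w) = 0 := by
    rw [← orth_polB_map g, orth_apply_inv_self, himg, huw]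
  have h := pr_map hg (d.q_t (k • b) x) (by rw [orth_qmap, d.q_t]) (hO.full hM hb0 hx0 hw')
  rw [orth_apply_inv_self] at h
  simpa using (pr_congr himg _ hu h).2 1

/-- A pair in one column gives a mixed pair. -/
theorem Over.mixed_of_pure (hP : Pure d M) : Mixed d M := by
  obtain ⟨a, b, v₀, hab, hv₀, ha, hb, hmem⟩ := hP
  let P' : Submodule F V₁ := (d.pr M (d.q_t a v₀)).comap (d.t.flip v₀)
  have hP' : ∀ q', q' ∈ P' ↔ d.t q' v₀ ∈ d.pr M (d.q_t a v₀) := fun _ => Iff.rfl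
  have hinv : ∀ y, d.ω a y = 0 → d.ω b y ≠ 0 → y ∈ P' := fun y hy hby => by
    have h : (d.lt y 1).1 (d.t b v₀) ∈ d.pr M (d.q_t a v₀) :=
      pr_congr (by rw [d.lt_t, d.tv₁_apply, hy, mul_zero, zero_smul, add_zero]) _ _
        (pr_map (hO.left y 1) (d.q_t a v₀) (by rw [orth_qmap, d.q_t]) hmem)
    have h1 : d.t (b + (1 * d.ω b y) • y) v₀ ∈ d.pr M (d.q_t a v₀) := by
      rw [← d.tv₁_apply, ← d.lt_t]
      exact h
    have h3 := P'.sub_mem ((hP' _).2 h1) ((hP' _).2 hmem)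
    rw [add_sub_cancel_left, one_mul] at h3
    exact (P'.smul_mem_iff hby).1 h3
  obtain ⟨l, hbl, hal⟩ := alt_exists_sep d.ω_nd hb
  have hperp : ∀ y, d.ω a y = 0 → y ∈ P' := fun y hy => by
    by_cases hby : d.ω b y = 0
    · have h1 := hinv (y + l) (by rw [map_add, hy, hal, add_zero])
        (by rw [map_add, hby, hbl, zero_add]; exact one_ne_zero)
      have h2 := hinv l hal (by rw [hbl]; exact one_ne_zero)
      simpa using P'.sub_mem h1 h2
    · exact hinv y hy hby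
  -- moved to every point
  have hcol : ∀ (a' y : V₁) (v : V₂), a' ≠ 0 → v ≠ 0 → d.ω a' y = 0 → d.t y v ∈ d.pr M (d.q_t a' v) := by
    intro a' y v ha' hv hy
    obtain ⟨g, hg, m, c, hgt, hma, hcv, hmi, -⟩ := hO.move ha ha' hv₀ hv
    have h : g.1 (d.t (m.symm y) v₀) ∈ d.pr M (d.q_t a' v) := pr_congr (by rw [hgt, hma, hcv]) _ _
      (pr_map hg (d.q_t a v₀) (by rw [orth_qmap, d.q_t])
        ((hP' _).1 (hperp (m.symm y) (by rw [← hmi, hma, m.apply_symm_apply, hy]))))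
    rwa [hgt, m.apply_symm_apply, hcv] at h
  have hrow : ∀ (a' : V₁) (u v : V₂), a' ≠ 0 → v ≠ 0 → d.t a' u ∈ d.pr M (d.q_t a' v) := by
    intro a' u v ha' hv
    have base : ∀ u, d.β u v ≠ 0 → d.t a' u ∈ d.pr M (d.q_t a' v) := fun u huv => by
      have hu : u ≠ 0 := fun e => huv (by rw [e, map_zero, LinearMap.zero_apply])
      obtain ⟨g, hg, m, hgt, hma, hmi⟩ := hO.move₁ ha ha'
      have hab' : d.ω a' (m b) = 0 := by rw [← hma, hmi, hab]
      have hbl' : d.ω (m l) (m b) ≠ 0 := by rw [hmi, d.ω_swap, hbl]; simp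
      have hal' : d.ω a' (m l) = 0 := by rw [← hma, hmi, hal]
      refine pr_rule (d.q_t a' u) (d.q_t a' v) (by rw [d.f_t, d.ω_alt, zero_mul])
        (hcol a' (m b) u ha' hu hab') (hcol a' (m l) v ha' hv hal') ?_ ?_ ?_
      · rw [d.f_t, hab', zero_mul]
      · rw [d.f_t, hal', zero_mul]
      · rw [d.f_t]
        exact mul_ne_zero hbl' fun e => huv (d.β_zero_comm e)
    by_cases huv : d.β u v = 0
    · obtain ⟨e, he⟩ := alt_exists_one d.β_nd hv
      have he' : d.β e v ≠ 0 := by rw [d.β_swap, he]; simp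
      have h1 := base (u + e) (by rw [map_add, LinearMap.add_apply, huv, zero_add]; exact he')
      have h2 := base e he'
      rw [map_add] at h1
      simpa using Submodule.sub_mem _ h1 h2
    · exact base u huv
  obtain ⟨y, hy⟩ := alt_exists_one d.ω_nd ha
  obtain ⟨e, he, hev⟩ : ∃ e, d.β v₀ e = 0 ∧ e ∉ Submodule.span F ({v₀} : Set V₂) := by
    by_contra hcon
    simp only [not_exists, not_and, not_not] at hcon
    have h1 := Submodule.finrank_mono (show LinearMap.ker (d.β v₀) ≤ Submodule.span F {v₀} from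
      fun x hx => hcon x (LinearMap.mem_ker.1 hx))
    have h2 := LinearMap.finrank_range_add_finrank_ker (d.β v₀)
    have h3 := Submodule.finrank_le (LinearMap.range (d.β v₀))
    rw [Module.finrank_self] at h3
    rw [finrank_span_singleton hv₀] at h1
    have := hO.six
    omega
  have he0 : e ≠ 0 := fun h => hev (h ▸ zero_mem _)
  obtain ⟨w, w', h1, h2, h3, h4, h5⟩ := alt_exists_pair d.β_nd d.β_alt (by have := hO.six; omega) v₀ e
  have hy0 : y ≠ 0 := fun h => one_ne_zero (α := F) (by rw [← hy, h, map_zero])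
  refine ⟨a, y, v₀, e, by rw [hy]; exact one_ne_zero, he, hv₀, hev, ?_⟩
  refine pr_rule (d.q_t y e) (d.q_t a v₀) (by rw [d.f_t, d.β_zero_comm he, mul_zero])
    (hrow y w e hy0 he0) (hrow a w' v₀ ha hv₀) ?_ ?_ ?_
  · rw [d.f_t, h1, mul_zero]
  · rw [d.f_t, h4, mul_zero]
  · rw [d.f_t, hy, one_mul, d.β_swap, h5]
    simp

end main

end PT

end H49
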