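import Cfsg.Agent.H49.PairColumn

/-!
A group over the product group contains the commutator subgroup or consists of products.
-/

set_option autoImplicit false
set_option linter.unusedSectionVars false

namespace H49

namespace PT

open H43

variable {F : Type*} [Field F] [Fintype F]
  {V₁ : Type*} [AddCommGroup V₁] [Module F V₁] [FiniteDimensional F V₁]
  {V₂ : Type*} [AddCommGroup V₂] [Module F V₂] [FiniteDimensional F V₂]
  {V : Type*} [AddCommGroup V] [Module F V] [FiniteDimensional F V]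
  {d : PT F V₁ V₂ V} {M : Subgroup (orthGroup d.Q)}

theorem t_right_injective {a : V₁} (ha : a ≠ 0) : Function.Injective (d.t a) := fun x y h => by
  refine sub_eq_zero.1 (d.β_nd.1 _ fun z => ?_)
  have := congrArg (d.Cr z) h
  rw [d.Cr_t, d.Cr_t] at this
  rw [map_sub, LinearMap.sub_apply, smul_left_injective F ha this, sub_self]

/-- A square-zero product with small image and a fixed pure tensor acts on the second factor alone. -/
theorem rightTens_of_rank (hO : d.Over M) {b : orthGroup d.Q} (hb : d.IsTens b) {X : Submodule F V}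
    (hX : Module.finrank F X = Module.finrank F V₁) (hmov : ∀ z, b.1 z - z ∈ X)
    (hsq : ∀ z, b.1 (b.1 z - z) = b.1 z - z) {a₀ : V₁} {u : V₂} (ha₀ : a₀ ≠ 0) (hu : u ≠ 0)
    (hfix : b.1 (d.t a₀ u) = d.t a₀ u) : d.RightTens b := by
  classical
  obtain ⟨a, c, hac⟩ := hb
  have hbt : ∀ p x, b.1 (d.t p x) = d.t (a p) (c x) := fun p x => by rw [hac, d.tens_t]
  rw [hbt] at hfix
  obtain ⟨e, he⟩ := alt_exists_one d.β_nd hu
  set κ := d.β (c u) e with hκ
  have h1 : κ • a a₀ = a₀ := by
    have := congrArg (d.Cr e) hfix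
    rwa [d.Cr_t, d.Cr_t, he, one_smul] at this
  have hκ0 : κ ≠ 0 := fun h0 => ha₀ (by rw [← h1, h0, zero_smul])
  have h2 : κ⁻¹ • c u = u := by
    refine t_right_injective (d := d) ha₀ ?_
    rw [← hfix]
    conv_lhs => rw [← h1]
    rw [map_smul (d.t), LinearMap.smul_apply, map_smul, smul_smul, mul_inv_cancel₀ hκ0, one_smul]
  let A : V₁ →ₗ[F] V₁ := κ • a.toLinearMap - LinearMap.id
  let C : V₂ →ₗ[F] V₂ := κ⁻¹ • c.toLinearMap - LinearMap.id
  have hA : ∀ p, A p = κ • a p - p := fun p => rfl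
  have hC : ∀ x, C x = κ⁻¹ • c x - x := fun x => rfl
  have hb' : ∀ p x, b.1 (d.t p x) = d.t (p + A p) (x + C x) := fun p x => by
    rw [hbt, hA, hC, add_sub_cancel, add_sub_cancel, map_smul, map_smul, LinearMap.smul_apply, smul_smul,
      inv_mul_cancel₀ hκ0, one_smul]
  have hAa : A a₀ = 0 := by rw [hA, h1, sub_self]
  have hCu : C u = 0 := by rw [hC, h2, sub_self]
  have hC2 : ∀ x, C (C x) = 0 := fun x => by
    have h := hsq (d.t a₀ x)
    rw [hb', hAa, add_zero, map_add, add_sub_cancel_left, hb', hAa, add_zero, map_add, add_eq_left] at h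
    exact t_right_injective (d := d) ha₀ (h.trans (map_zero _).symm)
  have hA2 : ∀ p, A (A p) = 0 := fun p => by
    have h := hsq (d.t p u)
    rw [hb', hCu, add_zero, map_add, LinearMap.add_apply, add_sub_cancel_left, hb', hCu, add_zero, map_add,
      LinearMap.add_apply, add_eq_left] at h
    exact d.t_left_injective hu (by rw [h, map_zero, LinearMap.zero_apply])
  by_cases hA0 : ∀ p, A p = 0
  · refine ⟨c.trans (LinearEquiv.smulOfUnit (Units.mk0 κ⁻¹ (inv_ne_zero hκ0))), d.equiv_ext fun p x => ?_⟩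
    rw [hb', hA0, add_zero, hC, add_sub_cancel, d.tens_t]
    rfl
  exfalso
  push Not at hA0
  obtain ⟨a₁, ha₁⟩ := hA0
  set p₁ := A a₁ with hp₁
  set P := (LinearMap.ker C).map (d.t p₁) with hP
  have hPX : P ≤ X := by
    rintro _ ⟨x, hx, rfl⟩
    have h := hmov (d.t a₁ x)
    rwa [hb', LinearMap.mem_ker.1 hx, add_zero, map_add, LinearMap.add_apply, add_sub_cancel_left] at h
  have hPdim : Module.finrank F P = Module.finrank F (LinearMap.ker C) :=
    (Submodule.equivMapOfInjective _ (t_right_injective (d := d) ha₁) _).symm.finrank_eq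
  have hgap := hO.gap
  by_cases hC0 : ∀ x, C x = 0
  · have : LinearMap.ker C = ⊤ := Submodule.eq_top_iff'.2 fun x => LinearMap.mem_ker.2 (hC0 x)
    have h := Submodule.finrank_mono hPX
    rw [hPdim, this, finrank_top, hX] at h
    omega
  push Not at hC0
  obtain ⟨x₁, hx₁⟩ := hC0
  set y₁ := C x₁ with hy₁
  set Q := (LinearMap.ker A).map (d.t.flip y₁) with hQ
  have hQX : Q ≤ X := by
    rintro _ ⟨p, hp, rfl⟩
    have h := hmov (d.t p x₁)
    rwa [hb', LinearMap.mem_ker.1 hp, add_zero, map_add, add_sub_cancel_left] at h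
  have hQdim : Module.finrank F Q = Module.finrank F (LinearMap.ker A) :=
    (Submodule.equivMapOfInjective _ (fun _ _ h => d.t_left_injective hx₁ h) _).symm.finrank_eq
  have hPQ : P ⊓ Q ≤ Submodule.span F {d.t p₁ y₁} := by
    intro z hz
    obtain ⟨⟨x, hx, hxz⟩, ⟨p, hp, hpz⟩⟩ := hz
    obtain ⟨f, hf⟩ := alt_exists_one d.β_nd hx₁
    have h := congrArg (d.Cr f) (hpz.trans hxz.symm)
    rw [LinearMap.flip_apply, d.Cr_t, d.Cr_t, hf, one_smul] at h
    refine Submodule.mem_span_singleton.2 ⟨d.β x f, ?_⟩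
    rw [← hpz, LinearMap.flip_apply, h, map_smul, LinearMap.smul_apply]
  set z₃ := b.1 (d.t a₁ x₁) - d.t a₁ x₁ with hz₃
  have hz₃PQ : z₃ ∉ P ⊔ Q := by
    intro h
    obtain ⟨_, ⟨x, hx, rfl⟩, _, ⟨p, hp, rfl⟩, hsum⟩ := Submodule.mem_sup.1 h
    have hnot : a₁ - p ∉ Submodule.span F ({p₁} : Set V₁) := fun hmem => by
      obtain ⟨k, hk⟩ := Submodule.mem_span_singleton.1 hmem
      have := congrArg A hk
      rw [map_smul, map_sub, LinearMap.mem_ker.1 hp, hA2, smul_zero, sub_zero] at this
      exact ha₁ this.symm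
    obtain ⟨l, hl1, hl0⟩ := alt_exists_sep d.ω_nd hnot
    refine hx₁ (d.β_nd.1 _ fun f => ?_)
    have hh := congrArg (fun z => d.ω (d.Cr f z) l) hsum
    simp only [hz₃, hb', map_add, LinearMap.add_apply, add_sub_cancel_left, LinearMap.flip_apply, d.Cr_t,
      map_smul, LinearMap.smul_apply, smul_eq_mul, map_sub, LinearMap.sub_apply, ← hp₁, ← hy₁, hl0, mul_zero,
      add_zero, zero_add] at hh
    rw [map_sub, LinearMap.sub_apply] at hl1
    linear_combination -hh - (d.β y₁ f) * hl1
  have h1 := Submodule.finrank_sup_add_finrank_inf_eq P Q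
  have h2 := Submodule.finrank_mono hPQ
  have h3 := finrank_span_le_card (R := F) ({d.t p₁ y₁} : Set V)
  rw [Set.toFinset_singleton, Finset.card_singleton] at h3
  have h4 := Submodule.finrank_lt_finrank_of_lt (s := P ⊔ Q) (t := X) (lt_of_le_of_ne (sup_le hPX hQX)
    fun heq => hz₃PQ (heq ▸ hmov _))
  have h5 := LinearMap.finrank_range_add_finrank_ker A
  have h6 := LinearMap.finrank_range_add_finrank_ker C
  have h7 := Submodule.finrank_mono (show LinearMap.range A ≤ LinearMap.ker A by
    rintro _ ⟨p, rfl⟩; exact LinearMap.mem_ker.2 (hA2 p))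
  have h8 := Submodule.finrank_mono (show LinearMap.range C ≤ LinearMap.ker C by
    rintro _ ⟨x, rfl⟩; exact LinearMap.mem_ker.2 (hC2 x))
  rw [hX] at h4
  omega

section

variable (hO : d.Over M) (hS : d.Small M) (hR : d.Rigid M)
include hO hS hR

/-- An element conjugating a root element to a product with a fixed pure tensor is a product. -/
theorem root_conj {g : orthGroup d.Q} (hg : g ∈ M) {v' : V₂} (hv' : v' ≠ 0)
    (hb : d.IsTens (g * d.rt v' 1 * g⁻¹)) {a₀ : V₁} {u : V₂} (ha₀ : a₀ ≠ 0) (hu : u ≠ 0)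
    (hfix : (g * d.rt v' 1 * g⁻¹).1 (d.t a₀ u) = d.t a₀ u) : d.IsTens g := by
  have happ : ∀ z, (g * d.rt v' 1 * g⁻¹).1 z - z = g.1 (d.t (d.Cr v' ((g⁻¹).1 z)) v') := fun z => by
    rw [orth_mul_apply, orth_mul_apply, d.rt_apply, one_smul, map_add, orth_apply_inv_self, add_sub_cancel_left]
  have hr := rightTens_of_rank hO hb (X := (d.W v').map g.1.toLinearMap)
    (by rw [g.1.finrank_map_eq, d.finrank_W hv'])
    (fun z => by rw [happ]; exact ⟨_, d.t_mem_W _ v', rfl⟩)
    (fun z => by
      refine sub_eq_zero.1 ?_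
      rw [happ, happ, orth_inv_apply_self, d.Cr_t, d.β_alt, zero_smul, map_zero, LinearMap.zero_apply, map_zero])
    ha₀ hu hfix
  obtain ⟨q, hq, hqW⟩ := root_image hO hv' hr
  exact tens_of_point hO hS hR hg hv' hq hqW

theorem tens_all (k : ℕ) : ∀ g ∈ M, ∀ v q : V₂, v ≠ 0 → q ≠ 0 →
    Module.finrank F V₁ ≤ Module.finrank F (d.W v ⊓ (d.W q).comap g.1.toLinearMap : Submodule F V) + k →
    d.IsTens g := by
  induction k with
  | zero =>
    intro g hg v q hv hq hk
    refine tens_of_point hO hS hR hg hv hq fun a => ?_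
    have h := Submodule.eq_of_le_of_finrank_le (inf_le_left (b := (d.W q).comap g.1.toLinearMap) (a := d.W v))
      (by rw [d.finrank_W hv]; omega)
    have := h.ge (d.t_mem_W a v)
    exact this.2
  | succ k ih =>
    intro g hg v q hv hq hk
    set L : Submodule F V := d.W v ⊓ (d.W q).comap g.1.toLinearMap with hL
    by_cases hk' : Module.finrank F V₁ ≤ Module.finrank F L + k
    · exact ih g hg v q hv hq hk'
    have hcomap : Module.finrank F ((d.W q).comap g.1.toLinearMap) = Module.finrank F V₁ := by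
      rw [Submodule.comap_equiv_eq_map_symm, g.1.symm.finrank_map_eq, d.finrank_W hq]
    obtain ⟨w, hwq, hwv⟩ : ∃ w, g.1 w ∈ d.W q ∧ w ∉ d.W v := by
      by_contra hcon
      simp only [not_exists, not_and, not_not] at hcon
      have : (d.W q).comap g.1.toLinearMap ≤ L := fun z hz => ⟨hcon z hz, hz⟩
      have := Submodule.finrank_mono this
      omega
    have hw0 : w ≠ 0 := fun e => hwv (e ▸ zero_mem _)
    obtain ⟨v', hv', hvv', hCw⟩ : ∃ v', v' ≠ 0 ∧ d.β v v' = 0 ∧ d.Cr v' w = 0 := by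
      let φ : V₂ →ₗ[F] F × V₁ := (d.β v).prod (d.CrL w)
      obtain ⟨x, hx, hx0⟩ : ∃ x, x ∈ LinearMap.ker φ ∧ x ≠ 0 := by
        refine Submodule.exists_mem_ne_zero_of_ne_bot fun h0 => ?_
        have h1 := LinearMap.finrank_range_add_finrank_ker φ
        have h2 := Submodule.finrank_le (LinearMap.range φ)
        rw [Module.finrank_prod, Module.finrank_self] at h2
        rw [h0, finrank_bot] at h1
        have := hO.gap
        omega
      have hx' : φ x = 0 := LinearMap.mem_ker.1 hx
      exact ⟨x, hx0, congrArg Prod.fst hx', congrArg Prod.snd hx'⟩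
    set b := g * d.rt v' 1 * g⁻¹ with hb
    have hfix : ∀ z, d.Cr v' z = 0 → b.1 (g.1 z) = g.1 z := fun z hz => by
      rw [hb, orth_mul_apply, orth_mul_apply, orth_inv_apply_self, d.rt_apply, hz, map_zero, LinearMap.zero_apply,
        smul_zero, add_zero]
    have hle : (L ⊔ Submodule.span F {w}).map g.1.toLinearMap ≤ d.W q ⊓ (d.W q).comap b.1.toLinearMap := by
      rw [Submodule.map_sup, sup_le_iff, Submodule.map_span_le]
      refine ⟨?_, fun z hz => ?_⟩
      · rintro _ ⟨z, hz, rfl⟩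
        refine ⟨hz.2, ?_⟩
        show b.1 (g.1 z) ∈ d.W q
        rw [hfix z (d.Cr_W hz.1 hvv')]
        exact hz.2
      · rw [Set.mem_singleton_iff] at hz
        subst hz
        refine ⟨hwq, ?_⟩
        show b.1 (g.1 z) ∈ d.W q
        rw [hfix z hCw]
        exact hwq
    have hdim : Module.finrank F L + 1 ≤
        Module.finrank F (d.W q ⊓ (d.W q).comap b.1.toLinearMap : Submodule F V) := by
      refine le_trans ?_ (Submodule.finrank_mono hle)
      rw [g.1.finrank_map_eq]
      refine Submodule.finrank_lt_finrank_of_lt ?_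
      exact left_lt_sup.2 fun h => hwv ((Submodule.span_singleton_le_iff_mem _ _).1 h).1
    have hbT : d.IsTens b :=
      ih b (mul_mem (mul_mem hg (hO.right v' 1)) (inv_mem hg)) q q hq hq (by omega)
    obtain ⟨a₀, ha₀⟩ := hwq
    rw [LinearMap.flip_apply] at ha₀
    have ha₀0 : a₀ ≠ 0 := fun e => hw0 (by
      have : g.1 w = 0 := by rw [← ha₀, e, map_zero, LinearMap.zero_apply]
      rwa [LinearEquiv.map_eq_zero_iff] at this)
    exact root_conj hO hS hR hg hv' hbT ha₀0 hq (by rw [ha₀]; exact hfix w hCw)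

end

/-- Overgroups of the product group. -/
theorem Over.dichotomy (hO : d.Over M) : commutator (orthGroup d.Q) ≤ M ∨ ∀ g ∈ M, d.IsTens g := by
  by_cases hS : d.Small M
  · by_cases hR : d.Rigid M
    · obtain ⟨v, hv⟩ : ∃ v : V₂, v ≠ 0 :=
        Module.finrank_pos_iff_exists_ne_zero.1 (lt_of_lt_of_le (by norm_num) hO.six)
      exact .inr fun g hg => tens_all hO hS hR (Module.finrank F V₁) g hg v v hv hv (Nat.le_add_left _ _)
    · exact .inl (hO.commutator_le_of_mixed (mixed_of_not_rigid hO hS hR))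
  · exact .inl (hO.commutator_le_of_mixed (hO.mixed_of_pure (hO.pure_of_not_small hS)))

end PT

end H49
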