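import Cfsg.Agent.H49.PairRadical

/-!
A non-scalar component of a radical element gives a mixed pair.
-/

set_option autoImplicit false
set_option linter.unusedSectionVars false

namespace H49

namespace PT

open H43

variable {F : Type*} [Field F] [Fintype F]
  {V₁ : Type*} [AddCommGroup V₁] [Module F V₁] [FiniteDimensional F V₁]
  {V₂ : Type*} [AddCommGroup V₂] [Module F V₂] [FiniteDimensional F V₂]
  {V : Type*} [AddCommGroup V] [Module F V] [FiniteDimensional F V]
  (d : PT F V₁ V₂ V)

/-- `X ↦ ω(X,a) a`. -/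
def nilp (a : V₁) : V₁ →ₗ[F] V₁ := (d.ω.flip a).smulRight a

theorem nilp_apply (a X : V₁) : d.nilp a X = d.ω X a • a := rfl

variable {d} {M : Subgroup (orthGroup d.Q)}

theorem SK.lt_sub {v w : V₂} {K : V₁ →ₗ[F] V₁} (hO : d.Over M) (hK : d.SK M v w K) (a : V₁) (c : F) :
    d.SK M v w ((d.tv₁ a c).toLinearMap ∘ₗ K ∘ₗ (d.tv₁ a c).symm.toLinearMap - K) :=
  (hK.conj (hO.left a c) (c := LinearEquiv.refl F V₂) (fun b x => d.lt_t a c b x) (fun _ _ => rfl) rfl).sub hK

theorem conj_sub_apply (K : V₁ →ₗ[F] V₁) (a : V₁) (c : F) (X : V₁) :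
    ((d.tv₁ a c).toLinearMap ∘ₗ K ∘ₗ (d.tv₁ a c).symm.toLinearMap - K) X =
      c • (d.ω (K X) a • a - d.ω X a • K a) - (c * c * (d.ω (K a) a * d.ω X a)) • a := by
  simp only [LinearMap.sub_apply, LinearMap.comp_apply, LinearEquiv.coe_coe, d.tv₁_symm, d.tv₁_apply, map_add,
    map_smul, LinearMap.add_apply, LinearMap.smul_apply, smul_eq_mul]
  module

section

variable (hO : d.Over M) (hS : d.Small M)
include hO hS

/-- A non-rigid group has a single non-scalar component. -/
theorem exists_sk (h : ¬ d.Rigid M) : ∃ v w K, v ≠ 0 ∧ d.β v w = 0 ∧ w ∉ Submodule.span F ({v} : Set V₂) ∧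
    d.SK M v w K ∧ ∃ a, K a ∉ Submodule.span F ({a} : Set V₁) := by
  simp only [Rigid, not_forall, exists_prop] at h
  obtain ⟨v, hv, y, hy, e, he, w, hw, hns⟩ := h
  have hwv : w ∉ Submodule.span F ({v} : Set V₂) := fun hmem => by
    obtain ⟨k, rfl⟩ := Submodule.mem_span_singleton.1 hmem
    refine hns ⟨0, fun X => ?_⟩
    rw [comp_apply, d.Cr_smul, hy.Cr_move, smul_zero, zero_smul]
  refine ⟨v, w, d.comp y e w, hv, hw, hwv, ?_, ?_⟩
  · have hgW : ∀ a, (d.rt w 1).1 (d.t a v) ∈ d.W v := fun a => by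
      rw [d.rt_t, d.tv₂_apply, hw, mul_zero, zero_smul, add_zero]
      exact d.t_mem_W a v
    have hconj := hy.conj (hO.right w 1) hgW
    refine ⟨d.rt w 1 * y * (d.rt w 1)⁻¹ * y⁻¹, hconj.mul hy.inv, fun e' he' x hx X => ?_⟩
    rw [comp_mul hconj hy.inv e' hx, comp_inv hy e' hx]
    set c := d.tv₂ w 1 with hc
    have hci : ∀ x y, d.β (c x) (c y) = d.β x y := fun x y => by
      simp only [hc, d.tv₂_apply, map_add, LinearMap.add_apply, map_smul, LinearMap.smul_apply, smul_eq_mul,
        d.β_alt, d.β_swap w y]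
      ring
    have hcs : ∀ z, c.symm z = z + (-1 * d.β z w) • w := fun z => rfl
    have hpre : ((d.rt w 1)⁻¹).1 (d.t X e') = d.t X (c.symm e') := by
      refine (d.rt w 1).1.injective ?_
      rw [orth_apply_inv_self, d.rt_t, c.apply_symm_apply]
    have h1 : d.comp (d.rt w 1 * y * (d.rt w 1)⁻¹) e' x X = d.comp y e x X - d.β x w • d.comp y e w X := by
      rw [comp_apply, orth_mul_apply, orth_mul_apply, hpre]
      conv_lhs => rw [show d.t X e' = (d.rt w 1).1 (d.t X (c.symm e')) by rw [d.rt_t, c.apply_symm_apply]]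
      rw [← map_sub, Cr_move_apply (m := LinearEquiv.refl F V₁) (fun b z => d.rt_t w 1 b z) hci,
        LinearEquiv.refl_apply, ← comp_apply]
      have he'' : d.β v (c.symm e') = 1 := by rw [hcs, map_add, map_smul, hw, smul_zero, add_zero, he']
      have hx' : d.β v (c.symm x) = 0 := by rw [hcs, map_add, map_smul, hw, smul_zero, add_zero, hx]
      rw [comp_indep hy he'' he hx', comp_apply, comp_apply, comp_apply, hcs x, d.Cr_add, d.Cr_smul]
      module
    rw [h1, comp_indep hy he' he hx, d.β_swap x w, neg_smul]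
    abel
  · by_contra hcon
    simp only [not_exists, not_not] at hcon
    exact hns (scalar_of_lines d.ω_nd _ hcon)

/-- A non-rigid group contains the basic pair of directions. -/
theorem exists_nilp (h : ¬ d.Rigid M) : ∃ a : V₁, a ≠ 0 ∧ d.Ex M (-d.nilp a) (d.nilp a) := by
  obtain ⟨v, w, K, hv, hw, hwv, hK, a, ha⟩ := exists_sk hO hS h
  have ha0 : a ≠ 0 := fun e => ha (by rw [e, map_zero]; exact zero_mem _)
  by_cases h2 : Module.finrank F V₁ = 2
  · have hk : d.ω (K a) a ≠ 0 := by
      intro hk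
      have hle : Submodule.span F ({a} : Set V₁) ≤ LinearMap.ker (d.ω a) := by
        rw [Submodule.span_singleton_le_iff_mem]
        exact d.ω_alt a
      have h1 := LinearMap.finrank_range_add_finrank_ker (d.ω a)
      have hne : LinearMap.range (d.ω a) ≠ ⊥ := fun e => by
        rw [LinearMap.range_eq_bot] at e
        exact ha0 (d.ω_nd.1 a fun z => by rw [e]; rfl)
      have h3 : 1 ≤ Module.finrank F (LinearMap.range (d.ω a)) := Submodule.one_le_finrank_iff.2 hne
      have heq := Submodule.eq_of_le_of_finrank_le hle (by rw [finrank_span_singleton ha0]; omega)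
      exact ha (heq.ge (LinearMap.mem_ker.2 (d.ω_zero_comm hk)))
    obtain ⟨c, hc0, hc1⟩ := hO.exc h2
    have hA := hK.lt_sub hO a c
    have hB := hO.sk_smul hv hw hwv (hK.lt_sub hO a 1) hc0
    set μ := (c - c * c) * d.ω (K a) a with hμ
    have hμ0 : μ ≠ 0 := mul_ne_zero (fun e => by
      have h' : c * (1 - c) = 0 := by linear_combination e
      rcases mul_eq_zero.1 h' with h' | h'
      · exact hc0 h'
      · exact hc1 (sub_eq_zero.1 h').symm) hk
    have hN : d.SK M v w (d.nilp a) := (hO.sk_smul hv hw hwv (hA.sub hB) (inv_ne_zero hμ0)).congr fun X => by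
      rw [LinearMap.smul_apply, LinearMap.sub_apply, LinearMap.smul_apply, conj_sub_apply, conj_sub_apply,
        d.nilp_apply, inv_smul_eq_iff₀ hμ0, hμ]
      module
    have := SK.exactify hO hS hv hw hwv hN (K' := -d.nilp a)
      (fun X Y => by
        simp only [LinearMap.neg_apply, d.nilp_apply, map_smul, LinearMap.smul_apply, map_neg, smul_eq_mul,
          d.ω_swap a Y]
        ring)
      (fun X => by simp [d.nilp_apply, d.ω_alt])
    rw [neg_neg] at this
    exact ⟨a, ha0, this⟩
  have h4 : 4 ≤ Module.finrank F V₁ := by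
    have := hO.pos
    obtain ⟨r, hr⟩ := d.even₁
    omega
  -- make the pairing of a point with its image zero
  obtain ⟨K, a, hK, ha, hk⟩ : ∃ (K : V₁ →ₗ[F] V₁) (a : V₁), d.SK M v w K ∧
      K a ∉ Submodule.span F ({a} : Set V₁) ∧ d.ω (K a) a = 0 := by
    by_cases hk : d.ω (K a) a = 0
    · exact ⟨K, a, hK, ha, hk⟩
    obtain ⟨e, hea, heb, hne⟩ : ∃ e, d.ω a e = 0 ∧ d.ω (K a) e = 0 ∧ e ∉ Submodule.span F ({a} : Set V₁) := by
      by_contra hcon
      simp only [not_exists, not_and, not_not] at hcon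
      have hle : LinearMap.ker (d.ω a) ⊓ LinearMap.ker (d.ω (K a)) ≤ Submodule.span F {a} := fun x hx =>
        hcon x (LinearMap.mem_ker.1 hx.1) (LinearMap.mem_ker.1 hx.2)
      have h1 := Submodule.finrank_mono hle
      rw [finrank_span_singleton ha0] at h1
      have hkk : ∀ z : V₁, Module.finrank F V₁ ≤ Module.finrank F (LinearMap.ker (d.ω z)) + 1 := fun z => by
        have h2 := LinearMap.finrank_range_add_finrank_ker (d.ω z)
        have h3 := Submodule.finrank_le (LinearMap.range (d.ω z))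
        rw [Module.finrank_self] at h3
        omega
      have h5 := Submodule.finrank_sup_add_finrank_inf_eq (LinearMap.ker (d.ω a)) (LinearMap.ker (d.ω (K a)))
      have h6 := Submodule.finrank_le (LinearMap.ker (d.ω a) ⊔ LinearMap.ker (d.ω (K a)))
      have := hkk a
      have := hkk (K a)
      omega
    obtain ⟨s, hs⟩ := SK.sym hO hS hv hw hwv hK
    have hKe : d.ω (K e) a = 0 := by
      have := hs e a
      rw [d.ω_zero_comm hea, d.ω_zero_comm heb] at this
      simpa using this
    have hD : ((d.tv₁ a 1).toLinearMap ∘ₗ K ∘ₗ (d.tv₁ a 1).symm.toLinearMap - K) (a + e) = d.ω (K a) a • a := by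
      rw [conj_sub_apply]
      simp only [map_add, LinearMap.add_apply, d.ω_alt, d.ω_zero_comm hea, hKe, mul_zero, add_zero, zero_smul,
        sub_zero, one_smul]
    refine ⟨_, a + e, hK.lt_sub hO a 1, ?_, ?_⟩
    · rw [hD]
      intro hmem
      have h1 := (Submodule.smul_mem_iff _ hk).1 hmem
      obtain ⟨r, hr⟩ := Submodule.mem_span_singleton.1 h1
      rcases eq_or_ne r 0 with rfl | hr0
      · exact ha0 (by rw [← hr, zero_smul])
      · have h2 : r • e = (1 - r) • a := by linear_combination (norm := module) hr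
        exact hne (Submodule.mem_span_singleton.2 ⟨r⁻¹ * (1 - r), by
          rw [mul_smul, ← h2, smul_smul, inv_mul_cancel₀ hr0, one_smul]⟩)
    · rw [hD, map_smul, LinearMap.smul_apply, map_add, d.ω_alt, hea, add_zero, smul_zero]
  have ha0 : a ≠ 0 := fun e => ha (by rw [e, map_zero]; exact zero_mem _)
  obtain ⟨s, hs⟩ := SK.sym hO hS hv hw hwv hK
  set b := K a with hb
  have hab : d.ω a b = 0 := d.ω_zero_comm hk
  obtain ⟨l, hbl, hal⟩ := alt_exists_sep d.ω_nd ha
  have hla : d.ω l a = 0 := d.ω_zero_comm hal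
  have hlb : d.ω l b = -1 := by rw [d.ω_swap, hbl]
  set D := (d.tv₁ a 1).toLinearMap ∘ₗ K ∘ₗ (d.tv₁ a 1).symm.toLinearMap - K with hD
  have hDapp : ∀ X, D X = (s * d.ω X a - d.ω X b) • a - d.ω X a • b := fun X => by
    rw [hD, conj_sub_apply, ← hb, hk]
    have h1 : d.ω (K X) a = s * d.ω X a - d.ω X b := eq_sub_of_add_eq (hs X a)
    rw [h1]
    module
  have hE := SK.exactify hO hS hv hw hwv (hK.lt_sub hO a 1) (K' := -D)
    (fun X Y => by
      simp only [← hD, LinearMap.neg_apply, hDapp, map_sub, map_smul, map_neg, LinearMap.sub_apply,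
        LinearMap.smul_apply, smul_eq_mul, d.ω_swap a Y, d.ω_swap b Y]
      ring)
    (fun X => by
      simp only [← hD, LinearMap.neg_apply, hDapp, map_sub, map_smul, LinearMap.sub_apply,
        LinearMap.smul_apply, smul_eq_mul, d.ω_alt, hab, hk]
      module)
  rw [neg_neg, ← hD] at hE
  have hcross := hO.ex_cross hE (hO.ex_conj hE l 1)
  refine ⟨a, ha0, ?_⟩
  convert hcross using 1
  · refine LinearMap.ext fun X => ?_
    simp only [LinearMap.comp_apply, LinearMap.neg_apply, LinearEquiv.coe_coe, d.tv₁_apply, d.tv₁_symm, hDapp,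
      d.nilp_apply, map_add, map_sub, map_smul, map_neg, LinearMap.add_apply, LinearMap.sub_apply,
      LinearMap.smul_apply, smul_eq_mul, d.ω_alt, hab, hk, hla, hlb, hbl, hal]
    module
  · refine LinearMap.ext fun X => ?_
    simp only [LinearMap.comp_apply, LinearMap.neg_apply, LinearEquiv.coe_coe, d.tv₁_apply, d.tv₁_symm, hDapp,
      d.nilp_apply, map_add, map_sub, map_smul, map_neg, LinearMap.add_apply, LinearMap.sub_apply,
      LinearMap.smul_apply, smul_eq_mul, d.ω_alt, hab, hk, hla, hlb, hbl, hal]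
    module

/-- A non-rigid group has a mixed pair. -/
theorem mixed_of_not_rigid (h : ¬ d.Rigid M) : Mixed d M := by
  obtain ⟨a, ha0, hN⟩ := exists_nilp hO hS h
  obtain ⟨l, hal⟩ := alt_exists_one d.ω_nd ha0
  have hla : d.ω l a = -1 := by rw [d.ω_swap, hal]
  set c := a + l with hc
  have hac : d.ω a c = 1 := by rw [hc, map_add, d.ω_alt, hal, zero_add]
  have hcross := hO.ex_cross hN (hO.ex_conj hN l 1)
  obtain ⟨v, hv⟩ : ∃ v : V₂, v ≠ 0 :=
    Module.finrank_pos_iff_exists_ne_zero.1 (lt_of_lt_of_le (by norm_num) hO.six)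
  obtain ⟨e, he, hev⟩ : ∃ e, d.β v e = 0 ∧ e ∉ Submodule.span F ({v} : Set V₂) := by
    by_contra hcon
    simp only [not_exists, not_and, not_not] at hcon
    have h1 := Submodule.finrank_mono (show LinearMap.ker (d.β v) ≤ Submodule.span F {v} from
      fun x hx => hcon x (LinearMap.mem_ker.1 hx))
    have h2 := LinearMap.finrank_range_add_finrank_ker (d.β v)
    have h3 := Submodule.finrank_le (LinearMap.range (d.β v))
    rw [Module.finrank_self] at h3
    rw [finrank_span_singleton hv] at h1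
    have := hO.six
    omega
  refine ⟨a, c, v, e, by rw [hac]; exact one_ne_zero, he, hv, hev, ?_, fun s => ?_⟩
  · rw [d.f_t, he, mul_zero]
  rw [← map_smul]
  rcases eq_or_ne s 0 with rfl | hs
  · rw [zero_smul, map_zero, eichler_zero (d.q_t a v)]
    exact one_mem _
  have hve : d.β v (s • e) = 0 := by rw [map_smul, he, smul_zero]
  obtain ⟨y, hy, hye⟩ := hcross v (s • e) hve hv (fun h => hev ((Submodule.smul_mem_iff _ hs).1 h))
  convert hy using 1
  refine d.orth_ext' fun b x => ?_
  rw [eichler_apply (d.q_t a v) (by rw [d.f_t, hve, mul_zero]), hye, d.q_t, d.f_t, d.f_t, d.β_swap x v,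
    d.β_swap x (s • e)]
  simp only [LinearMap.comp_apply, LinearMap.neg_apply, LinearEquiv.coe_coe, d.tv₁_apply, d.tv₁_symm,
    d.nilp_apply, map_add, map_sub, map_smul, map_neg, LinearMap.add_apply, LinearMap.sub_apply,
    LinearMap.smul_apply, LinearMap.neg_apply, smul_eq_mul, d.ω_alt, hal, hla, hc]
  module

end

end PT

end H49
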