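import Cfsg.Agent.H49.PairMain
import Cfsg.Agent.H43.Omega
import Cfsg.Agent.H45.OmegaTools

/-!
The product isometries are maximal in the commutator subgroup.
-/

set_option autoImplicit false
set_option linter.unusedSectionVars false

namespace H49

namespace PT

open H43

variable {F : Type*} [Field F] [Fintype F]
  {V₁ : Type*} [AddCommGroup V₁] [Module F V₁] [FiniteDimensional F V₁]
  {V₂ : Type*} [AddCommGroup V₂] [Module F V₂] [FiniteDimensional F V₂]
  {V : Type*} [AddCommGroup V] [Module F V] [FiniteDimensional F V]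
  (d : PT F V₁ V₂ V)

/-- The product isometries as a subgroup. -/
def tensSub : Subgroup (orthGroup d.Q) where
  carrier := {g | d.IsTens g}
  mul_mem' := IsTens.mul
  one_mem' := ⟨1, 1, by rw [d.tens_one, OneMemClass.coe_one]⟩
  inv_mem' := IsTens.inv

theorem rt_mul (w : V₂) (a b : F) : d.rt w a * d.rt w b = d.rt w (a + b) := orth_ext fun z => by
  rw [orth_mul_apply, d.rt_apply, d.rt_apply, d.rt_apply, map_add, map_smul, d.Cr_t, d.β_alt, zero_smul, smul_zero,
    add_zero]
  module

theorem lt_mul (a : V₁) (c c' : F) : d.lt a c * d.lt a c' = d.lt a (c + c') := d.orth_ext' fun b x => by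
  rw [orth_mul_apply, d.lt_t, d.lt_t, d.lt_t, d.tv₁_apply, d.tv₁_apply, d.tv₁_apply]
  simp only [map_add, map_smul, LinearMap.add_apply, LinearMap.smul_apply, d.ω_alt, smul_eq_mul, mul_zero, add_zero]
  module

theorem resid_rt {w : V₂} (hw : w ≠ 0) {c : F} (hc : c ≠ 0) : resid (d.rt w c) = d.W w := by
  refine le_antisymm ?_ ?_
  · rintro _ ⟨z, rfl⟩
    rw [resMap_apply, d.rt_apply, sub_add_cancel_left]
    exact neg_mem (Submodule.smul_mem _ _ (d.t_mem_W _ w))
  · rintro _ ⟨a, rfl⟩
    obtain ⟨e, he⟩ := alt_exists_one d.β_nd hw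
    refine ⟨d.t (c⁻¹ • a) e, ?_⟩
    have he' : d.β e w = -1 := by rw [d.β_swap, he]
    rw [resMap_apply, d.rt_apply, sub_add_cancel_left, d.Cr_t, he', LinearMap.flip_apply]
    simp [smul_smul, hc]

theorem resid_lt {a : V₁} (ha : a ≠ 0) {c : F} (hc : c ≠ 0) :
    resid (d.lt a c) = LinearMap.range (d.t a) := by
  refine le_antisymm ?_ ?_
  · have h : (LinearMap.range (d.t a)).mkQ ∘ₗ resMap (d.lt a c) = 0 := d.hom_ext fun b x => by
      rw [LinearMap.comp_apply, resMap_apply, d.lt_t, d.tv₁_apply, map_add d.t, LinearMap.add_apply,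
        sub_add_cancel_left, map_smul, LinearMap.smul_apply, map_neg, map_smul,
        show (LinearMap.range (d.t a)).mkQ (d.t a x) = 0 from (Submodule.Quotient.mk_eq_zero _).2 ⟨x, rfl⟩]
      simp
    rintro _ ⟨z, rfl⟩
    exact (Submodule.Quotient.mk_eq_zero _).1 (LinearMap.congr_fun h z)
  · rintro _ ⟨x, rfl⟩
    obtain ⟨e, he⟩ := alt_exists_one d.ω_nd ha
    refine ⟨d.t e (c⁻¹ • x), ?_⟩
    have he' : d.ω e a = -1 := by rw [d.ω_swap, he]
    rw [resMap_apply, d.lt_t, d.tv₁_apply, he', map_add d.t, LinearMap.add_apply, sub_add_cancel_left]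
    simp [smul_smul, hc]

variable {d}

theorem reflGen (h5 : 5 ≤ Module.finrank F V) : ReflGenerates F V :=
  reflGenerates_of_card (Or.inr (by omega))

theorem mem_commutator_of_sq (h2 : (2 : F) ≠ 0) (h5 : 5 ≤ Module.finrank F V) {g h : orthGroup d.Q}
    (hg : h * h = g) : g ∈ commutator (orthGroup d.Q) := by
  rw [commutator_eq_invKer d.Q_nd (reflGen h5) (by omega), MonoidHom.mem_ker, ← hg, map_mul]
  refine Prod.ext ?_ (sqClass_mul_self _)
  show (invHom d.Q_nd (reflGen h5) h).1 * (invHom d.Q_nd (reflGen h5) h).1 = 1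
  generalize (invHom d.Q_nd (reflGen h5) h).1 = x
  revert x
  decide

theorem mem_commutator_of_even (h2 : (2 : F) = 0) (h5 : 5 ≤ Module.finrank F V) {g : orthGroup d.Q}
    (hg : Even (Module.finrank F (resid g))) : g ∈ commutator (orthGroup d.Q) := by
  rw [H45.mem_commutator_iff_dickson d.Q_nd (reflGen h5) (by omega) h2, dickson]
  have : (Module.finrank F (resid g) : ZMod 2) = 0 := (ZMod.natCast_eq_zero_iff_even).2 hg
  rw [this]
  rfl

theorem rt_mem_commutator (h5 : 5 ≤ Module.finrank F V) (w : V₂) (c : F) :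
    d.rt w c ∈ commutator (orthGroup d.Q) := by
  by_cases h2 : (2 : F) = 0
  · rcases eq_or_ne w 0 with rfl | hw
    · rw [show d.rt 0 c = 1 from orth_ext fun z => by
        rw [d.rt_apply, map_zero, smul_zero, add_zero, orth_one_apply]]
      exact one_mem _
    rcases eq_or_ne c 0 with rfl | hc
    · rw [show d.rt w 0 = 1 from orth_ext fun z => by rw [d.rt_apply, zero_smul, add_zero, orth_one_apply]]
      exact one_mem _
    refine mem_commutator_of_even h2 h5 ?_
    rw [d.resid_rt hw hc, d.finrank_W hw]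
    exact d.even₁
  · refine mem_commutator_of_sq h2 h5 (h := d.rt w (c / 2)) ?_
    rw [d.rt_mul]
    congr 1
    field_simp
    ring

theorem lt_mem_commutator (h5 : 5 ≤ Module.finrank F V) (a : V₁) (c : F) :
    d.lt a c ∈ commutator (orthGroup d.Q) := by
  by_cases h2 : (2 : F) = 0
  · rcases eq_or_ne a 0 with rfl | ha
    · rw [show d.lt 0 c = 1 from d.orth_ext' fun b x => by
        rw [d.lt_t, d.tv₁_apply, smul_zero, add_zero, orth_one_apply]]
      exact one_mem _
    rcases eq_or_ne c 0 with rfl | hc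
    · rw [show d.lt a 0 = 1 from d.orth_ext' fun b x => by
        rw [d.lt_t, d.tv₁_apply, zero_mul, zero_smul, add_zero, orth_one_apply]]
      exact one_mem _
    refine mem_commutator_of_even h2 h5 ?_
    rw [d.resid_lt ha hc, LinearMap.finrank_range_of_inj (t_right_injective ha)]
    exact d.even₂
  · refine mem_commutator_of_sq h2 h5 (h := d.lt a (c / 2)) ?_
    rw [d.lt_mul]
    congr 1
    field_simp
    ring

/-- An Eichler transformation that is no product. -/
theorem exists_eichler_not_tens (h5 : 5 ≤ Module.finrank F V) {a : V₁} (ha : a ≠ 0) {v e : V₂}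
    (hve : d.β v e = 0) (hv : v ≠ 0) (he : e ∉ Submodule.span F ({v} : Set V₂)) :
    ∃ g ∈ commutator (orthGroup d.Q), ¬ d.IsTens g := by
  obtain ⟨b, hab⟩ := alt_exists_one d.ω_nd ha
  have hb : b ≠ 0 := fun h => one_ne_zero (α := F) (by rw [← hab, h, map_zero])
  have he0 : e ≠ 0 := fun h => he (h ▸ zero_mem _)
  have hba : d.ω b a = -1 := by rw [d.ω_swap, hab]
  have huw : polB d.Q (d.t a v) (d.t b e) = 0 := by rw [d.f_t, hve, mul_zero]
  refine ⟨eichler d.Q (d.t a v) (d.t b e), ?_, ?_⟩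
  · rw [commutator_eq_closure_singular d.Q_nd h5]
    exact Subgroup.subset_closure ⟨_, _, d.q_t a v, d.q_t b e, huw, rfl⟩
  rintro ⟨A, C, hAC⟩
  have hv' : v ∉ Submodule.span F ({e} : Set V₂) := fun hmem => by
    obtain ⟨k, hk⟩ := Submodule.mem_span_singleton.1 hmem
    rcases eq_or_ne k 0 with rfl | hk0
    · exact hv (by rw [← hk, zero_smul])
    · exact he (Submodule.mem_span_singleton.2 ⟨k⁻¹, by rw [← hk, smul_smul, inv_mul_cancel₀ hk0, one_smul]⟩)
  obtain ⟨x, hxv, hxe⟩ := alt_exists_sep d.β_nd hv'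
  have hxv' : d.β x v = -1 := by rw [d.β_swap, hxv]
  have hxe' : d.β x e = 0 := d.β_zero_comm hxe
  have g1 : (eichler d.Q (d.t a v) (d.t b e)).1 (d.t a x) = d.t a x := by
    rw [eichler_apply (d.q_t a v) huw, d.q_t, d.f_t, d.f_t, d.ω_alt, hxe']
    simp
  have g2 : (eichler d.Q (d.t a v) (d.t b e)).1 (d.t b x) = d.t b (x + e) := by
    rw [eichler_apply (d.q_t a v) huw, d.q_t, d.f_t, d.f_t, d.ω_alt, hba, hxv', hxe', map_add (d.t b)]
    simp
  rw [hAC, d.tens_t] at g1 g2
  have hne : x + e ∉ Submodule.span F ({x} : Set V₂) := fun hmem => by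
    obtain ⟨k, hk⟩ := Submodule.mem_span_singleton.1 hmem
    have h1 := congrArg (fun z => d.β z v) hk
    simp only [map_add, map_smul, LinearMap.add_apply, LinearMap.smul_apply, smul_eq_mul, d.β_zero_comm hve,
      hxv', add_zero] at h1
    rw [show k = 1 by linear_combination -h1, one_smul, left_eq_add] at hk
    exact he0 hk
  obtain ⟨l, hl1, hl0⟩ := alt_exists_sep d.β_nd hne
  have e1 := congrArg (d.Cr l) g1
  have e2 := congrArg (d.Cr l) g2
  rw [d.Cr_t, d.Cr_t, hl0, zero_smul, smul_eq_zero] at e1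
  rw [d.Cr_t, d.Cr_t, hl1, one_smul] at e2
  rcases e1 with e1 | e1
  · rw [e1, zero_smul] at e2
    exact hb e2.symm
  · exact ha (by simpa using e1)

/-- The product isometries are maximal. -/
theorem tens_maximal (hpos : 2 ≤ Module.finrank F V₁) (hsix : 6 ≤ Module.finrank F V₂)
    (hgap : Module.finrank F V₁ + 2 ≤ Module.finrank F V₂)
    (hexc : Module.finrank F V₁ = 2 → ∃ c : F, c ≠ 0 ∧ c ≠ 1) :
    d.tensSub ⊓ commutator (orthGroup d.Q) < commutator (orthGroup d.Q) ∧
      ∀ M : Subgroup (orthGroup d.Q), d.tensSub ⊓ commutator (orthGroup d.Q) ≤ M →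
        M ≤ commutator (orthGroup d.Q) →
        M = d.tensSub ⊓ commutator (orthGroup d.Q) ∨ M = commutator (orthGroup d.Q) := by
  have h5 : 5 ≤ Module.finrank F V := by
    rw [d.finrank_eq]
    calc 5 ≤ 2 * 6 := by norm_num
      _ ≤ _ := Nat.mul_le_mul hpos hsix
  refine ⟨lt_of_le_of_ne inf_le_right fun heq => ?_, fun M hle hM => ?_⟩
  · obtain ⟨a, ha⟩ : ∃ a : V₁, a ≠ 0 :=
      Module.finrank_pos_iff_exists_ne_zero.1 (lt_of_lt_of_le (by norm_num) hpos)
    obtain ⟨v, hv⟩ : ∃ v : V₂, v ≠ 0 :=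
      Module.finrank_pos_iff_exists_ne_zero.1 (lt_of_lt_of_le (by norm_num) hsix)
    obtain ⟨e, he, hev⟩ : ∃ e, d.β v e = 0 ∧ e ∉ Submodule.span F ({v} : Set V₂) := by
      by_contra hcon
      simp only [not_exists, not_and, not_not] at hcon
      have h1 := Submodule.finrank_mono (show LinearMap.ker (d.β v) ≤ Submodule.span F {v} from
        fun x hx => hcon x (LinearMap.mem_ker.1 hx))
      have h2 := LinearMap.finrank_range_add_finrank_ker (d.β v)
      have h3 := Submodule.finrank_le (LinearMap.range (d.β v))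
      rw [Module.finrank_self] at h3
      rw [finrank_span_singleton hv] at h1
      omega
    obtain ⟨g, hg, hgT⟩ := exists_eichler_not_tens h5 ha he hv hev
    exact hgT (Subgroup.mem_inf.1 (heq.symm ▸ hg)).1
  have hO : d.Over M := ⟨fun w c => hle ⟨d.rt_tens w c, rt_mem_commutator h5 w c⟩,
    fun a c => hle ⟨d.lt_tens a c, lt_mem_commutator h5 a c⟩, hpos, hsix, hgap, hexc⟩
  rcases hO.dichotomy with h | h
  · exact Or.inr (le_antisymm hM h)
  · exact Or.inl (le_antisymm (fun g hg => ⟨h g hg, hM hg⟩) hle)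

end PT

end H49
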