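import Cfsg.Agent.H49.PairEichler

/-!
Radical elements of a column stabiliser: scalar components or a mixed pair.
-/

set_option autoImplicit false
set_option linter.unusedSectionVars false

namespace H49

/-- A map preserving every line is a scalar. -/
theorem scalar_of_lines {F : Type*} [Field F] [Fintype F] {W : Type*} [AddCommGroup W] [Module F W] {B : LinearMap.BilinForm F W}
    (hB : B.Nondegenerate) (K : W →ₗ[F] W) (h : ∀ a, K a ∈ Submodule.span F ({a} : Set W)) :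
    ∃ s : F, ∀ a, K a = s • a := by
  by_cases h0 : ∀ a : W, a = 0
  · exact ⟨0, fun a => by rw [h0 a, map_zero, smul_zero]⟩
  push Not at h0
  obtain ⟨a₀, ha₀⟩ := h0
  obtain ⟨s, hs⟩ := Submodule.mem_span_singleton.1 (h a₀)
  refine ⟨s, fun a => ?_⟩
  by_cases ha : a ∈ Submodule.span F {a₀}
  · obtain ⟨k, rfl⟩ := Submodule.mem_span_singleton.1 ha
    rw [map_smul, ← hs, smul_smul, smul_smul, mul_comm]
  obtain ⟨l, hl1, hl0⟩ := alt_exists_sep hB ha
  obtain ⟨k, hk⟩ := Submodule.mem_span_singleton.1 (h a)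
  obtain ⟨r, hr⟩ := Submodule.mem_span_singleton.1 (h (a + a₀))
  rw [map_add, ← hk, ← hs] at hr
  have e1 := congrArg (fun z => B z l) hr
  simp [hl1, hl0] at e1
  rw [← hk, ← e1]
  rw [← e1, smul_add, add_right_inj] at hr
  rw [smul_left_injective F ha₀ hr]

namespace PT

open H43

variable {F : Type*} [Field F] [Fintype F]
  {V₁ : Type*} [AddCommGroup V₁] [Module F V₁] [FiniteDimensional F V₁]
  {V₂ : Type*} [AddCommGroup V₂] [Module F V₂] [FiniteDimensional F V₂]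
  {V : Type*} [AddCommGroup V] [Module F V] [FiniteDimensional F V]
  (d : PT F V₁ V₂ V)

/-- `z ↦ z + S (Cr v z) ⊗ v` lies in the group. -/
def InQ (M : Subgroup (orthGroup d.Q)) (v : V₂) (S : V₁ →ₗ[F] V₁) : Prop :=
  ∃ g ∈ M, ∀ z, g.1 z = z + d.t (S (d.Cr v z)) v

/-- The group has only scalars in the centres of the column radicals. -/
def Small (M : Subgroup (orthGroup d.Q)) : Prop :=
  ∀ v, v ≠ 0 → ∀ S, d.InQ M v S → ∃ s : F, ∀ x, S x = s • x

/-- The unipotent radical of the stabiliser of a column. -/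
def InU (M : Subgroup (orthGroup d.Q)) (v : V₂) (y : orthGroup d.Q) : Prop :=
  y ∈ M ∧ (∀ a, y.1 (d.t a v) = d.t a v) ∧ ∀ z, d.Cr v z = 0 → y.1 z - z ∈ d.W v

/-- A component of a radical element. -/
noncomputable def comp (y : orthGroup d.Q) (e w : V₂) : V₁ →ₗ[F] V₁ :=
  d.Cr w ∘ₗ (y.1.toLinearMap - LinearMap.id) ∘ₗ d.t.flip e

/-- All components are scalars. -/
def Rigid (M : Subgroup (orthGroup d.Q)) : Prop :=
  ∀ v, v ≠ 0 → ∀ y, d.InU M v y → ∀ e, d.β v e = 1 → ∀ w, d.β v w = 0 → ∃ s : F, ∀ X, d.comp y e w X = s • X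

/-- A radical element with a single direction. -/
def SK (M : Subgroup (orthGroup d.Q)) (v w : V₂) (K : V₁ →ₗ[F] V₁) : Prop :=
  ∃ y, d.InU M v y ∧ ∀ e, d.β v e = 1 → ∀ x, d.β v x = 0 → ∀ X, d.comp y e x X = d.β w x • K X

/-- An element with one pair of directions. -/
def Exact (M : Subgroup (orthGroup d.Q)) (v w : V₂) (K K' : V₁ →ₗ[F] V₁) : Prop :=
  ∃ y ∈ M, ∀ a x, y.1 (d.t a x) = d.t a x + d.β v x • d.t (K a) w + d.β w x • d.t (K' a) v

/-- Such elements in every position. -/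
def Ex (M : Subgroup (orthGroup d.Q)) (K K' : V₁ →ₗ[F] V₁) : Prop :=
  ∀ v w, d.β v w = 0 → v ≠ 0 → w ∉ Submodule.span F ({v} : Set V₂) → d.Exact M v w K K'

variable {d} {M : Subgroup (orthGroup d.Q)}

theorem comp_apply (y : orthGroup d.Q) (e w : V₂) (X : V₁) :
    d.comp y e w X = d.Cr w (y.1 (d.t X e) - d.t X e) := rfl

theorem Cr_W_self {v : V₂} {z : V} (hz : z ∈ d.W v) : d.Cr v z = 0 := d.Cr_W hz (d.β_alt v)

theorem InU.fix_W {v : V₂} {y : orthGroup d.Q} (hy : d.InU M v y) {z : V} (hz : z ∈ d.W v) : y.1 z = z := by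
  obtain ⟨a, rfl⟩ := hz
  exact hy.2.1 a

theorem InU.Cr_move {v : V₂} {y : orthGroup d.Q} (hy : d.InU M v y) (z : V) : d.Cr v (y.1 z - z) = 0 := by
  refine d.ω_ext fun c => ?_
  rw [d.ω_Cr, map_sub, LinearMap.sub_apply, map_zero, LinearMap.zero_apply]
  conv_lhs => rw [← hy.2.1 c, orth_polB_map, hy.2.1 c]
  rw [sub_self]

theorem InU.mul {v : V₂} {y y' : orthGroup d.Q} (hy : d.InU M v y) (hy' : d.InU M v y') :
    d.InU M v (y * y') := by
  refine ⟨mul_mem hy.1 hy'.1, fun a => by rw [orth_mul_apply, hy'.2.1, hy.2.1], fun z hz => ?_⟩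
  have e : y.1 (y'.1 z) - z = (y'.1 z - z) + (y.1 z - z) := by
    rw [show y.1 (y'.1 z) = y.1 z + y.1 (y'.1 z - z) by rw [← map_add, add_sub_cancel],
      hy.fix_W (hy'.2.2 z hz)]
    abel
  rw [orth_mul_apply, e]
  exact add_mem (hy'.2.2 z hz) (hy.2.2 z hz)

theorem InU.inv {v : V₂} {y : orthGroup d.Q} (hy : d.InU M v y) : d.InU M v y⁻¹ := by
  refine ⟨inv_mem hy.1, fun a => y.1.injective ?_, fun z hz => ?_⟩
  · rw [orth_apply_inv_self, hy.2.1]
  · have e : (y⁻¹).1 z - z = -(y.1 z - z) := by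
      refine y.1.injective ?_
      rw [map_sub, orth_apply_inv_self, map_neg, hy.fix_W (hy.2.2 z hz), neg_sub]
    rw [e]
    exact neg_mem (hy.2.2 z hz)

theorem InU.conj {v : V₂} {y : orthGroup d.Q} (hy : d.InU M v y) {g : orthGroup d.Q} (hg : g ∈ M)
    (hgW : ∀ a, g.1 (d.t a v) ∈ d.W v) : d.InU M v (g * y * g⁻¹) := by
  have hmap : ∀ z ∈ d.W v, (g⁻¹).1 z ∈ d.W v := by
    intro z hz
    have hle : (d.W v).map g.1.toLinearMap ≤ d.W v := by
      rintro _ ⟨_, ⟨a, rfl⟩, rfl⟩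
      exact hgW a
    have heq := Submodule.eq_of_le_of_finrank_eq hle (g.1.finrank_map_eq (d.W v))
    obtain ⟨z', hz', rfl⟩ := heq.ge hz
    rw [LinearEquiv.coe_coe, orth_inv_apply_self]
    exact hz'
  refine ⟨mul_mem (mul_mem hg hy.1) (inv_mem hg), fun a => ?_, fun z hz => ?_⟩
  · rw [orth_mul_apply, orth_mul_apply, hy.fix_W (hmap _ (d.t_mem_W a v)), orth_apply_inv_self]
  · have hz' : d.Cr v ((g⁻¹).1 z) = 0 := by
      refine d.ω_ext fun c => ?_
      obtain ⟨c', hc'⟩ := hgW c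
      rw [d.ω_Cr, ← orth_polB_map g, orth_apply_inv_self, ← hc', LinearMap.flip_apply, ← d.ω_Cr, hz]
      simp
    obtain ⟨a, ha⟩ := hy.2.2 _ hz'
    rw [LinearMap.flip_apply] at ha
    rw [orth_mul_apply, orth_mul_apply, show y.1 ((g⁻¹).1 z) = (g⁻¹).1 z + d.t a v by rw [ha, add_sub_cancel],
      map_add, orth_apply_inv_self, add_sub_cancel_left]
    exact hgW a

theorem comp_mul {v : V₂} {y y' : orthGroup d.Q} (hy : d.InU M v y) (hy' : d.InU M v y') (e : V₂) {w : V₂}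
    (hw : d.β v w = 0) (X : V₁) : d.comp (y * y') e w X = d.comp y e w X + d.comp y' e w X := by
  rw [comp_apply, comp_apply, comp_apply, orth_mul_apply]
  have e1 : y.1 (y'.1 (d.t X e)) - d.t X e = (y.1 (d.t X e) - d.t X e) + (y'.1 (d.t X e) - d.t X e) +
      (y.1 (y'.1 (d.t X e) - d.t X e) - (y'.1 (d.t X e) - d.t X e)) := by
    rw [map_sub]; abel
  rw [e1, map_add, map_add, d.Cr_W (hy.2.2 _ (hy'.Cr_move _)) hw, add_zero]

theorem comp_inv {v : V₂} {y : orthGroup d.Q} (hy : d.InU M v y) (e : V₂) {w : V₂} (hw : d.β v w = 0) (X : V₁) :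
    d.comp y⁻¹ e w X = -d.comp y e w X := by
  have h := comp_mul hy hy.inv e hw X
  rw [mul_inv_cancel] at h
  have h1 : d.comp (1 : orthGroup d.Q) e w X = 0 := by rw [comp_apply, orth_one_apply, sub_self, map_zero]
  rw [h1] at h
  exact (neg_eq_of_add_eq_zero_right h.symm).symm

theorem comp_indep {v : V₂} {y : orthGroup d.Q} (hy : d.InU M v y) {e e' w : V₂} (he : d.β v e = 1)
    (he' : d.β v e' = 1) (hw : d.β v w = 0) (X : V₁) : d.comp y e w X = d.comp y e' w X := by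
  rw [comp_apply, comp_apply, ← sub_eq_zero, ← map_sub]
  have h0 : d.Cr v (d.t X (e - e')) = 0 := by
    rw [d.Cr_t, d.β_swap, map_sub, he, he', sub_self, neg_zero, zero_smul]
  have h := d.Cr_W (hy.2.2 _ h0) hw
  rw [map_sub (d.t X), map_sub y.1] at h
  rw [← h]
  congr 1
  abel

/-- Contraction after a product move. -/
theorem Cr_move_apply {g : orthGroup d.Q} {m : V₁ ≃ₗ[F] V₁} {c : V₂ ≃ₗ[F] V₂}
    (hg : ∀ b x, g.1 (d.t b x) = d.t (m b) (c x)) (hc : ∀ x y, d.β (c x) (c y) = d.β x y) (x : V₂) (z : V) :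
    d.Cr x (g.1 z) = m (d.Cr (c.symm x) z) := by
  have : d.Cr x ∘ₗ g.1.toLinearMap = m.toLinearMap ∘ₗ d.Cr (c.symm x) := d.hom_ext fun b y => by
    show d.Cr x (g.1 (d.t b y)) = m (d.Cr (c.symm x) (d.t b y))
    rw [hg, d.Cr_t, d.Cr_t, map_smul, ← hc y, c.apply_symm_apply]
  exact LinearMap.congr_fun this z

theorem SK.sub {v w : V₂} {K L : V₁ →ₗ[F] V₁} (hK : d.SK M v w K) (hL : d.SK M v w L) :
    d.SK M v w (K - L) := by
  obtain ⟨y, hy, hyK⟩ := hK
  obtain ⟨y', hy', hyL⟩ := hL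
  refine ⟨y * y'⁻¹, hy.mul hy'.inv, fun e he x hx X => ?_⟩
  rw [comp_mul hy hy'.inv e hx, comp_inv hy' e hx, hyK e he x hx, hyL e he x hx, LinearMap.sub_apply, smul_sub,
    sub_eq_add_neg]

theorem SK.congr {v w : V₂} {K L : V₁ →ₗ[F] V₁} (hK : d.SK M v w K) (h : ∀ X, K X = L X) : d.SK M v w L := by
  rwa [← LinearMap.ext h]

theorem SK.conj {v w : V₂} {K : V₁ →ₗ[F] V₁} (hK : d.SK M v w K) {g : orthGroup d.Q} (hg : g ∈ M)
    {m : V₁ ≃ₗ[F] V₁} {c : V₂ ≃ₗ[F] V₂} (hgt : ∀ b x, g.1 (d.t b x) = d.t (m b) (c x))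
    (hc : ∀ x y, d.β (c x) (c y) = d.β x y) (hcv : c v = v) :
    d.SK M v (c w) (m.toLinearMap ∘ₗ K ∘ₗ m.symm.toLinearMap) := by
  obtain ⟨y, hy, hyK⟩ := hK
  refine ⟨g * y * g⁻¹, hy.conj hg fun a => by rw [hgt, hcv]; exact d.t_mem_W _ _, fun e he x hx X => ?_⟩
  have hpre : (g⁻¹).1 (d.t X e) = d.t (m.symm X) (c.symm e) := by
    refine g.1.injective ?_
    rw [orth_apply_inv_self, hgt, m.apply_symm_apply, c.apply_symm_apply]
  have e1 : d.t X e = g.1 (d.t (m.symm X) (c.symm e)) := by rw [hgt, m.apply_symm_apply, c.apply_symm_apply]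
  have hv' : c.symm v = v := by rw [LinearEquiv.symm_apply_eq, hcv]
  rw [comp_apply, orth_mul_apply, orth_mul_apply, hpre]
  conv_lhs => rw [e1, ← map_sub, Cr_move_apply hgt hc]
  rw [← comp_apply, hyK _ (by rw [← hc, hcv, c.apply_symm_apply, he]) _ (by rw [← hc, hcv, c.apply_symm_apply, hx]),
    map_smul, ← hc w, c.apply_symm_apply]
  rfl

theorem InQ.skew {v : V₂} (hv : v ≠ 0) {S : V₁ →ₗ[F] V₁} (hS : d.InQ M v S) (X : V₁) : d.ω X (S X) = 0 := by
  obtain ⟨g, -, hge⟩ := hS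
  obtain ⟨e, he⟩ := alt_exists_one d.β_nd hv
  have hC : d.Cr v (d.t (-X) e) = X := by rw [d.Cr_t, d.β_swap, he, smul_neg, neg_smul, one_smul, neg_neg]
  have h := orth_qmap g (d.t (-X) e)
  rw [hge, qmap_add, d.q_t, d.q_t, hC, add_zero, zero_add, ← d.ω_Cr, hC] at h
  exact h

theorem InQ.symm {v : V₂} (hv : v ≠ 0) {S : V₁ →ₗ[F] V₁} (hS : d.InQ M v S) (X Y : V₁) :
    d.ω (S X) Y = d.ω X (S Y) := by
  have h := hS.skew hv (X + Y)
  simp only [map_add, LinearMap.add_apply, hS.skew hv, zero_add, add_zero] at h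
  rw [d.ω_swap (S X) Y]
  linear_combination -h

section

variable (hO : d.Over M)
include hO

/-- A non-scalar central element gives a pair in one column. -/
theorem Over.pure_of_not_small (h : ¬ d.Small M) : Pure d M := by
  simp only [Small, not_forall, exists_prop] at h
  obtain ⟨v, hv, S, hS, hns⟩ := h
  obtain ⟨a, ha⟩ : ∃ a, S a ∉ Submodule.span F ({a} : Set V₁) := by
    by_contra hcon
    simp only [not_exists, not_not] at hcon
    exact hns (scalar_of_lines d.ω_nd S hcon)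
  have ha0 : a ≠ 0 := fun e => ha (by rw [e, map_zero]; exact zero_mem _)
  have hsym := hS.symm hv
  have hab : d.ω a (S a) = 0 := hS.skew hv a
  obtain ⟨g, hg, hge⟩ := hS
  refine ⟨a, S a, v, hab, hv, ha0, ha, ⟨by rw [d.f_t, d.β_alt, mul_zero], fun t => ?_⟩⟩
  have hmem : d.lt a (-t) * g * (d.lt a (-t))⁻¹ * g⁻¹ ∈ M :=
    mul_mem (mul_mem (mul_mem (hO.left a _) hg) (inv_mem (hO.left a _))) (inv_mem hg)
  convert hmem using 1
  rw [eq_mul_inv_iff_mul_eq]
  refine orth_ext fun z => ?_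
  obtain ⟨z', rfl⟩ : ∃ z', (d.lt a (-t)).1 z' = z := ⟨_, orth_apply_inv_self _ z⟩
  have h1 : polB d.Q (d.t a v) (t • d.t (S a) v) = 0 := by rw [map_smul, d.f_t, d.β_alt, mul_zero, smul_zero]
  rw [orth_mul_apply, orth_mul_apply, orth_mul_apply, orth_inv_apply_self, hge, hge]
  rw [map_add (d.lt a (-t)).1, d.lt_t, map_add]
  simp only [eichler_apply (d.q_t a v) h1, qmap_smul, d.q_t, d.Cr_lt, d.tv₁_apply]
  have hSa : d.ω (S a) a = 0 := d.ω_zero_comm hab
  simp only [map_add, map_smul, LinearMap.add_apply, LinearMap.smul_apply, ← d.ω_Cr, d.Cr_lt, d.Cr_t, d.β_alt,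
    zero_smul, smul_zero, add_zero, d.tv₁_apply, d.f_t, smul_eq_mul, mul_zero, zero_mul, sub_zero, hsym, hab,
    hSa, d.ω_alt, map_zero, LinearMap.zero_apply]
  module

/-- Moves fixing a vector and changing a second. -/
theorem Over.move_fix {v w w' : V₂} (hv : v ≠ 0) (hw : d.β v w = 0) (hw' : d.β v w' = 0)
    (hwv : w ∉ Submodule.span F ({v} : Set V₂)) (hw'v : w' ∉ Submodule.span F ({v} : Set V₂)) :
    ∃ g ∈ M, ∃ c : V₂ ≃ₗ[F] V₂, (∀ a x, g.1 (d.t a x) = d.t a (c x)) ∧ c v = v ∧ c w = w' ∧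
      (∀ x y, d.β (c x) (c y) = d.β x y) := by
  obtain ⟨m, hm, hm1, hm2⟩ : ∃ m, d.β v m = 0 ∧ d.β w m ≠ 0 ∧ d.β m w' ≠ 0 := by
    obtain ⟨l, hl, hlv⟩ := alt_exists_sep d.β_nd hwv
    obtain ⟨l', hl', hl'v⟩ := alt_exists_sep d.β_nd hw'v
    have e' : d.β l' w' ≠ 0 := by rw [d.β_swap, hl']; simp
    by_cases c1 : d.β l w' = 0
    · by_cases c2 : d.β w l' = 0
      · refine ⟨l + l', by rw [map_add, hlv, hl'v, add_zero], by simp [hl, c2], ?_⟩
        rw [map_add, LinearMap.add_apply, c1, zero_add]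
        exact e'
      · exact ⟨l', hl'v, c2, e'⟩
    · exact ⟨l, hlv, by rw [hl]; exact one_ne_zero, c1⟩
  obtain ⟨g₁, hg₁, c₁, -, hc₁, hw₁, hf₁, hi₁⟩ := hO.step₂ hm1
  obtain ⟨g₂, hg₂, c₂, -, hc₂, hw₂, hf₂, hi₂⟩ := hO.step₂ hm2
  refine ⟨g₂ * g₁, mul_mem hg₂ hg₁, c₁.trans c₂, fun a x => by rw [orth_mul_apply, hc₁, hc₂]; rfl, ?_,
    by simp [hw₁, hw₂], fun x y => (hi₂ _ _).trans (hi₁ x y)⟩
  rw [LinearEquiv.trans_apply, hf₁ v (by rw [map_sub, hm, hw, sub_zero]),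
    hf₂ v (by rw [map_sub, hw', hm, sub_zero])]

theorem Over.sk_smul {v w : V₂} (hv : v ≠ 0) (hw : d.β v w = 0) (hwv : w ∉ Submodule.span F ({v} : Set V₂))
    {K : V₁ →ₗ[F] V₁} (hK : d.SK M v w K) {μ : F} (hμ : μ ≠ 0) : d.SK M v w (μ • K) := by
  obtain ⟨g, hg, c, hc, hcv, hcw, hci⟩ := hO.move_fix hv hw (w' := μ • w) (by rw [map_smul, hw, smul_zero]) hwv
    (fun h => hwv ((Submodule.smul_mem_iff _ hμ).1 h))
  obtain ⟨y, hy, hyK⟩ := hK.conj hg (m := LinearEquiv.refl F V₁) hc hci hcv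
  refine ⟨y, hy, fun e he x hx X => ?_⟩
  rw [hyK e he x hx, hcw, map_smul, LinearMap.smul_apply, LinearMap.smul_apply, smul_eq_mul, smul_smul, mul_comm]
  rfl

theorem Over.ex_of_exact {v w : V₂} (hv : v ≠ 0) (hw : d.β v w = 0) (hwv : w ∉ Submodule.span F ({v} : Set V₂))
    {K K' : V₁ →ₗ[F] V₁} (h : d.Exact M v w K K') : d.Ex M K K' := by
  intro v' w' hvw' hv' hw'v
  obtain ⟨g₁, hg₁, c₁, -, hc₁, hcv, hi₁⟩ := hO.move₂ hv hv'
  have h1 : d.β v' (c₁ w) = 0 := by rw [← hcv, hi₁, hw]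
  have h2 : c₁ w ∉ Submodule.span F ({v'} : Set V₂) := fun hmem => by
    obtain ⟨k, hk⟩ := Submodule.mem_span_singleton.1 hmem
    rw [← hcv, ← map_smul] at hk
    exact hwv (Submodule.mem_span_singleton.2 ⟨k, c₁.injective hk⟩)
  obtain ⟨g₂, hg₂, c₂, hc₂, hcv₂, hcw₂, hi₂⟩ := hO.move_fix hv' h1 hvw' h2 hw'v
  obtain ⟨y, hy, hye⟩ := h
  refine ⟨g₂ * g₁ * y * (g₂ * g₁)⁻¹, mul_mem (mul_mem (mul_mem hg₂ hg₁) hy) (inv_mem (mul_mem hg₂ hg₁)),
    fun a x => ?_⟩
  set c := c₁.trans c₂ with hcdef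
  have hgt : ∀ a x, (g₂ * g₁).1 (d.t a x) = d.t a (c x) := fun a x => by rw [orth_mul_apply, hc₁, hc₂]; rfl
  have hi : ∀ x y, d.β (c x) (c y) = d.β x y := fun x y => (hi₂ _ _).trans (hi₁ x y)
  have hpre : ((g₂ * g₁)⁻¹).1 (d.t a x) = d.t a (c.symm x) := by
    refine (g₂ * g₁).1.injective ?_
    rw [orth_apply_inv_self, hgt, c.apply_symm_apply]
  have e1 : c v = v' := by rw [hcdef, LinearEquiv.trans_apply, hcv, hcv₂]
  have e2 : c w = w' := by rw [hcdef, LinearEquiv.trans_apply, hcw₂]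
  rw [orth_mul_apply, orth_mul_apply, hpre, hye, map_add, map_add, map_smul, map_smul, hgt, hgt, hgt,
    c.apply_symm_apply, e1, e2, ← hi v, ← hi w, c.apply_symm_apply, e1, e2]

theorem Over.ex_conj {K K' : V₁ →ₗ[F] V₁} (h : d.Ex M K K') (a : V₁) (c : F) :
    d.Ex M ((d.tv₁ a c).toLinearMap ∘ₗ K ∘ₗ (d.tv₁ a c).symm.toLinearMap)
      ((d.tv₁ a c).toLinearMap ∘ₗ K' ∘ₗ (d.tv₁ a c).symm.toLinearMap) := by
  intro v w hvw hv hwv
  obtain ⟨y, hy, hye⟩ := h v w hvw hv hwv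
  refine ⟨d.lt a c * y * (d.lt a c)⁻¹, mul_mem (mul_mem (hO.left a c) hy) (inv_mem (hO.left a c)), fun b x => ?_⟩
  rw [orth_mul_apply, orth_mul_apply, d.lt_inv_t, hye, map_add, map_add, map_smul, map_smul, d.lt_t, d.lt_t, d.lt_t,
    LinearEquiv.apply_symm_apply]
  rfl

/-- Two elements in opposite positions multiply their maps. -/
theorem Over.ex_cross {D₁ D₁' D₂ D₂' : V₁ →ₗ[F] V₁} (h1 : d.Ex M D₁ D₁') (h2 : d.Ex M D₂ D₂') :
    d.Ex M (D₂ ∘ₗ D₁') (D₁ ∘ₗ D₂') := by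
  obtain ⟨v, hv⟩ : ∃ v : V₂, v ≠ 0 :=
    Module.finrank_pos_iff_exists_ne_zero.1 (lt_of_lt_of_le (by norm_num) hO.six)
  obtain ⟨v', hvv'⟩ := alt_exists_one d.β_nd hv
  have hv'v : d.β v' v = -1 := by rw [d.β_swap, hvv']
  have hv' : v' ≠ 0 := fun h => one_ne_zero (α := F) (by rw [← hvv', h, map_zero])
  obtain ⟨e, he, e1, e2⟩ : ∃ e, e ≠ 0 ∧ d.β v e = 0 ∧ d.β v' e = 0 := by
    obtain ⟨w, w', h1, h2, -, -, h5⟩ := alt_exists_pair d.β_nd d.β_alt (by have := hO.six; omega) v v'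
    exact ⟨w, fun h => one_ne_zero (α := F) (by rw [← h5, h, map_zero, LinearMap.zero_apply]), h1, h2⟩
  obtain ⟨f, hfe, f1, f2, f3⟩ : ∃ f, f ∉ Submodule.span F ({e} : Set V₂) ∧ d.β v f = 0 ∧ d.β v' f = 0 ∧
      d.β e f = 0 := by
    by_contra hcon
    simp only [not_exists, not_and] at hcon
    have hle : LinearMap.ker (d.β v) ⊓ LinearMap.ker (d.β v') ⊓ LinearMap.ker (d.β e) ≤ Submodule.span F {e} :=
      fun x hx => by
        by_contra hx'
        exact hcon x hx' (LinearMap.mem_ker.1 hx.1.1) (LinearMap.mem_ker.1 hx.1.2) (LinearMap.mem_ker.1 hx.2)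
    have h1 := Submodule.finrank_mono hle
    rw [finrank_span_singleton he] at h1
    have hk : ∀ z : V₂, Module.finrank F V₂ ≤ Module.finrank F (LinearMap.ker (d.β z)) + 1 := fun z => by
      have h2 := LinearMap.finrank_range_add_finrank_ker (d.β z)
      have h3 := Submodule.finrank_le (LinearMap.range (d.β z))
      rw [Module.finrank_self] at h3
      omega
    have h4 := Submodule.finrank_sup_add_finrank_inf_eq (LinearMap.ker (d.β v)) (LinearMap.ker (d.β v'))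
    have h5 := Submodule.finrank_le (LinearMap.ker (d.β v) ⊔ LinearMap.ker (d.β v'))
    have h6 := Submodule.finrank_sup_add_finrank_inf_eq (LinearMap.ker (d.β v) ⊓ LinearMap.ker (d.β v')) (LinearMap.ker (d.β e))
    have h7 := Submodule.finrank_le (LinearMap.ker (d.β v) ⊓ LinearMap.ker (d.β v') ⊔ LinearMap.ker (d.β e))
    have := hk v
    have := hk v'
    have := hk e
    have := hO.six
    omega
  have hev : e ∉ Submodule.span F ({v} : Set V₂) := fun hmem => by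
    obtain ⟨k, hk⟩ := Submodule.mem_span_singleton.1 hmem
    have := congrArg (d.β v') hk
    rw [map_smul, hv'v, e2, smul_eq_mul] at this
    exact he (by rw [← hk, show k = 0 by linear_combination -this, zero_smul])
  have hfv' : f ∉ Submodule.span F ({v'} : Set V₂) := fun hmem => by
    obtain ⟨k, hk⟩ := Submodule.mem_span_singleton.1 hmem
    have := congrArg (d.β v) hk
    rw [map_smul, hvv', f1, smul_eq_mul, mul_one] at this
    exact hfe (by rw [← hk, this, zero_smul]; exact zero_mem _)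
  obtain ⟨y, hy, hye⟩ := h1 v e e1 hv hev
  obtain ⟨y', hy', hye'⟩ := h2 v' f f2 hv' hfv'
  refine hO.ex_of_exact he f3 hfe ⟨y'⁻¹ * (y * y' * y⁻¹),
    mul_mem (inv_mem hy') (mul_mem (mul_mem hy hy') (inv_mem hy)), fun a x => y'.1.injective ?_⟩
  have e1' : d.β e v = 0 := d.β_zero_comm e1
  have e2' : d.β e v' = 0 := d.β_zero_comm e2
  have f1' : d.β f v = 0 := d.β_zero_comm f1
  have f2' : d.β f v' = 0 := d.β_zero_comm f2
  have f3' : d.β f e = 0 := d.β_zero_comm f3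
  have hinv : (y⁻¹).1 (d.t a x) = d.t a x - d.β v x • d.t (D₁ a) e - d.β e x • d.t (D₁' a) v := by
    refine y.1.injective ?_
    rw [orth_apply_inv_self, map_sub, map_sub, map_smul, map_smul, hye, hye, hye]
    simp only [d.β_alt, e1, e1', zero_smul, add_zero]
    abel
  rw [orth_mul_apply, orth_apply_inv_self, orth_mul_apply, orth_mul_apply, hinv]
  simp only [map_add, map_sub, map_smul, map_neg, hye, hye', LinearMap.comp_apply, d.β_alt, e1, e1', e2, e2', f1, f1',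
    f2, f2', f3, f3', hvv', hv'v, zero_smul, one_smul, neg_smul, smul_add, smul_sub, smul_neg, add_zero, zero_add,
    sub_zero, smul_zero]
  abel

end

section pairing

variable (hO : d.Over M) (hS : d.Small M)
include hO hS

/-- The symmetrised pairing of two radical elements is a scalar. -/
theorem InU.pairing {v e : V₂} (hv : v ≠ 0) (he : d.β v e = 1) {y y' : orthGroup d.Q} (hy : d.InU M v y)
    (hy' : d.InU M v y') : ∃ s : F, ∀ X X',
      polB d.Q (y.1 (d.t X e) - d.t X e) (y'.1 (d.t X' e) - d.t X' e) -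
        polB d.Q (y'.1 (d.t X e) - d.t X e) (y.1 (d.t X' e) - d.t X' e) = s * d.ω X X' := by
  have hev : d.β e v = -1 := by rw [d.β_swap, he]
  let m : V₁ →ₗ[F] V := (y.1.toLinearMap - LinearMap.id) ∘ₗ d.t.flip e
  let m' : V₁ →ₗ[F] V := (y'.1.toLinearMap - LinearMap.id) ∘ₗ d.t.flip e
  have hm : ∀ X, m X = y.1 (d.t X e) - d.t X e := fun X => rfl
  have hm' : ∀ X, m' X = y'.1 (d.t X e) - d.t X e := fun X => rfl
  have hCm : ∀ X, d.Cr v (m X) = 0 := fun X => hy.Cr_move _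
  have hCm' : ∀ X, d.Cr v (m' X) = 0 := fun X => hy'.Cr_move _
  -- the commutator
  let S : V₁ →ₗ[F] V := (y.1.toLinearMap - LinearMap.id) ∘ₗ m' - (y'.1.toLinearMap - LinearMap.id) ∘ₗ m
  have hSW : ∀ X, S X ∈ d.W v := fun X => sub_mem (hy.2.2 _ (hCm' X)) (hy'.2.2 _ (hCm X))
  have hcomm : ∀ z, d.Cr v z = 0 → y.1 (y'.1 z) = y'.1 (y.1 z) := fun z hz => by
    obtain ⟨a, ha⟩ := hy.2.2 z hz
    obtain ⟨b, hb⟩ := hy'.2.2 z hz
    rw [LinearMap.flip_apply] at ha hb
    rw [show y'.1 z = z + d.t b v by rw [hb, add_sub_cancel], show y.1 z = z + d.t a v by rw [ha, add_sub_cancel],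
      map_add, map_add, hy.2.1, hy'.2.1, show y'.1 z = z + d.t b v by rw [hb, add_sub_cancel],
      show y.1 z = z + d.t a v by rw [ha, add_sub_cancel]]
    abel
  set q := y * y' * (y' * y)⁻¹ with hq
  have hqM : q ∈ M := mul_mem (mul_mem hy.1 hy'.1) (inv_mem (mul_mem hy'.1 hy.1))
  have hqfix : ∀ z, d.Cr v z = 0 → q.1 z = z := by
    intro z hz
    have hw : d.Cr v (((y' * y)⁻¹).1 z) = 0 := by
      have := (hy'.mul hy).inv.Cr_move z
      rwa [map_sub, hz, sub_zero] at this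
    rw [hq, orth_mul_apply, orth_mul_apply, hcomm _ hw, ← orth_mul_apply, orth_apply_inv_self]
  have hqv : ∀ X, q.1 (d.t X e) = d.t X e + S X := by
    intro X
    set w := y'.1 (y.1 (d.t X e)) with hwdef
    have hqw : q.1 w = y.1 (y'.1 (d.t X e)) := by
      rw [hq, hwdef, ← orth_mul_apply y' y, ← orth_mul_apply, inv_mul_cancel_right, orth_mul_apply]
    have hwz : d.Cr v (w - d.t X e) = 0 := (hy'.mul hy).Cr_move (d.t X e)
    have e0 := hqfix _ hwz
    rw [map_sub, hqw, sub_eq_iff_eq_add] at e0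
    have e1 : y.1 (y'.1 (d.t X e)) = d.t X e + m X + (m' X + (y.1 (m' X) - m' X)) := by
      rw [show y'.1 (d.t X e) = d.t X e + m' X by rw [hm', add_sub_cancel], map_add, hm]
      abel
    have e2 : w = d.t X e + m' X + (m X + (y'.1 (m X) - m X)) := by
      rw [hwdef, show y.1 (d.t X e) = d.t X e + m X by rw [hm, add_sub_cancel], map_add, hm']
      abel
    rw [e1, e2] at e0
    show _ = d.t X e + ((y.1 (m' X) - m' X) - (y'.1 (m X) - m X))
    rw [← sub_eq_iff_eq_add'] at e0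
    rw [← e0]
    abel
  obtain ⟨s, hs⟩ := hS v hv (-(d.Cr e ∘ₗ S)) ⟨q, hqM, fun z => by
    have hz : d.Cr v (z + d.t (d.Cr v z) e) = 0 := by rw [map_add, d.Cr_t, hev, neg_smul, one_smul, add_neg_cancel]
    have e0 := hqfix _ hz
    rw [map_add, hqv] at e0
    obtain ⟨a, ha⟩ := hSW (d.Cr v z)
    rw [LinearMap.flip_apply] at ha
    rw [LinearMap.neg_apply, LinearMap.comp_apply, map_neg, ← ha, d.Cr_t, he, one_smul]
    rw [← ha] at e0
    simp only [LinearMap.neg_apply]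
    linear_combination (norm := abel) e0⟩
  refine ⟨-s, fun X X' => ?_⟩
  have hs' : -s * d.ω X X' = polB d.Q (S X) (d.t X' e) := by
    have := hs X
    rw [LinearMap.neg_apply, LinearMap.comp_apply, neg_eq_iff_eq_neg] at this
    rw [← d.ω_Cr, this, ← neg_smul, map_smul, LinearMap.smul_apply, smul_eq_mul]
  rw [hs']
  have key : ∀ (y : orthGroup d.Q), d.InU M v y → ∀ z, d.Cr v z = 0 → ∀ X,
      polB d.Q (y.1 z - z) (d.t X e) = -polB d.Q z (y.1 (d.t X e) - d.t X e) := by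
    intro y hy z hz X
    obtain ⟨a, ha⟩ := hy.2.2 z hz
    have h0 := orth_polB_map y z (d.t X e)
    have h1 : polB d.Q (y.1 z - z) (y.1 (d.t X e) - d.t X e) = 0 := by
      rw [← ha, LinearMap.flip_apply, polB_comm, ← d.ω_Cr, hy.Cr_move, map_zero, LinearMap.zero_apply]
    simp only [map_sub, LinearMap.sub_apply] at h1 ⊢
    linear_combination h0 - h1
  show _ = polB d.Q ((y.1 (m' X) - m' X) - (y'.1 (m X) - m X)) (d.t X' e)
  conv_rhs => rw [LinearMap.map_sub₂, key y hy _ (hCm' X), key y' hy' _ (hCm X), hm, hm']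
  ring

theorem sg_inU {v w : V₂} (h : d.β v w = 0) : d.InU M v (d.sg v w) := by
  refine ⟨?_, fun a => ?_, fun z hz => ?_⟩
  · exact mul_mem (mul_mem (hO.right _ _) (hO.right _ _)) (hO.right _ _)
  · rw [d.sg_apply h, d.Cr_t, d.Cr_t, h, d.β_alt, zero_smul, map_zero, LinearMap.zero_apply, LinearMap.zero_apply,
      add_zero, add_zero]
  · rw [d.sg_apply h, hz, map_zero, LinearMap.zero_apply, add_zero, add_sub_cancel_left]
    exact d.t_mem_W _ _

/-- Components are symmetric up to a scalar. -/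
theorem comp_sym {v e w : V₂} (hv : v ≠ 0) (he : d.β v e = 1) (hw : d.β v w = 0) {y : orthGroup d.Q}
    (hy : d.InU M v y) : ∃ s : F, ∀ X X',
      d.ω (d.comp y e w X) X' + d.ω X (d.comp y e w X') = s * d.ω X X' := by
  obtain ⟨s, hs⟩ := InU.pairing hO hS hv he hy (sg_inU hO hS hw)
  have hev : d.β e v = -1 := by rw [d.β_swap, he]
  have hkey : ∀ (X : V₁), (d.sg v w).1 (d.t X e) - d.t X e = d.β e w • d.t X v - d.t X w := fun X => by
    rw [d.sg_apply hw, d.Cr_t, d.Cr_t, hev, map_smul, map_smul, LinearMap.smul_apply, LinearMap.smul_apply]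
    module
  refine ⟨-s, fun X X' => ?_⟩
  have h := hs X X'
  rw [hkey, hkey, polB_comm (d.β e w • d.t X v - d.t X w), map_sub (polB d.Q (y.1 (d.t X e) - d.t X e)),
    map_sub (polB d.Q (y.1 (d.t X' e) - d.t X' e)), map_smul, map_smul, ← d.ω_Cr, ← d.ω_Cr, ← d.ω_Cr, ← d.ω_Cr,
    hy.Cr_move, hy.Cr_move] at h
  simp only [map_zero, LinearMap.zero_apply, smul_zero, zero_sub] at h
  rw [← comp_apply, ← comp_apply, d.ω_swap (d.comp y e w X') X] at h
  linear_combination -h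

theorem SK.sym {v w : V₂} (hv : v ≠ 0) (hw : d.β v w = 0) (hwv : w ∉ Submodule.span F ({v} : Set V₂))
    {K : V₁ →ₗ[F] V₁} (hK : d.SK M v w K) : ∃ s : F, ∀ X Y, d.ω (K X) Y + d.ω X (K Y) = s * d.ω X Y := by
  obtain ⟨y, hy, hyK⟩ := hK
  obtain ⟨e, he⟩ := alt_exists_one d.β_nd hv
  obtain ⟨x, hx1, hx0⟩ := alt_exists_sep d.β_nd hwv
  obtain ⟨s, hs⟩ := comp_sym hO hS hv he hx0 hy
  refine ⟨s, fun X Y => ?_⟩
  rw [← hs, hyK e he x hx0, hyK e he x hx0, hx1, one_smul, one_smul]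

/-- A component with adjoint product zero gives an element with one pair of directions. -/
theorem SK.exactify {v w : V₂} (hv : v ≠ 0) (hw : d.β v w = 0) (hwv : w ∉ Submodule.span F ({v} : Set V₂))
    {K K' : V₁ →ₗ[F] V₁} (hK : d.SK M v w K) (hadj : ∀ X Y, d.ω (K X) Y = d.ω X (K' Y))
    (hzero : ∀ X, K' (K X) = 0) : d.Ex M (-K) (-K') := by
  obtain ⟨y, hy, hyK⟩ := hK
  obtain ⟨w', hw', hvw'⟩ := alt_exists_sep d.β_nd hwv
  obtain ⟨e₀, he₀⟩ := alt_exists_one d.β_nd hv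
  set e := e₀ - d.β w e₀ • w' with hedef
  have he : d.β v e = 1 := by rw [hedef, map_sub, map_smul, hvw', smul_zero, sub_zero, he₀]
  have hwe : d.β w e = 0 := by rw [hedef, map_sub, map_smul, hw', smul_eq_mul, mul_one, sub_self]
  have hwv' : d.β w v = 0 := d.β_zero_comm hw
  -- the middle image
  have hRex : ∀ X, ∃ R, y.1 (d.t X e) = d.t X e + d.t (K X) w + d.t R v := by
    intro X
    obtain ⟨R, hR⟩ := d.mem_W hv (z := y.1 (d.t X e) - d.t X e - d.t (K X) w) fun x hx => by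
      rw [map_sub, ← comp_apply, hyK e he x hx, d.Cr_t, sub_self]
    exact ⟨R, by rw [LinearMap.flip_apply] at hR; rw [hR]; abel⟩
  choose R hR using hRex
  -- the orthogonal of the column
  have hperp : ∀ c x, d.β v x = 0 → y.1 (d.t c x) = d.t c x + d.β w x • d.t (K' c) v := by
    intro c x hx
    obtain ⟨r, hr⟩ := hy.2.2 (d.t c x) (by rw [d.Cr_t, d.β_zero_comm hx, zero_smul])
    rw [LinearMap.flip_apply] at hr
    have hr' : y.1 (d.t c x) = d.t c x + d.t r v := by rw [hr, add_sub_cancel]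
    suffices r = d.β w x • K' c by rw [hr', this, map_smul, LinearMap.smul_apply]
    refine d.ω_ext fun X => ?_
    have h := orth_polB_map y (d.t c x) (d.t X e)
    rw [hR, hr'] at h
    simp only [map_add, LinearMap.add_apply, d.f_t, d.β_alt, hw, d.β_zero_comm hx, he, mul_zero, mul_one,
      add_zero] at h
    rw [map_smul, LinearMap.smul_apply, smul_eq_mul, d.ω_swap (K' c), ← hadj, d.ω_swap (K X) c]
    linear_combination h - (d.ω c (K X)) * d.β_swap x w
  have hyt : ∀ a x, y.1 (d.t a x) =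
      d.t a x + d.β v x • (d.t (K a) w + d.t (R a) v) + d.β w x • d.t (K' a) v := by
    intro a x
    have h0 : d.β v (x - d.β v x • e) = 0 := by rw [map_sub, map_smul, he, smul_eq_mul, mul_one, sub_self]
    have e1 : d.t a x = d.t a (x - d.β v x • e) + d.β v x • d.t a e := by
      rw [← map_smul, ← map_add, sub_add_cancel]
    conv_lhs => rw [e1, map_add, map_smul, hperp a _ h0, hR]
    conv_rhs => rw [e1]
    rw [map_sub (d.β w), map_smul (d.β w), hwe, smul_zero, sub_zero]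
    module
  have hyinv : ∀ a x, (y⁻¹).1 (d.t a x) =
      d.t a x - d.β v x • (d.t (K a) w + d.t (R a) v) - d.β w x • d.t (K' a) v := by
    intro a x
    refine y.1.injective ?_
    rw [orth_apply_inv_self, map_sub, map_sub, map_smul, map_smul, map_add]
    simp only [hyt, d.β_alt, hw, hwv', zero_smul, add_zero]
    abel
  -- the commutator with a root element
  refine hO.ex_of_exact hv hvw' (fun hmem => ?_)
    ⟨(d.rt w' 1)⁻¹ * (y * d.rt w' 1 * y⁻¹),
      mul_mem (inv_mem (hO.right _ _)) (mul_mem (mul_mem hy.1 (hO.right _ _)) (inv_mem hy.1)), fun a x => ?_⟩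
  · obtain ⟨k, hk⟩ := Submodule.mem_span_singleton.1 hmem
    rw [← hk, map_smul, hwv', smul_zero] at hw'
    exact zero_ne_one hw'
  refine (d.rt w' 1).1.injective ?_
  rw [orth_mul_apply, orth_apply_inv_self, orth_mul_apply, orth_mul_apply, d.rt_apply w' 1 ((y⁻¹).1 _),
    map_add, orth_apply_inv_self, one_smul, hyinv]
  simp only [map_sub, map_smul, map_add, d.Cr_t, hvw', hw', zero_smul, add_zero, smul_zero, one_smul, sub_zero,
    LinearMap.sub_apply, LinearMap.smul_apply, hyt, LinearMap.neg_apply, map_neg,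
    hzero, map_zero, LinearMap.zero_apply, LinearMap.add_apply, neg_zero, smul_neg, d.rt_apply, d.β_alt, d.β_swap x w']
  module

end pairing

end PT

end H49
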