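import Cfsg.Agent.H49.RegularNorm
import Cfsg.Agent.H49.RegularExists

set_option autoImplicit false

namespace H49

open Matrix

variable {F : Type*} [Field F] {m : ℕ}

local notation "Mat" => Matrix (Fin m ⊕ Fin m) (Fin m ⊕ Fin m) F
local notation "Sp" => Matrix.symplecticGroup (Fin m) F

theorem RegData.exists_intertwiner {U U' : Mat} (d : RegData U) (d' : RegData U') :
    ∃ P : Matˣ, (P : Mat) * U = U' * (P : Mat) := by
  let e := d.basis.equiv d'.basis (Equiv.refl _)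
  let P : Mat := LinearMap.toMatrix' e.toLinearMap
  let Q : Mat := LinearMap.toMatrix' e.symm.toLinearMap
  have hP : ∀ x, P *ᵥ x = e x := fun x => LinearMap.toMatrix'_mulVec _ _
  have hQ : ∀ x, Q *ᵥ x = e.symm x := fun x => LinearMap.toMatrix'_mulVec _ _
  have hk : ∀ k, P *ᵥ ((U - 1) ^ k *ᵥ d.v) = (U' - 1) ^ k *ᵥ d'.v := by
    intro k
    by_cases hk : k < 2 * m
    · rw [hP, ← d.basis_apply ⟨k, hk⟩, Module.Basis.equiv_apply]
      exact d'.basis_apply ⟨k, hk⟩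
    · rw [d.pow_mulVec_eq_zero (by omega), d'.pow_mulVec_eq_zero (by omega), mulVec_zero]
  have h : P * (U - 1) = (U' - 1) * P := by
    refine Matrix.ext_iff_mulVec.2 fun x => ?_
    refine LinearMap.congr_fun (f := (P * (U - 1)).mulVecLin) (g := ((U' - 1) * P).mulVecLin)
      (d.basis.ext fun i => ?_) x
    simp only [mulVecLin_apply, ← mulVec_mulVec, RegData.basis_apply]
    rw [hk i, mulVec_mulVec _ (U - 1), ← pow_succ', hk, mulVec_mulVec _ (U' - 1), ← pow_succ']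
  refine ⟨⟨P, Q, ?_, ?_⟩, ?_⟩
  · refine Matrix.ext_iff_mulVec.2 fun x => ?_
    rw [← mulVec_mulVec, hP, hQ, e.apply_symm_apply, one_mulVec]
  · refine Matrix.ext_iff_mulVec.2 fun x => ?_
    rw [← mulVec_mulVec, hP, hQ, e.symm_apply_apply, one_mulVec]
  · show P * U = U' * P
    rw [mul_sub, sub_mul, mul_one, one_mul] at h
    exact sub_left_injective h

/-- A similitude with multiplier c. -/
def simDiag (c : F) (hc : c ≠ 0) : (Matrix (Fin m ⊕ Fin m) (Fin m ⊕ Fin m) F)ˣ :=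
  ⟨fromBlocks 1 0 0 (c • 1), fromBlocks 1 0 0 (c⁻¹ • 1),
    by simp [fromBlocks_multiply, hc],
    by simp [fromBlocks_multiply, hc]⟩

theorem adjS_simDiag (c : F) (hc : c ≠ 0) :
    adjS ((simDiag (m := m) c hc : Matˣ) : Mat) * ((simDiag (m := m) c hc : Matˣ) : Mat) = c • 1 := by
  simp [adjS, simDiag, Matrix.J, fromBlocks_transpose, fromBlocks_multiply, fromBlocks_neg,
    ← fromBlocks_one, fromBlocks_smul]

/-- Exactly two classes of regular unipotent elements. -/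
theorem card_regular_classes [Finite F] (h2 : (2 : F) ≠ 0) (hm : 1 ≤ m) :
    Nat.card {C : ConjClasses Sp // ∃ u : Sp, ConjClasses.mk u = C ∧
      ((u : Mat) - 1) ^ (2 * m) = 0 ∧ ((u : Mat) - 1).rank = 2 * m - 1} = 2 := by
  classical
  letI := Fintype.ofFinite F
  have hchar : ringChar F ≠ 2 := fun e => h2 (by
    haveI := ringChar.charP F
    have h := CharP.cast_eq_zero F (ringChar F)
    rwa [e, Nat.cast_ofNat] at h)
  obtain ⟨c, hc'⟩ := FiniteField.exists_nonsquare hchar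
  have hc : c ≠ 0 := fun e => hc' (by rw [e]; exact IsSquare.zero)
  obtain ⟨u₀, hn₀, hr₀⟩ := exists_regular_unipotent F m hm
  obtain ⟨d⟩ := exists_regData hm u₀.2 hn₀ hr₀
  set D := simDiag (m := m) c hc with hD
  have hDD : adjS ((D : Matˣ) : Mat) * (D : Mat) = c • 1 := adjS_simDiag c hc
  have hDi : adjS ((D⁻¹ : Matˣ) : Mat) * ((D⁻¹ : Matˣ) : Mat) = c⁻¹ • 1 := by
    have h1 : adjS ((D : Matˣ) : Mat) = c • ((D⁻¹ : Matˣ) : Mat) := by
      calc adjS ((D : Matˣ) : Mat) = adjS ((D : Matˣ) : Mat) * (D : Mat) * ((D⁻¹ : Matˣ) : Mat) := by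
            rw [mul_assoc, Units.mul_inv, mul_one]
        _ = _ := by rw [hDD, smul_mul_assoc, one_mul]
    have h2 : ((D⁻¹ : Matˣ) : Mat) = c⁻¹ • adjS ((D : Matˣ) : Mat) := by
      rw [h1, smul_smul, inv_mul_cancel₀ hc, one_smul]
    conv_lhs => arg 2; rw [h2]
    rw [mul_smul_comm, ← adjS_mul, Units.mul_inv, adjS_one]
  let M₁ : Mat := (D : Mat) * (u₀ : Mat) * ((D⁻¹ : Matˣ) : Mat)
  have hM₁ : M₁ ∈ Sp := by
    rw [mem_sp_iff_adjS]
    calc adjS M₁ * M₁ = adjS ((D⁻¹ : Matˣ) : Mat) * (adjS (u₀ : Mat) *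
          ((adjS ((D : Matˣ) : Mat) * (D : Mat)) * ((u₀ : Mat) * ((D⁻¹ : Matˣ) : Mat)))) := by
          simp only [M₁, adjS_mul, mul_assoc]
      _ = c • (adjS ((D⁻¹ : Matˣ) : Mat) * ((adjS (u₀ : Mat) * (u₀ : Mat)) * ((D⁻¹ : Matˣ) : Mat))) := by
          rw [hDD]; simp [mul_assoc]
      _ = 1 := by rw [mem_sp_iff_adjS.1 u₀.2, one_mul, hDi, smul_smul, mul_inv_cancel₀ hc, one_smul]
  let u₁ : Sp := ⟨M₁, hM₁⟩
  have hsub : (u₁ : Mat) - 1 = (D : Mat) * ((u₀ : Mat) - 1) * ((D⁻¹ : Matˣ) : Mat) := by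
    simp [u₁, M₁, mul_sub, sub_mul]
  have hn₁ : ((u₁ : Mat) - 1) ^ (2 * m) = 0 := by
    rw [hsub, Units.conj_pow D, hn₀, mul_zero, zero_mul]
  have hr₁ : ((u₁ : Mat) - 1).rank = 2 * m - 1 := by
    rw [hsub, Matrix.rank_mul_eq_left_of_isUnit_det _ _ ((Matrix.isUnit_iff_isUnit_det _).1 (D⁻¹).isUnit),
      Matrix.rank_mul_eq_right_of_isUnit_det _ _ ((Matrix.isUnit_iff_isUnit_det _).1 D.isUnit), hr₀]
  have hsp : ∀ X : Mat, adjS X * X = 1 → X ∈ Sp := fun X h => mem_sp_iff_adjS.2 h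
  have hne : ¬ IsConj u₀ u₁ := by
    intro h
    obtain ⟨g, hg⟩ := isConj_iff.1 h
    have hg' : (g : Mat) * (u₀ : Mat) = M₁ * (g : Mat) := by
      have : g * u₀ = u₁ * g := by rw [← hg, inv_mul_cancel_right]
      exact congrArg Subtype.val this
    set X : Mat := ((D⁻¹ : Matˣ) : Mat) * (g : Mat) with hX
    have hXU : X * (u₀ : Mat) = (u₀ : Mat) * X := by
      rw [hX, mul_assoc, hg']
      simp only [M₁, ← mul_assoc, Units.inv_mul, one_mul]
    have hXX : adjS X * X = c⁻¹ • 1 := by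
      rw [hX, adjS_mul, mul_assoc, ← mul_assoc (adjS ((D⁻¹ : Matˣ) : Mat)), hDi, smul_mul_assoc,
        one_mul, mul_smul_comm, mem_sp_iff_adjS.1 g.2]
    have := congrArg d.eps hXX
    rw [d.eps_mul (d.adjS_comm hXU) hXU, d.eps_adjS hXU, map_smul, d.eps_one, smul_eq_mul, mul_one] at this
    exact hc' (by rw [← inv_inv c, ← this]; exact IsSquare.inv (IsSquare.mul_self _))
  have hall : ∀ u : Sp, ((u : Mat) - 1) ^ (2 * m) = 0 → ((u : Mat) - 1).rank = 2 * m - 1 →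
      IsConj u₀ u ∨ IsConj u₁ u := by
    intro u hn hr
    obtain ⟨d'⟩ := exists_regData hm u.2 hn hr
    obtain ⟨P, hP⟩ := d.exists_intertwiner d'
    set C : Mat := adjS (P : Mat) * (P : Mat) with hC
    have hCU : C * (u₀ : Mat) = (u₀ : Mat) * C := by
      have h1 : adjS (P : Mat) * adjS (u : Mat) = adjS (u₀ : Mat) * adjS (P : Mat) := by
        rw [← adjS_mul, ← adjS_mul, hP]
      have h2 : adjS (P : Mat) = adjS (u₀ : Mat) * adjS (P : Mat) * (u : Mat) := by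
        rw [← h1, mul_assoc, mem_sp_iff_adjS.1 u.2, mul_one]
      have h3 : (u₀ : Mat) * adjS (P : Mat) = adjS (P : Mat) * (u : Mat) := by
        conv_lhs => rw [h2]
        rw [← mul_assoc, ← mul_assoc, mem_sp_iff_adjS'.1 u₀.2, one_mul]
      rw [hC, mul_assoc, hP, ← mul_assoc, ← mul_assoc, h3]
    have hCa : adjS C = C := by rw [hC, adjS_mul, adjS_adjS]
    have hCu : IsUnit C :=
      IsUnit.mul ⟨⟨adjS (P : Mat), adjS ((P⁻¹ : Matˣ) : Mat), by rw [← adjS_mul, Units.inv_mul, adjS_one],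
        by rw [← adjS_mul, Units.mul_inv, adjS_one]⟩, rfl⟩ P.isUnit
    -- build the conjugating element from a norm
    have key : ∀ (X : Matˣ) (s : F), (X : Mat) * (u₀ : Mat) = (u₀ : Mat) * (X : Mat) →
        adjS (X : Mat) * (X : Mat) = s • C →
        adjS (((P * X⁻¹ : Matˣ)) : Mat) * ((P * X⁻¹ : Matˣ) : Mat) * (s • 1) = 1 ∧
        ((P * X⁻¹ : Matˣ) : Mat) * (u₀ : Mat) = (u : Mat) * ((P * X⁻¹ : Matˣ) : Mat) := by
      intro X s hXc hXn
      constructor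
      · rw [mul_smul_comm, mul_one, Units.val_mul, adjS_mul, mul_assoc, ← mul_assoc (adjS (P : Mat)),
          ← hC, ← mul_smul_comm, ← smul_mul_assoc, ← hXn, mul_assoc (adjS (X : Mat)),
          Units.mul_inv, mul_one, ← adjS_mul, Units.mul_inv, adjS_one]
      · rw [Units.val_mul, mul_assoc, (Commute.units_inv_left (show Commute (X : Mat) (u₀ : Mat) from hXc)).eq,
          ← mul_assoc, hP, mul_assoc]
    by_cases hsq : IsSquare (d.eps C)
    · left
      obtain ⟨X, hXu, hXc, hXn⟩ := d.exists_norm_eq h2 hCU hCa hCu hsq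
      obtain ⟨w, rfl⟩ := hXu
      obtain ⟨h3, h4⟩ := key w 1 hXc (by rw [one_smul]; exact hXn)
      rw [one_smul, mul_one] at h3
      refine isConj_iff.2 ⟨⟨_, hsp _ h3⟩, ?_⟩
      rw [mul_inv_eq_iff_eq_mul]
      exact Subtype.ext h4
    · right
      have hce : IsSquare (d.eps (c⁻¹ • C)) := by
        rw [map_smul, smul_eq_mul]
        have he0 : d.eps C ≠ 0 := (d.isUnit_iff hCU).1 hCu
        have h5 := (quadraticChar_neg_one_iff_not_isSquare).2 hsq
        have h6 : ¬ IsSquare c⁻¹ := fun h => hc' (by simpa using h.inv)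
        have h7 := (quadraticChar_neg_one_iff_not_isSquare).2 h6
        rw [← quadraticChar_one_iff_isSquare (mul_ne_zero (inv_ne_zero hc) he0), map_mul, h5, h7]
        norm_num
      obtain ⟨X, hXu, hXc, hXn⟩ := d.exists_norm_eq h2 (by rw [smul_mul_assoc, hCU, mul_smul_comm])
        (by rw [adjS_smul, hCa]) (by
          obtain ⟨w, hw⟩ := hCu
          exact ⟨⟨c⁻¹ • C, c • ((w⁻¹ : Matˣ) : Mat),
            by rw [← hw]; simp [hc], by rw [← hw]; simp [hc]⟩, rfl⟩) hce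
      obtain ⟨w, rfl⟩ := hXu
      obtain ⟨h3, h4⟩ := key w c⁻¹ hXc hXn
      rw [mul_smul_comm, mul_one] at h3
      have h8 : adjS ((P * w⁻¹ : Matˣ) : Mat) * ((P * w⁻¹ : Matˣ) : Mat) = c • 1 := by
        rw [← h3, smul_smul, mul_inv_cancel₀ hc, one_smul]
      refine isConj_iff.2 ⟨⟨((P * w⁻¹ * D⁻¹ : Matˣ) : Mat), hsp _ ?_⟩, ?_⟩
      · rw [Units.val_mul (P * w⁻¹) D⁻¹, adjS_mul, mul_assoc, ← mul_assoc (adjS ((P * w⁻¹ : Matˣ) : Mat)),
          h8, smul_mul_assoc, one_mul, mul_smul_comm, hDi, smul_smul, mul_inv_cancel₀ hc, one_smul]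
      · rw [mul_inv_eq_iff_eq_mul]
        refine Subtype.ext ?_
        show ((P * w⁻¹ * D⁻¹ : Matˣ) : Mat) * M₁ = (u : Mat) * ((P * w⁻¹ * D⁻¹ : Matˣ) : Mat)
        rw [Units.val_mul (P * w⁻¹) D⁻¹, ← mul_assoc (u : Mat), ← h4]
        simp only [M₁, mul_assoc]
        simp only [← mul_assoc ((D⁻¹ : Matˣ) : Mat) (D : Mat), Units.inv_mul, one_mul]
  rw [Nat.card_eq_two_iff]
  refine ⟨⟨ConjClasses.mk u₀, u₀, rfl, hn₀, hr₀⟩, ⟨ConjClasses.mk u₁, u₁, rfl, hn₁, hr₁⟩, ?_, ?_⟩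
  · exact fun h => hne (ConjClasses.mk_eq_mk_iff_isConj.1 (congrArg Subtype.val h))
  · refine Set.eq_univ_of_forall ?_
    rintro ⟨C, u, rfl, hn, hr⟩
    rcases hall u hn hr with h | h
    · exact Or.inl (Subtype.ext (ConjClasses.mk_eq_mk_iff_isConj.2 h.symm))
    · exact Or.inr (Subtype.ext (ConjClasses.mk_eq_mk_iff_isConj.2 h.symm))

end H49
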