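import Cfsg.Agent.H49.RegularUnipotent

set_option autoImplicit false

namespace H49

open Matrix

variable {F : Type*} [Field F] [Finite F] {m : ℕ}
variable {U : Matrix (Fin m ⊕ Fin m) (Fin m ⊕ Fin m) F} (d : RegData U)

local notation "Mat" => Matrix (Fin m ⊕ Fin m) (Fin m ⊕ Fin m) F

/-- Counting vectors with non-zero value of a functional. -/
theorem card_compl_ker_mul {W : Type*} [AddCommGroup W] [Module F W] [FiniteDimensional F W]
    (φ : W →ₗ[F] F) (hφ : φ ≠ 0) :
    Nat.card F * Nat.card {w : W // φ w ≠ 0} = (Nat.card F - 1) * Nat.card F ^ Module.finrank F W := by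
  classical
  haveI := Module.finite_of_finite F (M := W)
  have h1 : Nat.card (LinearMap.ker φ) + Nat.card {w : W // φ w ≠ 0} = Nat.card W := by
    rw [← Nat.card_sum]
    exact Nat.card_congr (Equiv.sumCompl (fun w => φ w = 0))
  have hr : Module.finrank F (LinearMap.ker φ) + 1 = Module.finrank F W := by
    have h3 := φ.finrank_range_add_finrank_ker
    have h2 : LinearMap.range φ = ⊤ := by
      refine (eq_or_ne (LinearMap.range φ) ⊥).elim (fun e => absurd (LinearMap.range_eq_bot.1 e) hφ) fun e => ?_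
      exact (IsSimpleOrder.eq_bot_or_eq_top (α := Submodule F F) _).resolve_left e
    rw [h2, finrank_top, Module.finrank_self] at h3
    omega
  rw [Module.natCard_eq_pow_finrank (K := F) (V := LinearMap.ker φ),
    Module.natCard_eq_pow_finrank (K := F) (V := W), ← hr, pow_succ] at h1
  rw [← hr, pow_succ]
  have hq : 1 ≤ Nat.card F := Nat.card_pos
  zify [hq] at h1 ⊢
  linear_combination (Nat.card F : ℤ) * h1

namespace RegData

/-- Units of the commutant. -/
def unitGrp (_d : RegData U) : Subgroup (Matrix (Fin m ⊕ Fin m) (Fin m ⊕ Fin m) F)ˣ where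
  carrier := {g | (g : Mat) * U = U * (g : Mat)}
  mul_mem' {a b} ha hb := show ((a * b : Matˣ) : Mat) * U = U * ((a * b : Matˣ) : Mat) by
    rw [Units.val_mul, mul_assoc, show (b : Mat) * U = U * (b : Mat) from hb, ← mul_assoc,
      show (a : Mat) * U = U * (a : Mat) from ha, mul_assoc]
  one_mem' := by simp
  inv_mem' {a} ha := (Commute.units_inv_left (show Commute (a : Mat) U from ha)).eq

theorem mem_unitGrp {g : Matˣ} : g ∈ d.unitGrp ↔ (g : Mat) * U = U * (g : Mat) := Iff.rfl

/-- The adjoint of a unit. -/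
def adjUnit (g : Matˣ) : Matˣ :=
  ⟨adjS (g : Mat), adjS ((g⁻¹ : Matˣ) : Mat), by rw [← adjS_mul, Units.inv_mul, adjS_one],
    by rw [← adjS_mul, Units.mul_inv, adjS_one]⟩

theorem unitGrp_comm (a b : d.unitGrp) : a * b = b * a :=
  Subtype.ext (Units.ext (d.comm a.2 b.2))

/-- The norm map g ↦ adj(g) g on the units of the commutant. -/
noncomputable def normHom : d.unitGrp →* d.unitGrp :=
  MonoidHom.mk' (fun g => ⟨adjUnit (g : Matˣ) * g, d.unitGrp.mul_mem (d.adjS_comm g.2) g.2⟩)
    fun a b => Subtype.ext (Units.ext (by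
      show adjS (((a : Matˣ) : Mat) * ((b : Matˣ) : Mat)) * (((a : Matˣ) : Mat) * ((b : Matˣ) : Mat)) =
        adjS ((a : Matˣ) : Mat) * ((a : Matˣ) : Mat) * (adjS ((b : Matˣ) : Mat) * ((b : Matˣ) : Mat))
      rw [adjS_mul, d.comm (d.adjS_comm b.2) (d.adjS_comm a.2), mul_assoc, mul_assoc]
      congr 1
      rw [← mul_assoc, ← mul_assoc, d.comm (d.adjS_comm b.2) a.2]))

theorem normHom_val (g : d.unitGrp) :
    (((d.normHom g) : Matˣ) : Mat) = adjS ((g : Matˣ) : Mat) * ((g : Matˣ) : Mat) := rfl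

/-- The self-adjoint units of the commutant. -/
def fixGrp : Subgroup d.unitGrp where
  carrier := {g | adjS ((g : Matˣ) : Mat) = ((g : Matˣ) : Mat)}
  mul_mem' {a b} ha hb := by
    show adjS (((a : Matˣ) : Mat) * ((b : Matˣ) : Mat)) = ((a : Matˣ) : Mat) * ((b : Matˣ) : Mat)
    rw [adjS_mul, show adjS ((a : Matˣ) : Mat) = _ from ha, show adjS ((b : Matˣ) : Mat) = _ from hb]
    exact d.comm b.2 a.2
  one_mem' := adjS_one
  inv_mem' {a} ha := by
    show adjS (((a : Matˣ)⁻¹ : Matˣ) : Mat) = (((a : Matˣ)⁻¹ : Matˣ) : Mat)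
    refine (Units.inv_eq_of_mul_eq_one_left ?_).symm
    have h : adjS ((a : Matˣ) : Mat) = ((a : Matˣ) : Mat) := ha
    conv_lhs => arg 2; rw [← h]
    rw [← adjS_mul, Units.mul_inv, adjS_one]

theorem eps_ne_zero (g : d.unitGrp) : d.eps ((g : Matˣ) : Mat) ≠ 0 :=
  (d.isUnit_iff g.2).1 (g : Matˣ).isUnit

theorem eps_ne_zero_of_one : d.eps ≠ 0 := fun h => by
  have := d.eps_one
  rw [h] at this
  exact zero_ne_one this

theorem card_unitGrp : Nat.card F * Nat.card d.unitGrp = (Nat.card F - 1) * Nat.card F ^ (2 * m) := by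
  have e : d.unitGrp ≃ {X : d.R // (d.eps.comp d.R.subtype) X ≠ 0} :=
    { toFun := fun g => ⟨⟨_, g.2⟩, d.eps_ne_zero g⟩
      invFun := fun X => ⟨((d.isUnit_iff X.1.2).2 X.2).unit, X.1.2⟩
      left_inv := fun g => Subtype.ext (Units.ext rfl)
      right_inv := fun X => rfl }
  rw [Nat.card_congr e, card_compl_ker_mul, d.finrank_R]
  intro h
  have := LinearMap.congr_fun h ⟨1, show (1 : Mat) * U = U * 1 by simp⟩
  exact one_ne_zero (d.eps_one.symm.trans this)

theorem card_fixGrp (h2 : (2 : F) ≠ 0) :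
    Nat.card F * Nat.card d.fixGrp = (Nat.card F - 1) * Nat.card F ^ m := by
  have hh : ∀ g : d.fixGrp, (((g : d.unitGrp) : Matˣ) : Mat) ∈ d.part 1 := fun g =>
    ⟨(g : d.unitGrp).2, by rw [one_smul]; exact g.2⟩
  have e : d.fixGrp ≃ {X : d.part 1 // (d.eps.comp (d.part 1).subtype) X ≠ 0} :=
    { toFun := fun g => ⟨⟨_, hh g⟩, d.eps_ne_zero g⟩
      invFun := fun X => ⟨⟨((d.isUnit_iff X.1.2.1).2 X.2).unit, X.1.2.1⟩,
        show adjS (X.1 : Mat) = (X.1 : Mat) by rw [X.1.2.2, one_smul]⟩
      left_inv := fun g => Subtype.ext (Subtype.ext (Units.ext rfl))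
      right_inv := fun X => rfl }
  rw [Nat.card_congr e, card_compl_ker_mul, d.finrank_part h2]
  intro h
  have := LinearMap.congr_fun h ⟨1, by simp, by simp [adjS_one]⟩
  exact one_ne_zero (d.eps_one.symm.trans this)

theorem eps_norm (g : d.unitGrp) :
    d.eps ((d.normHom g : Matˣ) : Mat) = d.eps ((g : Matˣ) : Mat) ^ 2 := by
  rw [normHom_val, d.eps_mul (d.adjS_comm g.2) g.2, d.eps_adjS g.2, sq]

theorem norm_range_le : d.normHom.range ≤ d.fixGrp := by
  rintro _ ⟨g, rfl⟩
  show adjS ((d.normHom g : Matˣ) : Mat) = _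
  rw [normHom_val, adjS_mul, adjS_adjS]

/-- The image of the norm is the set of self-adjoint units with square constant term. -/
theorem two_mul_card_range (h2 : (2 : F) ≠ 0) :
    2 * Nat.card d.normHom.range = Nat.card d.fixGrp := by
  classical
  letI := Fintype.ofFinite F
  haveI : Finite d.unitGrp := inferInstance
  let sq : d.fixGrp →* d.unitGrp := d.normHom.comp d.fixGrp.subtype
  have hsq : ∀ g : d.fixGrp, ((sq g : Matˣ) : Mat) = (((g : d.unitGrp) : Matˣ) : Mat) * (((g : d.unitGrp) : Matˣ) : Mat) := by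
    intro g
    show adjS (((g : d.unitGrp) : Matˣ) : Mat) * (((g : d.unitGrp) : Matˣ) : Mat) = _
    rw [show adjS (((g : d.unitGrp) : Matˣ) : Mat) = _ from g.2]
  have hker : Nat.card sq.ker ≤ 2 := by
    let f : sq.ker → F := fun g => d.eps ((((g : d.fixGrp) : d.unitGrp) : Matˣ) : Mat)
    have hpm : ∀ g : sq.ker, ((((g : d.fixGrp) : d.unitGrp) : Matˣ) : Mat) = f g • (1 : Mat) ∧ f g * f g = 1 := by
      intro g
      set X : Mat := ((((g : d.fixGrp) : d.unitGrp) : Matˣ) : Mat)
      have hX : X * U = U * X := ((g : d.fixGrp) : d.unitGrp).2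
      have hXX : X * X = 1 := by
        rw [← hsq]
        exact congrArg (fun z : d.unitGrp => ((z : Matˣ) : Mat)) g.2
      have he : f g * f g = 1 := by rw [← d.eps_mul hX hX, hXX, d.eps_one]
      refine ⟨?_, he⟩
      have hu : IsUnit (X + f g • (1 : Mat)) := by
        refine (d.isUnit_iff (by simp [add_mul, mul_add, hX])).2 ?_
        rw [map_add, map_smul, d.eps_one, smul_eq_mul, mul_one]
        show f g + f g ≠ 0
        rw [← two_mul]
        exact mul_ne_zero h2 (left_ne_zero_of_mul_eq_one he)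
      have h0 : (X + f g • (1 : Mat)) * (X - f g • (1 : Mat)) = 0 := by
        simp [add_mul, mul_sub, hXX, smul_sub, smul_smul, he, add_comm]
      rw [← sub_eq_zero]
      obtain ⟨w, hw⟩ := hu
      rw [← hw] at h0
      exact (Units.mul_right_eq_zero w).1 h0
    have hinj : Function.Injective f := fun a b h =>
      Subtype.ext (Subtype.ext (Subtype.ext (Units.ext (by rw [(hpm a).1, (hpm b).1, h]))))
    have hsub : Set.range f ⊆ ({1, -1} : Set F) := by
      rintro _ ⟨g, rfl⟩
      exact mul_self_eq_one_iff.1 (hpm g).2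
    rw [← Nat.card_range_of_injective hinj]
    refine le_trans (Nat.card_mono (Set.toFinite _) hsub) ?_
    rw [Nat.card_coe_set_eq]
    exact le_trans (Set.ncard_insert_le _ _) (by rw [Set.ncard_singleton])
  have hc := Subgroup.card_eq_card_quotient_mul_card_subgroup sq.ker
  rw [Nat.card_congr (QuotientGroup.quotientKerEquivRange sq).toEquiv] at hc
  have hle : Nat.card sq.range ≤ Nat.card d.normHom.range :=
    Nat.card_le_card_of_injective (Subgroup.inclusion (show sq.range ≤ d.normHom.range by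
      rintro _ ⟨x, rfl⟩; exact ⟨_, rfl⟩)) (Subgroup.inclusion_injective _)
  obtain ⟨k, hk⟩ := Subgroup.card_dvd_of_le d.norm_range_le
  have hne : Nat.card d.normHom.range ≠ Nat.card d.fixGrp := by
    intro heq
    have hEq : d.normHom.range = d.fixGrp :=
      Subgroup.eq_of_le_of_card_ge d.norm_range_le heq.ge
    have hchar : ringChar F ≠ 2 := fun e => h2 (by
      haveI := ringChar.charP F
      have h := CharP.cast_eq_zero F (ringChar F)
      rwa [e, Nat.cast_ofNat] at h)
    obtain ⟨c, hc'⟩ := FiniteField.exists_nonsquare hchar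
    have hc0 : c ≠ 0 := fun e => hc' (by rw [e]; exact IsSquare.zero)
    let g : Matˣ := ⟨c • 1, c⁻¹ • 1, by simp [hc0], by simp [hc0]⟩
    let g' : d.unitGrp := ⟨g, show (c • (1 : Mat)) * U = U * (c • (1 : Mat)) by simp⟩
    have hg : g' ∈ d.normHom.range := by
      rw [hEq]; exact adjS_scalar c
    obtain ⟨x, hx⟩ := hg
    apply hc'
    have h3 := d.eps_norm x
    rw [hx] at h3
    refine ⟨d.eps ((x : Matˣ) : Mat), ?_⟩
    rw [← pow_two, ← h3]
    show c = d.eps (c • (1 : Mat))
    rw [map_smul, d.eps_one, smul_eq_mul, mul_one]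
  have hk2 : 2 ≤ k := by
    rcases k with _ | _ | k
    · exact absurd (hk.trans (mul_zero _)) Nat.card_pos.ne'
    · exact absurd (hk.trans (mul_one _)).symm hne
    · omega
  have h4 : 0 < Nat.card sq.range := Nat.card_pos
  rw [hk]
  rw [hk] at hc
  have h5 : Nat.card d.normHom.range * k ≤ Nat.card d.normHom.range * 2 :=
    le_trans hc.le (Nat.mul_le_mul hle hker)
  have h6 : k ≤ 2 := Nat.le_of_mul_le_mul_left h5 (Nat.card_pos)
  rw [show k = 2 by omega, mul_comm]

theorem card_norm_ker (h2 : (2 : F) ≠ 0) : Nat.card d.normHom.ker = 2 * Nat.card F ^ m := by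
  haveI : Finite d.unitGrp := inferInstance
  have hc := Subgroup.card_eq_card_quotient_mul_card_subgroup d.normHom.ker
  rw [Nat.card_congr (QuotientGroup.quotientKerEquivRange d.normHom).toEquiv] at hc
  have h3 := d.two_mul_card_range h2
  have h4 := d.card_fixGrp h2
  have h5 := d.card_unitGrp
  have hR : 0 < Nat.card d.normHom.range := Nat.card_pos
  have hq : 0 < Nat.card F := Nat.card_pos
  rw [← h3] at h4
  rw [hc] at h5
  refine Nat.eq_of_mul_eq_mul_left (Nat.mul_pos hq hR) ?_
  calc Nat.card F * Nat.card d.normHom.range * Nat.card d.normHom.ker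
      = (Nat.card F - 1) * Nat.card F ^ (2 * m) := by rw [← h5]; ring
    _ = (Nat.card F - 1) * Nat.card F ^ m * Nat.card F ^ m := by rw [two_mul, pow_add]; ring
    _ = Nat.card F * (2 * Nat.card d.normHom.range) * Nat.card F ^ m := by rw [h4]
    _ = Nat.card F * Nat.card d.normHom.range * (2 * Nat.card F ^ m) := by ring

/-- Self-adjoint units with square constant term are norms. -/
theorem exists_norm_eq (h2 : (2 : F) ≠ 0) {C : Mat} (hC : C * U = U * C) (hCa : adjS C = C)
    (hCu : IsUnit C) (hsq : IsSquare (d.eps C)) :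
    ∃ X : Mat, IsUnit X ∧ X * U = U * X ∧ adjS X * X = C := by
  classical
  haveI : Finite d.unitGrp := inferInstance
  let c : d.fixGrp := ⟨⟨hCu.unit, hC⟩, hCa⟩
  let χ : d.fixGrp →* F :=
    { toFun := fun g => d.eps (((g : d.unitGrp) : Matˣ) : Mat)
      map_one' := d.eps_one
      map_mul' := fun a b => d.eps_mul (a : d.unitGrp).2 (b : d.unitGrp).2 }
  let S : Subgroup d.fixGrp :=
    { carrier := {g | IsSquare (χ g)}
      mul_mem' := fun {a b} ha hb => by
        show IsSquare (χ (a * b))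
        rw [map_mul]; exact IsSquare.mul ha hb
      one_mem' := by show IsSquare (χ 1); rw [map_one]; exact IsSquare.one
      inv_mem' := fun {a} ha => by
        obtain ⟨r, hr⟩ := ha
        show IsSquare (χ a⁻¹)
        refine ⟨r⁻¹, ?_⟩
        rw [← mul_inv, ← hr]
        exact eq_inv_of_mul_eq_one_left (by rw [← map_mul, inv_mul_cancel, map_one]) }
  let I : Subgroup d.fixGrp := d.normHom.range.subgroupOf d.fixGrp
  have hIS : I ≤ S := by
    rintro g ⟨x, hx⟩
    show IsSquare (d.eps _)
    have h := d.eps_norm x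
    rw [hx] at h
    exact ⟨_, h.trans (sq _)⟩
  have hIcard : 2 * Nat.card I = Nat.card d.fixGrp := by
    rw [Nat.card_congr (Subgroup.subgroupOfEquivOfLe d.norm_range_le).toEquiv,
      d.two_mul_card_range h2]
  have hS : S ≠ ⊤ := by
    intro e
    letI := Fintype.ofFinite F
    have hchar : ringChar F ≠ 2 := fun e => h2 (by
      haveI := ringChar.charP F
      have h := CharP.cast_eq_zero F (ringChar F)
      rwa [e, Nat.cast_ofNat] at h)
    obtain ⟨a, ha⟩ := FiniteField.exists_nonsquare hchar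
    have ha0 : a ≠ 0 := fun e => ha (by rw [e]; exact IsSquare.zero)
    let g : Matˣ := ⟨a • 1, a⁻¹ • 1, by simp [ha0], by simp [ha0]⟩
    have hg : (⟨⟨g, show (a • (1 : Mat)) * U = U * (a • (1 : Mat)) by simp⟩, adjS_scalar a⟩ : d.fixGrp) ∈ S := by
      rw [e]; trivial
    apply ha
    have : IsSquare (d.eps (a • (1 : Mat))) := hg
    rwa [map_smul, d.eps_one, smul_eq_mul, mul_one] at this
  have heq : I = S := by
    refine Subgroup.eq_of_le_of_card_ge hIS ?_
    obtain ⟨k, hk⟩ := Subgroup.card_subgroup_dvd_card S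
    have : 2 ≤ k := by
      rcases k with _ | _ | k
      · exact absurd (hk.trans (mul_zero _)) Nat.card_pos.ne'
      · exact absurd (Subgroup.eq_top_of_card_eq S (hk.trans (mul_one _)).symm) hS
      · omega
    have : 2 * Nat.card S ≤ Nat.card d.fixGrp := by rw [hk]; nlinarith
    omega
  have hc : c ∈ I := by rw [heq]; exact hsq
  obtain ⟨x, hx⟩ := hc
  exact ⟨_, (x : Matˣ).isUnit, x.2,
    (d.normHom_val x).symm.trans (congrArg (fun z : d.unitGrp => ((z : Matˣ) : Mat)) hx)⟩

end RegData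

end H49
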