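import Cfsg.Agent.H49.SubfieldMax

/-!
The exceptional endomorphism of Sp₄ in characteristic two, by two by two minors.
-/

set_option autoImplicit false

namespace H49

open Matrix
open H48 (sf tv)

variable {F : Type*} [Field F]

local notation "ι" => (Fin 2 ⊕ Fin 2)
local notation "Sp" => Matrix.symplecticGroup (Fin 2) F

/-- The first coordinate of the four isotropic coordinate pairs. -/
def pfst : Fin 2 ⊕ Fin 2 → Fin 2 ⊕ Fin 2 :=
  Sum.elim ![Sum.inl 0, Sum.inl 0] ![Sum.inr 0, Sum.inl 1]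

/-- The second coordinate of the four isotropic coordinate pairs. -/
def psnd : Fin 2 ⊕ Fin 2 → Fin 2 ⊕ Fin 2 :=
  Sum.elim ![Sum.inl 1, Sum.inr 1] ![Sum.inr 1, Sum.inr 0]

/-- A two by two minor. -/
def minorTwo (A : Matrix (Fin 2 ⊕ Fin 2) (Fin 2 ⊕ Fin 2) F) (a b c d : Fin 2 ⊕ Fin 2) : F :=
  A a c * A b d - A a d * A b c

/-- The matrix of two by two minors on isotropic coordinate pairs. -/
def tauMat (A : Matrix (Fin 2 ⊕ Fin 2) (Fin 2 ⊕ Fin 2) F) : Matrix (Fin 2 ⊕ Fin 2) (Fin 2 ⊕ Fin 2) F :=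
  Matrix.of fun p q => minorTwo A (pfst p) (psnd p) (pfst q) (psnd q)

theorem pfst_inl_zero : pfst (Sum.inl 0) = Sum.inl 0 := rfl
theorem pfst_inl_one : pfst (Sum.inl 1) = Sum.inl 0 := rfl
theorem pfst_inr_zero : pfst (Sum.inr 0) = Sum.inr 0 := rfl
theorem pfst_inr_one : pfst (Sum.inr 1) = Sum.inl 1 := rfl
theorem psnd_inl_zero : psnd (Sum.inl 0) = Sum.inl 1 := rfl
theorem psnd_inl_one : psnd (Sum.inl 1) = Sum.inr 1 := rfl
theorem psnd_inr_zero : psnd (Sum.inr 0) = Sum.inr 1 := rfl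
theorem psnd_inr_one : psnd (Sum.inr 1) = Sum.inr 0 := rfl

theorem hpair_pfst_ne (p : ι) : hpair (pfst p) ≠ hpair (psnd p) := by revert p; decide

theorem tauMat_one : tauMat (1 : Matrix ι ι F) = 1 := by
  ext p q
  simp only [tauMat, of_apply, minorTwo, one_apply]
  rcases p with p | p <;> rcases q with q | q <;> fin_cases p <;> fin_cases q <;> simp [pfst, psnd]

theorem sf_fin_two (u v : ι → F) : sf u v =
    u (Sum.inr 0) * v (Sum.inl 0) - u (Sum.inl 0) * v (Sum.inr 0) +
      (u (Sum.inr 1) * v (Sum.inl 1) - u (Sum.inl 1) * v (Sum.inr 1)) := by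
  rw [H48.sf_apply, Fin.sum_univ_two]

/-- The column relations of a symplectic matrix. -/
theorem col_rel (g : Sp) {c d : ι} (h : hpair c ≠ hpair d) :
    minorTwo (g : Matrix ι ι F) (Sum.inl 0) (Sum.inr 0) c d +
      minorTwo (g : Matrix ι ι F) (Sum.inl 1) (Sum.inr 1) c d = 0 := by
  have e : ∀ i j, (g • uvec (F := F) j) i = (g : Matrix ι ι F) i j := fun i j => by
    rw [H48.spSmulDef, uvec, mulVec_single_one]
    rfl
  have := H48.sf_smul_smul g (uvec (F := F) c) (uvec d)
  rw [sf_uvec_uvec_eq_zero h, sf_fin_two] at this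
  simp only [e] at this
  simp only [minorTwo]
  linear_combination -this

theorem tauMat_mul (h2 : (2 : F) = 0) (g h : Sp) :
    tauMat ((g : Matrix ι ι F) * (h : Matrix ι ι F)) =
      tauMat (g : Matrix ι ι F) * tauMat (h : Matrix ι ι F) := by
  ext p q
  have hy := col_rel h (hpair_pfst_ne q)
  have hx := col_rel (⟨_, SymplecticGroup.transpose_mem g.2⟩ : Sp) (hpair_pfst_ne p)
  rw [Matrix.mul_apply, Fintype.sum_sum_type, Fin.sum_univ_two, Fin.sum_univ_two]
  simp only [tauMat, of_apply, minorTwo, Matrix.transpose_apply] at hx hy ⊢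
  simp only [pfst_inl_zero, pfst_inl_one, pfst_inr_zero, pfst_inr_one, psnd_inl_zero, psnd_inl_one,
    psnd_inr_zero, psnd_inr_one, Matrix.mul_apply, Fintype.sum_sum_type, Fin.sum_univ_two] at hx hy ⊢
  set G := (g : Matrix ι ι F)
  set H := (h : Matrix ι ι F)
  set a := pfst p
  set b := psnd p
  set c := pfst q
  set d := psnd q
  linear_combination hx * (H (Sum.inl 1) c * H (Sum.inr 1) d - H (Sum.inl 1) d * H (Sum.inr 1) c) -
    (G a (Sum.inl 0) * G b (Sum.inr 0) - G b (Sum.inl 0) * G a (Sum.inr 0)) * hy +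
    (G a (Sum.inl 0) * G b (Sum.inr 0) - G b (Sum.inl 0) * G a (Sum.inr 0)) *
      (H (Sum.inl 0) c * H (Sum.inr 0) d - H (Sum.inl 0) d * H (Sum.inr 0) c) * h2

theorem tv_apply (v : ι → F) (c : F) (i j : ι) :
    (tv v c : Matrix ι ι F) i j = (if i = j then 1 else 0) + c * (-usign j * v j.swap) * v i := by
  have h : (tv v c : Matrix ι ι F) i j = (tv v c • uvec (F := F) j) i := by
    rw [H48.spSmulDef, uvec, mulVec_single_one]
    rfl
  rw [h, H48.tv_smul, Pi.add_apply, Pi.smul_apply, smul_eq_mul, H48.sf_swap v (uvec j), sf_uvec]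
  simp only [uvec, Pi.single_apply]
  rcases j with j | j <;> simp [usign] <;> ring

theorem tauMat_tv_mem [CharP F 2] (v : ι → F) (c : F) : tauMat (tv v c : Matrix ι ι F) ∈ Sp := by
  have h2 : (2 : F) = 0 := CharP.cast_eq_zero F 2
  rw [SymplecticGroup.mem_iff']
  ext i j
  simp only [Matrix.mul_apply, Matrix.transpose_apply, Fintype.sum_sum_type, Fin.sum_univ_two,
    tauMat, of_apply, minorTwo, tv_apply, Matrix.J]
  rcases i with i | i <;> rcases j with j | j <;> fin_cases i <;> fin_cases j <;>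
    simp [pfst, psnd, usign] <;> grind

theorem tauMat_tauMat_tv [CharP F 2] (v : ι → F) (c : F) :
    tauMat (tauMat (tv v c : Matrix ι ι F)) = (tv v c : Matrix ι ι F).map (fun x => x ^ 2) := by
  have h2 : (2 : F) = 0 := CharP.cast_eq_zero F 2
  ext i j
  simp only [tauMat, of_apply, minorTwo, tv_apply, Matrix.map_apply]
  rcases i with i | i <;> rcases j with j | j <;> fin_cases i <;> fin_cases j <;>
    simp [pfst, psnd, usign] <;> grind

theorem tauMat_mem [CharP F 2] [Finite F] (g : Sp) : tauMat (g : Matrix ι ι F) ∈ Sp := by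
  have h2 : (2 : F) = 0 := CharP.cast_eq_zero F 2
  have hg : g ∈ H48.transGroup (Fin 2) F := by rw [H48.transGroup_eq_top]; trivial
  rw [H48.transGroup, H48.transSet_eq] at hg
  refine Subgroup.closure_induction (p := fun (g : Sp) _ => tauMat (g : Matrix ι ι F) ∈ Sp) ?_ ?_ ?_ ?_ hg
  · rintro _ ⟨w, c, rfl⟩
    exact tauMat_tv_mem w c
  · show tauMat (1 : Matrix ι ι F) ∈ Sp
    rw [tauMat_one]
    exact one_mem _
  · intro a b _ _ ha hb
    show tauMat ((a : Matrix ι ι F) * (b : Matrix ι ι F)) ∈ Sp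
    rw [tauMat_mul h2]
    exact Submonoid.mul_mem _ ha hb
  · intro a _ ha
    have h1 : tauMat ((a⁻¹ : Sp) : Matrix ι ι F) * tauMat (a : Matrix ι ι F) = 1 := by
      rw [← tauMat_mul h2]
      show tauMat ((a⁻¹ * a : Sp) : Matrix ι ι F) = 1
      rw [inv_mul_cancel]
      exact tauMat_one
    have h3 := congrArg Subtype.val (mul_inv_cancel (⟨_, ha⟩ : Sp))
    rw [left_inv_eq_right_inv h1 h3]
    exact SetLike.coe_mem _

/-- The exceptional endomorphism. -/
def tauHom [CharP F 2] [Finite F] : Sp →* Sp :=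
  MonoidHom.mk' (fun g => ⟨tauMat (g : Matrix ι ι F), tauMat_mem g⟩) fun g h =>
    Subtype.ext (tauMat_mul (CharP.cast_eq_zero F 2) g h)

theorem coe_tauHom [CharP F 2] [Finite F] (g : Sp) :
    ((tauHom g : Sp) : Matrix ι ι F) = tauMat (g : Matrix ι ι F) := rfl

/-- Its square is the Frobenius. -/
theorem tauHom_tauHom [CharP F 2] [Finite F] (g : Sp) :
    ((tauHom (tauHom g) : Sp) : Matrix ι ι F) = (g : Matrix ι ι F).map (fun x => x ^ 2) := by
  have hg : g ∈ H48.transGroup (Fin 2) F := by rw [H48.transGroup_eq_top]; trivial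
  rw [H48.transGroup, H48.transSet_eq] at hg
  have hfr : (fun x : F => x ^ 2) = ⇑(frobenius F 2) := funext fun x => (frobenius_def 2 x).symm
  refine Subgroup.closure_induction
    (p := fun (g : Sp) _ => ((tauHom (tauHom g) : Sp) : Matrix ι ι F) = (g : Matrix ι ι F).map (fun x => x ^ 2))
    ?_ ?_ ?_ ?_ hg
  · rintro _ ⟨w, c, rfl⟩
    rw [coe_tauHom, coe_tauHom]
    exact tauMat_tauMat_tv w c
  · rw [map_one, map_one]
    show (1 : Matrix ι ι F) = (1 : Matrix ι ι F).map _
    rw [hfr, Matrix.map_one _ (map_zero _) (map_one _)]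
  · intro a b _ _ ha hb
    rw [map_mul, map_mul, Submonoid.coe_mul, ha, hb, Submonoid.coe_mul, hfr, Matrix.map_mul]
  · intro a _ ha
    have h3 : ((tauHom (tauHom a⁻¹) : Sp) : Matrix ι ι F) * (a : Matrix ι ι F).map (fun x => x ^ 2) = 1 := by
      rw [← ha, ← Submonoid.coe_mul, ← map_mul, ← map_mul, inv_mul_cancel, map_one, map_one]
      rfl
    refine left_inv_eq_right_inv h3 ?_
    rw [hfr, ← Matrix.map_mul, ← Submonoid.coe_mul, mul_inv_cancel]
    exact Matrix.map_one _ (map_zero _) (map_one _)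

end H49
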