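import Cfsg.Agent.H49.SpUnipData
import Cfsg.Agent.H49.SpFreeData
import Cfsg.Agent.H48.PalCount

/-!
The class number of a symplectic group in odd characteristic.
-/

set_option autoImplicit false
set_option linter.unusedSectionVars false

namespace H49.SpPieces

open Finset Matrix
open H49.ClassSeries (Data dwt UT PD wU wP)

variable {F : Type*} [Field F] [Fintype F] {U : Type*} [AddCommGroup U] [Module F U] [FiniteDimensional F U]
  {U' : Type*} [AddCommGroup U'] [Module F U'] [FiniteDimensional F U']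

/-- The data `d` belong to the isometry `T`. -/
def DReal (f : LinearMap.BilinForm F U) (T : Module.End F U) (n : ℕ) (d : Data F n) : Prop :=
  UReal (f.compl₁₂ (gK T 1).subtype (gK T 1).subtype) (T.restrict (gK_mem T 1)) 1 n d.1 ∧
    UReal ((f.compl₁₂ (gR T 1).subtype (gR T 1).subtype).compl₁₂
        (gK (T.restrict (gR_mem T 1)) (-1)).subtype (gK (T.restrict (gR_mem T 1)) (-1)).subtype)
      ((T.restrict (gR_mem T 1)).restrict (gK_mem (T.restrict (gR_mem T 1)) (-1))) (-1) n d.2.1 ∧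
    PReal ((T.restrict (gR_mem T 1)).restrict (gR_mem (T.restrict (gR_mem T 1)) (-1))) n d.2.2

theorem free_rest (h2 : (2 : F) ≠ 0) (T : Module.End F U) :
    ∀ e : F, e * e = 1 → ∀ x : gR (T.restrict (gR_mem T 1)) (-1),
      (T.restrict (gR_mem T 1)).restrict (gR_mem (T.restrict (gR_mem T 1)) (-1)) x = e • x → x = 0 := by
  intro e he x hx
  rcases mul_self_eq_one_iff.1 he with rfl | rfl
  · refine Subtype.ext (Subtype.ext ?_)
    exact gR_no_fixed T 1 _ x.1.2 (congrArg (fun z : gR (T.restrict (gR_mem T 1)) (-1) => ((z : gR T 1) : U)) hx)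
  · exact Subtype.ext (gR_no_fixed _ (-1) _ x.2
      (congrArg (fun z : gR (T.restrict (gR_mem T 1)) (-1) => (z : gR T 1)) hx))

theorem exists_dreal (hodd : Odd (Fintype.card F)) {f : LinearMap.BilinForm F U} {T : Module.End F U}
    (h : Sym f T) {n : ℕ} (hn : Module.finrank F U = 2 * n) :
    ∃ d : Data F n, dwt d = n ∧ DReal f T n d := by
  have h2 : (2 : F) ≠ 0 := H55.two_ne_of_odd hodd
  have he : (-1 : F) * -1 = 1 := by ring
  have hR := h.sub_gR (one_mul (1 : F))
  set T₁ := T.restrict (gR_mem T 1) with hT₁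
  obtain ⟨u, hu, hur⟩ := exists_udata hodd (h.sub_gK (one_mul (1 : F))) (one_mul (1 : F)) (gK_nilpotent T 1)
    (n := n) hn.le
  have hR1 : Module.finrank F (gR T 1) ≤ 2 * n := hn ▸ Submodule.finrank_le _
  obtain ⟨u', hu', hur'⟩ := exists_udata hodd (hR.sub_gK he) he (gK_nilpotent T₁ (-1)) (n := n) hR1
  obtain ⟨P, hP, hPr⟩ := exists_pdata h2 (hR.sub_gR he) (free_rest h2 T) (n := n)
    ((Submodule.finrank_le _).trans hR1)
  refine ⟨(u, u', P), ?_, hur, hur', hPr⟩
  have a1 := finrank_add T 1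
  have a2 := finrank_add T₁ (-1)
  simp only [dwt]
  omega

theorem isoT_of_dreal (hodd : Odd (Fintype.card F)) {f : LinearMap.BilinForm F U} {T : Module.End F U}
    (h : Sym f T) {f' : LinearMap.BilinForm F U'} {T' : Module.End F U'} (h' : Sym f' T') {n : ℕ} {d : Data F n}
    (hd : DReal f T n d) (hd' : DReal f' T' n d) : IsoT f T f' T' := by
  have h2 : (2 : F) ≠ 0 := H55.two_ne_of_odd hodd
  have he : (-1 : F) * -1 = 1 := by ring
  refine isoT_glue h h' (one_mul (1 : F)) (isoT_of_ureal hodd (one_mul (1 : F)) hd.1 hd'.1) ?_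
  refine isoT_glue (h.sub_gR (one_mul (1 : F))) (h'.sub_gR (one_mul (1 : F))) he
    (isoT_of_ureal hodd he hd.2.1 hd'.2.1) ?_
  exact isoT_of_similar ((h.sub_gR (one_mul (1 : F))).sub_gR he) ((h'.sub_gR (one_mul (1 : F))).sub_gR he)
    (free_rest h2 T) (similar_of_preal hd.2.2 hd'.2.2)

theorem card_classes_le_data {F : Type*} [Field F] [Fintype F] (hodd : Odd (Fintype.card F)) (n : ℕ) :
    Nat.card (ConjClasses (Matrix.symplecticGroup (Fin n) F)) ≤ Nat.card {d : Data F n // dwt d = n} := by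
  classical
  haveI := ClassSeries.finite_data (F := F) (M := n) n
  let T : Matrix.symplecticGroup (Fin n) F → Module.End F (Fin n ⊕ Fin n → F) := fun g =>
    Matrix.toLinAlgEquiv' (g : Matrix (Fin n ⊕ Fin n) (Fin n ⊕ Fin n) F)
  have hT : ∀ g x, T g x = g • x := fun g x => rfl
  have hsym : ∀ g, Sym (H48.sf : LinearMap.BilinForm F (Fin n ⊕ Fin n → F)) (T g) := fun g =>
    ⟨H48.SS.isSymplForm_sf, fun x y => by rw [hT, hT, H48.sf_smul_smul]⟩
  have key : ∀ c : ConjClasses (Matrix.symplecticGroup (Fin n) F),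
      ∃ (d : {d : Data F n // dwt d = n}) (g : Matrix.symplecticGroup (Fin n) F),
        ConjClasses.mk g = c ∧ DReal H48.sf (T g) n d.1 := fun c => by
    obtain ⟨g, rfl⟩ := ConjClasses.exists_rep c
    obtain ⟨d, hd, hreal⟩ := exists_dreal hodd (hsym g) (n := n) (by
      rw [Module.finrank_pi]; simp; omega)
    exact ⟨⟨d, hd⟩, g, rfl, hreal⟩
  choose D G hG hD using key
  refine Nat.card_le_card_of_injective D fun c c' hcc => ?_
  rw [← hG c, ← hG c', ConjClasses.mk_eq_mk_iff_isConj]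
  obtain ⟨φ, hφf, hφT⟩ := isoT_of_dreal hodd (hsym (G c)) (hsym (G c')) (hD c) (hcc ▸ hD c')
  let H : Matrix.symplecticGroup (Fin n) F := ⟨LinearMap.toMatrix' φ.toLinearMap,
    H48.mem_symplectic_iff.2 fun u v => by
      rw [LinearMap.toMatrix'_mulVec, LinearMap.toMatrix'_mulVec]; exact hφf u v⟩
  have hH : ∀ x, H • x = φ x := fun x => LinearMap.toMatrix'_mulVec _ x
  refine isConj_iff.2 ⟨H, mul_inv_eq_iff_eq_mul.2 (H48.sp_ext fun x => ?_)⟩
  rw [mul_smul, mul_smul, hH, hH, ← hT, ← hT, hφT]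

/-- The bounds on the class number of `Sp_2n(q)`, `q` odd. -/
theorem class_number_bounds {F : Type*} [Field F] [Fintype F] (hodd : Odd (Fintype.card F)) (n : ℕ) (hn : 1 ≤ n) :
    Fintype.card F ^ n ≤ Nat.card (ConjClasses (Matrix.symplecticGroup (Fin n) F)) ∧
      5 * Nat.card (ConjClasses (Matrix.symplecticGroup (Fin n) F)) ≤ 54 * Fintype.card F ^ n := by
  constructor
  · haveI : Fact (ringChar F).Prime := ⟨CharP.char_is_prime F _⟩
    rw [← H48.SS.card_semisimple_classes (ringChar F) n]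
    exact Nat.card_le_card_of_injective _ Subtype.val_injective
  · obtain ⟨M, rfl⟩ : ∃ M, n = M + 1 := ⟨n - 1, by omega⟩
    have hq : 3 ≤ Fintype.card F := by
      have := Fintype.one_lt_card (α := F)
      rcases hodd with ⟨k, hk⟩
      omega
    exact (Nat.mul_le_mul_left 5 (card_classes_le_data hodd (M + 1))).trans
      (ClassSeries.card_data_le (H55.two_ne_of_odd hodd) hq M (M + 1))

end H49.SpPieces
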