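import Cfsg.Agent.H49.SpBlock
import Cfsg.Agent.H44.JordanRealise

/-!
Unipotent Jordan types of the symplectic group.
-/

set_option autoImplicit false

namespace H49

open Matrix
open H48 (sf)

variable {F : Type*} [Field F]

/-- A multiset of block sizes realised by a unipotent symplectic matrix. -/
def SpRealised (F : Type*) [Field F] (s : Multiset ℕ) : Prop :=
  ∃ (n : ℕ) (A : Matrix.symplecticGroup (Fin n) F), 2 * n = s.sum ∧
    ∀ j, (((A : Matrix (Fin n ⊕ Fin n) (Fin n ⊕ Fin n) F) - 1) ^ j).rank = (s.map (fun a => a - j)).sum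

theorem spRealised_zero : SpRealised F (0 : Multiset ℕ) :=
  ⟨0, 1, by simp, fun j => by
    rw [Multiset.map_zero, Multiset.sum_zero]
    exact Nat.le_zero.1 ((Matrix.rank_le_card_width _).trans (by simp))⟩

theorem spRealised_add {s t : Multiset ℕ} (hs : SpRealised F s) (ht : SpRealised F t) :
    SpRealised F (s + t) := by
  obtain ⟨n₁, A, hn₁, hA⟩ := hs
  obtain ⟨n₂, B, hn₂, hB⟩ := ht
  refine ⟨n₁ + n₂, spBlock finSumFinEquiv.symm (A, B), by rw [Multiset.sum_add, ← hn₁, ← hn₂]; ring,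
    fun j => ?_⟩
  set C := spBlock (F := F) finSumFinEquiv.symm (A, B)
  let E := blockEquiv (F := F) (finSumFinEquiv (m := n₁) (n := n₂)).symm
  have hC : ∀ a, ((C : Matrix (Fin (n₁ + n₂) ⊕ Fin (n₁ + n₂)) (Fin (n₁ + n₂) ⊕ Fin (n₁ + n₂)) F) - 1) *ᵥ E a =
      E (((A : Matrix (Fin n₁ ⊕ Fin n₁) (Fin n₁ ⊕ Fin n₁) F) - 1) *ᵥ a.1,
        ((B : Matrix (Fin n₂ ⊕ Fin n₂) (Fin n₂ ⊕ Fin n₂) F) - 1) *ᵥ a.2) := by
    intro a
    simp only [sub_mulVec, one_mulVec]
    show C • E a - E a = E (A • a.1 - a.1, B • a.2 - a.2)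
    rw [spBlock_smul, ← map_sub]
    rfl
  have hpow : ∀ a, (((C : Matrix (Fin (n₁ + n₂) ⊕ Fin (n₁ + n₂)) (Fin (n₁ + n₂) ⊕ Fin (n₁ + n₂)) F) - 1) ^ j) *ᵥ E a =
      E ((((A : Matrix (Fin n₁ ⊕ Fin n₁) (Fin n₁ ⊕ Fin n₁) F) - 1) ^ j) *ᵥ a.1,
        (((B : Matrix (Fin n₂ ⊕ Fin n₂) (Fin n₂ ⊕ Fin n₂) F) - 1) ^ j) *ᵥ a.2) := by
    induction j with
    | zero => intro a; simp
    | succ j ih =>
      intro a
      rw [pow_succ', pow_succ', pow_succ', ← mulVec_mulVec, ih, hC, mulVec_mulVec, mulVec_mulVec]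
  have hlin : (((C : Matrix (Fin (n₁ + n₂) ⊕ Fin (n₁ + n₂)) (Fin (n₁ + n₂) ⊕ Fin (n₁ + n₂)) F) - 1) ^ j).mulVecLin =
      E.toLinearMap ∘ₗ
        ((((A : Matrix (Fin n₁ ⊕ Fin n₁) (Fin n₁ ⊕ Fin n₁) F) - 1) ^ j).mulVecLin.prodMap
          (((B : Matrix (Fin n₂ ⊕ Fin n₂) (Fin n₂ ⊕ Fin n₂) F) - 1) ^ j).mulVecLin) ∘ₗ E.symm.toLinearMap := by
    refine LinearMap.ext fun x => ?_
    have := hpow (E.symm x)
    rw [LinearEquiv.apply_symm_apply] at this
    exact this
  rw [Multiset.map_add, Multiset.sum_add, ← hA j, ← hB j, Matrix.rank, hlin, LinearMap.range_comp,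
    LinearEquiv.finrank_map_eq, LinearMap.range_comp, LinearEquiv.range, Submodule.map_top,
    LinearMap.range_prodMap, LinearEquiv.finrank_eq (H44.prodSubEquiv _ _), Module.finrank_prod]
  rfl

/-- A pair of equal blocks on a pair of Lagrangians. -/
theorem spRealised_pair (a : ℕ) : SpRealised F ({a} + {a} : Multiset ℕ) := by
  set L : Matrix (Fin a) (Fin a) F := Matrix.of fun i k => if (i : ℕ) = (k : ℕ) + 1 then (1 : F) else 0 with hL
  have hnil : IsNilpotent L := ⟨a, H44.eq_zero_of_rank _ (by rw [hL, H44.rank_shift_pow, Nat.sub_self])⟩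
  obtain ⟨u, hu⟩ := hnil.isUnit_one_add
  set J : Matrix (Fin a) (Fin a) F := 1 + L with hJdef
  set K : Matrix (Fin a) (Fin a) F := ((u⁻¹ : (Matrix (Fin a) (Fin a) F)ˣ) : Matrix (Fin a) (Fin a) F) with hKdef
  have hJK : J * K = 1 := by rw [hKdef, ← hu, Units.mul_inv]
  have hKJ : K * J = 1 := by rw [hKdef, ← hu, Units.inv_mul]
  have hmem : fromBlocks J 0 0 Kᵀ ∈ Matrix.symplecticGroup (Fin a) F := by
    rw [SymplecticGroup.fromBlocks_mem_iff]
    simp [← transpose_mul, hKJ]
  refine ⟨a, ⟨_, hmem⟩, by simp [two_mul], fun j => ?_⟩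
  have hK : Kᵀ - 1 = (-(K * L))ᵀ := by
    have : K * L = 1 - K := by
      calc K * L = K * (J - 1) := by rw [hJdef, add_sub_cancel_left]
        _ = 1 - K := by rw [mul_sub, hKJ, mul_one]
    rw [this, neg_sub, transpose_sub, transpose_one]
  have hc : Commute K L := by
    have h1 : Commute J L := (Commute.one_left _).add_left (Commute.refl L)
    rw [← hu] at h1
    exact h1.units_inv_left
  show ((fromBlocks J 0 0 Kᵀ - 1) ^ j).rank = _
  rw [H44.fromBlocks_sub_one, H44.fromBlocks_pow_zero, H44.rank_fromBlocks_zero, hK, ← transpose_pow,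
    rank_transpose, show J - 1 = L from add_sub_cancel_left _ _, ← neg_mul, hc.neg_left.mul_pow,
    Matrix.rank_mul_eq_right_of_isUnit_det _ _ ?_, hL, H44.rank_shift_pow]
  · simp
  · exact (Matrix.isUnit_iff_isUnit_det _).1 ((u⁻¹).isUnit.neg.pow j)

theorem spRealised_even (m : ℕ) : SpRealised F ({2 * m} : Multiset ℕ) := by
  rcases Nat.eq_zero_or_pos m with rfl | hm
  · obtain ⟨n, A, h1, h2⟩ := spRealised_zero (F := F)
    exact ⟨n, A, by simpa using h1, fun j => by simpa using h2 j⟩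
  obtain ⟨u, hu1, hu2⟩ := exists_regular_unipotent F m hm
  refine ⟨m, u, by simp, fun j => ?_⟩
  rw [H44.rank_pow_regular _ ⟨2 * m, hu1⟩ (by rw [hu2]; simp [two_mul]; omega)]
  simp [two_mul]

theorem spRealised_of_parity (s : Multiset ℕ) (h : ∀ j, Odd j → Even (s.count j)) : SpRealised F s := by
  induction hn : s.card using Nat.strong_induction_on generalizing s with
  | _ n ih =>
    rcases Multiset.empty_or_exists_mem s with rfl | ⟨a, ha⟩
    · exact spRealised_zero
    obtain ⟨r, rfl⟩ := Multiset.exists_cons_of_mem ha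
    by_cases hb : Odd a
    · have h1 := h a hb
      rw [Multiset.count_cons_self, Nat.even_add_one, Nat.not_even_iff_odd] at h1
      obtain ⟨q, rfl⟩ := Multiset.exists_cons_of_mem (Multiset.count_pos.1 h1.pos)
      rw [show a ::ₘ a ::ₘ q = ({a} + {a}) + q by rw [add_assoc, Multiset.singleton_add, Multiset.singleton_add]]
      refine spRealised_add (spRealised_pair a) (ih q.card (by simp at hn; omega) q (fun j hj => ?_) rfl)
      have h2 := h j hj
      rw [Multiset.count_cons, Multiset.count_cons] at h2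
      split_ifs at h2
      · simpa [Nat.even_add_one, Nat.even_add] using h2
      · simpa using h2
    · rw [← Multiset.singleton_add]
      obtain ⟨b, rfl⟩ := Nat.not_odd_iff_even.1 hb
      refine spRealised_add (by rw [← two_mul]; exact spRealised_even b)
        (ih r.card (by simp at hn; omega) r (fun j hj => ?_) rfl)
      have h2 := h j hj
      rwa [Multiset.count_cons_of_ne (fun e : j = b + b => hb (e ▸ hj))] at h2

/-- Transport of a Jordan matrix to an arbitrary index type. -/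
theorem rank_reindex_jordanType {ι : Type} [Fintype ι] [DecidableEq ι] {t : ℕ} (d : Fin t → ℕ)
    (e : ((k : Fin t) × Fin (d k)) ≃ ι) (j : ℕ) :
    ((Matrix.reindex e e (Cfsg.jordanTypeMatrix d F) - 1) ^ j).rank = ∑ k, (d k - j) := by
  rw [← Matrix.reindexAlgEquiv_apply F F e, ← map_one (Matrix.reindexAlgEquiv F F e), ← map_sub,
    ← map_pow, Matrix.reindexAlgEquiv_apply, Matrix.rank_reindex, H51.rank_jordanType_pow]

/-- Similar matrices have equally ranked powers of differences with one. -/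
theorem rank_pow_eq_of_isConj {ι : Type} [Fintype ι] [DecidableEq ι] {A B : Matrix ι ι F}
    (h : IsConj A B) (j : ℕ) : ((A - 1) ^ j).rank = ((B - 1) ^ j).rank := by
  let f := Matrix.reindexAlgEquiv F F (Fintype.equivFin ι)
  have hr : ∀ M : Matrix ι ι F, ((f M - 1) ^ j).rank = ((M - 1) ^ j).rank := fun M => by
    rw [← map_one f, ← map_sub, ← map_pow, Matrix.reindexAlgEquiv_apply, Matrix.rank_reindex]
  rw [← hr A, ← hr B]
  exact H51.rank_eq_of_isConj (H51.isConj_sub_one_pow (MonoidHom.map_isConj f.toAlgHom.toRingHom.toMonoidHom h) j)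

/-- Equal ranks give similar unipotent matrices. -/
theorem isConj_of_rank_eq {ι : Type} [Fintype ι] [DecidableEq ι] {A B : Matrix ι ι F}
    (hA : IsNilpotent (A - 1)) (hB : IsNilpotent (B - 1))
    (h : ∀ j, ((A - 1) ^ j).rank = ((B - 1) ^ j).rank) : IsConj A B := by
  let f := Matrix.reindexAlgEquiv F F (Fintype.equivFin ι)
  have hr : ∀ (M : Matrix ι ι F) (j : ℕ), ((f M - 1) ^ j).rank = ((M - 1) ^ j).rank := fun M j => by
    rw [← map_one f, ← map_sub, ← map_pow, Matrix.reindexAlgEquiv_apply, Matrix.rank_reindex]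
  have hn : ∀ M : Matrix ι ι F, IsNilpotent (M - 1) → IsNilpotent (f M - 1) := fun M hM => by
    rw [← map_one f, ← map_sub]; exact hM.map f
  have h1 := (H51.isConj_iff_rank (hn A hA) (hn B hB)).2 fun j => by rw [hr, hr, h j]
  have h2 := MonoidHom.map_isConj (f.symm.toAlgHom.toRingHom.toMonoidHom) h1
  have e : ∀ M, f.symm.toAlgHom.toRingHom.toMonoidHom (f M) = M := fun M => f.symm_apply_apply M
  rwa [e, e] at h2

end H49
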