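import Cfsg.Agent.H48.SemisimpleConj

/-!
Splitting a symplectic isometry along a generalised eigenspace of `±1`.
-/

set_option autoImplicit false
set_option linter.unusedSectionVars false

namespace H49.SpPieces

open H48.SS (IsSymplForm)

universe u v

variable {F : Type*} [Field F]
  {U : Type u} [AddCommGroup U] [Module F U] [FiniteDimensional F U]
  {U' : Type v} [AddCommGroup U'] [Module F U'] [FiniteDimensional F U']

/-- An isometry of a symplectic space. -/
structure Sym (f : LinearMap.BilinForm F U) (T : Module.End F U) : Prop where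
  form : IsSymplForm f
  isom : ∀ x y, f (T x) (T y) = f x y

/-- Isometric equivalence of isometries. -/
def IsoT (f : LinearMap.BilinForm F U) (T : Module.End F U) (f' : LinearMap.BilinForm F U')
    (T' : Module.End F U') : Prop :=
  ∃ φ : U ≃ₗ[F] U', (∀ x y, f' (φ x) (φ y) = f x y) ∧ ∀ x, φ (T x) = T' (φ x)

variable {f : LinearMap.BilinForm F U} {T : Module.End F U}

theorem Sym.injective (h : Sym f T) : Function.Injective T := by
  refine (injective_iff_map_eq_zero T).2 fun x hx => h.form.sep x fun y => ?_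
  rw [← h.isom, hx, map_zero, LinearMap.zero_apply]

theorem Sym.surjective (h : Sym f T) : Function.Surjective T :=
  LinearMap.injective_iff_surjective.1 h.injective

/-- The generalised eigenspace. -/
noncomputable def gK (T : Module.End F U) (e : F) : Submodule F U :=
  LinearMap.ker ((T - e • 1) ^ Module.finrank F U)

/-- The complement of the generalised eigenspace. -/
noncomputable def gR (T : Module.End F U) (e : F) : Submodule F U :=
  LinearMap.range ((T - e • 1) ^ Module.finrank F U)

theorem commute_sub (T : Module.End F U) (e : F) : Commute T (T - e • 1) :=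
  (Commute.refl T).sub_right ((Commute.one_right T).smul_right e)

theorem gK_mem (T : Module.End F U) (e : F) : ∀ x ∈ gK T e, T x ∈ gK T e := fun x hx => by
  rw [gK, LinearMap.mem_ker] at hx ⊢
  rw [← Module.End.mul_apply, ← ((commute_sub T e).pow_right _).eq, Module.End.mul_apply, hx, map_zero]

theorem gR_mem (T : Module.End F U) (e : F) : ∀ x ∈ gR T e, T x ∈ gR T e := by
  rintro _ ⟨y, rfl⟩
  exact ⟨T y, by rw [← Module.End.mul_apply, ← ((commute_sub T e).pow_right _).eq, Module.End.mul_apply]⟩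

theorem isCompl (T : Module.End F U) (e : F) : IsCompl (gK T e) (gR T e) := by
  have hdisj : Disjoint (gK T e) (gR T e) := Submodule.disjoint_def.2 fun x hx hxR => by
    obtain ⟨y, rfl⟩ := hxR
    rw [gK, LinearMap.mem_ker, ← Module.End.mul_apply, ← pow_add, ← LinearMap.mem_ker,
      Module.End.ker_pow_eq_ker_pow_finrank_of_le (Nat.le_add_left _ _), LinearMap.mem_ker] at hx
    exact hx
  refine ⟨hdisj, codisjoint_iff.2 (Submodule.eq_top_of_disjoint _ _ (le_of_eq ?_) hdisj)⟩
  rw [add_comm]
  exact (LinearMap.finrank_range_add_finrank_ker _).symm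

theorem Sym.adjoint (h : Sym f T) {e : F} (he : e * e = 1) : ∀ (k : ℕ) (x y : U),
    f (((T - e • 1) ^ k) x) ((T ^ k) y) = f x (((-e) ^ k) • ((T - e • 1) ^ k) y) := by
  intro k
  induction k with
  | zero => intro x y; simp
  | succ k ih =>
    intro x y
    have h1 : ∀ a b : U, f ((T - e • 1) a) (T b) = f a ((-e) • (T - e • 1) b) := fun a b => by
      simp only [LinearMap.sub_apply, LinearMap.smul_apply, Module.End.one_apply, map_sub, map_smul,
        h.isom, smul_eq_mul, LinearMap.sub_apply, LinearMap.smul_apply]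
      linear_combination (-(f a b)) * he
    have hc : ∀ b : U, ((T - e • 1) ^ k) (T b) = T (((T - e • 1) ^ k) b) := fun b => by
      rw [← Module.End.mul_apply, ← ((commute_sub T e).pow_right k).eq, Module.End.mul_apply]
    conv_lhs => rw [pow_succ (T - e • 1), pow_succ T, Module.End.mul_apply, Module.End.mul_apply, ih, hc,
      ← map_smul T, h1, map_smul (T - e • 1), smul_smul]
    rw [pow_succ' (-e), pow_succ' (T - e • 1), Module.End.mul_apply]

theorem Sym.orth (h : Sym f T) {e : F} (he : e * e = 1) {x : U} (hx : x ∈ gR T e) {y : U} (hy : y ∈ gK T e) :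
    f x y = 0 ∧ f y x = 0 := by
  obtain ⟨x, rfl⟩ := hx
  set N := Module.finrank F U
  obtain ⟨z, rfl⟩ : ∃ z, (T ^ N) z = y := by
    have hs : Function.Surjective (T ^ N) := by
      rw [Module.End.coe_pow]
      exact h.surjective.iterate N
    exact hs y
  have hz : ((T - e • 1) ^ N) z = 0 := by
    have h1 : (T ^ N) (((T - e • 1) ^ N) z) = 0 := by
      rw [← Module.End.mul_apply, ((commute_sub T e).pow_pow N N).eq, Module.End.mul_apply]
      exact LinearMap.mem_ker.1 hy
    have hi : Function.Injective (T ^ N) := by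
      rw [Module.End.coe_pow]
      exact h.injective.iterate N
    exact (injective_iff_map_eq_zero _).1 hi _ h1
  have h0 : f (((T - e • 1) ^ N) x) ((T ^ N) z) = 0 := by rw [h.adjoint he, hz, smul_zero, map_zero]
  exact ⟨h0, by rw [h.form.skew, h0, neg_zero]⟩

theorem Sym.sub_gK (h : Sym f T) {e : F} (he : e * e = 1) :
    Sym (f.compl₁₂ (gK T e).subtype (gK T e).subtype) (T.restrict (gK_mem T e)) := by
  refine ⟨⟨fun x => h.form.alt _, fun x hx => Subtype.ext (h.form.sep _ fun y => ?_)⟩, fun x y => h.isom _ _⟩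
  obtain ⟨a, ha, b, hb, rfl⟩ := Submodule.mem_sup.1 ((isCompl T e).sup_eq_top ▸ Submodule.mem_top : y ∈ _)
  rw [map_add, (h.orth he hb x.2).2, add_zero]
  exact hx ⟨a, ha⟩

theorem Sym.sub_gR (h : Sym f T) {e : F} (he : e * e = 1) :
    Sym (f.compl₁₂ (gR T e).subtype (gR T e).subtype) (T.restrict (gR_mem T e)) := by
  refine ⟨⟨fun x => h.form.alt _, fun x hx => Subtype.ext (h.form.sep _ fun y => ?_)⟩, fun x y => h.isom _ _⟩
  obtain ⟨a, ha, b, hb, rfl⟩ := Submodule.mem_sup.1 ((isCompl T e).sup_eq_top ▸ Submodule.mem_top : y ∈ _)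
  rw [map_add, (h.orth he x.2 ha).1, zero_add]
  exact hx ⟨b, hb⟩

theorem restrict_pow {W : Submodule F U} (hW : ∀ x ∈ W, T x ∈ W) (e : F) (j : ℕ) (x : W) :
    (((T.restrict hW - e • 1) ^ j) x : U) = ((T - e • 1) ^ j) (x : U) := by
  induction j with
  | zero => rfl
  | succ j ih => rw [pow_succ', pow_succ', Module.End.mul_apply, Module.End.mul_apply, ← ih]; rfl

theorem gK_nilpotent (T : Module.End F U) (e : F) (x : gK T e) :
    ((T.restrict (gK_mem T e) - e • 1) ^ Module.finrank F U) x = 0 :=
  Subtype.ext (by rw [restrict_pow]; exact LinearMap.mem_ker.1 x.2)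

theorem gR_no_fixed (T : Module.End F U) (e : F) (x : U) (hx : x ∈ gR T e) (h : T x = e • x) : x = 0 := by
  rcases Nat.eq_zero_or_pos (Module.finrank F U) with h0 | hN
  · haveI : Subsingleton U := Module.finrank_zero_iff.1 h0
    exact Subsingleton.elim _ _
  refine Submodule.disjoint_def.1 (isCompl T e).disjoint x ?_ hx
  obtain ⟨k, hk⟩ : ∃ k, Module.finrank F U = k + 1 := ⟨_, (Nat.succ_pred_eq_of_pos hN).symm⟩
  rw [gK, LinearMap.mem_ker, hk, pow_succ, Module.End.mul_apply, LinearMap.sub_apply, LinearMap.smul_apply,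
    Module.End.one_apply, h, sub_self, map_zero]

theorem finrank_add (T : Module.End F U) (e : F) :
    Module.finrank F (gK T e) + Module.finrank F (gR T e) = Module.finrank F U :=
  Submodule.finrank_add_eq_of_isCompl (isCompl T e)

variable {f' : LinearMap.BilinForm F U'} {T' : Module.End F U'}

/-- Equivalences of the two parts glue. -/
theorem isoT_glue (h : Sym f T) (h' : Sym f' T') {e : F} (he : e * e = 1)
    (hK : IsoT (f.compl₁₂ (gK T e).subtype (gK T e).subtype) (T.restrict (gK_mem T e))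
      (f'.compl₁₂ (gK T' e).subtype (gK T' e).subtype) (T'.restrict (gK_mem T' e)))
    (hR : IsoT (f.compl₁₂ (gR T e).subtype (gR T e).subtype) (T.restrict (gR_mem T e))
      (f'.compl₁₂ (gR T' e).subtype (gR T' e).subtype) (T'.restrict (gR_mem T' e))) :
    IsoT f T f' T' := by
  obtain ⟨c₁, hc₁f, hc₁T⟩ := hK
  obtain ⟨c₂, hc₂f, hc₂T⟩ := hR
  let E := Submodule.prodEquivOfIsCompl (gK T e) (gR T e) (isCompl T e)
  let E' := Submodule.prodEquivOfIsCompl (gK T' e) (gR T' e) (isCompl T' e)
  let φ : U ≃ₗ[F] U' := E.symm ≪≫ₗ c₁.prodCongr c₂ ≪≫ₗ E'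
  have hφ : ∀ p, φ (E p) = E' (c₁ p.1, c₂ p.2) := fun p => by simp [φ]
  have hE : ∀ p, E p = (p.1 : U) + (p.2 : U) := fun p => rfl
  have hE' : ∀ p, E' p = (p.1 : U') + (p.2 : U') := fun p => rfl
  refine ⟨φ, fun x y => ?_, fun x => ?_⟩
  · obtain ⟨⟨p, q⟩, rfl⟩ := E.surjective x
    obtain ⟨⟨p', q'⟩, rfl⟩ := E.surjective y
    rw [hφ, hφ, hE, hE, hE', hE']
    simp only [map_add, LinearMap.add_apply]
    rw [(h'.orth he (c₂ q').2 (c₁ p).2).2, (h'.orth he (c₂ q).2 (c₁ p').2).1,
      (h.orth he q'.2 p.2).2, (h.orth he q.2 p'.2).1]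
    simp only [add_zero, zero_add]
    have a1 := hc₁f p p'
    have a2 := hc₂f q q'
    simp only [LinearMap.compl₁₂_apply, Submodule.subtype_apply] at a1 a2
    rw [a1, a2]
  · obtain ⟨⟨p, q⟩, rfl⟩ := E.surjective x
    have ha : T (E (p, q)) = E (T.restrict (gK_mem T e) p, T.restrict (gR_mem T e) q) := by
      rw [hE, hE, map_add]; rfl
    rw [ha, hφ, hφ, hc₁T, hc₂T, hE', hE', map_add]
    rfl

end H49.SpPieces
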