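import Cfsg.Agent.H49.SpPieces
import Cfsg.Agent.H49.SpClassSeries
import Cfsg.Agent.H44.UnipClassesSp
import Cfsg.Agent.H44.Classify

/-!
Signed partitions attached to the generalised eigenspaces of `±1`, in odd characteristic.
-/

set_option autoImplicit false
set_option linter.unusedSectionVars false

namespace H49.SpPieces

open Matrix Finset
open H44.SkewFrame (SkewData Frame blk)
open H44.UnipSp (strict_block blk_transpose blk_det_ne_zero frame_of_blocks)
open H49.ClassSeries (UT wU)

variable {F : Type*} [Field F] [Fintype F]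
  {U : Type*} [AddCommGroup U] [Module F U] [FiniteDimensional F U]
  {U' : Type*} [AddCommGroup U'] [Module F U'] [FiniteDimensional F U']

theorem sum_range_two_mul (g : ℕ → ℕ) : ∀ n, ∑ k ∈ range (2 * n), g k = ∑ i ∈ range n, (g (2 * i) + g (2 * i + 1))
  | 0 => rfl
  | n + 1 => by
    rw [Finset.sum_range_succ (fun i => g (2 * i) + g (2 * i + 1)), ← sum_range_two_mul g n,
      show 2 * (n + 1) = 2 * n + 1 + 1 by ring, Finset.sum_range_succ, Finset.sum_range_succ, add_assoc]

/-- The signed multiplicities of the blocks. -/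
noncomputable def udata {ι : Type} [Fintype ι] [DecidableEq ι] (h : ι → ℕ) (G : Matrix ι ι F) (n : ℕ)
    (i : Fin n) : UT :=
  open Classical in
  (Fintype.card {a // h a = 2 * (i : ℕ)} / 2,
    if IsSquare (blk h G (2 * (i : ℕ) + 1)).det then (Fintype.card {a // h a = 2 * (i : ℕ) + 1} : ℤ)
    else -(Fintype.card {a // h a = 2 * (i : ℕ) + 1} : ℤ))

/-- The data `u` belong to the isometry `T` with eigenvalue `e`. -/
def UReal (f : LinearMap.BilinForm F U) (T : Module.End F U) (e : F) (n : ℕ) (u : Fin n → UT) : Prop :=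
  ∃ (N : Module.End F U) (ι : Type) (_ : Fintype ι) (_ : DecidableEq ι) (h : ι → ℕ) (G : Matrix ι ι F)
    (x : ι → U), SkewData f N ∧ (∀ v, (N ^ (2 * n)) v = 0) ∧ (1 - N) * (e • T) = 1 + N ∧
      Frame f N (2 * n) h G x ∧ udata h G n = u

theorem exists_udata (hodd : Odd (Fintype.card F)) {f : LinearMap.BilinForm F U} {T : Module.End F U}
    (hs : Sym f T) {e : F} (he : e * e = 1) {k : ℕ} (hnil : ∀ x, ((T - e • 1) ^ k) x = 0) {n : ℕ}
    (hk : k ≤ 2 * n) :
    ∃ u : Fin n → UT, 2 * ∑ i : Fin n, wU i (u i) = Module.finrank F U ∧ UReal f T e n u := by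
  classical
  have h2 : (2 : F) ≠ 0 := H55.two_ne_of_odd hodd
  set S : Module.End F U := e • T with hS
  set a : Module.End F U := S - 1 with ha
  have hae : a = e • (T - e • 1) := by rw [ha, hS, smul_sub, smul_smul, he, one_smul]
  have han : a ^ (2 * n) = 0 := by
    have h1 : (T - e • 1) ^ k = 0 := LinearMap.ext hnil
    rw [hae, smul_pow, pow_eq_zero_of_le hk h1, smul_zero]
  have hu : IsUnit (S + 1) := by
    rw [show S + 1 = a + (2 : F) • 1 by rw [ha, two_smul]; abel]
    exact IsNilpotent.isUnit_add_right_of_commute ⟨2 * n, han⟩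
      (by simpa [Algebra.algebraMap_eq_smul_one] using
        IsUnit.map (algebraMap F (Module.End F U)) (isUnit_iff_ne_zero.2 h2))
      ((Commute.one_right a).smul_right _)
  obtain ⟨b, hb⟩ := hu
  set W : Module.End F U := ↑b⁻¹ with hW
  have hW1 : W * (S + 1) = 1 := by rw [← hb]; exact b.inv_mul
  have hW2 : (S + 1) * W = 1 := by rw [← hb]; exact b.mul_inv
  set N : Module.End F U := a * W with hN
  have hcomm : Commute a W := by
    rw [hW]
    refine Commute.units_inv_right ?_
    rw [hb, ha]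
    exact ((Commute.refl S).add_right (Commute.one_right S)).sub_left (Commute.one_left _)
  have hNS : N * (S + 1) = a := by rw [hN, mul_assoc, hW1, mul_one]
  have hNn : ∀ v, (N ^ (2 * n)) v = 0 := fun v => by rw [hN, hcomm.mul_pow, han, zero_mul, LinearMap.zero_apply]
  have hrel : (1 - N) * S = 1 + N := by
    rw [ha, mul_add, mul_one] at hNS
    rw [sub_mul, one_mul]
    linear_combination (norm := abel) -hNS
  have hskew : SkewData f N := by
    refine ⟨hs.form.alt, hs.form.sep, fun x y => ?_⟩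
    obtain ⟨u, rfl⟩ : ∃ u, (S + 1) u = x := ⟨W x, by rw [← Module.End.mul_apply, hW2, Module.End.one_apply]⟩
    obtain ⟨v, rfl⟩ : ∃ v, (S + 1) v = y := ⟨W y, by rw [← Module.End.mul_apply, hW2, Module.End.one_apply]⟩
    have hN' : ∀ w, N ((S + 1) w) = a w := fun w => by rw [← Module.End.mul_apply, hNS]
    rw [hN', hN']
    simp only [ha, hS, LinearMap.sub_apply, LinearMap.add_apply, LinearMap.smul_apply, Module.End.one_apply,
      map_sub, map_add, map_smul, hs.isom, smul_eq_mul]
    linear_combination (2 * f u v) * he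
  obtain ⟨ι, _, _, h, G, x, hf⟩ := H44.SkewFrame.exists_frame h2 (2 * n) U f N hskew hNn
  refine ⟨udata h G n, ?_, N, ι, inferInstance, inferInstance, h, G, x, hskew, hNn, hrel, hf, rfl⟩
  set r : ℕ → ℕ := fun j => Fintype.card {a // h a = j} with hr
  have hcard : Module.finrank F U = ∑ j ∈ range (2 * n), (j + 1) * r j := by
    rw [hf.card, ← Finset.sum_fiberwise_of_maps_to (t := range (2 * n)) (g := h) (fun a _ => mem_range.2 (hf.lt a))]
    refine Finset.sum_congr rfl fun j _ => ?_
    rw [Finset.sum_congr rfl (g := fun _ => j + 1) fun a ha => by rw [(Finset.mem_filter.1 ha).2]]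
    simp [hr, Fintype.card_subtype, mul_comm]
  rw [hcard, sum_range_two_mul, Finset.mul_sum, ← Fin.sum_univ_eq_sum_range]
  refine Finset.sum_congr rfl fun i _ => ?_
  have hev : Even (r (2 * (i : ℕ))) := by
    refine H55.even_card_of_skew h2 (A := blk h G (2 * (i : ℕ))) ?_ (blk_det_ne_zero hf.block hf.unit _)
    rw [blk_transpose hskew hf, (odd_two_mul_add_one (i : ℕ)).neg_one_pow, neg_one_smul]
  obtain ⟨t, ht⟩ := hev
  have hz : (udata h G n i).2.natAbs = r (2 * (i : ℕ) + 1) := by
    rw [udata]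
    dsimp only
    split_ifs <;> simp [hr]
  have h1 : (udata h G n i).1 = t := by
    show r (2 * (i : ℕ)) / 2 = t
    omega
  rw [wU, hz, h1, ht]
  ring

theorem even_blk (hodd : Odd (Fintype.card F)) {κ : Type} [Fintype κ] [DecidableEq κ] {g : κ → ℕ}
    {B : Matrix κ κ F} {m : ℕ} (i : ℕ) {b : LinearMap.BilinForm F U} {M : Module.End F U} {y : κ → U}
    (hb : SkewData b M) (hy : Frame b M m g B y) : Even (Fintype.card {a // g a = 2 * i}) := by
  refine H55.even_card_of_skew (H55.two_ne_of_odd hodd) (A := blk g B (2 * i)) ?_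
    (blk_det_ne_zero hy.block hy.unit _)
  rw [blk_transpose hb hy, (odd_two_mul_add_one i).neg_one_pow, neg_one_smul]

/-- Blocks with the same signed multiplicities are congruent. -/
theorem exists_congr_blk (hodd : Odd (Fintype.card F)) {n : ℕ} {κ κ' : Type} [Fintype κ] [DecidableEq κ]
    [Fintype κ'] [DecidableEq κ'] {g : κ → ℕ} {g' : κ' → ℕ}
    {B : Matrix κ κ F} {B' : Matrix κ' κ' F} {b : LinearMap.BilinForm F U} {M : Module.End F U} {y : κ → U}
    (hb : SkewData b M) (hy : Frame b M (2 * n) g B y) (hunit' : ∀ j, (blk g' B' j).det ≠ 0)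
    (hd0 : ∀ i : Fin n, udata g B n i = udata g' B' n i) (k : Fin (2 * n))
    (hc : Fintype.card {a // g a = (k : ℕ)} = Fintype.card {a // g' a = (k : ℕ)})
    {ρ : ℕ} (E : {a // g' a = (k : ℕ)} ≃ Fin ρ)
    (hs : (Matrix.reindex E E (blk g' B' k))ᵀ = (-1 : F) ^ ((k : ℕ) + 1) • Matrix.reindex E E (blk g' B' k)) :
    ∃ P : Matrix {a // g a = (k : ℕ)} (Fin ρ) F, Pᵀ * blk g B k * P = Matrix.reindex E E (blk g' B' k) := by
  classical
  refine strict_block hodd (k : ℕ) (blk_transpose hb hy _) hs (blk_det_ne_zero hy.block hy.unit _)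
    (by rw [Matrix.det_reindex_self]; exact hunit' _) (by rw [hc, Fintype.card_congr E]) fun hko => ?_
  rw [Matrix.det_reindex_self]
  obtain ⟨i, hki⟩ := hko
  have hi : i < n := by have := k.2; omega
  have h1 := congrArg Prod.snd (hd0 ⟨i, hi⟩)
  have hc' : Fintype.card {a // g a = 2 * i + 1} = Fintype.card {a // g' a = 2 * i + 1} := by
    simp only [hki] at hc
    exact hc
  simp only [udata] at h1
  rw [hki]
  rw [H44.isSquare_mul_iff (blk_det_ne_zero hy.block hy.unit (2 * i + 1)) (hunit' (2 * i + 1))]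
  rcases Nat.eq_zero_or_pos (Fintype.card {a // g a = 2 * i + 1}) with h0 | h0
  · haveI : IsEmpty {a // g a = 2 * i + 1} := Fintype.card_eq_zero_iff.1 h0
    haveI : IsEmpty {a // g' a = 2 * i + 1} := Fintype.card_eq_zero_iff.1 (hc' ▸ h0)
    simp [Matrix.det_isEmpty]
  · split_ifs at h1 with p1 p2 p2
    · simp [p1, p2]
    · omega
    · omega
    · simp [p1, p2]

/-- The data determine the isometry. -/
theorem isoT_of_ureal (hodd : Odd (Fintype.card F)) {f : LinearMap.BilinForm F U} {T : Module.End F U}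
    {f' : LinearMap.BilinForm F U'} {T' : Module.End F U'} {e : F} (he : e * e = 1) {n : ℕ} {u : Fin n → UT}
    (h : UReal f T e n u) (h' : UReal f' T' e n u) : IsoT f T f' T' := by
  classical
  obtain ⟨N, ι, _, _, ht, G, x, hd, -, hrel, hf, hu⟩ := h
  obtain ⟨N', ι', _, _, ht', G', x', hd', hn', hrel', hf', hu'⟩ := h'
  have h2 : (2 : F) ≠ 0 := H55.two_ne_of_odd hodd
  have hiu : ∀ i : Fin n, udata ht G n i = udata ht' G' n i := fun i => by rw [hu, hu']
  have hrk : ∀ k : Fin (2 * n), Fintype.card {a // ht a = (k : ℕ)} = Fintype.card {a // ht' a = (k : ℕ)} := by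
    rintro ⟨k, hk⟩
    rcases Nat.even_or_odd' k with ⟨i, rfl | rfl⟩
    · obtain ⟨s, hs⟩ := even_blk hodd i hd hf
      obtain ⟨s', hs'⟩ := even_blk hodd i hd' hf'
      have h1 : Fintype.card {a // ht a = 2 * i} / 2 = Fintype.card {a // ht' a = 2 * i} / 2 :=
        congrArg Prod.fst (hiu ⟨i, by omega⟩)
      show Fintype.card {a // ht a = 2 * i} = Fintype.card {a // ht' a = 2 * i}
      omega
    · have h1 := congrArg (fun p : UT => p.2.natAbs) (hiu ⟨i, by omega⟩)
      simp only [udata] at h1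
      show Fintype.card {a // ht a = 2 * i + 1} = Fintype.card {a // ht' a = 2 * i + 1}
      split_ifs at h1 <;> simpa using h1
  let r : Fin (2 * n) → ℕ := fun k => Fintype.card {a // ht' a = (k : ℕ)}
  let E : ∀ k : Fin (2 * n), {a // ht' a = (k : ℕ)} ≃ Fin (r k) := fun k => Fintype.equivFin _
  let H : ∀ k, Matrix (Fin (r k)) (Fin (r k)) F := fun k => Matrix.reindex (E k) (E k) (blk ht' G' k)
  have hH : ∀ k, (H k).det ≠ 0 := fun k => by
    rw [Matrix.det_reindex_self]; exact blk_det_ne_zero hf'.block hf'.unit _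
  have hHt : ∀ k, (H k)ᵀ = (-1 : F) ^ ((k : ℕ) + 1) • H k := fun k => by
    show (Matrix.reindex (E k) (E k) (blk ht' G' k))ᵀ = _
    rw [Matrix.transpose_reindex, blk_transpose hd' hf']
    rfl
  have hu' : ∀ j, (blk ht' G' j).det ≠ 0 := fun j => blk_det_ne_zero hf'.block hf'.unit j
  obtain ⟨y, hy⟩ := frame_of_blocks hd hf (r := r) hrk H hH
    fun k => exists_congr_blk hodd hd hf hu' hiu k (hrk k) (E k) (hHt k)
  obtain ⟨y', hy'⟩ := frame_of_blocks hd' hf' (r := r) (fun k => rfl) H hH
    fun k => exists_congr_blk hodd hd' hf' hu' (fun i => rfl) k rfl (E k) (hHt k)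
  obtain ⟨φ, hφf, hφN⟩ := Frame.exists_equiv hd hy hd' hy'
  refine ⟨φ, hφf, fun v => ?_⟩
  have hinj : Function.Injective (1 - N' : Module.End F U') :=
    (Module.End.isUnit_iff _).1 (IsNilpotent.isUnit_one_sub ⟨2 * n, LinearMap.ext hn'⟩) |>.1
  have key : φ ((e • T) v) = (e • T') (φ v) := hinj (by
    have a1 := congrArg φ (LinearMap.congr_fun hrel v)
    have a2 := LinearMap.congr_fun hrel' (φ v)
    simp only [Module.End.mul_apply, LinearMap.sub_apply, LinearMap.add_apply, Module.End.one_apply,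
      map_sub, map_add, hφN] at a1 a2
    rw [LinearMap.sub_apply, LinearMap.sub_apply, Module.End.one_apply, Module.End.one_apply, a1, a2])
  have := congrArg (fun z => e • z) key
  simpa only [LinearMap.smul_apply, map_smul, smul_smul, he, one_smul] using this

end H49.SpPieces
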