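import Cfsg.Agent.H49.SpDichotomy
import Cfsg.Agent.H49.SpElements
import Cfsg.Agent.H49.PSpOrder

set_option autoImplicit false

namespace H49

open Matrix

variable {F : Type*} [Field F] [Finite F] {p n : ℕ} [Fact p.Prime] [CharP F p]

/-- The odd part T with T ∣ (q^n - 1)/2 or (q^n + 1)/2. -/
noncomputable def oddTorus (F : Type*) (n : ℕ) : ℕ :=
  if 4 ∣ Nat.card F ^ n + 1 then (Nat.card F ^ n - 1) / 2 else (Nat.card F ^ n + 1) / 2

theorem card_odd (hp : p ≠ 2) : Odd (Nat.card F) := by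
  letI := Fintype.ofFinite F
  obtain ⟨j, -, hj⟩ := FiniteField.card F p
  rw [Nat.card_eq_fintype_card, hj]
  exact ((Fact.out : p.Prime).odd_of_ne_two hp).pow

/-- An element of twice a given order p^b * M in PSp. -/
theorem two_mul_mem_of_split (hp : p ≠ 2) {d k b M : ℕ} (hd : 0 < d) (hk : 0 < k) (hdk : d + k = n)
    (hM : M ∣ Nat.card F ^ d - 1 ∨ M ∣ Nat.card F ^ d + 1) (hMo : Odd M) (hpM : ¬ p ∣ M)
    (hb : b = 0 ∨ p ^ (b - 1) < 2 * k) :
    2 * (p ^ b * M) ∈ Set.range (orderOf : Cfsg.PSp n F → ℕ) := by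
  have h2 : (2 : F) ≠ 0 := Ring.two_ne_zero (by rw [ringChar.eq F p]; exact hp)
  obtain ⟨g, hg⟩ := exists_orderOf_sp (F := F) hd hM
  obtain ⟨u, hu⟩ := exists_orderOf_sp_prime_pow (F := F) hb
  let e : Fin n ≃ Fin d ⊕ Fin k := (finCongr hdk.symm).trans finSumFinEquiv.symm
  set s := spBlock (F := F) e (g, u) with hs
  have ho : orderOf s = p ^ b * M := by
    rw [hs, orderOf_injective _ (spBlock_injective e), Prod.orderOf, hg, hu, mul_comm]
    exact Nat.Coprime.lcm_eq_mul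
      (Nat.Coprime.pow_right _ ((Nat.Prime.coprime_iff_not_dvd Fact.out).2 hpM).symm)
  haveI : Nonempty (Fin d) := ⟨⟨0, hd⟩⟩
  haveI : Nonempty (Fin k) := ⟨⟨0, hk⟩⟩
  haveI : Nonempty (Fin n) := ⟨⟨0, by omega⟩⟩
  rw [← ho]
  refine two_mul_mem_range (by omega) (t := spBlock e (1, spNegOne (Fin k) F)) ?_ ?_
    (spBlock_one_negOne_not_central h2 e) ?_
  · rw [ho]; exact (((Fact.out : p.Prime).odd_of_ne_two hp).pow).mul hMo
  · exact (show Commute (g, u) (1, spNegOne (Fin k) F) from Commute.prod (Commute.one_right g)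
      (show Commute u (spNegOne (Fin k) F) from Subgroup.mem_center_iff.1 spNegOne_mem_center u)).map (spBlock e)
  · rw [← map_mul, Prod.mk_mul_mk, one_mul, spNegOne_mul_self, ← Prod.one_eq_mk, map_one]
    exact one_mem _

/-- Elements of order dividing the odd torus. -/
theorem exists_psp_orderOf_oddTorus (hp : p ≠ 2) (hn : 1 ≤ n) {M : ℕ} (hM : M ∣ oddTorus F n) :
    Odd M ∧ M ∈ Set.range (orderOf : Cfsg.PSp n F → ℕ) := by
  have hq : Odd (Nat.card F ^ n) := (card_odd (F := F) hp).pow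
  obtain ⟨j, hj⟩ := hq
  have hT : Odd (oddTorus F n) ∧
      (oddTorus F n ∣ Nat.card F ^ n - 1 ∨ oddTorus F n ∣ Nat.card F ^ n + 1) := by
    unfold oddTorus
    split_ifs with h
    · refine ⟨Nat.odd_iff.2 (by omega), Or.inl ⟨2, by omega⟩⟩
    · refine ⟨Nat.odd_iff.2 (by omega), Or.inr ⟨2, by omega⟩⟩
  have hMo := hT.1.of_dvd_nat hM
  obtain ⟨g, hg⟩ := exists_orderOf_sp (F := F) (d := n) (M := M) hn
    (hT.2.imp hM.trans hM.trans)
  exact ⟨hMo, QuotientGroup.mk g, by rw [orderOf_mk_of_odd hn (by rwa [hg]), hg]⟩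

/-- Every element of odd order of PSp_2n(q) doubles, or has order p^(j+1) with 2n - 1 = p^j,
or has order dividing the odd torus. -/
theorem psp_odd_order_cases (hp : p ≠ 2) (hn : 2 ≤ n) (x : Cfsg.PSp n F) (hx : Odd (orderOf x)) :
    2 * orderOf x ∈ Set.range (orderOf : Cfsg.PSp n F → ℕ) ∨
      (∃ j, 2 * n - 1 = p ^ j ∧ orderOf x = p ^ (j + 1)) ∨ orderOf x ∣ oddTorus F n := by
  obtain ⟨A, -, hA⟩ := exists_lift_odd (by omega) x hx
  obtain ⟨a, M, hM, hfac⟩ :=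
    Nat.exists_eq_pow_mul_and_not_dvd (orderOf_pos A).ne' p (Fact.out : p.Prime).ne_one
  have hAo : Odd (orderOf A) := hA ▸ hx
  have hMo : Odd M := by rw [hfac] at hAo; exact (Nat.odd_mul.1 hAo).2
  rcases sp_odd_dichotomy hp (by omega) A hfac hAo hM with
    ⟨t, hc, ht, ht2⟩ | ⟨rfl, ha⟩ | ⟨d, k, hdk, ha, hT⟩
  · exact Or.inl (hA ▸ two_mul_mem_range (by omega) hAo hc ht ht2)
  · rw [mul_one] at hfac
    by_cases hb : a = 0 ∨ p ^ (a - 1) < 2 * (n - 1)
    · left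
      have := two_mul_mem_of_split (F := F) (n := n) hp one_pos (show 0 < n - 1 by omega) (by omega)
        (Or.inl (one_dvd _)) odd_one (Nat.Prime.not_dvd_one Fact.out) hb
      rwa [mul_one, ← hfac, hA] at this
    · right; left
      rcases a with _ | a
      · exact absurd (Or.inl rfl) hb
      · simp only [Nat.succ_ne_zero, false_or, Nat.add_sub_cancel] at hb ha
        have hodd : Odd (p ^ a) := ((Fact.out : p.Prime).odd_of_ne_two hp).pow
        refine ⟨a, ?_, by rw [← hA, hfac]⟩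
        obtain ⟨j, hj⟩ := hodd
        omega
  · have hd0 : 0 < d := Nat.pos_of_ne_zero (by rintro rfl; omega)
    rcases Nat.lt_or_ge d n with hlt | hge
    · left
      have h2k : 2 ≤ k := by
        by_contra h
        nlinarith [Nat.le_of_lt_succ (Nat.lt_of_not_le h)]
      have hb : a = 0 ∨ p ^ (a - 1) < 2 * (n - d) := by
        refine ha.imp_right fun h => lt_of_lt_of_le h ?_
        have : d + (k - 1) ≤ n := by nlinarith [Nat.sub_add_cancel (show 1 ≤ k by omega)]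
        omega
      have := two_mul_mem_of_split (F := F) (n := n) hp hd0 (show 0 < n - d by omega) (by omega)
        (hT.imp (fun h => h.2) (fun h => h.2)) hMo hM hb
      rwa [← hfac, hA] at this
    · right; right
      have hk : k = 1 := by
        have : k ≠ 0 := by rintro rfl; omega
        nlinarith [Nat.one_le_iff_ne_zero.2 this]
      subst hk
      rw [mul_one] at hdk
      subst hdk
      have ha0 : a = 0 := ha.elim id fun h => absurd h (Nat.not_lt.2 (Nat.one_le_pow _ _ (Fact.out : p.Prime).pos))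
      rw [← hA, hfac, ha0, pow_zero, one_mul]
      have hq : Odd (Nat.card F ^ d) := (card_odd (F := F) hp).pow
      obtain ⟨i, hi⟩ := hq
      have hcop : Nat.Coprime M 2 := Nat.coprime_two_right.2 hMo
      rcases hT with ⟨h4, hd'⟩ | ⟨h4, hd'⟩
      · rw [oddTorus, if_pos h4]
        refine hcop.dvd_of_dvd_mul_right ?_
        rwa [Nat.div_mul_cancel (show 2 ∣ Nat.card F ^ d - 1 by omega)]
      · rw [oddTorus, if_neg (by omega)]
        refine hcop.dvd_of_dvd_mul_right ?_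
        rwa [Nat.div_mul_cancel (show 2 ∣ Nat.card F ^ d + 1 by omega)]

end H49

namespace H49

variable {Y E : Type*} [Group Y] [Group E]

/-- Absorbing an exponent two factor into a triple product. -/
theorem absorb_three (hE : ∀ e : E, e ^ 2 = 1)
    (hinv : 2 ∈ Set.range (orderOf : Y → ℕ)) (P T : ℕ → Prop)
    (hcase : ∀ y : Y, Odd (orderOf y) → 2 * orderOf y ∈ Set.range (orderOf : Y → ℕ) ∨
      P (orderOf y) ∨ T (orderOf y))
    (hP : ∀ a b, P a → P b → a = b)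
    (hT : ∀ a b, T a → T b → Nat.lcm a b ∈ Set.range (orderOf : Y → ℕ)) :
    Set.range (orderOf : Y × Y × Y × E → ℕ) = Set.range (orderOf : Y × Y × Y → ℕ) := by
  refine Set.Subset.antisymm ?_ ?_
  swap
  · rintro _ ⟨⟨a, b, c⟩, rfl⟩
    exact ⟨(a, b, c, 1), by simp [Prod.orderOf]⟩
  rintro _ ⟨⟨a, b, c, e⟩, rfl⟩
  simp only [Prod.orderOf]
  rcases (Nat.dvd_prime Nat.prime_two).1 (orderOf_dvd_of_pow_eq_one (hE e)) with he | he <;> rw [he]
  · exact ⟨(a, b, c), by simp [Prod.orderOf]⟩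
  set L := Nat.lcm (orderOf a) (Nat.lcm (orderOf b) (orderOf c)) with hL
  have hrw : Nat.lcm (orderOf a) (Nat.lcm (orderOf b) (Nat.lcm (orderOf c) 2)) = Nat.lcm L 2 := by
    rw [hL, Nat.lcm_assoc, Nat.lcm_assoc]
  rw [hrw]
  have mk : ∀ x y z : ℕ, x ∈ Set.range (orderOf : Y → ℕ) → y ∈ Set.range (orderOf : Y → ℕ) →
      z ∈ Set.range (orderOf : Y → ℕ) → Nat.lcm x (Nat.lcm y z) = Nat.lcm L 2 →
      Nat.lcm L 2 ∈ Set.range (orderOf : Y × Y × Y → ℕ) := by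
    rintro _ _ _ ⟨x, rfl⟩ ⟨y, rfl⟩ ⟨z, rfl⟩ h
    exact ⟨(x, y, z), by simp [Prod.orderOf, h]⟩
  have ma : orderOf a ∈ Set.range (orderOf : Y → ℕ) := ⟨a, rfl⟩
  have mb : orderOf b ∈ Set.range (orderOf : Y → ℕ) := ⟨b, rfl⟩
  have mc : orderOf c ∈ Set.range (orderOf : Y → ℕ) := ⟨c, rfl⟩
  have heven : ∀ o : ℕ, o ∣ L → ¬ Odd o → Nat.lcm L 2 = L := fun o ho hodd =>
    Nat.lcm_eq_left ((even_iff_two_dvd.1 (Nat.not_odd_iff_even.1 hodd)).trans ho)
  have hda : orderOf a ∣ L := Nat.dvd_lcm_left _ _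
  have hdb : orderOf b ∣ L := (Nat.dvd_lcm_left _ _).trans (Nat.dvd_lcm_right _ _)
  have hdc : orderOf c ∣ L := (Nat.dvd_lcm_right _ _).trans (Nat.dvd_lcm_right _ _)
  have l2 : ∀ o : ℕ, Odd o → 2 * o = Nat.lcm o 2 := fun o ho => by
    rw [(Nat.coprime_two_right.2 ho).lcm_eq_mul, mul_comm]
  by_cases hao : Odd (orderOf a)
  swap; · exact mk _ _ _ ma mb mc (heven _ hda hao).symm
  by_cases hbo : Odd (orderOf b)
  swap; · exact mk _ _ _ ma mb mc (heven _ hdb hbo).symm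
  by_cases hco : Odd (orderOf c)
  swap; · exact mk _ _ _ ma mb mc (heven _ hdc hco).symm
  rcases hcase a hao with h | hA
  · refine mk _ _ _ h mb mc ?_
    rw [l2 _ hao, hL]; ac_rfl
  rcases hcase b hbo with h | hB
  · refine mk _ _ _ ma h mc ?_
    rw [l2 _ hbo, hL]; ac_rfl
  rcases hcase c hco with h | hC
  · refine mk _ _ _ ma mb h ?_
    rw [l2 _ hco, hL]; ac_rfl
  have merge : ∀ x y, (P x ∧ P y ∧ x ∈ Set.range (orderOf : Y → ℕ)) ∨ (T x ∧ T y) →
      Nat.lcm x y ∈ Set.range (orderOf : Y → ℕ) := by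
    rintro x y (⟨hx, hy, hm⟩ | ⟨hx, hy⟩)
    · rwa [← hP x y hx hy, Nat.lcm_self]
    · exact hT x y hx hy
  have : (P (orderOf a) ∧ P (orderOf b) ∨ T (orderOf a) ∧ T (orderOf b)) ∨
      (P (orderOf a) ∧ P (orderOf c) ∨ T (orderOf a) ∧ T (orderOf c)) ∨
      (P (orderOf b) ∧ P (orderOf c) ∨ T (orderOf b) ∧ T (orderOf c)) := by tauto
  rcases this with h | h | h
  · refine mk _ _ _ (merge _ _ (h.imp (fun h => ⟨h.1, h.2, ma⟩) id)) mc hinv ?_
    rw [hL]; ac_rfl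
  · refine mk _ _ _ (merge _ _ (h.imp (fun h => ⟨h.1, h.2, ma⟩) id)) mb hinv ?_
    rw [hL]; ac_rfl
  · refine mk _ _ _ (merge _ _ (h.imp (fun h => ⟨h.1, h.2, mb⟩) id)) ma hinv ?_
    rw [hL]; ac_rfl

/-- Absorbing an exponent two factor into a square. -/
theorem absorb_two (hE : ∀ e : E, e ^ 2 = 1)
    (hinv : 2 ∈ Set.range (orderOf : Y → ℕ)) (T : ℕ → Prop)
    (hcase : ∀ y : Y, Odd (orderOf y) → 2 * orderOf y ∈ Set.range (orderOf : Y → ℕ) ∨ T (orderOf y))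
    (hT : ∀ a b, T a → T b → Nat.lcm a b ∈ Set.range (orderOf : Y → ℕ)) :
    Set.range (orderOf : Y × Y × E → ℕ) = Set.range (orderOf : Y × Y → ℕ) := by
  refine Set.Subset.antisymm ?_ ?_
  swap
  · rintro _ ⟨⟨a, b⟩, rfl⟩
    exact ⟨(a, b, 1), by simp [Prod.orderOf]⟩
  rintro _ ⟨⟨a, b, e⟩, rfl⟩
  simp only [Prod.orderOf]
  rcases (Nat.dvd_prime Nat.prime_two).1 (orderOf_dvd_of_pow_eq_one (hE e)) with he | he <;> rw [he]
  · exact ⟨(a, b), by simp [Prod.orderOf]⟩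
  rw [show Nat.lcm (orderOf a) (Nat.lcm (orderOf b) 2) = Nat.lcm (Nat.lcm (orderOf a) (orderOf b)) 2
    from (Nat.lcm_assoc _ _ _).symm]
  set L := Nat.lcm (orderOf a) (orderOf b) with hL
  have mk : ∀ x y : ℕ, x ∈ Set.range (orderOf : Y → ℕ) → y ∈ Set.range (orderOf : Y → ℕ) →
      Nat.lcm x y = Nat.lcm L 2 → Nat.lcm L 2 ∈ Set.range (orderOf : Y × Y → ℕ) := by
    rintro _ _ ⟨x, rfl⟩ ⟨y, rfl⟩ h
    exact ⟨(x, y), by simp [Prod.orderOf, h]⟩
  have l2 : ∀ o : ℕ, Odd o → 2 * o = Nat.lcm o 2 := fun o ho => by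
    rw [(Nat.coprime_two_right.2 ho).lcm_eq_mul, mul_comm]
  have heven : ∀ o : ℕ, o ∣ L → ¬ Odd o → Nat.lcm L 2 = L := fun o ho hodd =>
    Nat.lcm_eq_left ((even_iff_two_dvd.1 (Nat.not_odd_iff_even.1 hodd)).trans ho)
  by_cases hao : Odd (orderOf a)
  swap; · exact mk _ _ ⟨a, rfl⟩ ⟨b, rfl⟩ (heven _ (Nat.dvd_lcm_left _ _) hao).symm
  by_cases hbo : Odd (orderOf b)
  swap; · exact mk _ _ ⟨a, rfl⟩ ⟨b, rfl⟩ (heven _ (Nat.dvd_lcm_right _ _) hbo).symm
  rcases hcase a hao with h | hA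
  · refine mk _ _ h ⟨b, rfl⟩ ?_
    rw [l2 _ hao, hL]; ac_rfl
  rcases hcase b hbo with h | hB
  · refine mk _ _ ⟨a, rfl⟩ h ?_
    rw [l2 _ hbo, hL]; ac_rfl
  exact mk _ _ (hT _ _ hA hB) hinv rfl

end H49
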