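import Cfsg.Agent.H49.SubfieldMax

/-!
The subfield subgroup of prime index is maximal in the symplectic group.
-/

set_option autoImplicit false

namespace H49

open Matrix
open H48 (sf tv)

variable {m : ℕ} {F : Type*} [Field F]

local notation "V" => (Fin m ⊕ Fin m → F)
local notation "Sp" => Matrix.symplecticGroup (Fin m) F
local notation "ι" => (Fin m ⊕ Fin m)

/-- A multiple of a rational vector. -/
def IsRatLine (F₀ : Subfield F) (v : Fin m ⊕ Fin m → F) : Prop :=
  ∃ (a : F) (u : Fin m ⊕ Fin m → F), (∀ i, u i ∈ F₀) ∧ v = a • u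

theorem eq_top_of_lt_subfield [Fintype F] {F₀ S : Subfield F} {r : ℕ} (hr : r.Prime)
    (hcard : Fintype.card F = Nat.card F₀ ^ r) (hle : F₀ ≤ S) (hne : ¬ S ≤ F₀) : ∀ c, c ∈ S := by
  haveI : Fintype F₀ := Fintype.ofFinite _
  have hfr : Module.finrank F₀ F = r := by
    have h1 : Fintype.card F = Fintype.card F₀ ^ Module.finrank F₀ F := Module.card_eq_pow_finrank
    rw [hcard, Nat.card_eq_fintype_card] at h1
    exact (Nat.pow_right_injective Fintype.one_lt_card h1).symm
  haveI := IntermediateField.isSimpleOrder_of_finrank_prime F₀ F (hfr.symm ▸ hr)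
  let T : IntermediateField F₀ F := S.toIntermediateField fun x => hle x.2
  intro c
  rcases eq_bot_or_eq_top T with h | h
  · exfalso
    apply hne
    intro s hs
    have hs' : s ∈ T := hs
    rw [h, IntermediateField.mem_bot] at hs'
    obtain ⟨a, rfl⟩ := hs'
    exact a.2
  · show c ∈ T
    rw [h]
    exact IntermediateField.mem_top

variable {F₀ : Subfield F} {K : Subgroup (Matrix.symplecticGroup (Fin m) F)} (hm : 5 ≤ m)
  (hK : ∀ g : Matrix.symplecticGroup (Fin m) F, IsRat F₀ g → g ∈ K)
include hm hK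

omit hm hK in
theorem sroot_uvec_smul {a b : ι} (hab : hpair a ≠ hpair b) (v : V) :
    sroot (uvec a) (uvec b) (1 : F) • v - v = sf v (uvec b) • uvec a + sf v (uvec a) • uvec b := by
  rw [sroot_smul (sf_uvec_uvec_eq_zero hab), one_mul, one_mul]
  abel

/-- Products of two coordinates in different hyperbolic pairs. -/
theorem mul_mem_of_ne [Finite F] (S : Subfield F) (hS : ∀ c, c ∈ S ↔ c ∈ shortScalars K)
    {v : V} (hv : tv v 1 ∈ K) {x y : ι} (hxy : hpair x ≠ hpair y) :
    sf v (uvec x) * sf v (uvec y) ∈ S := by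
  classical
  by_cases h2 : (2 : F) = 0
  · obtain ⟨j, hj⟩ := exists_fresh {hpair x, hpair y} (lt_of_le_of_lt Finset.card_le_two (by omega))
    obtain ⟨l, hl⟩ := exists_fresh {hpair x, hpair y, j} (lt_of_le_of_lt Finset.card_le_three (by omega))
    obtain ⟨p, hp⟩ := exists_fresh {hpair x, hpair y, j, l} (lt_of_le_of_lt Finset.card_le_four (by omega))
    simp only [Finset.mem_insert, Finset.mem_singleton, not_or] at hj hl hp
    set a : ι := Sum.inl j with ha
    set b : ι := Sum.inl l with hb
    have hax : hpair a ≠ hpair x := hj.1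
    have hby : hpair b ≠ hpair y := hl.2.1
    have hab : hpair a ≠ hpair b := Ne.symm hl.2.2
    have hay : hpair a ≠ hpair y := hj.2
    have hbx : hpair b ≠ hpair x := hl.1
    have hH : sroot (uvec a) (uvec x) (1 : F) ∈ K := sroot_uvec_mem hK _ _ (one_mem _)
    have hKk : sroot (uvec b) (uvec y) (1 : F) ∈ K := sroot_uvec_mem hK _ _ (one_mem _)
    have h1 : ∀ a x : ι, hpair a ≠ hpair x → sf v (sroot (uvec a) (uvec x) (1 : F) • v - v) = 0 := fun a x h => by
      rw [sroot_uvec_smul h, map_add, map_smul, map_smul, smul_eq_mul, smul_eq_mul]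
      linear_combination (sf v (uvec x) * sf v (uvec a)) * h2
    have h3 : sroot (uvec b) (uvec y) (1 : F) • (sroot (uvec a) (uvec x) (1 : F) • v - v) =
        sroot (uvec a) (uvec x) (1 : F) • v - v := by
      rw [sroot_uvec_smul hax, sroot_smul (sf_uvec_uvec_eq_zero hby)]
      simp [sf_uvec_uvec_eq_zero hab, sf_uvec_uvec_eq_zero hay, sf_uvec_uvec_eq_zero (Ne.symm hbx),
        sf_uvec_uvec_eq_zero hxy]
    obtain ⟨h0, hs⟩ := double_move K hv hH hKk (h1 a x hax) (h1 b y hby) h3
    rw [sroot_uvec_smul hax, sroot_uvec_smul hby] at h0 hs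
    have := coord_mul_mem hm hK h0 hs (x := Sum.inr l) (y := Sum.inr j) (by
        simp [sf_uvec_uvec_eq_zero (show hpair a ≠ hpair (Sum.inr l : ι) from hab),
          sf_uvec_uvec_eq_zero (show hpair x ≠ hpair (Sum.inr l : ι) from Ne.symm hbx)])
      p (hpair y) hp.2.1 (Ne.symm hp.2.2.2) (Ne.symm hp.2.2.1) hj.2
      (fun z hz => by
        constructor <;>
          simp [sf_uvec_uvec_eq_zero (show hpair a ≠ hpair z from hz ▸ Ne.symm hp.2.2.1),
            sf_uvec_uvec_eq_zero (show hpair x ≠ hpair z from hz ▸ Ne.symm hp.1),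
            sf_uvec_uvec_eq_zero (show hpair b ≠ hpair z from hz ▸ Ne.symm hp.2.2.2),
            sf_uvec_uvec_eq_zero (show hpair y ≠ hpair z from hz ▸ Ne.symm hp.2.1)])
      (fun z hz => by
        simp [sf_uvec_uvec_eq_zero (show hpair a ≠ hpair z from hz ▸ hay),
          sf_uvec_uvec_eq_zero (show hpair x ≠ hpair z from hz ▸ hxy)])
    rw [← hS] at this
    have e1 : sf (uvec (F := F) a) (uvec (Sum.inr j)) = usign (Sum.inr j : ι) :=
      sf_uvec_swap (Sum.inr j : ι)
    have e2 : sf (uvec (F := F) b) (uvec (Sum.inr l)) = usign (Sum.inr l : ι) :=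
      sf_uvec_swap (Sum.inr l : ι)
    simp only [map_add, LinearMap.add_apply, map_smul, LinearMap.smul_apply, smul_eq_mul, e1, e2,
      sf_uvec_uvec_eq_zero (show hpair x ≠ hpair (Sum.inr j : ι) from Ne.symm hax),
      sf_uvec_uvec_eq_zero (show hpair y ≠ hpair (Sum.inr l : ι) from Ne.symm hby), mul_zero, add_zero] at this
    convert this using 1
    simp [usign]
    ring
  · obtain ⟨p, hp⟩ := exists_fresh {hpair x, hpair y} (lt_of_le_of_lt Finset.card_le_two (by omega))
    obtain ⟨q, hq⟩ := exists_fresh {hpair x, hpair y, p} (lt_of_le_of_lt Finset.card_le_three (by omega))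
    simp only [Finset.mem_insert, Finset.mem_singleton, not_or] at hp hq
    have hδ : ∀ (i : Fin m) (z : ι), sf (negPair i • v - v) (uvec z) =
        if hpair z = i then -2 * sf v (uvec z) else 0 := fun i z => by
      rw [sf_uvec, sf_uvec, Pi.sub_apply, negPair_smul, hpair_swap]
      split_ifs <;> ring
    have h1 : ∀ i : Fin m, sf v (negPair i • v - v) = 0 := fun i => by
      rw [H48.sf_apply]
      refine Finset.sum_eq_zero fun j _ => ?_
      rw [Pi.sub_apply, Pi.sub_apply, negPair_smul, negPair_smul]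
      by_cases hj : j = i <;> simp [hj, hpair]
      ring
    have h3 : negPair (F := F) (hpair y) • (negPair (F := F) (hpair x) • v - v) = negPair (F := F) (hpair x) • v - v := by
      funext z
      rw [negPair_smul, Pi.sub_apply, negPair_smul]
      by_cases hzy : hpair z = hpair y
      · rw [if_pos hzy, if_neg (show ¬ hpair z = hpair x from fun e => hxy (e.symm.trans hzy))]
        ring
      · rw [if_neg hzy, one_mul]
    obtain ⟨h0, hs⟩ := double_move K hv (hK _ (isRat_negPair _)) (hK _ (isRat_negPair _))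
      (h1 (hpair x)) (h1 (hpair y)) h3
    have := coord_mul_mem hm hK h0 hs (x := y) (y := x) (by rw [hδ, if_neg (Ne.symm hxy)])
      p q (Ne.symm hq.2.2) (Ne.symm hp.2) (Ne.symm hp.1) (Ne.symm hq.1)
      (fun z hz => by
        constructor
        · rw [hδ, if_neg (hz ▸ hp.1)]
        · rw [hδ, if_neg (hz ▸ hp.2)])
      (fun z hz => by rw [hδ, if_neg (hz ▸ hq.1)])
    rw [← hS, hδ, hδ, if_pos rfl, if_pos rfl] at this
    have h4 : ((2 : F) * 2) ≠ 0 := mul_ne_zero h2 h2
    have h4S : ((2 : F) * 2)⁻¹ ∈ S := inv_mem (mul_mem (ofNat_mem S 2) (ofNat_mem S 2))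
    convert mul_mem h4S this using 1
    field_simp

/-- All products of two coordinates. -/
theorem mul_mem_all [Finite F] (S : Subfield F) (hS : ∀ c, c ∈ S ↔ c ∈ shortScalars K)
    {v : V} (hv : tv v 1 ∈ K) (x y : ι) : sf v (uvec x) * sf v (uvec y) ∈ S := by
  classical
  by_cases hxy : hpair x = hpair y
  swap
  · exact mul_mem_of_ne hm hK S hS hv hxy
  rcases eq_or_ne (sf v (uvec x)) 0 with h0 | hx0
  · rw [h0, zero_mul]; exact zero_mem _
  rcases eq_or_ne (sf v (uvec y)) 0 with h0 | hy0
  · rw [h0, mul_zero]; exact zero_mem _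
  by_cases hthree : ∃ z w, hpair z ≠ hpair x ∧ hpair w ≠ hpair x ∧ hpair z ≠ hpair w ∧
      sf v (uvec z) ≠ 0 ∧ sf v (uvec w) ≠ 0
  · obtain ⟨z, w, hz, hw, hzw, hz0, hw0⟩ := hthree
    have h := div_mem (mul_mem (mul_mem_of_ne hm hK S hS hv (x := x) (y := z) (Ne.symm hz))
      (mul_mem_of_ne hm hK S hS hv (x := y) (y := w) (hxy ▸ Ne.symm hw))) (mul_mem_of_ne hm hK S hS hv hzw)
    convert h using 1
    field_simp
  · simp only [not_exists, not_and, not_not] at hthree
    have hzero : ∃ s : Finset (Fin m), s.card ≤ 2 ∧ ∀ z, hpair z ∉ s → sf v (uvec z) = 0 := by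
      by_cases h1 : ∃ z, hpair z ≠ hpair x ∧ sf v (uvec z) ≠ 0
      · obtain ⟨z, hz, hz0⟩ := h1
        refine ⟨{hpair x, hpair z}, Finset.card_le_two, fun w hw => ?_⟩
        simp only [Finset.mem_insert, Finset.mem_singleton, not_or] at hw
        exact hthree z w hz hw.1 (Ne.symm hw.2) hz0
      · simp only [not_exists, not_and, not_not] at h1
        exact ⟨{hpair x}, by simp, fun z hz => h1 z (by simpa using hz)⟩
    obtain ⟨s, hs, hs0⟩ := hzero
    obtain ⟨p, hp⟩ := exists_fresh s (by omega)
    obtain ⟨q, hq⟩ := exists_fresh (insert p s) (lt_of_le_of_lt (Finset.card_insert_le _ _) (by omega))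
    simp only [Finset.mem_insert, not_or] at hq
    have hxp : p ≠ hpair x := fun e => hx0 (hs0 x (e ▸ hp))
    have hyq : q ≠ hpair y := fun e => hy0 (hs0 y (e ▸ hq.2))
    have hpy : p ≠ hpair y := hxy ▸ hxp
    set a : ι := Sum.inl p
    set b : ι := Sum.inl q
    have hax : hpair a ≠ hpair x := hxp
    have hby : hpair b ≠ hpair y := hyq
    have hab : hpair a ≠ hpair b := Ne.symm hq.1
    have ha0 : sf v (uvec a) = 0 := hs0 a hp
    have hb0 : sf v (uvec b) = 0 := hs0 b hq.2
    have e1 : sroot (uvec a) (uvec x) (1 : F) • v - v = sf v (uvec x) • uvec a := by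
      rw [sroot_uvec_smul hax, ha0, zero_smul, add_zero]
    have e2 : sroot (uvec b) (uvec y) (1 : F) • v - v = sf v (uvec y) • uvec b := by
      rw [sroot_uvec_smul hby, hb0, zero_smul, add_zero]
    obtain ⟨-, hs'⟩ := double_move K hv (h := sroot (uvec a) (uvec x) 1) (k := sroot (uvec b) (uvec y) 1)
      (sroot_uvec_mem hK _ _ (one_mem _)) (sroot_uvec_mem hK _ _ (one_mem _))
      (by rw [e1, map_smul, ha0, smul_zero]) (by rw [e2, map_smul, hb0, smul_zero])
      (by
        rw [e1, sroot_smul (sf_uvec_uvec_eq_zero hby)]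
        simp [sf_uvec_uvec_eq_zero hab, sf_uvec_uvec_eq_zero (show hpair a ≠ hpair y from hpy)])
    have hba : sf (uvec (F := F) b) (uvec a) = 0 := sf_uvec_uvec_eq_zero (Ne.symm hab)
    rw [e1, e2, sroot_scale_left _ _ (by rw [map_smul, hba, smul_zero]), sroot_scale_right _ _ hba,
      mul_one] at hs'
    rw [hS]
    exact mem_shortScalars_of hm hK (x := b) (y := a) (Ne.symm hab) hs'

/-- A centre outside the rational lines enlarges the short scalars to the whole field. -/
theorem shortScalars_eq_univ [Fintype F] {r : ℕ} (hr : r.Prime) (hcard : Fintype.card F = Nat.card F₀ ^ r)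
    {v : V} (hv : tv v 1 ∈ K) (hnot : ¬ IsRatLine F₀ v) : ∀ c, c ∈ shortScalars K := by
  obtain ⟨S, hS, hle⟩ := exists_shortField hm hK
  refine fun c => (hS c).1 (eq_top_of_lt_subfield hr hcard hle (fun hge => hnot ?_) c)
  by_cases h0 : ∀ x, sf v (uvec x) = 0
  · exact ⟨0, 0, fun i => zero_mem _, by funext i; rw [apply_eq_sf v i, h0]; simp⟩
  simp only [not_forall] at h0
  obtain ⟨x₀, hx₀⟩ := h0
  refine ⟨sf v (uvec x₀), (sf v (uvec x₀))⁻¹ • v, fun i => ?_, by rw [smul_smul, mul_inv_cancel₀ hx₀, one_smul]⟩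
  have h := hge (mul_mem_all hm hK S hS hv x₀ i.swap)
  have hsq := hge (mul_mem_all hm hK S hS hv x₀ x₀)
  have : ((sf v (uvec x₀))⁻¹ • v) i =
      usign i.swap * (sf v (uvec x₀) * sf v (uvec i.swap) / (sf v (uvec x₀) * sf v (uvec x₀))) := by
    rw [Pi.smul_apply, smul_eq_mul, apply_eq_sf v i]
    field_simp
  rw [this]
  exact mul_mem (usign_rat _) (div_mem h hsq)

/-- Full short scalars give everything. -/
theorem eq_top_of_shortScalars [Finite F] (hS : ∀ c, c ∈ shortScalars K) : K = ⊤ := by
  classical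
  haveI := Fintype.ofFinite F
  have hsr : ∀ x y : ι, hpair x ≠ hpair y → ∀ c : F, sroot (uvec x) (uvec y) c ∈ K :=
    fun x y h c => hS c x y h
  have hsq : ∀ (y : ι) (t : F), tv (uvec y) (t * t) ∈ K := by
    intro y t
    obtain ⟨p, hp⟩ := exists_fresh {hpair y} (by simp; omega)
    rw [Finset.mem_singleton] at hp
    set x : ι := Sum.inl p with hx
    have hxy : hpair x ≠ hpair y := hp
    have h0 := sf_uvec_uvec_eq_zero (F := F) hxy
    have hg : sroot (uvec y) (uvec (Sum.inr p : ι)) t ∈ K := hsr y (Sum.inr p) (Ne.symm hp) t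
    have hgx : sroot (uvec y) (uvec (Sum.inr p : ι)) t • uvec (F := F) x =
        uvec x + (t * usign (Sum.inr p : ι)) • uvec y := by
      rw [sroot_smul (sf_uvec_uvec_eq_zero (x := y) (y := Sum.inr p) (Ne.symm hp)), h0,
        show x = (Sum.inr p : ι).swap from rfl, sf_uvec_swap]
      simp
    have h1 : tv (uvec (F := F) x + (t * usign (Sum.inr p : ι)) • uvec (F := F) y) 1 ∈ K := by
      rw [← hgx, ← H48.tv_conj]
      exact mul_mem (mul_mem hg (hK _ (isRat_tv (uvec_rat x) (one_mem _)))) (inv_mem hg)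
    have h2 : sroot (uvec (F := F) x) ((t * usign (Sum.inr p : ι)) • uvec (F := F) y) 1 ∈ K := by
      rw [sroot_scale_right _ _ h0]
      exact hsr _ _ hxy _
    have h3 : tv ((t * usign (Sum.inr p : ι)) • uvec (F := F) y) (-1) ∈ K := by
      have e : tv ((t * usign (Sum.inr p : ι)) • uvec (F := F) y) (-1) = tv (uvec (F := F) x) 1 *
          ((tv (uvec (F := F) x + (t * usign (Sum.inr p : ι)) • uvec (F := F) y) 1)⁻¹ *
            sroot (uvec (F := F) x) ((t * usign (Sum.inr p : ι)) • uvec (F := F) y) 1) := by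
        rw [sroot, inv_mul_cancel_left, ← mul_assoc, H48.tv_mul, add_neg_cancel, H48.tv_zero, one_mul]
      rw [e]
      exact mul_mem (hK _ (isRat_tv (uvec_rat x) (one_mem _))) (mul_mem (inv_mem h1) h2)
    have h4 := inv_mem h3
    rw [H48.tv_inv, neg_neg, H48.tv_scale] at h4
    convert h4 using 2
    simp [usign]
  have hctr : ∀ y : ι, IsCtr K (uvec y) := by
    intro y c
    by_cases h2 : (2 : F) = 0
    · obtain ⟨t, rfl⟩ := FiniteField.isSquare_of_char_two
        (CharP.ringChar_of_prime_eq_zero Nat.prime_two (by exact_mod_cast h2)) c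
      exact hsq y t
    · have e : c = ((c + 1) / 2) * ((c + 1) / 2) + -(((c - 1) / 2) * ((c - 1) / 2)) := by
        field_simp
        ring
      rw [e, ← H48.tv_mul, ← H48.tv_inv]
      exact mul_mem (hsq y _) (inv_mem (hsq y _))
  apply eq_top_of_ctr
  suffices h : ∀ s : Finset ι, ∀ v : V, (∀ x ∉ s, v x = 0) → IsCtr K v by
    exact fun v => h Finset.univ v (fun x hx => absurd (Finset.mem_univ x) hx)
  intro s
  induction s using Finset.induction with
  | empty =>
    intro v hv c
    rw [show v = 0 from funext fun x => hv x (Finset.notMem_empty x), H48.tv_zero_left]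
    exact one_mem _
  | @insert k s hk ih =>
    intro v hv
    set v' := v - v k • uvec k with hv'
    have hv'C : IsCtr K v' := ih v' fun x hx => by
      by_cases hxk : x = k
      · subst hxk; simp [v', uvec]
      · simp [v', uvec, hxk, hv x (by simp [hxk, hx])]
    have hdec : v' + v k • uvec k = v := sub_add_cancel _ _
    rw [← hdec]
    by_cases hne : sf v' (uvec k) ≠ 0
    · exact hv'C.add_smul_of_ne (hctr k) hne _
    rw [not_not] at hne
    by_cases hy : ∃ y, hpair y ≠ hpair k ∧ sf v' (uvec y) ≠ 0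
    · obtain ⟨y, hyk, hy0⟩ := hy
      have := hv'C.group_smul (hsr k y (Ne.symm hyk) (v k / sf v' (uvec y)))
      rw [sroot_smul (sf_uvec_uvec_eq_zero (Ne.symm hyk)), hne, mul_zero, zero_smul, add_zero,
        div_mul_cancel₀ _ hy0] at this
      exact this
    simp only [not_exists, not_and, not_not] at hy
    have hprop : v' = v' k • uvec k := by
      funext z
      by_cases hz : z = k
      · subst hz; simp [uvec]
      · rw [apply_eq_sf v' z]
        have : sf v' (uvec z.swap) = 0 := by
          by_cases hp : hpair z.swap = hpair k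
          · have : z.swap = k := by
              rw [hpair_swap] at hp
              rcases z with i | i <;> rcases k with j | j <;> simp_all [hpair]
            rw [this]; exact hne
          · exact hy _ hp
        rw [this, mul_zero]
        simp [uvec, hz]
    rw [hprop, ← add_smul]
    exact (hctr k).smul_vec _

omit hm hK in
/-- Elements preserving the rational lines are scalar multiples of rational ones. -/
theorem exists_scalar_of_ratLines (hm : 2 ≤ m) (g : Sp)
    (h : ∀ u : V, (∀ i, u i ∈ F₀) → IsRatLine F₀ (g • u)) :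
    ∃ a : F, a ≠ 0 ∧ ∀ i j, a⁻¹ * (g : Matrix ι ι F) i j ∈ F₀ := by
  classical
  choose a u hu he using fun x : ι => h (uvec x) (uvec_rat x)
  have hprod : ∀ x : ι, a x * a x.swap ∈ F₀ := fun x => by
    have h1 : sf (g • uvec (F := F) x.swap) (g • uvec x) = usign x := by
      rw [H48.sf_smul_smul, sf_uvec_swap]
    rw [he, he, map_smul, map_smul, LinearMap.smul_apply, smul_eq_mul, smul_eq_mul] at h1
    have hne : sf (u x.swap) (u x) ≠ 0 := fun e => by
      rw [e, mul_zero, mul_zero] at h1
      rcases x with i | i <;> simp [usign] at h1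
    have : a x * a x.swap = usign x / sf (u x.swap) (u x) := by
      rw [eq_div_iff hne]; linear_combination h1
    rw [this]
    exact div_mem (usign_rat x) (sf_rat (hu _) (hu _))
  have ha : ∀ x, a x ≠ 0 := fun x e => by
    have := he x
    rw [e, zero_smul, smul_eq_zero_iff_eq] at this
    simpa [uvec] using congrFun this x
  have hstep : ∀ x y : ι, hpair x ≠ hpair y → a y / a x ∈ F₀ := by
    intro x y hxy
    obtain ⟨b, w, hw, hbw⟩ := h (uvec x + uvec y) fun i => add_mem (uvec_rat x i) (uvec_rat y i)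
    have key : ∀ z : ι, sf (uvec (F := F) x + uvec y) (uvec z) = usign z → b * a z ∈ F₀ := by
      intro z hz
      have h1 := H48.sf_smul_smul g (uvec (F := F) x + uvec y) (uvec z)
      rw [hbw, he, map_smul, map_smul, LinearMap.smul_apply, smul_eq_mul, smul_eq_mul, hz] at h1
      have hne : sf w (u z) ≠ 0 := fun e => by
        rw [e, mul_zero, mul_zero] at h1
        rcases z with i | i <;> simp [usign] at h1
      have : b * a z = usign z / sf w (u z) := by rw [eq_div_iff hne]; linear_combination h1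
      rw [this]
      exact div_mem (usign_rat z) (sf_rat hw (hu _))
    have h1 := key x.swap (by
      have e := sf_uvec_swap (F := F) x.swap
      rw [Sum.swap_swap] at e
      rw [map_add, LinearMap.add_apply, e, sf_uvec_uvec_eq_zero (by rw [hpair_swap]; exact Ne.symm hxy),
        add_zero])
    have h2 := key y.swap (by
      have e := sf_uvec_swap (F := F) y.swap
      rw [Sum.swap_swap] at e
      rw [map_add, LinearMap.add_apply, e, sf_uvec_uvec_eq_zero (by rw [hpair_swap]; exact hxy), zero_add])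
    have hb : b ≠ 0 := fun e => by
      rw [e, zero_smul, smul_eq_zero_iff_eq] at hbw
      have := congrFun hbw x
      rw [Pi.add_apply, uvec, uvec, Pi.single_eq_same, Pi.single_apply,
        if_neg (fun e : x = y => hxy (by rw [e])), add_zero] at this
      exact one_ne_zero this
    have := div_mem (div_mem h1 h2) (div_mem (hprod x) (hprod y))
    have e : a y / a x = b * a x.swap / (b * a y.swap) / (a x * a x.swap / (a y * a y.swap)) := by
      field_simp [ha x, ha y, ha x.swap, ha y.swap, hb]
    rwa [e]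
  let x₀ : ι := Sum.inl ⟨0, by omega⟩
  refine ⟨a x₀, ha x₀, fun i j => ?_⟩
  have hj : a j / a x₀ ∈ F₀ := by
    by_cases hp : hpair j = hpair x₀
    · let x₁ : ι := Sum.inl ⟨1, by omega⟩
      have h01 : hpair x₀ ≠ hpair x₁ := by simp [x₀, x₁, hpair]
      have := mul_mem (hstep x₀ x₁ h01) (hstep x₁ j (fun e => h01 (hp.symm.trans e.symm)))
      convert this using 1
      field_simp [ha x₁]
    · exact hstep x₀ j (Ne.symm hp)
  have hg : (g : Matrix ι ι F) i j = a j * u j i := by
    have := congrFun (he j) i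
    rw [H48.spSmulDef, uvec, mulVec_single_one] at this
    exact this
  rw [hg, ← mul_assoc, inv_mul_eq_div]
  exact mul_mem hj (hu j i)

/-- The maximality statement for the standard rational structure. -/
theorem eq_top_of_subfield [Fintype F] {r : ℕ} (hr : r.Prime) (hcard : Fintype.card F = Nat.card F₀ ^ r)
    {g : Sp} (hg : g ∈ K) (hnot : ¬ ∃ a : F, a ≠ 0 ∧ ∀ i j, a⁻¹ * (g : Matrix ι ι F) i j ∈ F₀) :
    K = ⊤ := by
  by_contra hne
  apply hnot
  refine exists_scalar_of_ratLines (by omega) g fun u hu => ?_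
  by_contra hline
  apply hne
  refine eq_top_of_shortScalars hm hK (shortScalars_eq_univ hm hK hr hcard (v := g • u) ?_ hline)
  rw [← H48.tv_conj]
  exact mul_mem (mul_mem hg (hK _ (isRat_tv hu (one_mem _)))) (inv_mem hg)

end H49
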