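import Mathlib

/-!
Three-dimensional spaces of quadratic elements.
-/

set_option autoImplicit false
set_option linter.unusedSectionVars false

namespace H49

variable {F : Type*} [Field F] [Fintype F] {A : Type*} [Ring A] [Algebra F A] [Nontrivial A]
  {P : Type*} [AddCommGroup P] [Module F P]

theorem smul_one_add_sq (X : A) (j : F) :
    (X + j • (1 : A)) * (X + j • (1 : A)) = X * X + (2 * j) • X + (j * j) • (1 : A) := by
  rw [add_mul, mul_add, mul_add, smul_mul_assoc, mul_smul_comm, one_mul, mul_one, smul_mul_assoc,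
    mul_smul_comm, one_mul, smul_smul]
  module

/-- No three-dimensional space of quadratic elements contains one. -/
theorem no_quad_space (h2 : (2 : F) ≠ 0) (L : P →ₗ[F] A) (w₀ w₁ w₂ : P) (h₀ : L w₀ = 1)
    (hind : ∀ a b c : F, a • w₀ + b • w₁ + c • w₂ = 0 → a = 0 ∧ b = 0 ∧ c = 0)
    (hinj : ∀ w, w ≠ 0 → ∀ a : A, L w * a = 0 → a = 0)
    (hsq : ∀ w, w ≠ 0 → (∃ μ : F, L w * L w = μ • (1 : A)) ∨ (Fintype.card F = 3 ∧ L w ^ 4 = -1)) : False := by
  have hne : ∀ a b c : F, (b ≠ 0 ∨ c ≠ 0) → a • w₀ + b • w₁ + c • w₂ ≠ 0 := fun a b c hbc h => by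
    obtain ⟨-, hb, hc⟩ := hind a b c h
    rcases hbc with hbc | hbc <;> contradiction
  have hzero : ∀ w, L w = 0 → w = 0 := fun w hw => by
    by_contra hw0
    exact one_ne_zero (hinj w hw0 1 (by rw [hw, zero_mul]))
  by_cases h3 : Fintype.card F = 3
  swap
  · -- the square of a sum
    have hsc : ∀ w, w ≠ 0 → ∃ μ : F, L w * L w = μ • (1 : A) := fun w hw =>
      (hsq w hw).resolve_right fun h => h3 h.1
    have hw₁ : w₁ ≠ 0 := by simpa using hne 0 1 0 (Or.inl one_ne_zero)
    have hw₁' : w₁ + w₀ ≠ 0 := by simpa [add_comm] using hne 1 1 0 (Or.inl one_ne_zero)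
    obtain ⟨μ, hμ⟩ := hsc w₁ hw₁
    obtain ⟨μ', hμ'⟩ := hsc _ hw₁'
    rw [map_add, h₀, ← one_smul F (1 : A), smul_one_add_sq, hμ] at hμ'
    have h : L ((2 : F) • w₁ + (μ + 1 - μ') • w₀) = 0 := by
      rw [map_add, map_smul, map_smul, h₀]
      linear_combination (norm := module) hμ'
    have := hind (μ + 1 - μ') 2 0 (by rw [zero_smul, add_zero, add_comm]; exact hzero _ h)
    exact h2 this.2.1
  have hpm : ∀ k : F, k ≠ 0 → k = 1 ∨ k = -1 := fun k hk => by
    have := FiniteField.pow_card_sub_one_eq_one k hk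
    rw [h3] at this
    exact mul_self_eq_one_iff.1 (by linear_combination this)
  have h30 : (3 : F) = 0 := by
    have := FiniteField.cast_card_eq_zero F
    rw [h3] at this
    exact_mod_cast this
  -- the element of square minus one in a coset
  have coset : ∀ w, (∀ j : F, w + j • w₀ ≠ 0) → ∃ j : F, L (w + j • w₀) * L (w + j • w₀) = -1 := by
    intro w hw
    have key : ∀ j : F, (∃ μ : F, L (w + j • w₀) * L (w + j • w₀) = μ • (1 : A)) →
        L (w + j • w₀) * L (w + j • w₀) = -1 := by
      rintro j ⟨μ, hμ⟩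
      have hμ0 : μ ≠ 0 := fun e => by
        rw [e, zero_smul] at hμ
        exact hw j (hzero _ (hinj _ (hw j) _ hμ))
      rcases hpm μ hμ0 with rfl | rfl
      · exfalso
        rw [one_smul] at hμ
        have h1 : L (w + (j + 1) • w₀) * L (w + (j - 1) • w₀) = 0 := by
          have e1 : L (w + (j + 1) • w₀) = L (w + j • w₀) + 1 := by simp [h₀, add_smul, add_assoc]
          have e2 : L (w + (j - 1) • w₀) = L (w + j • w₀) - 1 := by simp [h₀, sub_smul, add_sub_assoc]
          rw [e1, e2, add_mul, mul_sub, hμ, mul_one, one_mul]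
          abel
        exact hw (j - 1) (hzero _ (hinj _ (hw _) _ h1))
      · rw [hμ, neg_one_smul]
    have h1 := (hsq _ (hw 0)).imp_right And.right
    rcases h1 with h | h
    · exact ⟨0, key 0 h⟩
    rcases (hsq _ (hw 1)).imp_right And.right with h' | h'
    · exact ⟨1, key 1 h'⟩
    rcases (hsq _ (hw (-1))).imp_right And.right with h'' | h''
    · exact ⟨-1, key _ h''⟩
    exfalso
    rw [zero_smul, add_zero] at h
    rw [map_add, one_smul, h₀] at h'
    rw [map_add, neg_one_smul, map_neg, h₀, ← sub_eq_add_neg] at h''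
    have h30A : (3 : A) = 0 := by rw [← map_ofNat (algebraMap F A) 3, h30, map_zero]
    have e : (L w + 1) ^ 4 + (L w - 1) ^ 4 = (L w ^ 4 + L w ^ 4) + (3 : A) * (4 * L w ^ 2) + (1 + 1) := by
      noncomm_ring
    rw [h, h', h'', h30A, zero_mul, add_zero] at e
    have h2A : (2 : A) = 0 := one_add_one_eq_two.symm.trans (add_eq_left.1 e.symm)
    exact h2 ((algebraMap F A).injective (by rw [map_ofNat, h2A, map_zero]))
  obtain ⟨j₁, hM⟩ := coset w₁ fun j => by simpa [add_comm] using hne j 1 0 (Or.inl one_ne_zero)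
  obtain ⟨j₂, hN⟩ := coset w₂ fun j => by simpa [add_comm] using hne j 0 1 (Or.inr one_ne_zero)
  set M := w₁ + j₁ • w₀ with hMdef
  set N := w₂ + j₂ • w₀ with hNdef
  obtain ⟨j, hj⟩ := coset (M + N) fun j => by
    have := hne (j₁ + j₂ + j) 1 1 (Or.inl one_ne_zero)
    intro h
    apply this
    rw [← h, hMdef, hNdef]
    module
  obtain ⟨k, hk⟩ := coset (M - N) fun j => by
    have := hne (j₁ - j₂ + j) 1 (-1) (Or.inl one_ne_zero)
    intro h
    apply this
    rw [← h, hMdef, hNdef]
    module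
  rw [map_add, map_smul, h₀, smul_one_add_sq, map_add] at hj
  rw [map_add, map_smul, h₀, smul_one_add_sq, map_sub] at hk
  have e : (L M + L N) * (L M + L N) + (L M - L N) * (L M - L N) = (-4 : F) • (1 : A) := by
    have : (L M + L N) * (L M + L N) + (L M - L N) * (L M - L N) =
        (L M * L M + L M * L M) + (L N * L N + L N * L N) := by noncomm_ring
    rw [this, hM, hN]
    module
  have h : L ((2 * j + 2 * k) • M + (2 * j - 2 * k) • N + (j * j + k * k - 2) • w₀) = 0 := by
    simp only [map_add, map_smul, h₀]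
    linear_combination (norm := module) hj + hk - e
  have h' := hzero _ h
  have := hind ((2 * j + 2 * k) * j₁ + (2 * j - 2 * k) * j₂ + (j * j + k * k - 2)) (2 * j + 2 * k) (2 * j - 2 * k) (by
    rw [← h', hMdef, hNdef]
    module)
  obtain ⟨h0, hb, hc⟩ := this
  have hj0 : j = 0 := (mul_eq_zero.1 (show (2 * 2) * j = 0 by linear_combination hb + hc)).resolve_left
    (mul_ne_zero h2 h2)
  have hk0 : k = 0 := (mul_eq_zero.1 (show (2 * 2) * k = 0 by linear_combination hb - hc)).resolve_left
    (mul_ne_zero h2 h2)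
  rw [hb, hc, hj0, hk0] at h0
  exact h2 (by linear_combination -h0)

end H49
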