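import Mathlib
import Cfsg.Agent.H47.Alternating

/-!
A symplectic space as the tensor product of a symplectic and an orthogonal space: contractions, product
isometries, root elements and Siegel elements.
-/

set_option autoImplicit false
set_option linter.unusedSectionVars false

namespace H49

open scoped TensorProduct

variable {F : Type*} [Field F]
  {V₁ : Type*} [AddCommGroup V₁] [Module F V₁] [FiniteDimensional F V₁]
  {V₂ : Type*} [AddCommGroup V₂] [Module F V₂] [FiniteDimensional F V₂]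
  {V : Type*} [AddCommGroup V] [Module F V] [FiniteDimensional F V]

/-- An alternating form `f` on `V` which is the product of an alternating and a symmetric form. -/
structure TS (F : Type*) [Field F] (V₁ : Type*) [AddCommGroup V₁] [Module F V₁] (V₂ : Type*) [AddCommGroup V₂]
    [Module F V₂] (V : Type*) [AddCommGroup V] [Module F V] where
  Φ : (V₁ ⊗[F] V₂) ≃ₗ[F] V
  ω : LinearMap.BilinForm F V₁
  β : LinearMap.BilinForm F V₂
  f : LinearMap.BilinForm F V
  ω_alt : ∀ a, ω a a = 0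
  ω_nd : ω.Nondegenerate
  β_symm : ∀ x y, β x y = β y x
  β_nd : β.Nondegenerate
  f_alt : ∀ v, f v v = 0
  f_nd : f.Nondegenerate
  f_pure : ∀ a b x y, f (Φ (a ⊗ₜ x)) (Φ (b ⊗ₜ y)) = ω a b * β x y

namespace TS

variable (d : TS F V₁ V₂ V)

/-- Pure tensors. -/
def t : V₁ →ₗ[F] V₂ →ₗ[F] V := (TensorProduct.mk F V₁ V₂).compr₂ d.Φ.toLinearMap

theorem t_apply (a : V₁) (x : V₂) : d.t a x = d.Φ (a ⊗ₜ x) := rfl

theorem f_t (a b : V₁) (x y : V₂) : d.f (d.t a x) (d.t b y) = d.ω a b * d.β x y := d.f_pure a b x y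

theorem f_swap (v w : V) : d.f v w = -d.f w v := by
  have h := d.f_alt (v + w)
  simp only [map_add, LinearMap.add_apply, d.f_alt, add_zero, zero_add] at h
  linear_combination h

theorem ω_swap (a b : V₁) : d.ω a b = -d.ω b a := by
  have h := d.ω_alt (a + b)
  simp only [map_add, LinearMap.add_apply, d.ω_alt, add_zero, zero_add] at h
  linear_combination h

theorem ω_eq_zero_comm {a b : V₁} (h : d.ω a b = 0) : d.ω b a = 0 := by
  rw [d.ω_swap, h, neg_zero]

theorem exists_ω_eq_one {u : V₁} (hu : u ≠ 0) : ∃ w, d.ω u w = 1 := by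
  obtain ⟨w, hw⟩ : ∃ w, d.ω u w ≠ 0 := by
    by_contra hcon
    simp only [not_exists, not_not] at hcon
    exact hu (d.ω_nd.1 u hcon)
  exact ⟨(d.ω u w)⁻¹ • w, by rw [map_smul, smul_eq_mul, inv_mul_cancel₀ hw]⟩

theorem exists_sep {w u : V₁} (hw : w ∉ Submodule.span F {u}) (hu : u ≠ 0) : ∃ l, d.ω w l = 1 ∧ d.ω u l = 0 := by
  obtain ⟨e, he⟩ := d.exists_ω_eq_one hu
  obtain ⟨l, hl, hwl⟩ : ∃ l, d.ω u l = 0 ∧ d.ω w l ≠ 0 := by
    by_contra hcon
    simp only [not_exists, not_and, not_not] at hcon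
    refine hw (Submodule.mem_span_singleton.2 ⟨d.ω w e, (sub_eq_zero.1 (d.ω_nd.1 _ fun x => ?_)).symm⟩)
    have h1 := hcon (x - d.ω u x • e) (by rw [map_sub, map_smul, he, smul_eq_mul, mul_one, sub_self])
    rw [map_sub, map_smul, smul_eq_mul] at h1
    rw [map_sub, LinearMap.sub_apply, map_smul, LinearMap.smul_apply, smul_eq_mul]
    linear_combination h1
  exact ⟨(d.ω w l)⁻¹ • l, by rw [map_smul, smul_eq_mul, inv_mul_cancel₀ hwl],
    by rw [map_smul, hl, smul_zero]⟩

theorem β_eq_zero {x : V₂} (h : ∀ y, d.β x y = 0) : x = 0 := d.β_nd.1 x h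

theorem β_ext {x x' : V₂} (h : ∀ y, d.β x y = d.β x' y) : x = x' :=
  sub_eq_zero.1 (d.β_eq_zero fun y => by rw [map_sub, LinearMap.sub_apply, h, sub_self])

include d in
theorem even_finrank : Even (Module.finrank F V₁) :=
  H47.alt_finrank_even _ d.ω d.ω_alt (fun v hv => d.ω_nd.1 v fun u => by rw [d.ω_swap, hv, neg_zero]) rfl

/-- Equality on pure tensors determines a linear map. -/
theorem hom_ext {M : Type*} [AddCommGroup M] [Module F M] {g h : V →ₗ[F] M}
    (hgh : ∀ a x, g (d.t a x) = h (d.t a x)) : g = h := by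
  have : g ∘ₗ d.Φ.toLinearMap = h ∘ₗ d.Φ.toLinearMap := TensorProduct.ext' fun a x => hgh a x
  exact LinearMap.ext fun v => by simpa using LinearMap.congr_fun this (d.Φ.symm v)

theorem equiv_ext {g h : V ≃ₗ[F] V} (hgh : ∀ a x, g (d.t a x) = h (d.t a x)) : g = h :=
  LinearEquiv.toLinearMap_injective (d.hom_ext hgh)

include d in
theorem finrank_eq : Module.finrank F V = Module.finrank F V₁ * Module.finrank F V₂ := by
  rw [← d.Φ.finrank_eq, Module.finrank_tensorProduct]

/-- The contraction with `u`. -/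
noncomputable def C (u : V₁) : V →ₗ[F] V₂ := (d.β.toDual d.β_nd).symm.toLinearMap ∘ₗ d.f.compl₂ (d.t u)

theorem β_C (u : V₁) (v : V) (y : V₂) : d.β (d.C u v) y = d.f v (d.t u y) :=
  LinearMap.BilinForm.apply_toDual_symm_apply (hB := d.β_nd) _ _

theorem β_C' (u : V₁) (v : V) (y : V₂) : d.β y (d.C u v) = d.f v (d.t u y) := by
  rw [d.β_symm, d.β_C]

theorem C_t (u a : V₁) (x : V₂) : d.C u (d.t a x) = d.ω a u • x :=
  d.β_ext fun y => by rw [d.β_C, d.f_t, map_smul, LinearMap.smul_apply, smul_eq_mul]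

theorem C_add (u w : V₁) (v : V) : d.C (u + w) v = d.C u v + d.C w v :=
  d.β_ext fun y => by
    simp only [d.β_C, map_add, LinearMap.add_apply]

theorem C_smul (k : F) (u : V₁) (v : V) : d.C (k • u) v = k • d.C u v :=
  d.β_ext fun y => by
    simp only [d.β_C, map_smul, LinearMap.smul_apply]

theorem C_zero (v : V) : d.C 0 v = 0 := by rw [← zero_smul F (0 : V₁), d.C_smul, zero_smul]

theorem eq_zero_of_C {v : V} (h : ∀ u, d.C u v = 0) : v = 0 := by
  refine d.f_nd.1 v fun w => ?_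
  have : d.f v = 0 := d.hom_ext fun a x => by
    rw [← d.β_C, h, map_zero, LinearMap.zero_apply, LinearMap.zero_apply]
  rw [this, LinearMap.zero_apply]

theorem ext_C {v w : V} (h : ∀ u, d.C u v = d.C u w) : v = w :=
  sub_eq_zero.1 (d.eq_zero_of_C fun u => by rw [map_sub, h, sub_self])

/-- The column of `u`. -/
def W (u : V₁) : Submodule F V := LinearMap.range (d.t u)

theorem t_mem_W (u : V₁) (x : V₂) : d.t u x ∈ d.W u := ⟨x, rfl⟩

theorem t_injective {u : V₁} (hu : u ≠ 0) : Function.Injective (d.t u) := by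
  obtain ⟨w, hw⟩ := d.exists_ω_eq_one hu
  intro x y h
  have := congrArg (d.C w) h
  rwa [d.C_t, d.C_t, hw, one_smul, one_smul] at this

theorem finrank_W {u : V₁} (hu : u ≠ 0) : Module.finrank F (d.W u) = Module.finrank F V₂ :=
  LinearMap.finrank_range_of_inj (d.t_injective hu)

/-- Membership in a column by contractions with the orthogonal of its point. -/
theorem mem_W {u : V₁} (hu : u ≠ 0) {v : V} (h : ∀ w, d.ω u w = 0 → d.C w v = 0) : v ∈ d.W u := by
  obtain ⟨w, hw⟩ := d.exists_ω_eq_one hu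
  refine ⟨d.C w v, d.ext_C fun e => ?_⟩
  have h0 : d.ω u (e - d.ω u e • w) = 0 := by rw [map_sub, map_smul, hw, smul_eq_mul, mul_one, sub_self]
  have h1 := h _ h0
  rw [sub_eq_add_neg, ← neg_smul, d.C_add, d.C_smul, neg_smul, add_neg_eq_zero] at h1
  rw [d.C_t, h1]

theorem C_W {u : V₁} {v : V} (hv : v ∈ d.W u) {w : V₁} (h : d.ω u w = 0) : d.C w v = 0 := by
  obtain ⟨x, rfl⟩ := hv
  rw [d.C_t, h, zero_smul]

/-- Isometries of `f`. -/
def Isom (g : V ≃ₗ[F] V) : Prop := ∀ v w, d.f (g v) (g w) = d.f v w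

variable {d}

theorem Isom.inv {g : V ≃ₗ[F] V} (hg : d.Isom g) : d.Isom g⁻¹ := fun v w => by
  conv_rhs => rw [← g.apply_symm_apply v, ← g.apply_symm_apply w, hg]
  rfl

theorem Isom.mul {g h : V ≃ₗ[F] V} (hg : d.Isom g) (hh : d.Isom h) : d.Isom (g * h) := fun v w =>
  (hg _ _).trans (hh v w)

theorem Isom.f_inv {g : V ≃ₗ[F] V} (hg : d.Isom g) (v w : V) : d.f (g.symm v) w = d.f v (g w) := by
  rw [← hg, g.apply_symm_apply]

variable (d)

/-- The product of two automorphisms. -/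
noncomputable def tens (a : V₁ ≃ₗ[F] V₁) (c : V₂ ≃ₗ[F] V₂) : V ≃ₗ[F] V :=
  d.Φ.symm ≪≫ₗ TensorProduct.congr a c ≪≫ₗ d.Φ

theorem tens_t (a : V₁ ≃ₗ[F] V₁) (c : V₂ ≃ₗ[F] V₂) (e : V₁) (x : V₂) :
    d.tens a c (d.t e x) = d.t (a e) (c x) := by
  simp [tens, t_apply]

theorem tens_mul (a a' : V₁ ≃ₗ[F] V₁) (c c' : V₂ ≃ₗ[F] V₂) :
    d.tens a c * d.tens a' c' = d.tens (a * a') (c * c') :=
  d.equiv_ext fun e x => by
    show d.tens a c (d.tens a' c' (d.t e x)) = _
    rw [d.tens_t, d.tens_t, d.tens_t]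
    rfl

theorem tens_one : d.tens 1 1 = 1 := d.equiv_ext fun e x => by rw [d.tens_t]; rfl

theorem tens_inv (a : V₁ ≃ₗ[F] V₁) (c : V₂ ≃ₗ[F] V₂) : (d.tens a c)⁻¹ = d.tens a⁻¹ c⁻¹ :=
  inv_eq_of_mul_eq_one_right (by rw [d.tens_mul, mul_inv_cancel, mul_inv_cancel, d.tens_one])

theorem tens_isom {a : V₁ ≃ₗ[F] V₁} {c : V₂ ≃ₗ[F] V₂} {k l : F} (hkl : k * l = 1)
    (ha : ∀ x y, d.ω (a x) (a y) = k * d.ω x y) (hc : ∀ x y, d.β (c x) (c y) = l * d.β x y) :
    d.Isom (d.tens a c) := by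
  have : d.f.compl₁₂ (d.tens a c).toLinearMap (d.tens a c).toLinearMap = d.f := by
    refine d.hom_ext fun e x => d.hom_ext fun e' y => ?_
    show d.f (d.tens a c (d.t e x)) (d.tens a c (d.t e' y)) = _
    rw [d.tens_t, d.tens_t, d.f_t, d.f_t, ha, hc]
    linear_combination d.ω e e' * d.β x y * hkl
  exact fun v w => LinearMap.congr_fun (LinearMap.congr_fun this v) w

/-- Product automorphisms. -/
def IsTens (g : V ≃ₗ[F] V) : Prop := ∃ a c, g = d.tens a c

variable {d}

theorem IsTens.mul {g h : V ≃ₗ[F] V} (hg : d.IsTens g) (hh : d.IsTens h) : d.IsTens (g * h) := by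
  obtain ⟨a, c, rfl⟩ := hg
  obtain ⟨a', c', rfl⟩ := hh
  exact ⟨_, _, d.tens_mul a a' c c'⟩

theorem IsTens.inv {g : V ≃ₗ[F] V} (hg : d.IsTens g) : d.IsTens g⁻¹ := by
  obtain ⟨a, c, rfl⟩ := hg
  exact ⟨_, _, d.tens_inv a c⟩

variable (d)

/-- The transvection `x ↦ x + c ω(x,u) u`. -/
noncomputable def tv (u : V₁) (c : F) : V₁ ≃ₗ[F] V₁ :=
  LinearEquiv.ofLinearMap (LinearMap.id + (c • d.ω.flip u).smulRight u) (LinearMap.id + ((-c) • d.ω.flip u).smulRight u)
    (by
      ext x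
      simp [d.ω_alt])
    (by
      ext x
      simp [d.ω_alt])

theorem tv_apply (u : V₁) (c : F) (x : V₁) : d.tv u c x = x + (c * d.ω x u) • u := rfl

theorem tv_isom (u : V₁) (c : F) (x y : V₁) : d.ω (d.tv u c x) (d.tv u c y) = 1 * d.ω x y := by
  simp only [d.tv_apply, map_add, LinearMap.add_apply, map_smul, LinearMap.smul_apply, d.ω_alt,
    smul_eq_mul, mul_zero, add_zero, d.ω_swap u y]
  ring

theorem tv_neg (u : V₁) (c : F) : (d.tv u c)⁻¹ = d.tv u (-c) := by
  refine inv_eq_of_mul_eq_one_right (LinearEquiv.ext fun x => ?_)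
  show d.tv u c (d.tv u (-c) x) = x
  simp [d.tv_apply, d.ω_alt]

/-- The root element of the column of `u`. -/
noncomputable def rt (u : V₁) (c : F) : V ≃ₗ[F] V := d.tens (d.tv u c) 1

theorem rt_isom (u : V₁) (c : F) : d.Isom (d.rt u c) :=
  d.tens_isom (one_mul 1) (d.tv_isom u c) fun x y => (one_mul _).symm

theorem rt_apply (u : V₁) (c : F) (v : V) : d.rt u c v = v + c • d.t u (d.C u v) := by
  have : (d.rt u c).toLinearMap = LinearMap.id + c • (d.t u ∘ₗ d.C u) := d.hom_ext fun e x => by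
    show d.rt u c (d.t e x) = d.t e x + c • d.t u (d.C u (d.t e x))
    rw [rt, d.tens_t, d.tv_apply, d.C_t, map_add, LinearMap.add_apply, map_smul, LinearMap.smul_apply, map_smul,
      smul_smul]
    rfl
  exact LinearMap.congr_fun this v

theorem rt_inv (u : V₁) (c : F) : (d.rt u c)⁻¹ = d.rt u (-c) := by
  rw [rt, d.tens_inv, d.tv_neg, inv_one]
  rfl

theorem rt_mul (u : V₁) (c c' : F) : d.rt u c * d.rt u c' = d.rt u (c + c') := by
  refine LinearEquiv.ext fun v => ?_
  show d.rt u c (d.rt u c' v) = _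
  simp [d.rt_apply, d.C_t, d.ω_alt]
  module

/-- The Siegel transformation of `u` and an orthogonal `w`. -/
noncomputable def sgA {u w : V₁} (h : d.ω u w = 0) : V₁ ≃ₗ[F] V₁ :=
  LinearEquiv.ofLinearMap (LinearMap.id + (d.ω.flip w).smulRight u + (d.ω.flip u).smulRight w)
    (LinearMap.id - (d.ω.flip w).smulRight u - (d.ω.flip u).smulRight w)
    (by
      ext x
      simp [d.ω_alt, h, d.ω_eq_zero_comm h]
      abel)
    (by
      ext x
      simp [d.ω_alt, h, d.ω_eq_zero_comm h]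
      abel)

theorem sgA_apply {u w : V₁} (h : d.ω u w = 0) (x : V₁) : d.sgA h x = x + d.ω x w • u + d.ω x u • w := rfl

/-- The Siegel element of `u` and an orthogonal `w`. -/
noncomputable def sg {u w : V₁} (h : d.ω u w = 0) : V ≃ₗ[F] V := d.tens (d.sgA h) 1

theorem sg_isom {u w : V₁} (h : d.ω u w = 0) : d.Isom (d.sg h) :=
  d.tens_isom (one_mul 1) (fun x y => by
    simp only [d.sgA_apply, map_add, LinearMap.add_apply, map_smul, LinearMap.smul_apply, d.ω_alt,
      smul_eq_mul, h, d.ω_eq_zero_comm h, mul_zero, add_zero, d.ω_swap u y, d.ω_swap w y]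
    ring) fun x y => (one_mul _).symm

theorem sg_apply {u w : V₁} (h : d.ω u w = 0) (v : V) :
    d.sg h v = v + d.t u (d.C w v) + d.t w (d.C u v) := by
  have : (d.sg h).toLinearMap = LinearMap.id + d.t u ∘ₗ d.C w + d.t w ∘ₗ d.C u := d.hom_ext fun e x => by
    show d.sg h (d.t e x) = d.t e x + d.t u (d.C w (d.t e x)) + d.t w (d.C u (d.t e x))
    rw [sg, d.tens_t, d.sgA_apply, d.C_t, d.C_t, map_add, map_add, LinearMap.add_apply, LinearMap.add_apply,
      map_smul, map_smul, LinearMap.smul_apply, LinearMap.smul_apply, map_smul, map_smul]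
    rfl
  exact LinearMap.congr_fun this v

/-- Automorphisms mapping every column onto a column are products. -/
theorem isTens_of_points {g : V ≃ₗ[F] V} (hn₁ : 2 ≤ Module.finrank F V₁) (hn₂ : 1 ≤ Module.finrank F V₂)
    (h : ∀ w, w ≠ 0 → ∃ w', ∀ x, g (d.t w x) ∈ d.W w') : d.IsTens g := by
  classical
  obtain ⟨u, hu⟩ : ∃ u : V₁, u ≠ 0 := Module.finrank_pos_iff_exists_ne_zero.1 (lt_of_lt_of_le Nat.two_pos hn₁)
  obtain ⟨z, hz⟩ : ∃ z : V₂, z ≠ 0 := Module.finrank_pos_iff_exists_ne_zero.1 hn₂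
  have hw0 : ∀ w, w ≠ 0 → ∀ w', (∀ x, g (d.t w x) ∈ d.W w') → w' ≠ 0 := by
    intro w hw w' hw' h0
    obtain ⟨y, hy⟩ := hw' z
    rw [h0, map_zero, LinearMap.zero_apply, eq_comm, g.map_eq_zero_iff] at hy
    exact hz (d.t_injective hw (hy.trans (map_zero (d.t w)).symm))
  obtain ⟨u', hu'⟩ := h u hu
  have hu'0 := hw0 u hu u' hu'
  obtain ⟨e, he⟩ := d.exists_ω_eq_one hu'0
  let c₀ : V₂ →ₗ[F] V₂ := d.C e ∘ₗ g.toLinearMap ∘ₗ d.t u
  have hc₀ : ∀ x, g (d.t u x) = d.t u' (c₀ x) := fun x => by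
    obtain ⟨y, hy⟩ := hu' x
    show _ = d.t u' (d.C e (g (d.t u x)))
    rw [← hy, d.C_t, he, one_smul]
  have hinj : Function.Injective c₀ := fun x y hxy => by
    have := hc₀ x
    rw [hxy, ← hc₀, EmbeddingLike.apply_eq_iff_eq] at this
    exact d.t_injective hu this
  -- columns of independent points
  have key : ∀ w, w ∉ Submodule.span F {u} → ∃ a, ∀ x, g (d.t w x) = d.t a (c₀ x) := by
    intro w hw
    have hw_ne : w ≠ 0 := fun e => hw (e ▸ zero_mem _)
    have huw : u + w ≠ 0 := fun e => hw (by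
      rw [eq_neg_of_add_eq_zero_right e]; exact neg_mem (Submodule.mem_span_singleton_self u))
    obtain ⟨w', hw'⟩ := h w hw_ne
    obtain ⟨m', hm'⟩ := h (u + w) huw
    have hne : ∀ k : F, w' ≠ k • u' := fun k hk => by
      obtain ⟨y, hy⟩ := hw' z
      obtain ⟨x, hx⟩ := LinearMap.injective_iff_surjective.1 hinj (k • y)
      have : g (d.t w z) = g (d.t u x) := by
        rw [hc₀, hx, map_smul, ← hy, hk, map_smul, LinearMap.smul_apply]
      rw [EmbeddingLike.apply_eq_iff_eq] at this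
      refine hw ?_
      by_contra hnot
      obtain ⟨l, hl⟩ := d.exists_sep hw hu
      have := congrArg (d.C l) this
      rw [d.C_t, d.C_t, hl.1, hl.2, one_smul, zero_smul] at this
      exact hz this
    obtain ⟨l, hl1, hl0⟩ : ∃ l, d.ω w' l = 1 ∧ d.ω u' l = 0 :=
      d.exists_sep (fun hmem => by
        obtain ⟨k, hk⟩ := Submodule.mem_span_singleton.1 hmem
        exact hne k hk.symm) hu'0
    obtain ⟨l', hl'1, hl'0⟩ : ∃ l', d.ω u' l' = 1 ∧ d.ω w' l' = 0 :=
      d.exists_sep (fun hmem => by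
        obtain ⟨k, hk⟩ := Submodule.mem_span_singleton.1 hmem
        rcases eq_or_ne k 0 with rfl | hk0
        · exact hu'0 (by rw [← hk, zero_smul])
        · exact hne k⁻¹ (by rw [← hk, smul_smul, inv_mul_cancel₀ hk0, one_smul])) (hw0 w hw_ne w' hw')
    refine ⟨(d.ω m' l / d.ω m' l') • w', fun x => ?_⟩
    obtain ⟨y, hy⟩ := hw' x
    obtain ⟨m, hm⟩ := hm' x
    have he' : d.t u' (c₀ x) + d.t w' y = d.t m' m := by
      rw [hm, map_add, LinearMap.add_apply, map_add, hc₀, hy]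
    have e1 := congrArg (d.C l') he'
    have e2 := congrArg (d.C l) he'
    simp only [map_add, d.C_t, hl1, hl0, hl'1, hl'0, one_smul, zero_smul, add_zero, zero_add] at e1 e2
    rw [← hy, map_smul, LinearMap.smul_apply, e1, ← map_smul, smul_smul]
    rcases eq_or_ne (d.ω m' l') 0 with h0 | h0
    · rw [h0, zero_smul] at e1
      have hx0 : x = 0 := hinj (e1.trans (map_zero c₀).symm)
      subst hx0
      rw [map_zero, map_zero, eq_comm] at hy
      rw [d.t_injective (hw0 w hw_ne w' hw') (hy.symm.trans (map_zero (d.t w')).symm), h0]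
      simp
    · rw [e2, div_mul_cancel₀ _ h0]
  have hall : ∀ w, ∃ a, ∀ x, g (d.t w x) = d.t a (c₀ x) := by
    intro w
    by_cases hw : w ∈ Submodule.span F {u}
    · obtain ⟨k, rfl⟩ := Submodule.mem_span_singleton.1 hw
      exact ⟨k • u', fun x => by simp [hc₀]⟩
    · exact key w hw
  choose α hα using hall
  have huniq : ∀ w a, (∀ x, g (d.t w x) = d.t a (c₀ x)) → α w = a := fun w a ha => by
    obtain ⟨y, hy⟩ := LinearMap.injective_iff_surjective.1 hinj z
    by_contra hne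
    have h0 : d.t (α w - a) z = 0 := by
      rw [map_sub, LinearMap.sub_apply, ← hy, ← hα, ha, sub_self]
    exact hz (d.t_injective (sub_ne_zero.2 hne) (h0.trans (map_zero (d.t (α w - a))).symm))
  let A : V₁ →ₗ[F] V₁ :=
    { toFun := α
      map_add' := fun w w' => huniq _ _ fun x => by simp only [map_add, LinearMap.add_apply, hα]
      map_smul' := fun k w => huniq _ _ fun x => by simp only [map_smul, LinearMap.smul_apply, hα, RingHom.id_apply] }
  have hA : Function.Injective A := (injective_iff_map_eq_zero A).2 fun w hw => by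
    by_contra hne
    have h0 : g (d.t w z) = 0 := by
      rw [hα, show α w = 0 from hw, map_zero, LinearMap.zero_apply]
    rw [g.map_eq_zero_iff] at h0
    exact hz (d.t_injective hne (h0.trans (map_zero (d.t w)).symm))
  refine ⟨LinearEquiv.ofInjectiveEndo A hA, LinearEquiv.ofInjectiveEndo c₀ hinj, d.equiv_ext fun w x => ?_⟩
  rw [d.tens_t, hα]
  rfl

end TS

end H49
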