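import Cfsg.Agent.H49.TensVec

/-!
An overgroup with a non-scalar element in the unipotent radical part of a column contains every transvection.
-/

set_option autoImplicit false
set_option linter.unusedSectionVars false

namespace H49

namespace TS

variable {F : Type*} [Field F] [Fintype F]
  {V₁ : Type*} [AddCommGroup V₁] [Module F V₁] [FiniteDimensional F V₁]
  {V₂ : Type*} [AddCommGroup V₂] [Module F V₂] [FiniteDimensional F V₂]
  {V : Type*} [AddCommGroup V] [Module F V] [FiniteDimensional F V]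
  (d : TS F V₁ V₂ V)

/-- The standing hypotheses: an overgroup of the product isometries inside the isometries. -/
structure Over (H : Subgroup (V ≃ₗ[F] V)) : Prop where
  isom : ∀ g ∈ H, d.Isom g
  tens : ∀ g, d.IsTens g → d.Isom g → g ∈ H
  two : (2 : F) ≠ 0
  pos : 2 ≤ Module.finrank F V₁
  three : 3 ≤ Module.finrank F V₂
  big : 9 ≤ Module.finrank F V₁ * Module.finrank F V₂ ∨
    (Module.finrank F V₁ = 2 ∧ Module.finrank F V₂ = 3 ∧ 4 ≤ Fintype.card F)
  exc : ¬ (Fintype.card F = 3 ∧ Module.finrank F V₂ = 3)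

/-- `v ↦ v + u ⊗ S (C u v)` lies in the group. -/
def InQ (H : Subgroup (V ≃ₗ[F] V)) (u : V₁) (S : V₂ →ₗ[F] V₂) : Prop :=
  ∃ g ∈ H, ∀ v, g v = v + d.t u (S (d.C u v))

/-- The group contains only scalars in the radical parts of the columns. -/
def Small (H : Subgroup (V ≃ₗ[F] V)) : Prop :=
  ∀ u, u ≠ 0 → ∀ S, d.InQ H u S → ∃ s : F, ∀ x, S x = s • x

variable {d} {H : Subgroup (V ≃ₗ[F] V)}

theorem nondeg_step {U : Submodule F V₂} (hU : ∀ x ∈ U, (∀ y ∈ U, d.β x y = 0) → x = 0) {a : V₂} (ha : a ∈ U)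
    (haa : d.β a a ≠ 0) : ∀ x ∈ U ⊓ d.orth₂ {a}, (∀ y ∈ U ⊓ d.orth₂ {a}, d.β x y = 0) → x = 0 := by
  intro x hx h
  refine hU x hx.1 fun y hy => ?_
  have h1 := h (y - (d.β y a / d.β a a) • a) ⟨U.sub_mem hy (U.smul_mem _ ha), fun s hs => by
    rw [Set.mem_singleton_iff.1 hs, map_sub, LinearMap.sub_apply, map_smul, LinearMap.smul_apply, smul_eq_mul,
      div_mul_cancel₀ _ haa, sub_self]⟩
  rw [map_sub, map_smul, hx.2 a rfl, smul_zero, sub_zero] at h1
  exact h1

theorem nondeg_top : ∀ x ∈ (⊤ : Submodule F V₂), (∀ y ∈ (⊤ : Submodule F V₂), d.β x y = 0) → x = 0 :=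
  fun _ _ h => d.β_eq_zero fun y => h y trivial

theorem nondeg_aniso (h2 : (2 : F) ≠ 0) {U : Submodule F V₂}
    (hU : ∀ x ∈ U, (∀ y ∈ U, d.β x y = 0) → x = 0) (hdim : 1 ≤ Module.finrank F U) : ∃ a ∈ U, d.β a a ≠ 0 := by
  obtain ⟨x, hx, hx0⟩ : ∃ x ∈ U, x ≠ 0 := by
    refine Submodule.exists_mem_ne_zero_of_ne_bot fun e => ?_
    rw [e, finrank_bot] at hdim
    omega
  obtain ⟨y, hy, hxy⟩ : ∃ y ∈ U, d.β x y ≠ 0 := by
    by_contra hcon
    simp only [not_exists, not_and, not_not] at hcon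
    exact hx0 (hU x hx hcon)
  exact d.exists_aniso h2 hx hy hxy

theorem Isom.tens_one_right (a : V₁ ≃ₗ[F] V₁) (ha : ∀ x y, d.ω (a x) (a y) = 1 * d.ω x y) :
    d.Isom (d.tens a 1) :=
  d.tens_isom (one_mul 1) ha fun x y => (one_mul _).symm

theorem Isom.tens_one_left (c : V₂ ≃ₗ[F] V₂) (hc : ∀ x y, d.β (c x) (c y) = 1 * d.β x y) :
    d.Isom (d.tens 1 c) :=
  d.tens_isom (one_mul 1) (fun x y => (one_mul _).symm) hc

theorem C_tens_left (c : V₂ ≃ₗ[F] V₂) (u : V₁) (v : V) : d.C u (d.tens 1 c v) = c (d.C u v) := by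
  have : d.C u ∘ₗ (d.tens 1 c).toLinearMap = c.toLinearMap ∘ₗ d.C u := d.hom_ext fun e x => by
    show d.C u (d.tens 1 c (d.t e x)) = c (d.C u (d.t e x))
    rw [d.tens_t, d.C_t, d.C_t, map_smul]
    rfl
  exact LinearMap.congr_fun this v

theorem C_tens_right {a : V₁ ≃ₗ[F] V₁} (ha : ∀ x y, d.ω (a x) (a y) = 1 * d.ω x y) (u : V₁) (v : V) :
    d.C (a u) (d.tens a 1 v) = d.C u v := by
  have : d.C (a u) ∘ₗ (d.tens a 1).toLinearMap = d.C u := d.hom_ext fun e x => by
    show d.C (a u) (d.tens a 1 (d.t e x)) = d.C u (d.t e x)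
    rw [d.tens_t, d.C_t, d.C_t, ha, one_mul]
    rfl
  exact LinearMap.congr_fun this v

section

variable (hO : d.Over H)
include hO

theorem Over.rt_mem (u : V₁) (c : F) : d.rt u c ∈ H := hO.tens _ ⟨_, _, rfl⟩ (d.rt_isom u c)

theorem Over.sg_mem {u w : V₁} (h : d.ω u w = 0) : d.sg h ∈ H := hO.tens _ ⟨_, _, rfl⟩ (d.sg_isom h)

theorem Over.left_mem (c : V₂ ≃ₗ[F] V₂) (hc : ∀ x y, d.β (c x) (c y) = 1 * d.β x y) : d.tens 1 c ∈ H :=
  hO.tens _ ⟨_, _, rfl⟩ (Isom.tens_one_left c hc)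

theorem Over.right_mem (a : V₁ ≃ₗ[F] V₁) (ha : ∀ x y, d.ω (a x) (a y) = 1 * d.ω x y) : d.tens a 1 ∈ H :=
  hO.tens _ ⟨_, _, rfl⟩ (Isom.tens_one_right a ha)

/-- Any non-zero point can be moved to any other by a transvection product. -/
theorem Over.exists_move {u u' : V₁} (hu : u ≠ 0) (hu' : u' ≠ 0) :
    ∃ a : V₁ ≃ₗ[F] V₁, (∀ x y, d.ω (a x) (a y) = 1 * d.ω x y) ∧ a u = u' := by
  have step : ∀ a b : V₁, d.ω a b ≠ 0 →
      ∃ e : V₁ ≃ₗ[F] V₁, (∀ x y, d.ω (e x) (e y) = 1 * d.ω x y) ∧ e a = b := fun a b h =>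
    ⟨d.tv (b - a) (d.ω a b)⁻¹, d.tv_isom _ _, by
      rw [d.tv_apply, map_sub, d.ω_alt, sub_zero, inv_mul_cancel₀ h, one_smul, add_sub_cancel]⟩
  obtain ⟨w, h1, h2⟩ : ∃ w, d.ω u w ≠ 0 ∧ d.ω w u' ≠ 0 := by
    obtain ⟨w₁, hw₁⟩ := d.exists_ω_eq_one hu
    obtain ⟨w₂, hw₂⟩ := d.exists_ω_eq_one hu'
    by_cases c1 : d.ω w₁ u' = 0
    · by_cases c2 : d.ω u w₂ = 0
      · refine ⟨w₁ + w₂, by simp [hw₁, c2], ?_⟩
        rw [map_add, LinearMap.add_apply, c1, zero_add, d.ω_swap, hw₂]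
        simp
      · exact ⟨w₂, c2, by rw [d.ω_swap, hw₂]; simp⟩
    · exact ⟨w₁, by rw [hw₁]; exact one_ne_zero, c1⟩
  obtain ⟨e₁, he₁, hu₁⟩ := step u w h1
  obtain ⟨e₂, he₂, hu₂⟩ := step w u' h2
  exact ⟨e₁.trans e₂, fun x y => by
    show d.ω (e₂ (e₁ x)) (e₂ (e₁ y)) = _
    rw [he₂, he₁, one_mul], by simp [hu₁, hu₂]⟩

theorem Over.inQ_symm {u : V₁} (hu : u ≠ 0) {S : V₂ →ₗ[F] V₂} (hS : d.InQ H u S) (x y : V₂) :
    d.β (S x) y = d.β x (S y) := by
  obtain ⟨g, hg, hge⟩ := hS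
  obtain ⟨w, hw⟩ := d.exists_ω_eq_one hu
  have h := hO.isom g hg (d.t w x) (d.t w y)
  have e : d.ω w u = -1 := by rw [d.ω_swap, hw]
  simp only [hge, d.C_t, e, neg_smul, one_smul, map_neg, map_add, LinearMap.add_apply, LinearMap.neg_apply,
    d.f_t, hw, d.ω_alt, zero_mul, mul_zero, neg_zero, add_zero, zero_add] at h
  linear_combination -h

theorem Over.inQ_zero (u : V₁) : d.InQ H u 0 := ⟨1, one_mem H, fun v => by simp⟩

theorem Over.inQ_scalar (u : V₁) (s : F) : d.InQ H u (s • (LinearMap.id : V₂ →ₗ[F] V₂)) :=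
  ⟨d.rt u s, hO.rt_mem u s, fun v => by simp [d.rt_apply]⟩

theorem Over.inQ_add {u : V₁} {S S' : V₂ →ₗ[F] V₂} (h : d.InQ H u S) (h' : d.InQ H u S') :
    d.InQ H u (S + S') := by
  obtain ⟨g, hg, hge⟩ := h
  obtain ⟨g', hg', hge'⟩ := h'
  refine ⟨g * g', mul_mem hg hg', fun v => ?_⟩
  show g (g' v) = _
  simp [hge, hge', d.C_t, d.ω_alt]
  abel

theorem Over.inQ_neg {u : V₁} {S : V₂ →ₗ[F] V₂} (h : d.InQ H u S) : d.InQ H u (-S) := by
  obtain ⟨g, hg, hge⟩ := h
  refine ⟨g⁻¹, inv_mem hg, fun v => g.injective ?_⟩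
  show g (g.symm v) = _
  rw [g.apply_symm_apply]
  simp [hge, d.C_t, d.ω_alt]

theorem Over.inQ_conj {u : V₁} {S : V₂ →ₗ[F] V₂} (h : d.InQ H u S) (c : V₂ ≃ₗ[F] V₂)
    (hc : ∀ x y, d.β (c x) (c y) = 1 * d.β x y) :
    d.InQ H u (c.toLinearMap ∘ₗ S ∘ₗ c.symm.toLinearMap) := by
  obtain ⟨g, hg, hge⟩ := h
  refine ⟨d.tens 1 c * g * (d.tens 1 c)⁻¹, mul_mem (mul_mem (hO.left_mem c hc) hg) (inv_mem (hO.left_mem c hc)),
    fun v => ?_⟩
  obtain ⟨w, rfl⟩ := (d.tens 1 c).surjective v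
  show d.tens 1 c (g ((d.tens 1 c).symm (d.tens 1 c w))) = _
  rw [LinearEquiv.symm_apply_apply, hge, map_add, d.tens_t, C_tens_left]
  simp

theorem Over.inQ_sq {u : V₁} (hu : u ≠ 0) {S : V₂ →ₗ[F] V₂} (h : d.InQ H u S) {k : F} (hk : k ≠ 0) :
    d.InQ H u ((k * k) • S) := by
  obtain ⟨a, ha, hau⟩ := hO.exists_move hu (smul_ne_zero hk hu)
  obtain ⟨g, hg, hge⟩ := h
  refine ⟨d.tens a 1 * g * (d.tens a 1)⁻¹,
    mul_mem (mul_mem (hO.right_mem a ha) hg) (inv_mem (hO.right_mem a ha)), fun v => ?_⟩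
  obtain ⟨w, rfl⟩ := (d.tens a 1).surjective v
  show d.tens a 1 (g ((d.tens a 1).symm (d.tens a 1 w))) = _
  rw [LinearEquiv.symm_apply_apply, hge, map_add, d.tens_t, hau]
  have e : k • d.C u (d.tens a 1 w) = d.C u w := by
    rw [← d.C_smul, ← hau, C_tens_right ha]
  rw [← e]
  simp [smul_smul]

theorem Over.inQ_smul {u : V₁} (hu : u ≠ 0) {S : V₂ →ₗ[F] V₂} (h : d.InQ H u S) (c : F) : d.InQ H u (c • S) := by
  have key : ∀ k : F, d.InQ H u ((k * k) • S) := fun k => by
    rcases eq_or_ne k 0 with rfl | hk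
    · simpa using hO.inQ_zero u
    · exact hO.inQ_sq hu h hk
  have h2 := hO.two
  have := hO.inQ_add (key ((c + 1) / 2)) (hO.inQ_neg (key ((c - 1) / 2)))
  rwa [← neg_smul, ← add_smul, show (c + 1) / 2 * ((c + 1) / 2) + -((c - 1) / 2 * ((c - 1) / 2)) = c by
    field_simp; ring] at this

/-- `x ↦ β(x,a) b + β(x,b) a`. -/
def dual₂ (d : TS F V₁ V₂ V) (a b : V₂) : V₂ →ₗ[F] V₂ := (d.β.flip a).smulRight b + (d.β.flip b).smulRight a

omit hO in
theorem dual₂_apply (a b x : V₂) : dual₂ d a b x = d.β x a • b + d.β x b • a := rfl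

omit hO in
theorem dual₂_comm (a b : V₂) : dual₂ d a b = dual₂ d b a := add_comm _ _

omit hO in
theorem dual₂_conj (a b : V₂) (c : V₂ ≃ₗ[F] V₂) (hc : ∀ x y, d.β (c x) (c y) = 1 * d.β x y) :
    c.toLinearMap ∘ₗ dual₂ d a b ∘ₗ c.symm.toLinearMap = dual₂ d (c a) (c b) := by
  refine LinearMap.ext fun x => ?_
  obtain ⟨y, rfl⟩ := c.surjective x
  simp [dual₂_apply, hc]

/-- A non-scalar element yields two orthogonal vectors. -/
theorem Over.exists_pair {u : V₁} (hu : u ≠ 0) {S : V₂ →ₗ[F] V₂} (hS : d.InQ H u S)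
    (hns : ¬ ∃ s : F, ∀ x, S x = s • x) :
    ∃ a b, d.β a a ≠ 0 ∧ d.β b a = 0 ∧ b ≠ 0 ∧ d.InQ H u (dual₂ d a b) := by
  have h2 := hO.two
  have hsym := hO.inQ_symm hu hS
  by_cases heig : ∀ a, d.β a a ≠ 0 → ∃ s : F, S a = s • a
  · exfalso
    obtain ⟨a₀, -, ha₀⟩ := nondeg_aniso h2 (U := (⊤ : Submodule F V₂)) (nondeg_top (d := d)) (by rw [finrank_top]; have := hO.three; omega)
    obtain ⟨ρ₀, hρ₀⟩ := heig a₀ ha₀
    refine hns ⟨ρ₀, fun x => ?_⟩
    suffices hK : S - ρ₀ • LinearMap.id = 0 by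
      have := LinearMap.congr_fun hK x
      simpa [sub_eq_zero] using this
    refine d.eq_zero_of_aniso h2 _ fun a ha => ?_
    obtain ⟨ρ, hρ⟩ := heig a ha
    suffices e : ρ = ρ₀ by simp [hρ, e]
    by_contra hne
    have horth : d.β a a₀ = 0 := by
      have := hsym a a₀
      rw [hρ, hρ₀, map_smul, LinearMap.smul_apply, map_smul] at this
      by_contra hb
      exact hne (mul_right_cancel₀ hb this)
    have hnd1 := nondeg_step nondeg_top (a := a) trivial ha
    have ha₀mem : a₀ ∈ (⊤ : Submodule F V₂) ⊓ d.orth₂ {a} :=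
      ⟨trivial, fun s hs => by rw [Set.mem_singleton_iff.1 hs, d.β_symm, horth]⟩
    have hnd2 := nondeg_step hnd1 ha₀mem ha₀
    obtain ⟨c, hc, hcc⟩ := nondeg_aniso h2 hnd2 (by
      have e1 := d.finrank_inf_orth₂ ⊤ a
      have e2 := d.finrank_inf_orth₂ (⊤ ⊓ d.orth₂ {a}) a₀
      rw [finrank_top] at e1
      have := hO.three
      omega)
    have hca : d.β c a = 0 := hc.1.2 a rfl
    have hca₀ : d.β c a₀ = 0 := hc.2 a₀ rfl
    -- coefficients against an orthogonal system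
    have coef : ∀ (τ : F) (z : V₂) (e : V₂) (μ : F), S z = τ • z → d.β z e = d.β e e → d.β e e ≠ 0 →
        S e = μ • e → μ = τ := fun τ z e μ hz hze hee he => by
      have := hsym z e
      rw [hz, he, map_smul, LinearMap.smul_apply, map_smul, hze] at this
      exact (mul_right_cancel₀ hee this).symm
    by_cases hsum : d.β (a + a₀) (a + a₀) = 0
    · simp [horth, d.β_symm a₀ a] at hsum
      obtain ⟨τ, hτ⟩ := heig (a + a₀ + c) (by
        simp [horth, d.β_symm a₀ a, hca, hca₀, d.β_symm a c, d.β_symm a₀ c]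
        intro h
        exact hcc (by linear_combination h - hsum))
      exact hne ((coef τ _ a ρ hτ (by simp [d.β_symm a₀ a, horth, hca]) ha hρ).trans
        (coef τ _ a₀ ρ₀ hτ (by simp [horth, hca₀]) ha₀ hρ₀).symm)
    · obtain ⟨τ, hτ⟩ := heig _ hsum
      exact hne ((coef τ _ a ρ hτ (by simp [d.β_symm a₀ a, horth]) ha hρ).trans
        (coef τ _ a₀ ρ₀ hτ (by simp [horth]) ha₀ hρ₀).symm)
  · push Not at heig
    obtain ⟨a, ha, hSa⟩ := heig
    set ρ := d.β (S a) a / d.β a a with hρ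
    set b := S a - ρ • a with hb
    have hba : d.β b a = 0 := by
      rw [hb, map_sub, LinearMap.sub_apply, map_smul, LinearMap.smul_apply, smul_eq_mul, hρ,
        div_mul_cancel₀ _ ha, sub_self]
    refine ⟨a, b, ha, hba, sub_ne_zero.2 (hSa ρ), ?_⟩
    have hQ := hO.inQ_smul hu (hO.inQ_add hS (hO.inQ_neg (hO.inQ_conj hS (d.refl ha) (d.refl_isom ha))))
      (d.β a a / 2)
    convert hQ using 1
    refine LinearMap.ext fun x => ?_
    obtain ⟨y, rfl⟩ := (d.refl ha).surjective x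
    have hSa' : S a = ρ • a + b := by rw [hb, add_sub_cancel]
    have hys : d.β (S y) a = ρ * d.β y a + d.β y b := by
      rw [hsym, hSa', map_add, map_smul, smul_eq_mul]
    simp only [dual₂_apply, LinearMap.smul_apply, LinearMap.add_apply, LinearMap.neg_apply, LinearMap.comp_apply,
      LinearEquiv.coe_coe, LinearEquiv.symm_apply_apply]
    simp only [d.refl_apply, map_sub, map_smul, LinearMap.sub_apply,
      LinearMap.smul_apply, smul_eq_mul, hys, hba, d.β_symm a b, hSa', map_add]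
    match_scalars <;> field_simp <;> ring

/-- Vectors orthogonal to an anisotropic partner join the span. -/
theorem Over.star {u : V₁} (hu : u ≠ 0) {a b : V₂} (ha : d.β a a ≠ 0) (hb : d.β b b ≠ 0) (hba : d.β b a = 0)
    (h : d.InQ H u (dual₂ d a b)) {x : V₂} (hx : d.β x b = 0) : d.InQ H u (dual₂ d x b) := by
  have h2 := hO.two
  let B : Submodule F V₂ :=
    { carrier := {x | d.InQ H u (dual₂ d x b)}
      zero_mem' := by
        show d.InQ H u (dual₂ d 0 b)
        rw [show dual₂ d 0 b = 0 from LinearMap.ext fun y => by simp [dual₂_apply]]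
        exact hO.inQ_zero u
      add_mem' := fun {x y} hx hy => by
        show d.InQ H u (dual₂ d (x + y) b)
        rw [show dual₂ d (x + y) b = dual₂ d x b + dual₂ d y b from LinearMap.ext fun z => by
          simp [dual₂_apply, add_smul]; abel]
        exact hO.inQ_add hx hy
      smul_mem' := fun k x hx => by
        show d.InQ H u (dual₂ d (k • x) b)
        rw [show dual₂ d (k • x) b = k • dual₂ d x b from LinearMap.ext fun z => by
          simp [dual₂_apply, smul_smul, mul_comm]]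
        exact hO.inQ_smul hu hx k }
  have haB : a ∈ B := h
  have hc : ∀ c, d.β c b = 0 → d.β c c ≠ 0 → d.β a c ≠ 0 → c ∈ B := fun c hcb hcc hac => by
    have h1 := hO.inQ_conj h (d.refl hcc) (d.refl_isom hcc)
    rw [dual₂_conj _ _ _ (d.refl_isom hcc), d.refl_orth hcc (x := b) (by rw [d.β_symm, hcb])] at h1
    have h1' : d.refl hcc a ∈ B := h1
    have h3 := B.sub_mem haB h1'
    rw [d.refl_apply, sub_sub_cancel] at h3
    have hne : 2 / d.β c c * d.β a c ≠ 0 := mul_ne_zero (div_ne_zero h2 hcc) hac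
    have h4 := B.smul_mem (2 / d.β c c * d.β a c)⁻¹ h3
    rwa [smul_smul, inv_mul_cancel₀ hne, one_smul] at h4
  suffices key : ∀ y, d.β y b = 0 → d.β y a = 0 → y ∈ B by
    have e : x = (d.β x a / d.β a a) • a + (x - (d.β x a / d.β a a) • a) := by abel
    show x ∈ B
    rw [e]
    refine B.add_mem (B.smul_mem _ haB) (key _ ?_ ?_)
    · rw [map_sub, LinearMap.sub_apply, hx, map_smul, LinearMap.smul_apply, d.β_symm a b, hba, smul_zero, sub_zero]
    · rw [map_sub, LinearMap.sub_apply, map_smul, LinearMap.smul_apply, smul_eq_mul, div_mul_cancel₀ _ ha, sub_self]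
  have shift : ∀ y, d.β y b = 0 → d.β y a = 0 → ∀ k : F, k ≠ 0 → d.β a a + k * k * d.β y y ≠ 0 → y ∈ B := by
    intro y hyb hya k hk hne
    have hmem := hc (a + k • y) (by simp [d.β_symm a b, hba, hyb]) (by
        simp [hya, d.β_symm a y]
        intro h0
        exact hne (by linear_combination h0))
      (by simp [d.β_symm a y, hya]; exact ha)
    have := B.smul_mem k⁻¹ (B.sub_mem hmem haB)
    rwa [add_sub_cancel_left, smul_smul, inv_mul_cancel₀ hk, one_smul] at this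
  intro y hyb hya
  by_cases h1 : d.β a a + 1 * 1 * d.β y y = 0
  swap; · exact shift y hyb hya 1 one_ne_zero h1
  by_cases hq : ∃ k : F, k ≠ 0 ∧ k * k ≠ 1
  · obtain ⟨k, hk, hkk⟩ := hq
    refine shift y hyb hya k hk fun h' => hkk ?_
    have : (k * k - 1) * d.β y y = 0 := by linear_combination h' - h1
    have hy0 : d.β y y ≠ 0 := fun e => ha (by linear_combination h1 - e)
    exact sub_eq_zero.1 ((mul_eq_zero.1 this).resolve_right hy0)
  -- three elements
  push Not at hq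
  have hcard : Fintype.card F = 3 := by
    classical
    have hsub : (Finset.univ : Finset F) ⊆ {0, 1, -1} := fun k _ => by
      rcases eq_or_ne k 0 with rfl | hk
      · simp
      · rcases mul_self_eq_one_iff.1 (hq k hk) with rfl | rfl <;> simp
    have h3 := (Finset.card_le_card hsub).trans Finset.card_le_three
    rw [Finset.card_univ] at h3
    have hlt : 2 < Fintype.card F := by
      have : ({0, 1, -1} : Finset F).card = 3 := by
        rw [Finset.card_eq_three]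
        exact ⟨0, 1, -1, zero_ne_one, (neg_ne_zero.2 one_ne_zero).symm,
          fun e => h2 (by linear_combination e), rfl⟩
      have := (Finset.card_le_univ ({0, 1, -1} : Finset F))
      omega
    omega
  have hy0 : d.β y y ≠ 0 := fun e => ha (by linear_combination h1 - e)
  have hnd1 := nondeg_step nondeg_top (a := a) trivial ha
  have hbmem : b ∈ (⊤ : Submodule F V₂) ⊓ d.orth₂ {a} :=
    ⟨trivial, fun s hs => by rw [Set.mem_singleton_iff.1 hs]; exact hba⟩
  have hnd2 := nondeg_step hnd1 hbmem hb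
  have hymem : y ∈ (⊤ : Submodule F V₂) ⊓ d.orth₂ {a} ⊓ d.orth₂ {b} :=
    ⟨⟨trivial, fun s hs => by rw [Set.mem_singleton_iff.1 hs]; exact hya⟩,
      fun s hs => by rw [Set.mem_singleton_iff.1 hs]; exact hyb⟩
  have hnd3 := nondeg_step hnd2 hymem hy0
  obtain ⟨z, hz, hzz⟩ := nondeg_aniso h2 hnd3 (by
    have e1 := d.finrank_inf_orth₂ ⊤ a
    have e2 := d.finrank_inf_orth₂ (⊤ ⊓ d.orth₂ {a}) b
    have e3 := d.finrank_inf_orth₂ (⊤ ⊓ d.orth₂ {a} ⊓ d.orth₂ {b}) y
    rw [finrank_top] at e1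
    have := hO.three
    have : Module.finrank F V₂ ≠ 3 := fun e => hO.exc ⟨hcard, e⟩
    omega)
  have hzy : d.β z y = 0 := hz.2 y rfl
  have hzb : d.β z b = 0 := hz.1.2 b rfl
  have hza : d.β z a = 0 := hz.1.1.2 a rfl
  by_cases h3 : d.β a a + 1 * 1 * d.β z z = 0
  · have hmem : ∀ e : F, e * e = 1 → y + e • z ∈ B := fun e he => by
      refine shift _ (by simp [hyb, hzb]) (by simp [hya, hza]) 1 one_ne_zero ?_
      simp [hzy, d.β_symm y z]
      intro h0
      exact ha (by linear_combination h1 + (e * e) * h3 - h0 - (d.β a a) * he)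
    have h4 := B.smul_mem (2 : F)⁻¹ (B.add_mem (hmem 1 (one_mul 1)) (hmem (-1) (by ring)))
    rwa [show (y + (1 : F) • z) + (y + (-1 : F) • z) = (2 : F) • y by module, smul_smul,
      inv_mul_cancel₀ h2, one_smul] at h4
  · have hzB := shift z hzb hza 1 one_ne_zero h3
    have := shift (y + z) (by simp [hyb, hzb]) (by simp [hya, hza]) 1 one_ne_zero (by
      simp [hzy, d.β_symm y z]
      intro h0
      exact hzz (by linear_combination h0 - h1))
    simpa using B.sub_mem this hzB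

/-- An element of rank one with singular centre. -/
theorem Over.exists_singular {u : V₁} (hu : u ≠ 0) {S : V₂ →ₗ[F] V₂} (hS : d.InQ H u S)
    (hns : ¬ ∃ s : F, ∀ x, S x = s • x) : ∃ p, p ≠ 0 ∧ d.β p p = 0 ∧ d.InQ H u ((d.β.flip p).smulRight p) := by
  have h2 := hO.two
  have fromIso : ∀ a b, d.β a a ≠ 0 → d.β b b = 0 → d.β b a = 0 → d.InQ H u (dual₂ d a b) →
      d.InQ H u ((d.β.flip b).smulRight b) := by
    intro a b ha hb hba h
    have h1 := hO.inQ_conj h (d.eich h2 hb hba) (d.eich_isom h2 hb hba)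
    rw [dual₂_conj _ _ _ (d.eich_isom h2 hb hba)] at h1
    have h3 := hO.inQ_smul hu (hO.inQ_add h (hO.inQ_neg h1)) (2 * d.β a a)⁻¹
    convert h3 using 1
    refine LinearMap.ext fun x => ?_
    simp [dual₂_apply, d.eich_apply, hb, hba, d.β_symm a b]
    match_scalars <;> field_simp <;> ring
  obtain ⟨a, b, ha, hba, hb0, hab⟩ := hO.exists_pair hu hS hns
  by_cases hb : d.β b b = 0
  · exact ⟨b, hb0, hb, fromIso a b ha hb hba hab⟩
  have hnd1 := nondeg_step nondeg_top (a := b) trivial hb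
  have hd1 : 2 ≤ Module.finrank F ↥((⊤ : Submodule F V₂) ⊓ d.orth₂ {b}) := by
    have e1 := d.finrank_inf_orth₂ ⊤ b
    rw [finrank_top] at e1
    have := hO.three
    omega
  obtain ⟨c, hc, hcc⟩ := d.exists_value h2 hd1 hnd1 (-d.β b b)
  have hcne : d.β c c ≠ 0 := by rw [hcc]; exact neg_ne_zero.2 hb
  have hcb : d.β c b = 0 := hc.2 b rfl
  obtain ⟨a', ha', ha'a⟩ := nondeg_aniso h2 (nondeg_step hnd1 hc hcne) (by
    have e2 := d.finrank_inf_orth₂ (⊤ ⊓ d.orth₂ {b}) c
    omega)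
  have ha'b : d.β a' b = 0 := ha'.1.2 b rfl
  have ha'c : d.β a' c = 0 := ha'.2 c rfl
  have h1 := hO.star hu ha hb hba hab ha'b
  rw [dual₂_comm] at h1
  have hpa : d.β (b + c) a' = 0 := by simp [d.β_symm b a', d.β_symm c a', ha'b, ha'c]
  have h3 := hO.star hu hb ha'a ha'b h1 hpa
  rw [dual₂_comm] at h3
  refine ⟨b + c, fun h0 => hb ?_, ?_, fromIso a' (b + c) ha'a ?_ hpa h3⟩
  · have := congrArg (d.β b) h0
    simpa [d.β_symm b c, hcb] using this
  all_goals simp [hcb, d.β_symm b c, hcc]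

end

/-- A centre of transvections in the group. -/
def Ctr (d : TS F V₁ V₂ V) (H : Subgroup (V ≃ₗ[F] V)) (z : V) : Prop :=
  ∀ c : F, ∃ g ∈ H, ∀ v, g v = v + (c * d.f v z) • z

theorem Ctr.smul' {z : V} (h : Ctr d H z) (k : F) : Ctr d H (k • z) := fun c => by
  obtain ⟨g, hg, hge⟩ := h (c * k * k)
  exact ⟨g, hg, fun v => by rw [hge, map_smul, smul_eq_mul, smul_smul]; ring_nf⟩

theorem Ctr.map' (hO : d.Over H) {z : V} (h : Ctr d H z) {g : V ≃ₗ[F] V} (hg : g ∈ H) : Ctr d H (g z) :=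
  fun c => by
  obtain ⟨k, hk, hke⟩ := h c
  refine ⟨g * k * g⁻¹, mul_mem (mul_mem hg hk) (inv_mem hg), fun v => ?_⟩
  obtain ⟨w, rfl⟩ := g.surjective v
  show g (k (g.symm (g w))) = _
  rw [LinearEquiv.symm_apply_apply, hke, map_add, map_smul, hO.isom g hg]

theorem Ctr.line (hO : d.Over H) {x y : V} (hx : Ctr d H x) (hy : Ctr d H y) (h : d.f x y ≠ 0) (e : F) :
    Ctr d H (x + e • y) := by
  obtain ⟨g, hg, hge⟩ := hy (e / d.f x y)
  have := hx.map' hO hg
  rwa [hge, div_mul_cancel₀ _ h] at this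

/-- Centres in star position exhaust the space. -/
theorem Ctr.all (hO : d.Over H) {x : V} (hx : Ctr d H x) {Ω : Set V}
    (hΩ : ∀ v ∈ Ω, Ctr d H v ∧ d.f x v ≠ 0) (hspan : ∀ v, (∀ z ∈ Ω, d.f v z = 0) → v = 0) (z : V) :
    Ctr d H z := by
  have h2 := hO.two
  have hswap : ∀ {v w : V}, d.f v w ≠ 0 → d.f w v ≠ 0 := fun h h' => h (by rw [d.f_swap, h', neg_zero])
  by_cases hΩ0 : Ω = ∅
  · rw [hspan z fun w hw => absurd (hΩ0 ▸ hw) (Set.notMem_empty w)]
    exact fun c => ⟨1, one_mem H, fun v => by simp⟩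
  obtain ⟨v₀, hv₀⟩ := Set.nonempty_iff_ne_empty.2 hΩ0
  set e₀ := d.f x v₀ with he₀
  have he : e₀ ≠ 0 := (hΩ v₀ hv₀).2
  have hzero : Ctr d H (0 : V) := fun c => ⟨1, one_mem H, fun v => by simp⟩
  have hcomb : ∀ v w, Ctr d H v → Ctr d H w → d.f v w ≠ 0 → ∀ a b : F, Ctr d H (a • v + b • w) := by
    intro v w hv hw h a b
    rcases eq_or_ne a 0 with rfl | ha
    · rw [zero_smul, zero_add]; exact hw.smul' b
    · exact (hv.smul' a).line hO hw (by simpa using mul_ne_zero ha h) b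
  have hline : ∀ v w, Ctr d H v → Ctr d H w → d.f x v = e₀ → d.f x w = e₀ → ∀ a : F,
      Ctr d H (a • v + (1 - a) • w) := by
    intro v w hv hw hxv hxw a
    obtain ⟨k, hk⟩ : ∃ k : F, d.f (v + k • x) w ≠ 0 := by
      by_cases h : d.f v w = 0
      · exact ⟨1, by simpa [h, hxw] using he⟩
      · exact ⟨0, by simpa using h⟩
    have hk1 : Ctr d H (v + k • x) := hv.line hO hx (hswap (hxv ▸ he)) k
    have h1 := hcomb _ _ hk1 hw hk a (1 - a)
    have h3 := h1.line hO hx (hswap (by simp [hxv, hxw, d.f_alt]; ring_nf; exact he)) (-(a * k))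
    convert h3 using 1
    module
  let D : Submodule F V :=
    { carrier := {w | d.f x w = 0 ∧ Ctr d H (v₀ + w)}
      zero_mem' := ⟨map_zero _, by rw [add_zero]; exact (hΩ v₀ hv₀).1⟩
      smul_mem' := fun a w ⟨h1, h2'⟩ => ⟨by rw [map_smul, h1, smul_zero], by
        have := hline _ _ h2' (hΩ v₀ hv₀).1 (by rw [map_add, h1, add_zero]) rfl a
        convert this using 1
        module⟩
      add_mem' := fun {w₁ w₂} ⟨h1, h2'⟩ ⟨h3, h4⟩ => ⟨by rw [map_add, h1, h3, add_zero], by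
        have e1 := hline _ _ h2' (hΩ v₀ hv₀).1 (by rw [map_add, h1, add_zero]) rfl (-1)
        have e2 := hline _ _ h4 (hΩ v₀ hv₀).1 (by rw [map_add, h3, add_zero]) rfl (2 : F)⁻¹
        have := hline _ _ e1 e2 (by simp [h1]; ring) (by simp [h3]; ring) (-1)
        convert this using 1
        match_scalars <;> field_simp <;> ring⟩ }
  have htop : Submodule.span F {v₀} ⊔ D = ⊤ := by
    have hle : Submodule.span F Ω ≤ Submodule.span F {v₀} ⊔ D := by
      rw [Submodule.span_le]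
      intro v hv
      obtain ⟨h1, h3⟩ := hΩ v hv
      have hmem : (e₀ / d.f x v) • v - v₀ ∈ D := ⟨by
        rw [map_sub, map_smul, smul_eq_mul, div_mul_cancel₀ _ h3, sub_self], by
        rw [add_sub_cancel]; exact h1.smul' _⟩
      have e : v = (d.f x v / e₀) • v₀ + (d.f x v / e₀) • ((e₀ / d.f x v) • v - v₀) := by
        rw [smul_sub, smul_smul, show d.f x v / e₀ * (e₀ / d.f x v) = 1 by field_simp, one_smul]; abel
      rw [e]
      exact Submodule.add_mem _
        (Submodule.mem_sup_left (Submodule.smul_mem _ _ (Submodule.mem_span_singleton_self _)))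
        (Submodule.mem_sup_right (D.smul_mem _ hmem))
    have hortho : LinearMap.BilinForm.orthogonal d.f (Submodule.span F Ω) = ⊥ := by
      rw [eq_bot_iff]
      intro v hv
      rw [Submodule.mem_bot]
      refine hspan v fun w hw => ?_
      have := hv w (Submodule.subset_span hw)
      change d.f w v = 0 at this
      rw [d.f_swap, this, neg_zero]
    have hfull : Submodule.span F Ω = ⊤ := by
      refine Submodule.eq_top_of_finrank_eq ?_
      have hrefl : d.f.IsRefl := fun v w h => by rw [d.f_swap, h, neg_zero]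
      have h5 := LinearMap.BilinForm.finrank_orthogonal d.f_nd (Submodule.span F Ω)
      rw [hortho, finrank_bot] at h5
      have := Submodule.finrank_le (Submodule.span F Ω)
      omega
    rw [eq_top_iff, ← hfull]
    exact hle
  have hout : ∀ v, d.f x v ≠ 0 → Ctr d H v := by
    intro v hv
    have : (e₀ / d.f x v) • v ∈ (⊤ : Submodule F V) := trivial
    rw [← htop] at this
    obtain ⟨p, hp, w, hw, hpw⟩ := Submodule.mem_sup.1 this
    obtain ⟨a, rfl⟩ := Submodule.mem_span_singleton.1 hp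
    have ha : a = 1 := by
      have := congrArg (d.f x) hpw
      rw [map_add, map_smul, map_smul, hw.1, add_zero, smul_eq_mul, smul_eq_mul, div_mul_cancel₀ _ hv] at this
      exact (mul_eq_right₀ he).1 this
    rw [ha, one_smul] at hpw
    have h := hw.2
    rw [hpw] at h
    have := h.smul' (d.f x v / e₀)
    rwa [smul_smul, show d.f x v / e₀ * (e₀ / d.f x v) = 1 by field_simp, one_smul] at this
  by_cases hz : d.f x z = 0
  swap; · exact hout z hz
  rcases eq_or_ne z 0 with rfl | hz0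
  · exact hzero
  obtain ⟨T, hxT, hzT⟩ : ∃ T, d.f x T ≠ 0 ∧ d.f z T ≠ 0 := by
    obtain ⟨T, hT⟩ : ∃ T, d.f z T ≠ 0 := by
      by_contra hcon
      simp only [not_exists, not_not] at hcon
      exact hz0 (d.f_nd.1 z hcon)
    by_cases hxT : d.f x T = 0
    · by_cases hzv : d.f z v₀ = 0
      · exact ⟨T + v₀, by simpa [hxT] using he, by simpa [hzv] using hT⟩
      · exact ⟨v₀, he, hzv⟩
    · exact ⟨T, hxT, hT⟩
  have h1 := hout (z - T) (by simpa [hz] using hxT)
  simpa using h1.line hO (hout T hxT) (by simpa [d.f_alt] using hzT) 1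

/-- A non-scalar radical element gives every transvection. -/
theorem Over.all_ctr (hO : d.Over H) (hns : ¬ d.Small H) (z : V) : Ctr d H z := by
  have h2 := hO.two
  simp only [Small, not_forall, exists_prop] at hns
  obtain ⟨u, hu, S, hS, hS'⟩ := hns
  obtain ⟨p, hp0, hp, hQ⟩ := hO.exists_singular hu hS hS'
  have hbase : Ctr d H (d.t u p) := fun c => by
    obtain ⟨g, hg, hge⟩ := hO.inQ_smul hu hQ c
    refine ⟨g, hg, fun v => ?_⟩
    rw [hge, LinearMap.smul_apply, LinearMap.smulRight_apply, smul_smul, map_smul]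
    show v + (c * d.β (d.C u v) p) • d.t u p = _
    rw [d.β_C]
  have hpts : ∀ u' q, u' ≠ 0 → d.β q q = 0 → d.β p q ≠ 0 → Ctr d H (d.t u' q) := by
    intro u' q hu' hq hpq
    have hc : d.β (p - q) (p - q) ≠ 0 := by
      simp [hp, hq, d.β_symm q p]
      intro h
      exact hpq ((mul_eq_zero.1 (show (2 : F) * d.β p q = 0 by linear_combination -h)).resolve_left h2)
    obtain ⟨a, ha, hau⟩ := hO.exists_move hu hu'
    have h1 := (hbase.map' hO (hO.left_mem _ (d.refl_isom hc))).map' hO (hO.right_mem a ha)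
    rw [d.tens_t, d.tens_t, d.refl_apply] at h1
    have hk : 2 / d.β (p - q) (p - q) * d.β p (p - q) = 1 := by
      rw [div_mul_eq_mul_div, div_eq_one_iff_eq hc]
      simp [hp, hq, d.β_symm q p]
      ring
    rw [hk, one_smul, sub_sub_cancel] at h1
    simpa [hau] using h1
  obtain ⟨q₀, hq₀, hpq₀⟩ : ∃ q, d.β q q = 0 ∧ d.β p q ≠ 0 := by
    obtain ⟨y, hy⟩ : ∃ y, d.β p y ≠ 0 := by
      by_contra hcon
      simp only [not_exists, not_not] at hcon
      exact hp0 (d.β_eq_zero hcon)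
    refine ⟨y - (d.β y y / (2 * d.β p y)) • p, ?_, by simpa [hp] using hy⟩
    simp [hp, d.β_symm y p]
    field_simp
    ring
  refine Ctr.all hO hbase (Ω := {w | ∃ u' q, w = d.t u' q ∧ d.ω u u' ≠ 0 ∧ d.β q q = 0 ∧ d.β p q ≠ 0})
    (fun w ⟨u', q, hw, h1, h3, h4⟩ => ⟨hw ▸ hpts u' q (fun e => h1 (by rw [e, map_zero])) h3 h4, by
      rw [hw, d.f_t]; exact mul_ne_zero h1 h4⟩) (fun v hv => d.eq_zero_of_C fun u' => ?_) z
  -- contractions killing the singular partners vanish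
  obtain ⟨e, he⟩ := d.exists_ω_eq_one hu
  have key : ∀ u', d.ω u u' ≠ 0 → d.C u' v = 0 := by
    intro u' hu'
    have hq : ∀ q, d.β q q = 0 → d.β p q ≠ 0 → d.β (d.C u' v) q = 0 := fun q h1 h3 => by
      rw [d.β_C]; exact hv _ ⟨u', q, rfl, hu', h1, h3⟩
    set w := d.C u' v
    have hwq₀ := hq q₀ hq₀ hpq₀
    set π := d.β p q₀ with hπ
    have hperp : ∀ y, d.β y p = 0 → d.β y q₀ = 0 → d.β w y = d.β y y / (2 * π) * d.β w p := by
      intro y hy1 hy2
      have h1 := hq (q₀ + y - (d.β y y / (2 * π)) • p)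
        (by
          simp [hq₀, hp, hy1, hy2, d.β_symm p y, d.β_symm q₀ y, d.β_symm q₀ p, ← hπ]
          field_simp
          ring)
        (by simp [hp, d.β_symm p y, hy1, ← hπ]; exact hpq₀)
      rw [map_sub, map_add, map_smul, smul_eq_mul, hwq₀, zero_add] at h1
      linear_combination h1
    obtain ⟨a, ha, haa⟩ : ∃ a, (d.β a p = 0 ∧ d.β a q₀ = 0) ∧ d.β a a ≠ 0 := by
      have h1 : d.β (p + q₀) (p + q₀) ≠ 0 := by
        simp [hp, hq₀, d.β_symm q₀ p, ← hπ]
        intro h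
        exact hpq₀ ((mul_eq_zero.1 (show (2 : F) * π = 0 by linear_combination h)).resolve_left h2)
      have h1' : d.β (p - q₀) (p - q₀) ≠ 0 := by
        simp [hp, hq₀, d.β_symm q₀ p, ← hπ]
        intro h
        exact hpq₀ ((mul_eq_zero.1 (show (2 : F) * π = 0 by linear_combination -h)).resolve_left h2)
      have n1 := nondeg_step nondeg_top (a := p + q₀) trivial h1
      have n2 := nondeg_step n1 (a := p - q₀) ⟨trivial, fun s hs => by
        rw [Set.mem_singleton_iff.1 hs]; simp [hp, hq₀, d.β_symm q₀ p]⟩ h1'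
      obtain ⟨a, ha, haa⟩ := nondeg_aniso h2 n2 (by
        have e1 := d.finrank_inf_orth₂ ⊤ (p + q₀)
        have e2 := d.finrank_inf_orth₂ (⊤ ⊓ d.orth₂ {p + q₀}) (p - q₀)
        rw [finrank_top] at e1
        have := hO.three
        omega)
      have f1 := ha.1.2 _ rfl
      have f2 := ha.2 _ rfl
      rw [map_add] at f1
      rw [map_sub] at f2
      exact ⟨a, ⟨(mul_eq_zero.1 (show (2 : F) * d.β a p = 0 by linear_combination f1 + f2)).resolve_left h2,
        (mul_eq_zero.1 (show (2 : F) * d.β a q₀ = 0 by linear_combination f1 - f2)).resolve_left h2⟩, haa⟩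
    have hwp : d.β w p = 0 := by
      have e1 := hperp a ha.1 ha.2
      have e2 := hperp (-a) (by simp [ha.1]) (by simp [ha.2])
      simp at e2
      have : d.β a a / (2 * π) * (2 * d.β w p) = 0 := by linear_combination -e1 - e2
      exact (mul_eq_zero.1 ((mul_eq_zero.1 this).resolve_left
        (div_ne_zero haa (mul_ne_zero h2 hpq₀)))).resolve_left h2
    refine d.β_eq_zero fun y => ?_
    set y' := y - (d.β y q₀ / π) • p - (d.β y p / π) • q₀ with hy'
    have e1 := hperp y'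
      (by simp [hy', hp, d.β_symm q₀ p, ← hπ]; field_simp; ring)
      (by simp [hy', hq₀, ← hπ]; field_simp; ring)
    rw [hwp, mul_zero, hy', map_sub, map_sub, map_smul, map_smul, hwp, hwq₀, smul_zero, smul_zero, sub_zero,
      sub_zero] at e1
    exact e1
  by_cases hu' : d.ω u u' = 0
  · have h1 := key (u' + e) (by simp [hu', he])
    rw [d.C_add, key e (by simp [he]), add_zero] at h1
    exact h1
  · exact key u' hu'

end TS

end H49
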