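import Cfsg.Agent.H49.TensValues

/-!
An element of least rank with scalar pairing.
-/

set_option autoImplicit false
set_option linter.unusedSectionVars false

namespace H49

namespace TS

variable {F : Type*} [Field F] [Fintype F]
  {V₁ : Type*} [AddCommGroup V₁] [Module F V₁] [FiniteDimensional F V₁]
  {V₂ : Type*} [AddCommGroup V₂] [Module F V₂] [FiniteDimensional F V₂]
  {V : Type*} [AddCommGroup V] [Module F V] [FiniteDimensional F V]
  {d : TS F V₁ V₂ V} {H : Subgroup (V ≃ₗ[F] V)}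

/-- A normalised element of least rank. -/
structure Dat (d : TS F V₁ V₂ V) (H : Subgroup (V ≃ₗ[F] V)) (r : ℕ) (u : V₁) (g : V ≃ₗ[F] V) (l : F) : Prop where
  att : Att d H r u g
  lne : l ≠ 0
  sq : ∀ z, S d u g (S d u g z) = l • S d u g z
  τker : ∀ x, S d u g x = 0 → τ d u g x = 0
  Nmem : ∀ x, N d u g x ∈ LinearMap.range (S d u g)

section

variable (hO : d.Over H) (hS : d.Small H)
include hO hS

theorem exists_dat {g : V ≃ₗ[F] V} (hg : g ∈ H) (hn : ¬ d.IsTens g) :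
    ∃ r u g' l, Least d H r ∧ Dat d H r u g' l := by
  classical
  obtain ⟨u₀, hu₀⟩ : ∃ u : V₁, u ≠ 0 :=
    Module.finrank_pos_iff_exists_ne_zero.1 (lt_of_lt_of_le Nat.two_pos hO.pos)
  have hex : ∃ r, ∃ g ∈ H, ¬ d.IsTens g ∧ ∃ u, u ≠ 0 ∧ rk (S d u g) = r := ⟨_, g, hg, hn, u₀, hu₀, rfl⟩
  obtain ⟨g₀, hg₀, hn₀, u, hu, hrk⟩ := Nat.find_spec hex
  set r := Nat.find hex
  have hm : Least d H r := by
    refine ⟨fun g hg hn u hu => Nat.find_le ⟨g, hg, hn, u, hu, rfl⟩,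
      hrk ▸ Submodule.finrank_le _, Nat.pos_of_ne_zero fun h0 => hn₀ (tens_of_S hO hS hg₀ hu ?_)⟩
    rw [← LinearMap.range_eq_bot]
    refine Submodule.finrank_eq_zero.1 ?_
    rw [← h0, ← hrk]
    rfl
  have ha : Att d H r u g₀ := ⟨hg₀, hn₀, hu, hrk⟩
  obtain ⟨l, hl, hsq⟩ := Att.conj_value hO hS hm ha
  obtain ⟨hb, hSb⟩ := Att.conj hO hS hm ha
  refine ⟨r, u, _, l, hm, hb, hl, hsq, fun x hx => ?_, fun x => ?_⟩
  · have h0 : S d u g₀ x = 0 := Att.ker_sq hO hS hm ha (by simpa [hSb] using hx)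
    show (g₀ * d.rt u 1 * g₀⁻¹) (d.t u (N d u (g₀ * d.rt u 1 * g₀⁻¹)⁻¹ x)) = 0
    rw [N_conj_neg, LinearMap.neg_apply, h0, neg_zero, map_zero, map_zero]
  · rw [N_conj, hSb, LinearMap.range_neg, Att.range_sq hO hS hm ha]
    exact ⟨x, rfl⟩

variable {r : ℕ} {u : V₁} {g : V ≃ₗ[F] V} {l : F} (hm : Least d H r) (hd : Dat d H r u g l)
include hm hd

theorem Dat.conj_ntens : ¬ d.IsTens (g * d.rt u 1 * g⁻¹) := fun h =>
  hd.att.ntens (tens_of_conj hO hS hd.att.mem hd.att.ne h)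

theorem Dat.range_apply {x : V₂} (hx : x ∈ LinearMap.range (S d u g)) : S d u g x = l • x := by
  obtain ⟨z, rfl⟩ := hx
  exact hd.sq z

theorem Dat.proj (x : V₂) : S d u g (x - l⁻¹ • S d u g x) = 0 := by
  rw [map_sub, map_smul, hd.sq, smul_smul, inv_mul_cancel₀ hd.lne, one_smul, sub_self]

theorem Dat.β_ker {x y : V₂} (hx : x ∈ LinearMap.range (S d u g)) (hy : S d u g y = 0) : d.β x y = 0 := by
  obtain ⟨z, rfl⟩ := hx
  rw [S_symm (hO.isom g hd.att.mem), hy, map_zero]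

theorem Dat.mem_range {x : V₂} (h : ∀ k, S d u g k = 0 → d.β x k = 0) : x ∈ LinearMap.range (S d u g) := by
  set S' := S d u g
  have h0 : x - l⁻¹ • S' x = 0 := by
    refine d.β_eq_zero fun y => ?_
    have e : d.β (x - l⁻¹ • S' x) (y - l⁻¹ • S' y) = 0 := by
      rw [LinearMap.map_sub₂, h _ (Dat.proj hO hS hm hd y),
        Dat.β_ker hO hS hm hd (Submodule.smul_mem _ _ ⟨x, rfl⟩) (Dat.proj hO hS hm hd y), sub_zero]
    have e2 : d.β (x - l⁻¹ • S' x) (l⁻¹ • S' y) = 0 := by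
      rw [d.β_symm]
      exact Dat.β_ker hO hS hm hd (Submodule.smul_mem _ _ ⟨y, rfl⟩) (Dat.proj hO hS hm hd x)
    rw [map_sub, e2, sub_zero] at e
    exact e
  rw [sub_eq_zero.1 h0]
  exact Submodule.smul_mem _ _ ⟨x, rfl⟩

theorem Dat.exists_range : ∃ x ∈ LinearMap.range (S d u g), x ≠ 0 := by
  refine Submodule.exists_mem_ne_zero_of_ne_bot fun e => ?_
  have h := hd.att.rank
  rw [rk, e, finrank_bot] at h
  have := hm.pos
  omega

theorem Dat.inv_t (x : V₂) : (g * d.rt u 1 * g⁻¹).symm (d.t u x) = d.t u x - τ d u g x := by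
  rw [show (g * d.rt u 1 * g⁻¹).symm (d.t u x) = (g * d.rt u 1 * g⁻¹)⁻¹ (d.t u x) from rfl, conj_rt_inv,
    conj_rt_t, neg_one_smul, sub_eq_add_neg]

end

end TS

end H49
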