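import Cfsg.Agent.H49.TensDat
import Cfsg.Agent.H49.TensAlg

/-!
First factor of dimension at least four: conjugated Siegel elements.
-/

set_option autoImplicit false
set_option linter.unusedSectionVars false

namespace H49

namespace TS

variable {F : Type*} [Field F] [Fintype F]
  {V₁ : Type*} [AddCommGroup V₁] [Module F V₁] [FiniteDimensional F V₁]
  {V₂ : Type*} [AddCommGroup V₂] [Module F V₂] [FiniteDimensional F V₂]
  {V : Type*} [AddCommGroup V] [Module F V] [FiniteDimensional F V]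
  {d : TS F V₁ V₂ V} {H : Subgroup (V ≃ₗ[F] V)}

/-- The pairing of a conjugated Siegel element, up to sign. -/
noncomputable def pairM (d : TS F V₁ V₂ V) (u : V₁) (g : V ≃ₗ[F] V) (w : V₁) : V₂ →ₗ[F] V₂ :=
  S d u g ∘ₗ d.C w ∘ₗ τ d u g + d.C u ∘ₗ (g * d.rt u 1 * g⁻¹).toLinearMap ∘ₗ d.t w ∘ₗ S d u g

theorem pairM_apply (u : V₁) (g : V ≃ₗ[F] V) (w : V₁) (x : V₂) :
    pairM d u g w x = S d u g (d.C w (τ d u g x)) + d.C u ((g * d.rt u 1 * g⁻¹) (d.t w (S d u g x))) := rfl

theorem pairM_add (u : V₁) (g : V ≃ₗ[F] V) (w w' : V₁) :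
    pairM d u g (w + w') = pairM d u g w + pairM d u g w' := by
  refine LinearMap.ext fun x => ?_
  simp only [LinearMap.add_apply, pairM_apply, d.C_add, map_add]
  abel

theorem pairM_smul (u : V₁) (g : V ≃ₗ[F] V) (k : F) (w : V₁) :
    pairM d u g (k • w) = k • pairM d u g w := by
  refine LinearMap.ext fun x => ?_
  simp only [LinearMap.smul_apply, pairM_apply, d.C_smul, map_smul, smul_add]

/-- The pairing as a linear function of the Siegel parameter. -/
noncomputable def pairL (d : TS F V₁ V₂ V) (u : V₁) (g : V ≃ₗ[F] V) : V₁ →ₗ[F] V₂ →ₗ[F] V₂ where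
  toFun := pairM d u g
  map_add' := pairM_add u g
  map_smul' := pairM_smul u g

section

variable (hO : d.Over H) (hS : d.Small H) {r : ℕ} {u : V₁} {g : V ≃ₗ[F] V} {l : F}
  (hm : Least d H r) (hd : Dat d H r u g l)
include hO hS hm hd

theorem Dat.conj_sg_t {w : V₁} (hw : d.ω u w = 0) (x : V₂) :
    ((g * d.rt u 1 * g⁻¹) * d.sg hw * (g * d.rt u 1 * g⁻¹)⁻¹) (d.t u x) =
      d.t u x - (g * d.rt u 1 * g⁻¹) (d.t u (d.C w (τ d u g x)) + d.t w (S d u g x)) := by
  set b := g * d.rt u 1 * g⁻¹ with hb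
  show b (d.sg hw (b.symm (d.t u x))) = _
  have h1 : d.C w (d.t u x) = 0 := by rw [d.C_t, hw, zero_smul]
  have h2 : d.C u (d.t u x) = 0 := by rw [d.C_t, d.ω_alt, zero_smul]
  have h3 : d.sg hw (b.symm (d.t u x)) = b.symm (d.t u x) - (d.t u (d.C w (τ d u g x)) + d.t w (S d u g x)) := by
    rw [Dat.inv_t hO hS hm hd, d.sg_apply]
    simp only [map_sub, h1, h2, C_τ, map_zero, zero_sub, map_neg]
    abel
  rw [h3, map_sub, b.apply_symm_apply]

theorem Dat.N_conj_sg {w : V₁} (hw : d.ω u w = 0) :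
    N d u ((g * d.rt u 1 * g⁻¹) * d.sg hw * (g * d.rt u 1 * g⁻¹)⁻¹) = -pairM d u g w := by
  refine LinearMap.ext fun x => ?_
  show d.C u (((g * d.rt u 1 * g⁻¹) * d.sg hw * (g * d.rt u 1 * g⁻¹)⁻¹) (d.t u x)) = _
  rw [Dat.conj_sg_t hO hS hm hd hw, map_sub, map_add, map_add, d.C_t, d.ω_alt, zero_smul, zero_sub,
    LinearMap.neg_apply, pairM_apply, conj_rt_t, one_smul, map_add, d.C_t, d.ω_alt, zero_smul, zero_add, C_τ]

theorem Dat.pairM_symm {w : V₁} (hw : d.ω u w = 0) (x z : V₂) :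
    d.β (pairM d u g w x) z = d.β x (pairM d u g w z) := by
  have hadj : ∀ x z, d.β (d.C u ((g * d.rt u 1 * g⁻¹) (d.t w x))) z = d.β x (d.C w (τ d u g z)) := by
    intro x z
    rw [d.β_C, d.β_C']
    have h := (hO.isom _ (Att.conj_mem hO hS hm hd.att)).f_inv
    set b := g * d.rt u 1 * g⁻¹
    have h1 := h (d.t u z) (d.t w x)
    rw [Dat.inv_t hO hS hm hd, map_sub, LinearMap.sub_apply, d.f_t, hw, zero_mul, zero_sub] at h1
    rw [d.f_swap, ← h1, neg_neg]
  have hs := S_symm (hO.isom g hd.att.mem) u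
  simp only [pairM_apply, map_add, LinearMap.add_apply]
  rw [hs, hadj, d.β_symm x (d.C u _), hadj, d.β_symm (d.C w _) (S d u g z), hs x]
  ring

theorem Dat.pairM_ker (w : V₁) {x : V₂} (hx : S d u g x = 0) : pairM d u g w x = 0 := by
  simp [pairM_apply, hd.τker x hx, hx]

theorem Dat.pairM_mem (w : V₁) {x : V₂} (hw : d.ω u w = 0) :
    pairM d u g w x ∈ LinearMap.range (S d u g) := by
  refine Dat.mem_range hO hS hm hd fun k hk => ?_
  rw [Dat.pairM_symm hO hS hm hd hw, Dat.pairM_ker hO hS hm hd w hk, map_zero]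

theorem Dat.pairM_u (x : V₂) : pairM d u g u x = (2 * l) • S d u g x := by
  rw [pairM_apply, C_τ, conj_rt_t, one_smul, map_add, d.C_t, d.ω_alt, zero_smul, zero_add, C_τ, hd.sq]
  module

/-- The parameter is determined by the pairing. -/
theorem Dat.pairM_ne {w : V₁} (hw : d.ω u w = 0) (hw0 : w ≠ 0) : pairM d u g w ≠ 0 := by
  intro h0
  have h2 := hO.two
  obtain ⟨x₀, hx₀, hx₀0⟩ := Dat.exists_range hO hS hm hd
  have hSx₀ : S d u g x₀ ≠ 0 := by
    rw [Dat.range_apply hO hS hm hd hx₀]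
    exact smul_ne_zero hd.lne hx₀0
  by_cases hwu : w ∈ Submodule.span F {u}
  · obtain ⟨k, rfl⟩ := Submodule.mem_span_singleton.1 hwu
    have := LinearMap.congr_fun h0 x₀
    rw [pairM_smul, LinearMap.smul_apply, Dat.pairM_u hO hS hm hd, smul_smul, LinearMap.zero_apply, smul_eq_zero] at this
    have hk : k ≠ 0 := fun e => hw0 (by rw [e, zero_smul])
    exact this.elim (mul_ne_zero hk (mul_ne_zero h2 hd.lne)) hSx₀
  set b := g * d.rt u 1 * g⁻¹ with hb
  set y := b * d.sg hw * b⁻¹ with hy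
  have hyH : y ∈ H :=
    mul_mem (mul_mem (Att.conj_mem hO hS hm hd.att) (hO.sg_mem hw)) (inv_mem (Att.conj_mem hO hS hm hd.att))
  obtain ⟨⟨a, c, hac⟩, -⟩ := hm.low hO hS hyH hd.att.ne (by
    rw [hy, Dat.N_conj_sg hO hS hm hd hw, h0, neg_zero, rk, LinearMap.range_zero, finrank_bot]
    exact hm.pos)
  have hyt : ∀ x, b.symm (y (d.t u x)) =
      b.symm (d.t u x) - (d.t u (d.C w (τ d u g x)) + d.t w (S d u g x)) := fun x => by
    rw [hy, Dat.conj_sg_t hO hS hm hd hw, ← hb, map_sub, b.symm_apply_apply]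
  obtain ⟨e₁, he₁, he₁u⟩ := d.exists_sep hwu hd.att.ne
  by_cases hsc : ∀ e, ∃ k : F, a e = k • e
  · -- the first factor is scalar
    obtain ⟨k, hk⟩ := exists_scalar (d := d) hsc
    have hyx : ∀ x, y (d.t u x) = d.t u (k • c x) := fun x => by
      rw [hac, d.tens_t, hk, map_smul, LinearMap.smul_apply, map_smul]
    have h := hyt x₀
    rw [hyx, Dat.inv_t hO hS hm hd, Dat.inv_t hO hS hm hd] at h
    have h' := congrArg (d.C u) h
    rw [map_sub, map_sub, map_sub, map_add, d.C_t, d.C_t, d.C_t, d.C_t, d.ω_alt, d.ω_eq_zero_comm hw, zero_smul,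
      zero_smul, zero_smul, zero_smul, C_τ, C_τ, add_zero, sub_zero, zero_sub, zero_sub, neg_inj] at h'
    have hτ := hd.τker (k • c x₀ - x₀) (by rw [map_sub, h', sub_self])
    rw [map_sub, sub_eq_zero] at hτ
    rw [hτ] at h
    have h'' := congrArg (d.C e₁) h
    simp only [map_sub, map_add, d.C_t, he₁u, he₁, zero_smul, one_smul, zero_sub, zero_add] at h''
    exact hSx₀ (sub_eq_self.1 h''.symm)
  -- the second factor is scalar
  push Not at hsc
  obtain ⟨e, he⟩ := hsc
  obtain ⟨p, hp1, hp0⟩ := d.exists_sep (w := a e) (u := e) (fun hmem => by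
    obtain ⟨k, hk⟩ := Submodule.mem_span_singleton.1 hmem
    exact he k hk.symm) (fun h0 => he 0 (by rw [h0, map_zero, smul_zero]))
  obtain ⟨κ, hκ⟩ : ∃ κ, κ = d.ω (a (a e)) p := ⟨_, rfl⟩
  have hquad : ∀ x, κ • c x = (2 : F) • x := by
    intro z
    obtain ⟨x, rfl⟩ := c.surjective z
    have hσ : ∀ v, d.sg hw (d.sg hw v) + v = (2 : F) • d.sg hw v := fun v => by
      have hwu' : d.ω w u = 0 := d.ω_eq_zero_comm hw
      rw [d.sg_apply hw (d.sg hw v)]
      simp only [d.sg_apply, map_add, d.C_t, d.ω_alt, hw, hwu', zero_smul, add_zero, two_smul]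
      abel
    have h1 : y (y (d.t e x)) + d.t e x = (2 : F) • y (d.t e x) := by
      show b (d.sg hw (b.symm (b (d.sg hw (b.symm (d.t e x)))))) + d.t e x = (2 : F) • b (d.sg hw (b.symm (d.t e x)))
      rw [b.symm_apply_apply, ← map_smul, ← hσ, map_add, b.apply_symm_apply]
    have h3 := congrArg (d.C p) h1
    simp only [hac, d.tens_t, map_add, map_smul, d.C_t, hp1, hp0, ← hκ, zero_smul, add_zero, one_smul] at h3
    exact h3
  have hκ0 : κ ≠ 0 := fun h0 => by
    have := hquad x₀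
    rw [h0, zero_smul, eq_comm, smul_eq_zero] at this
    exact hx₀0 (this.resolve_left h2)
  have hcs : ∀ x, c x = (κ⁻¹ * 2) • x := fun x => by
    rw [mul_smul, ← hquad, smul_smul, inv_mul_cancel₀ hκ0, one_smul]
  set v := (κ⁻¹ * 2) • a u - u with hv
  have hyx : ∀ x, y (d.t u x) = d.t u x + d.t v x := fun x => by
    rw [hac, d.tens_t, hcs, hv, map_sub, LinearMap.sub_apply, map_smul, map_smul, LinearMap.smul_apply,
      add_sub_cancel]
  have hvt : ∀ x, b.symm (d.t v x) = -(d.t u (d.C w (τ d u g x)) + d.t w (S d u g x)) := fun x => by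
    have h := hyt x
    rw [hyx, map_add, sub_eq_add_neg] at h
    exact add_left_cancel h
  have hv0 : v ≠ 0 := fun h0 => by
    have h := congrArg (d.C e₁) (hvt x₀)
    simp [h0, d.C_t, he₁, he₁u] at h
    exact hSx₀ h
  refine Dat.conj_ntens hO hS hm hd ?_
  have ht := tens_of_orth hO hS (inv_mem (Att.conj_mem hO hS hm hd.att)) hv0 hd.att.ne fun x z => by
    show d.f (b.symm (d.t v x)) (d.t u z) = 0
    rw [hvt, ← d.β_C, map_neg, map_add, d.C_t, d.C_t, d.ω_alt, d.ω_eq_zero_comm hw, zero_smul, zero_smul,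
      add_zero, neg_zero, map_zero, LinearMap.zero_apply]
  simpa using IsTens.inv ht

theorem Dat.pairM_inj {w : V₁} (hw : d.ω u w = 0) (hw0 : w ≠ 0) {x : V₂}
    (hx : x ∈ LinearMap.range (S d u g)) (h : pairM d u g w x = 0) : x = 0 := by
  set M := pairM d u g w with hM
  have hle : LinearMap.range M ≤ LinearMap.range (S d u g) := by
    rintro _ ⟨z, rfl⟩
    exact Dat.pairM_mem hO hS hm hd w hw
  have hrk : r ≤ rk M := by
    by_contra hlt
    refine Dat.pairM_ne hO hS hm hd hw hw0 ?_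
    have := (hm.low hO hS (mul_mem (mul_mem (Att.conj_mem hO hS hm hd.att) (hO.sg_mem hw))
      (inv_mem (Att.conj_mem hO hS hm hd.att))) hd.att.ne (by
        rw [Dat.N_conj_sg hO hS hm hd hw, rk_neg, ← hM]; omega)).2
    rw [Dat.N_conj_sg hO hS hm hd hw, neg_eq_zero] at this
    exact this
  have heq : LinearMap.range M = LinearMap.range (S d u g) :=
    Submodule.eq_of_le_of_finrank_le hle (hd.att.rank.le.trans hrk)
  refine Att.nondeg hO hS hm hd.att hx fun z hz => ?_
  rw [← heq] at hz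
  obtain ⟨z', rfl⟩ := hz
  rw [← Dat.pairM_symm hO hS hm hd hw, h, map_zero, LinearMap.zero_apply]

theorem Dat.pairM_quad {w : V₁} (hw : d.ω u w = 0) (hw0 : w ≠ 0) :
    (∃ μ : F, ∀ x ∈ LinearMap.range (S d u g), pairM d u g w (pairM d u g w x) = μ • x) ∨
      (Fintype.card F = 3 ∧ ∀ x ∈ LinearMap.range (S d u g),
        pairM d u g w (pairM d u g w (pairM d u g w (pairM d u g w x))) = -x) := by
  set b := g * d.rt u 1 * g⁻¹ with hb
  set y := b * d.sg hw * b⁻¹ with hy
  set M := pairM d u g w with hM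
  have hyH : y ∈ H :=
    mul_mem (mul_mem (Att.conj_mem hO hS hm hd.att) (hO.sg_mem hw)) (inv_mem (Att.conj_mem hO hS hm hd.att))
  have hN : N d u y = -M := Dat.N_conj_sg hO hS hm hd hw
  have hN' : ∀ x, N d u y⁻¹ x = M x := fun x => d.β_ext fun z => by
    rw [N_inv (hO.isom y hyH), hN, LinearMap.neg_apply, map_neg, neg_neg, Dat.pairM_symm hO hS hm hd hw]
  have hSy : ∀ x, S d u y x = -M (M x) := fun x => by
    show N d u y (N d u y⁻¹ x) = _
    rw [hN', hN, LinearMap.neg_apply]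
  have hinj : ∀ x ∈ LinearMap.range (S d u g), M x = 0 → x = 0 := fun x hx h =>
    Dat.pairM_inj hO hS hm hd hw hw0 hx h
  have hmem : ∀ x, M x ∈ LinearMap.range (S d u g) := fun x => Dat.pairM_mem hO hS hm hd w hw
  by_cases ht : d.IsTens y
  · obtain ⟨s, hs⟩ := S_tens ht u
    exact Or.inl ⟨-s, fun x _ => by rw [neg_smul, ← hs, hSy, neg_neg]⟩
  have ha : Att d H r u y := ⟨hyH, ht, hd.att.ne, le_antisymm ((Submodule.finrank_mono (by
    rintro _ ⟨z, rfl⟩
    rw [hSy]
    exact neg_mem (hmem _))).trans hd.att.rank.le) (hm.le y hyH ht u hd.att.ne)⟩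
  rcases Att.value hO hS hm ha with ⟨k, -, hk⟩ | ⟨hcard, hk⟩
  · refine Or.inl ⟨-k, fun x hx => ?_⟩
    have h := hk x
    simp only [hSy, map_neg, neg_neg] at h
    have h' : M (M (M (M x) + k • x)) = 0 := by
      simp only [map_add, map_smul, h, smul_neg, neg_add_cancel]
    rw [neg_smul]
    have h'' := hinj (M (M (M x) + k • x)) (hmem _) h'
    exact eq_neg_of_add_eq_zero_left (hinj (M (M x) + k • x) (add_mem (hmem _) (Submodule.smul_mem _ k hx)) h'')
  · refine Or.inr ⟨hcard, fun x hx => ?_⟩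
    have h := hk x
    simp only [hSy, map_neg, neg_neg] at h
    refine eq_neg_of_add_eq_zero_left (hinj _ (add_mem (hmem _) hx) (hinj _ (hmem _) ?_))
    rw [map_add, map_add]
    linear_combination (norm := skip) -h
    abel

/-- No normalised element when the first factor has dimension at least four. -/
theorem Dat.false_of_four (h4 : 4 ≤ Module.finrank F V₁) : False := by
  have h2 := hO.two
  set R := LinearMap.range (S d u g) with hR
  set P := LinearMap.ker (d.ω u) with hP
  have hPdim : 3 ≤ Module.finrank F P := by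
    have h1 := LinearMap.finrank_range_add_finrank_ker (d.ω u)
    have h3 := Submodule.finrank_le (LinearMap.range (d.ω u))
    rw [Module.finrank_self] at h3
    rw [hP]
    omega
  obtain ⟨x₀, hx₀, hx₀0⟩ := Dat.exists_range hO hS hm hd
  haveI : Nontrivial R := nontrivial_of_ne ⟨x₀, hx₀⟩ 0 fun e => hx₀0 (congrArg Subtype.val e)
  have hu : (u : V₁) ∈ P := LinearMap.mem_ker.2 (d.ω_alt u)
  let L : P →ₗ[F] Module.End F R :=
    { toFun := fun w => (pairM d u g w.1).restrict fun x _ => Dat.pairM_mem hO hS hm hd w.1 (LinearMap.mem_ker.1 w.2)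
      map_add' := fun w w' => LinearMap.ext fun x => Subtype.ext (LinearMap.congr_fun (pairM_add u g w.1 w'.1) x.1)
      map_smul' := fun k w => LinearMap.ext fun x => Subtype.ext (LinearMap.congr_fun (pairM_smul u g k w.1) x.1) }
  have hL : ∀ w x, ((L w x : R) : V₂) = pairM d u g w.1 x.1 := fun w x => rfl
  let w₀ : P := (2 * l * l)⁻¹ • ⟨u, hu⟩
  have hw₀0 : w₀ ≠ 0 :=
    smul_ne_zero (inv_ne_zero (mul_ne_zero (mul_ne_zero h2 hd.lne) hd.lne))
      fun e => hd.att.ne (congrArg Subtype.val e)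
  have h₀ : L w₀ = 1 := LinearMap.ext fun x => Subtype.ext (by
    rw [hL, show (w₀ : V₁) = (2 * l * l)⁻¹ • u from rfl, pairM_smul, LinearMap.smul_apply,
      Dat.pairM_u hO hS hm hd, Dat.range_apply hO hS hm hd x.2, smul_smul, smul_smul, Module.End.one_apply]
    convert one_smul F (x : V₂) using 2
    field_simp [hd.lne, h2])
  obtain ⟨w₁, hw₁⟩ : ∃ w : P, w ∉ Submodule.span F ({w₀} : Set P) := by
    by_contra hcon
    push Not at hcon
    have := Submodule.finrank_mono (show (⊤ : Submodule F P) ≤ Submodule.span F ({w₀} : Set P) from fun w _ => hcon w)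
    rw [finrank_top, finrank_span_singleton hw₀0] at this
    omega
  obtain ⟨w₂, hw₂⟩ : ∃ w : P, w ∉ Submodule.span F ({w₀, w₁} : Set P) := by
    by_contra hcon
    push Not at hcon
    classical
    have := Submodule.finrank_mono (show (⊤ : Submodule F P) ≤ Submodule.span F ({w₀, w₁} : Set P) from fun w _ => hcon w)
    rw [finrank_top] at this
    have h3 := finrank_span_le_card (R := F) ({w₀, w₁} : Set P)
    have h5 : ({w₀, w₁} : Set P).toFinset.card ≤ 2 := by
      rw [Set.toFinset_insert, Set.toFinset_singleton]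
      exact (Finset.card_insert_le _ _).trans (by rw [Finset.card_singleton])
    omega
  refine no_quad_space h2 L w₀ w₁ w₂ h₀ (fun a b c h => ?_) (fun w hw A hA => LinearMap.ext fun x => ?_)
    (fun w hw => ?_)
  · have hc : c = 0 := by
      by_contra hc
      refine hw₂ (Submodule.mem_span_pair.2 ⟨-(c⁻¹ * a), -(c⁻¹ * b), ?_⟩)
      have := congrArg (fun z => c⁻¹ • z) h
      simp only [smul_add, smul_smul, inv_mul_cancel₀ hc, one_smul, smul_zero] at this
      rw [eq_comm, ← sub_eq_zero]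
      linear_combination (norm := module) this
    rw [hc, zero_smul, add_zero] at h
    have hb : b = 0 := by
      by_contra hb
      refine hw₁ (Submodule.mem_span_singleton.2 ⟨-(b⁻¹ * a), ?_⟩)
      have := congrArg (fun z => b⁻¹ • z) h
      simp only [smul_add, smul_smul, inv_mul_cancel₀ hb, one_smul, smul_zero] at this
      rw [eq_comm, ← sub_eq_zero]
      linear_combination (norm := module) this
    rw [hb, zero_smul, add_zero, smul_eq_zero] at h
    exact ⟨h.resolve_right hw₀0, hb, hc⟩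
  · refine Subtype.ext (Dat.pairM_inj hO hS hm hd (LinearMap.mem_ker.1 w.2)
      (fun e => hw (Subtype.ext e)) (A x).2 ?_)
    exact congrArg Subtype.val (LinearMap.congr_fun hA x)
  · rcases Dat.pairM_quad hO hS hm hd (LinearMap.mem_ker.1 w.2) (fun e => hw (Subtype.ext e)) with
      ⟨μ, hμ⟩ | ⟨hcard, h⟩
    · refine Or.inl ⟨μ, LinearMap.ext fun x => Subtype.ext ?_⟩
      simp only [Module.End.mul_apply, LinearMap.smul_apply, Module.End.one_apply, Submodule.coe_smul, hL]
      exact hμ x.1 x.2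
    · refine Or.inr ⟨hcard, LinearMap.ext fun x => Subtype.ext ?_⟩
      simp only [pow_succ, pow_zero, one_mul, Module.End.mul_apply, LinearMap.neg_apply, Module.End.one_apply, Submodule.coe_neg, hL]
      exact h x.1 x.2

end

end TS

end H49
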