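import Cfsg.Agent.H49.TensDat

/-!
First factor of dimension two: conjugated isometries of the orthogonal factor.
-/

set_option autoImplicit false
set_option linter.unusedSectionVars false

namespace H49

namespace TS

variable {F : Type*} [Field F] [Fintype F]
  {V₁ : Type*} [AddCommGroup V₁] [Module F V₁] [FiniteDimensional F V₁]
  {V₂ : Type*} [AddCommGroup V₂] [Module F V₂] [FiniteDimensional F V₂]
  {V : Type*} [AddCommGroup V] [Module F V] [FiniteDimensional F V]
  {d : TS F V₁ V₂ V} {H : Subgroup (V ≃ₗ[F] V)}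

include d in
/-- A self-adjoint map with every anisotropic vector as eigenvector is a scalar. -/
theorem scalar_of_aniso_eigen (h2 : (2 : F) ≠ 0) (h3 : 3 ≤ Module.finrank F V₂) (T : V₂ →ₗ[F] V₂)
    (hsym : ∀ x y, d.β (T x) y = d.β x (T y)) (heig : ∀ a, d.β a a ≠ 0 → ∃ k : F, T a = k • a) :
    ∃ k : F, ∀ x, T x = k • x := by
  obtain ⟨a₀, -, ha₀⟩ := nondeg_aniso h2 (U := (⊤ : Submodule F V₂)) (nondeg_top (d := d))
    (by rw [finrank_top]; omega)
  obtain ⟨k₀, hk₀⟩ := heig a₀ ha₀
  refine ⟨k₀, fun x => ?_⟩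
  suffices hK : T - k₀ • LinearMap.id = 0 by
    have := LinearMap.congr_fun hK x
    simpa [sub_eq_zero] using this
  refine d.eq_zero_of_aniso h2 _ fun a ha => ?_
  obtain ⟨k, hk⟩ := heig a ha
  suffices e : k = k₀ by simp [hk, e]
  by_contra hne
  have horth : d.β a a₀ = 0 := by
    have := hsym a a₀
    rw [hk, hk₀, map_smul, LinearMap.smul_apply, map_smul] at this
    by_contra hb
    exact hne (mul_right_cancel₀ hb this)
  have hnd1 := nondeg_step nondeg_top (a := a) trivial ha
  have ha₀mem : a₀ ∈ (⊤ : Submodule F V₂) ⊓ d.orth₂ {a} :=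
    ⟨trivial, fun s hs => by rw [Set.mem_singleton_iff.1 hs, d.β_symm, horth]⟩
  have hnd2 := nondeg_step hnd1 ha₀mem ha₀
  obtain ⟨c, hc, hcc⟩ := nondeg_aniso h2 hnd2 (by
    have e1 := d.finrank_inf_orth₂ ⊤ a
    have e2 := d.finrank_inf_orth₂ (⊤ ⊓ d.orth₂ {a}) a₀
    rw [finrank_top] at e1
    omega)
  have hca : d.β c a = 0 := hc.1.2 a rfl
  have hca₀ : d.β c a₀ = 0 := hc.2 a₀ rfl
  have hac : d.β a c = 0 := by rw [d.β_symm, hca]
  have ha₀c : d.β a₀ c = 0 := by rw [d.β_symm, hca₀]
  have ha₀a : d.β a₀ a = 0 := by rw [d.β_symm, horth]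
  -- eigenvalues of the summands of an anisotropic eigenvector
  have coef : ∀ (τ : F) (z : V₂) (e : V₂) (μ : F), T z = τ • z → d.β z e = d.β e e → d.β e e ≠ 0 →
      T e = μ • e → μ = τ := fun τ z e μ hz hze hee he => by
    have := hsym z e
    rw [hz, he, map_smul, LinearMap.smul_apply, map_smul, hze] at this
    exact (mul_right_cancel₀ hee this).symm
  by_cases hsum : d.β (a + a₀) (a + a₀) = 0
  · simp [horth, ha₀a] at hsum
    obtain ⟨τ, hτ⟩ := heig (a + a₀ + c) (by
      simp [horth, ha₀a, hca, hca₀, hac, ha₀c]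
      intro h
      exact hcc (by linear_combination h - hsum))
    exact hne ((coef τ _ a k hτ (by simp [ha₀a, hca]) ha hk).trans
      (coef τ _ a₀ k₀ hτ (by simp [horth, hca₀]) ha₀ hk₀).symm)
  · obtain ⟨τ, hτ⟩ := heig _ hsum
    exact hne ((coef τ _ a k hτ (by simp [ha₀a]) ha hk).trans (coef τ _ a₀ k₀ hτ (by simp [horth]) ha₀ hk₀).symm)

section

variable (hO : d.Over H) (hS : d.Small H) {r : ℕ} {u v : V₁} {g : V ≃ₗ[F] V} {l : F}
  (hm : Least d H r) (hd : Dat d H r u g l) (hn : Module.finrank F V₁ = 2) (huv : d.ω u v = 1)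
include hO hS hm hd hn huv

theorem Dat.two_decomp (z : V) : z = d.t u (d.C v z) - d.t v (d.C u z) := by
  have hvu : d.ω v u = -1 := by rw [d.ω_swap, huv]
  have hspan : ∀ w, w = d.ω w v • u + d.ω u w • v := by
    have hli : LinearIndependent F ![u, v] := LinearIndependent.pair_iff.2 fun s t hst => by
      have h1 := congrArg (d.ω u) hst
      have h2 := congrArg (fun z => d.ω z v) hst
      simp [d.ω_alt, huv] at h1 h2
      exact ⟨h2, h1⟩
    intro w
    have htop := hli.span_eq_top_of_card_eq_finrank' (by simp [hn])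
    rw [Matrix.range_cons, Matrix.range_cons, Matrix.range_empty, Set.union_empty, Set.singleton_union] at htop
    obtain ⟨s, t, rfl⟩ := Submodule.mem_span_pair.1 (htop ▸ (Submodule.mem_top : w ∈ ⊤))
    simp [d.ω_alt, huv]
  refine d.ext_C fun w => ?_
  rw [hspan w]
  simp only [d.C_add, d.C_smul, map_sub, d.C_t, d.ω_alt, huv, hvu, zero_smul, one_smul, neg_smul, zero_sub,
    sub_zero, neg_neg]

theorem Dat.inv_two (x : V₂) : (g * d.rt u 1 * g⁻¹).symm (d.t u x) =
    d.t u (x - d.C v (τ d u g x)) + d.t v (S d u g x) := by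
  rw [Dat.inv_t hO hS hm hd]
  conv_lhs => rw [Dat.two_decomp hO hS hm hd hn huv (τ d u g x), C_τ]
  rw [map_sub]
  abel

theorem Dat.S_B_symm (x z : V₂) :
    d.β (d.C v (τ d u g x)) (S d u g z) = d.β (S d u g x) (d.C v (τ d u g z)) := by
  have hvu : d.ω v u = -1 := by rw [d.ω_swap, huv]
  have h : d.f (τ d u g x) (τ d u g z) = 0 := by
    show d.f (g (d.t u _)) (g (d.t u _)) = 0
    rw [hO.isom g hd.att.mem, d.f_t, d.ω_alt, zero_mul]
  rw [Dat.two_decomp hO hS hm hd hn huv (τ d u g x), Dat.two_decomp hO hS hm hd hn huv (τ d u g z), C_τ, C_τ] at h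
  simp only [map_sub, LinearMap.sub_apply, d.f_t, d.ω_alt, huv, hvu, zero_mul, one_mul, neg_mul, sub_zero,
    zero_sub, sub_neg_eq_add] at h
  linear_combination -h

theorem Dat.β_N_conj_left {c : V₂ ≃ₗ[F] V₂} (x z : V₂) :
    d.β (N d u ((g * d.rt u 1 * g⁻¹) * d.tens 1 c * (g * d.rt u 1 * g⁻¹)⁻¹) x) z =
      d.β (c (x - d.C v (τ d u g x)) - (x - d.C v (τ d u g x))) (S d u g z) -
        d.β (c (S d u g x) - S d u g x) (z - d.C v (τ d u g z)) := by
  have hvu : d.ω v u = -1 := by rw [d.ω_swap, huv]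
  have hb := hO.isom _ (Att.conj_mem hO hS hm hd.att)
  set b := g * d.rt u 1 * g⁻¹ with hbdef
  rw [β_N]
  show d.f (b (d.tens 1 c (b.symm (d.t u x)))) (d.t u z) = _
  have h1 := Dat.inv_two hO hS hm hd hn huv x
  have h3 := Dat.inv_two hO hS hm hd hn huv z
  rw [← hbdef] at h1 h3
  have h0 : d.f (b (b.symm (d.t u x))) (d.t u z) = 0 := by
    rw [b.apply_symm_apply, d.f_t, d.ω_alt, zero_mul]
  have key : ∀ w, d.f (b w) (d.t u z) = d.f w (b.symm (d.t u z)) := fun w => by
    conv_lhs => rw [← b.apply_symm_apply (d.t u z), hb]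
  rw [key, h1, h3] at h0
  rw [key, h1, h3]
  simp only [map_add, d.tens_t, map_sub, LinearMap.add_apply, LinearMap.sub_apply, d.f_t, d.ω_alt, huv, hvu, zero_mul,
    one_mul, neg_mul, zero_add, add_zero, show (1 : V₁ ≃ₗ[F] V₁) u = u from rfl,
    show (1 : V₁ ≃ₗ[F] V₁) v = v from rfl] at h0 ⊢
  linear_combination h0

theorem Dat.ker_q {x : V₂} (hx : S d u g x = 0) : x - d.C v (τ d u g x) = x := by
  rw [hd.τker x hx, map_zero, sub_zero]

theorem Dat.ker_nondeg : ∀ x ∈ LinearMap.ker (S d u g), (∀ y ∈ LinearMap.ker (S d u g), d.β x y = 0) → x = 0 := by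
  intro x hx h
  refine d.β_eq_zero fun y => ?_
  have h1 := h (y - l⁻¹ • S d u g y) (LinearMap.mem_ker.2 (Dat.proj hO hS hm hd y))
  have h3 : d.β x (l⁻¹ • S d u g y) = 0 := by
    rw [d.β_symm]
    exact Dat.β_ker hO hS hm hd (Submodule.smul_mem _ _ ⟨y, rfl⟩) (LinearMap.mem_ker.1 hx)
  rw [map_sub, h3, sub_zero] at h1
  exact h1

/-- Large rank is impossible. -/
theorem Dat.rank_le_two : r ≤ 2 := by
  classical
  by_contra hlt
  have h2 := hO.two
  set q : V₂ →ₗ[F] V₂ := LinearMap.id - d.C v ∘ₗ τ d u g with hq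
  have hqx : ∀ x, q x = x - d.C v (τ d u g x) := fun x => rfl
  -- the relation from a reflection
  have rel : ∀ a (ha : d.β a a ≠ 0), ∀ x z,
      d.β (q x) a * d.β a (S d u g z) = d.β (S d u g x) a * d.β a (q z) := by
    intro a ha x z
    set b := g * d.rt u 1 * g⁻¹ with hb
    set y := b * d.tens 1 (d.refl ha) * b⁻¹ with hy
    have hβ : ∀ x z, d.β (N d u y x) z = -(2 / d.β a a) *
        (d.β (q x) a * d.β a (S d u g z) - d.β (S d u g x) a * d.β a (q z)) := fun x z => by
      rw [hy, hb, Dat.β_N_conj_left hO hS hm hd hn huv, ← hqx, ← hqx, d.refl_apply, d.refl_apply]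
      simp only [sub_sub_cancel_left, map_neg, map_smul, LinearMap.neg_apply, LinearMap.smul_apply, smul_eq_mul]
      ring
    obtain ⟨p, hp⟩ : ∃ p, ∀ x, d.β p x = d.β (q x) a :=
      ⟨(d.β.toDual d.β_nd).symm ((d.β.flip a).comp q), fun x =>
        LinearMap.BilinForm.apply_toDual_symm_apply (hB := d.β_nd) _ _⟩
    have hle : LinearMap.range (N d u y) ≤ Submodule.span F {S d u g a, p} := by
      rintro _ ⟨x, rfl⟩
      refine Submodule.mem_span_pair.2
        ⟨-(2 / d.β a a) * d.β (q x) a, (2 / d.β a a) * d.β (S d u g x) a, d.β_ext fun z => ?_⟩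
      rw [hβ]
      simp only [map_add, LinearMap.add_apply, map_smul, LinearMap.smul_apply, smul_eq_mul, hp,
        S_symm (hO.isom g hd.att.mem), d.β_symm (q z)]
      ring
    have h0 := (hm.low hO hS (mul_mem (mul_mem (Att.conj_mem hO hS hm hd.att)
      (hO.left_mem _ (d.refl_isom ha))) (inv_mem (Att.conj_mem hO hS hm hd.att))) hd.att.ne (g := y) (by
        have e1 := Submodule.finrank_mono hle
        have e2 := finrank_span_le_card (R := F) ({S d u g a, p} : Set V₂)
        have e3 : ({S d u g a, p} : Set V₂).toFinset.card ≤ 2 := by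
          rw [Set.toFinset_insert, Set.toFinset_singleton]
          exact (Finset.card_insert_le _ _).trans (by rw [Finset.card_singleton])
        rw [rk]
        omega)).2
    have := hβ x z
    rw [h0, LinearMap.zero_apply, map_zero, LinearMap.zero_apply, eq_comm, mul_eq_zero] at this
    exact sub_eq_zero.1 (this.resolve_left (neg_ne_zero.2 (div_ne_zero h2 ha)))
  by_cases hker : LinearMap.ker (S d u g) = ⊥
  · -- full rank
    have hSx : ∀ x, S d u g x = l • x := fun x => by
      have := Dat.proj hO hS hm hd x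
      rw [← LinearMap.mem_ker, hker, Submodule.mem_bot, sub_eq_zero] at this
      conv_rhs => rw [this, smul_smul, mul_inv_cancel₀ hd.lne, one_smul]
    have hsym : ∀ x z, d.β (q x) z = d.β x (q z) := fun x z => by
      have h := Dat.S_B_symm hO hS hm hd hn huv x z
      rw [hSx, hSx, map_smul, map_smul, LinearMap.smul_apply, smul_eq_mul, smul_eq_mul] at h
      rw [hqx, hqx, map_sub, LinearMap.sub_apply, map_sub, mul_left_cancel₀ hd.lne h]
    obtain ⟨k, hk⟩ := scalar_of_aniso_eigen (d := d) h2 hO.three q hsym fun a ha => by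
      refine ⟨d.β (q a) a / d.β a a, d.β_ext fun z => ?_⟩
      have h := rel a ha z a
      rw [hSx, hSx, map_smul, map_smul, LinearMap.smul_apply, smul_eq_mul, smul_eq_mul, ← hsym a a] at h
      rw [map_smul, LinearMap.smul_apply, smul_eq_mul, hsym a z, d.β_symm a (q z), div_mul_eq_mul_div, eq_div_iff ha,
        d.β_symm a z]
      exact mul_left_cancel₀ hd.lne (by linear_combination h)
    refine Dat.conj_ntens hO hS hm hd ?_
    have ht := tens_of_point hO hS (inv_mem (Att.conj_mem hO hS hm hd.att)) hd.att.ne (u' := k • u + l • v)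
      fun x => ⟨x, by
        show _ = (g * d.rt u 1 * g⁻¹).symm (d.t u x)
        rw [Dat.inv_two hO hS hm hd hn huv, ← hqx, hk, hSx, map_add, LinearMap.add_apply, map_smul, map_smul,
          LinearMap.smul_apply, LinearMap.smul_apply, map_smul, map_smul]⟩
    simpa using IsTens.inv ht
  -- an anisotropic vector with singular component in the range
  obtain ⟨k₀, hk₀, hk₀0⟩ := Submodule.exists_mem_ne_zero_of_ne_bot hker
  obtain ⟨k, hk, hkk⟩ := nondeg_aniso h2 (Dat.ker_nondeg hO hS hm hd hn huv)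
    (Module.finrank_pos_iff_exists_ne_zero.2 ⟨⟨k₀, hk₀⟩, fun e => hk₀0 (congrArg Subtype.val e)⟩)
  have hR3 : 3 ≤ Module.finrank F (LinearMap.range (S d u g)) := by
    have := hd.att.rank
    rw [rk] at this
    omega
  obtain ⟨e, he, he0, hee⟩ := d.exists_iso h2 hR3
  have hek : d.β e k = 0 := Dat.β_ker hO hS hm hd he (LinearMap.mem_ker.1 hk)
  have ha : d.β (e + k) (e + k) ≠ 0 := by simpa [hee, hek, d.β_symm k e] using hkk
  refine he0 (d.β_eq_zero fun z => ?_)
  have h := rel (e + k) ha k z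
  rw [hqx, Dat.ker_q hO hS hm hd hn huv (LinearMap.mem_ker.1 hk), LinearMap.mem_ker.1 hk, map_zero,
    LinearMap.zero_apply, zero_mul, mul_eq_zero] at h
  have h' := h.resolve_left (by simpa [hek, d.β_symm k e] using hkk)
  rw [← S_symm (hO.isom g hd.att.mem), map_add, Dat.range_apply hO hS hm hd he, LinearMap.mem_ker.1 hk, add_zero,
    map_smul, LinearMap.smul_apply, smul_eq_mul, mul_eq_zero] at h'
  exact h'.resolve_left hd.lne

/-- No normalised element when the first factor has dimension two and the second dimension other than three. -/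
theorem Dat.false_of_two (hn3 : Module.finrank F V₂ ≠ 3) : False := by
  classical
  have h2 := hO.two
  have hr2 := Dat.rank_le_two hO hS hm hd hn huv
  have hn5 : 5 ≤ Module.finrank F V₂ := by
    have := hO.big
    rw [hn] at this
    omega
  set S₀ := S d u g with hS₀
  set R := LinearMap.range S₀ with hR
  have hRr : Module.finrank F R = r := hd.att.rank
  set q : V₂ →ₗ[F] V₂ := LinearMap.id - d.C v ∘ₗ τ d u g with hq
  have hqx : ∀ x, q x = x - d.C v (τ d u g x) := fun x => rfl
  -- the transpose of `q`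
  obtain ⟨q', hq'⟩ : ∃ q' : V₂ →ₗ[F] V₂, ∀ x y, d.β (q' x) y = d.β x (q y) :=
    ⟨(d.β.toDual d.β_nd).symm.toLinearMap ∘ₗ d.β.compl₂ q, fun x y =>
      LinearMap.BilinForm.apply_toDual_symm_apply (hB := d.β_nd) _ _⟩
  set D : V₂ →ₗ[F] V₂ := LinearMap.id - q' with hD
  have hDmem : ∀ z, S₀ z = 0 → D z ∈ R := fun z hz => Dat.mem_range hO hS hm hd fun k hk => by
    rw [hD, LinearMap.sub_apply, LinearMap.id_apply, map_sub, LinearMap.sub_apply, hq', hqx,
      Dat.ker_q hO hS hm hd hn huv hk, sub_self]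
  set U : Submodule F V₂ := if r = 1 then LinearMap.ker S₀ ⊓ LinearMap.ker D else LinearMap.ker S₀ with hU
  have hker : Module.finrank F (LinearMap.ker S₀) + r = Module.finrank F V₂ := by
    rw [← hRr, add_comm]
    exact LinearMap.finrank_range_add_finrank_ker S₀
  have hU3 : 3 ≤ Module.finrank F U := by
    by_cases h1 : r = 1
    · rw [hU, if_pos h1]
      let φ : LinearMap.ker S₀ →ₗ[F] R :=
        (D ∘ₗ (LinearMap.ker S₀).subtype).codRestrict R fun z => hDmem z.1 (LinearMap.mem_ker.1 z.2)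
      have e1 := LinearMap.finrank_range_add_finrank_ker φ
      have e2 := Submodule.finrank_le (LinearMap.range φ)
      have e3 : Module.finrank F (LinearMap.ker φ) ≤ Module.finrank F ↥(LinearMap.ker S₀ ⊓ LinearMap.ker D) := by
        rw [(Submodule.equivMapOfInjective (LinearMap.ker S₀).subtype (Submodule.subtype_injective _)
          (LinearMap.ker φ)).finrank_eq]
        refine Submodule.finrank_mono ?_
        rintro _ ⟨z, hz, rfl⟩
        exact ⟨z.2, LinearMap.mem_ker.2 (congrArg Subtype.val (LinearMap.mem_ker.1 hz))⟩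
      omega
    · rw [hU, if_neg h1]
      omega
  obtain ⟨z, hzU, hz0, hzz⟩ := d.exists_iso h2 hU3
  have hzker : S₀ z = 0 := by
    rw [hU] at hzU
    split_ifs at hzU with h1
    · exact LinearMap.mem_ker.1 hzU.1
    · exact LinearMap.mem_ker.1 hzU
  set ρ := D z with hρ
  have hρR : ρ ∈ R := hDmem z hzker
  obtain ⟨a, haR, ha0, hρa⟩ : ∃ a ∈ R, a ≠ 0 ∧ (ρ ≠ 0 → a = ρ) := by
    rcases eq_or_ne ρ 0 with h | h
    · obtain ⟨a, ha, ha0⟩ := Dat.exists_range hO hS hm hd
      exact ⟨a, ha, ha0, fun h' => absurd h h'⟩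
    · exact ⟨ρ, hρR, h, fun _ => rfl⟩
  have hza : d.β z a = 0 := by rw [d.β_symm]; exact Dat.β_ker hO hS hm hd haR hzker
  set b := g * d.rt u 1 * g⁻¹ with hb
  set y := b * d.tens 1 (d.eich h2 hzz hza) * b⁻¹ with hy
  have hyH : y ∈ H := mul_mem (mul_mem (Att.conj_mem hO hS hm hd.att) (hO.left_mem _ (d.eich_isom h2 hzz hza)))
    (inv_mem (Att.conj_mem hO hS hm hd.att))
  set z' := q' z with hz'
  set T : V₂ →ₗ[F] V₂ := l • dual₂ d a z' with hT
  have hTsym : ∀ x w, d.β (T x) w = d.β x (T w) := fun x w => by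
    simp [hT, dual₂_apply, d.β_symm z' w, d.β_symm a w]
    ring
  have hzS : ∀ x, d.β (S₀ x) z = 0 := fun x => by rw [hS₀, S_symm (hO.isom g hd.att.mem), ← hS₀, hzker, map_zero]
  have haS : ∀ x, d.β (S₀ x) a = l * d.β x a := fun x => by
    rw [hS₀, S_symm (hO.isom g hd.att.mem), Dat.range_apply hO hS hm hd haR, map_smul, smul_eq_mul]
  have hN : N d u y = T := by
    refine LinearMap.ext fun x => d.β_ext fun w => ?_
    rw [hy, hb, Dat.β_N_conj_left hO hS hm hd hn huv, ← hqx, ← hqx, d.eich_apply, d.eich_apply, hzS, haS]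
    simp only [hT, dual₂_apply, LinearMap.smul_apply, map_add, map_sub, map_smul, LinearMap.add_apply,
      LinearMap.sub_apply, smul_eq_mul, mul_zero, zero_smul, sub_zero, zero_sub, map_neg, LinearMap.neg_apply,
      map_zero, LinearMap.zero_apply, zero_add, add_zero, ← hS₀, d.β_symm a (S₀ w), d.β_symm z (S₀ w), hzS, haS,
      hz', d.β_symm x (q' z), hq', d.β_symm z (q x), d.β_symm z (q w), d.β_symm a x, d.β_symm a w]
    ring
  have hT0 : T ≠ 0 := by
    intro h0
    obtain ⟨x, hx⟩ : ∃ x, d.β a x ≠ 0 := by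
      by_contra hcon
      simp only [not_exists, not_not] at hcon
      exact ha0 (d.β_eq_zero hcon)
    have h := LinearMap.congr_fun h0 x
    simp only [hT, LinearMap.smul_apply, dual₂_apply, LinearMap.zero_apply, smul_eq_zero, hd.lne, false_or] at h
    have hz'R : z' ∈ R := by
      have e : z' = (-(d.β x z') / d.β x a) • a := by
        rw [← sub_eq_zero]
        have hxa : d.β x a ≠ 0 := by rwa [d.β_symm]
        rw [show z' - (-(d.β x z') / d.β x a) • a = (d.β x a)⁻¹ • (d.β x a • z' + d.β x z' • a) by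
          match_scalars <;> field_simp, h, smul_zero]
      rw [e]
      exact R.smul_mem _ haR
    have hzR : z ∈ R := by
      have : z = z' + ρ := by rw [hρ, hD, hz', LinearMap.sub_apply, LinearMap.id_apply, add_sub_cancel]
      rw [this]
      exact R.add_mem hz'R hρR
    exact hz0 (Att.eq_zero hO hS hm hd.att hzR hzker)
  have ht : ¬ d.IsTens y := by
    rintro ⟨a', c, hac⟩
    have hk : d.ω (a' u) u ≠ 0 := fun h0 => hT0 (LinearMap.ext fun x => by
      rw [← hN, hac, N_tens, h0, zero_smul, LinearMap.zero_apply])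
    have htop : (⊤ : Submodule F V₂) ≤ Submodule.span F {a, z'} := fun w _ => by
      obtain ⟨x, hx⟩ : ∃ x, T x = w := ⟨c.symm ((d.ω (a' u) u)⁻¹ • w), by
        rw [← hN, hac, N_tens, c.apply_symm_apply, smul_smul, mul_inv_cancel₀ hk, one_smul]⟩
      rw [← hx, hT, LinearMap.smul_apply, dual₂_apply]
      exact Submodule.smul_mem _ _ (Submodule.mem_span_pair.2 ⟨d.β x z', d.β x a, by abel⟩)
    have e1 := Submodule.finrank_mono htop
    rw [finrank_top] at e1
    have e2 := finrank_span_le_card (R := F) ({a, z'} : Set V₂)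
    have e3 : ({a, z'} : Set V₂).toFinset.card ≤ 2 := by
      rw [Set.toFinset_insert, Set.toFinset_singleton]
      exact (Finset.card_insert_le _ _).trans (by rw [Finset.card_singleton])
    omega
  have hSy : ∀ x, S d u y x = -T (T x) := fun x => by
    have e : N d u y⁻¹ x = -T x := d.β_ext fun w => by
      rw [N_inv (hO.isom y hyH), hN, map_neg, LinearMap.neg_apply, hTsym]
    show N d u y (N d u y⁻¹ x) = _
    rw [e, hN, map_neg]
  -- the square has rank one
  have hz'eq : z' = z - ρ := by rw [hρ, hD, hz', LinearMap.sub_apply, LinearMap.id_apply, sub_sub_cancel]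
  set e₀ := if ρ = 0 then z else z' - a with he₀
  have hTa : T a ∈ Submodule.span F {e₀} ∧ T z' ∈ Submodule.span F {e₀} := by
    rw [he₀]
    split_ifs with h
    · have hz'z : z' = z := by rw [hz'eq, h, sub_zero]
      constructor <;> refine Submodule.mem_span_singleton.2 ⟨?_, ?_⟩
      · exact l * d.β a a
      · simp [hT, dual₂_apply, hz'z, d.β_symm a z, hza, smul_smul]
      · exact 0
      · simp [hT, dual₂_apply, hz'z, hza, hzz]
    · have hae := hρa h
      have e1 : d.β z' a = -d.β a a := by rw [hz'eq, map_sub, LinearMap.sub_apply, hza, hae, zero_sub]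
      have e1' : d.β a z' = -d.β a a := by rw [d.β_symm, e1]
      have e3 : d.β z' z' = d.β a a := by
        rw [hz'eq, ← hae]
        simp [hzz, hza, d.β_symm a z]
      constructor <;> refine Submodule.mem_span_singleton.2 ⟨?_, ?_⟩
      · exact l * d.β a a
      · simp [hT, dual₂_apply, e1']
        module
      · exact -(l * d.β a a)
      · simp [hT, dual₂_apply, e1, e3]
        module
  have hle : LinearMap.range (S d u y) ≤ Submodule.span F {e₀} := by
    rintro _ ⟨x, rfl⟩
    rw [hSy]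
    refine Submodule.neg_mem _ ?_
    have hTx : T x = (l * d.β x z') • a + (l * d.β x a) • z' := by
      simp [hT, dual₂_apply, smul_smul]
      abel
    rw [hTx, map_add, map_smul, map_smul]
    exact Submodule.add_mem _ (Submodule.smul_mem _ _ hTa.1) (Submodule.smul_mem _ _ hTa.2)
  have hrle : rk (S d u y) ≤ 1 := (Submodule.finrank_mono hle).trans (by
    have := finrank_span_le_card (R := F) ({e₀} : Set V₂)
    simpa using this)
  have hge := hm.le y hyH ht u hd.att.ne
  have hr1 : r = 1 := by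
    have := hm.pos
    omega
  have hρ0 : ρ = 0 := by
    rw [hU, if_pos hr1] at hzU
    exact LinearMap.mem_ker.1 hzU.2
  have hz'z : z' = z := by rw [hz'eq, hρ0, sub_zero]
  have hay : Att d H r u y := ⟨hyH, ht, hd.att.ne, by omega⟩
  have hTz : T z = 0 := by simp [hT, dual₂_apply, hz'z, hza, hzz]
  have hzero : S d u y = 0 := LinearMap.ext fun x => by
    refine Att.ker_sq hO hS hm hay ?_
    obtain ⟨k, hk⟩ := Submodule.mem_span_singleton.1 (hle ⟨x, rfl⟩)
    rw [he₀, if_pos hρ0] at hk
    rw [← hk, map_smul, hSy, hTz, map_zero, neg_zero, smul_zero]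
  have := hay.rank
  rw [hzero, rk, LinearMap.range_zero, finrank_bot] at this
  omega

end

end TS

end H49
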