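import Cfsg.Agent.H49.TensFour
import Cfsg.Agent.H49.TensTwo
import Cfsg.Agent.H42.TensorRadical

/-!
An overgroup of the product isometries consists of products or contains every transvection.
-/

set_option autoImplicit false
set_option linter.unusedSectionVars false

namespace H49

namespace TS

variable {F : Type*} [Field F] [Fintype F]
  {V₁ : Type*} [AddCommGroup V₁] [Module F V₁] [FiniteDimensional F V₁]
  {V₂ : Type*} [AddCommGroup V₂] [Module F V₂] [FiniteDimensional F V₂]
  {V : Type*} [AddCommGroup V] [Module F V] [FiniteDimensional F V]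
  {d : TS F V₁ V₂ V} {H : Subgroup (V ≃ₗ[F] V)}

theorem Over.all_tens (hO : d.Over H) (hS : d.Small H) {g : V ≃ₗ[F] V} (hg : g ∈ H) : d.IsTens g := by
  by_contra hn
  obtain ⟨r, u, g', l, hm, hd⟩ := exists_dat hO hS hg hn
  obtain ⟨j, hj⟩ := d.even_finrank
  have hpos := hO.pos
  by_cases h2 : Module.finrank F V₁ = 2
  · obtain ⟨v, hv⟩ := d.exists_ω_eq_one hd.att.ne
    by_cases h3 : Module.finrank F V₂ = 3
    · obtain ⟨-, -, hq⟩ := hO.big.resolve_left (by rw [h2, h3]; omega)
      obtain ⟨t, ht, htt⟩ : ∃ t : F, t ≠ 0 ∧ t * t ≠ 1 := by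
        classical
        obtain ⟨t, ht⟩ : ((Finset.univ : Finset F) \ {0, 1, -1}).Nonempty := by
          rw [← Finset.card_pos]
          have h := Finset.le_card_sdiff ({0, 1, -1} : Finset F) Finset.univ
          have h' := Finset.card_le_three (a := (0 : F)) (b := 1) (c := -1)
          rw [Finset.card_univ] at h
          omega
        simp only [Finset.mem_sdiff, Finset.mem_univ, true_and, Finset.mem_insert, Finset.mem_singleton,
          not_or] at ht
        exact ⟨t, ht.1, fun h => (mul_self_eq_one_iff.1 h).elim ht.2.1 ht.2.2⟩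
      obtain ⟨k, hk, hk0⟩ : ∃ k ∈ LinearMap.ker (S d u g'), k ≠ 0 := by
        refine Submodule.exists_mem_ne_zero_of_ne_bot fun e => ?_
        have h := LinearMap.finrank_range_add_finrank_ker (S d u g')
        rw [e, finrank_bot, show Module.finrank F (LinearMap.range (S d u g')) = r from hd.att.rank] at h
        have := Dat.rank_le_two hO hS hm hd h2 hv
        omega
      exact Dat.false_of_radical hO hS hm hd h2 hv ht htt (LinearMap.mem_ker.1 hk) hk0
    · exact Dat.false_of_two hO hS hm hd h2 hv h3
  · exact Dat.false_of_four hO hS hm hd (by omega)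

theorem Over.dichotomy (hO : d.Over H) : (∀ z, Ctr d H z) ∨ ∀ g ∈ H, d.IsTens g := by
  by_cases hS : d.Small H
  · exact Or.inr fun g hg => hO.all_tens hS hg
  · exact Or.inl fun z => hO.all_ctr hS z

/-- Some transvection is not a product. -/
theorem exists_not_tens (hn₁ : 2 ≤ Module.finrank F V₁) (hn₂ : 2 ≤ Module.finrank F V₂) (z : V) (hz : z ≠ 0)
    (g : V ≃ₗ[F] V) (hg : ∀ v, g v = v + d.f v z • z) : ¬ d.IsTens g := by
  rintro ⟨a, c, hac⟩
  have hline : ∀ v, g v - v ∈ Submodule.span F ({z} : Set V) := fun v => by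
    rw [hg, add_sub_cancel_left]
    exact Submodule.smul_mem _ _ (Submodule.mem_span_singleton_self z)
  obtain ⟨v, hv⟩ : ∃ v, d.f v z ≠ 0 := by
    by_contra hcon
    simp only [not_exists, not_not] at hcon
    exact hz (d.f_nd.1 z fun w => by rw [d.f_swap, hcon, neg_zero])
  obtain ⟨u₀, hu₀⟩ : ∃ u : V₁, u ≠ 0 := Module.finrank_pos_iff_exists_ne_zero.1 (lt_of_lt_of_le Nat.two_pos hn₁)
  by_cases hsc : ∀ e, ∃ k : F, a e = k • e
  · obtain ⟨k, hk⟩ := exists_scalar (d := d) hsc
    have hB : g.toLinearMap - LinearMap.id = lmap d LinearMap.id (k • c.toLinearMap - LinearMap.id) :=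
      d.hom_ext fun e x => by
        show g (d.t e x) - d.t e x = _
        rw [hac, d.tens_t, hk, lmap_t, LinearMap.sub_apply, map_sub, LinearMap.smul_apply, map_smul, map_smul,
          LinearMap.smul_apply]
        rfl
    have hle : LinearMap.range (g.toLinearMap - LinearMap.id) ≤ Submodule.span F ({z} : Set V) := by
      rintro _ ⟨w, rfl⟩
      exact hline w
    have h1 := (Submodule.finrank_mono hle).trans_eq (finrank_span_singleton hz)
    rw [hB, finrank_range_lmap, LinearMap.range_id, finrank_top] at h1
    rcases Nat.eq_zero_or_pos (Module.finrank F (LinearMap.range (k • c.toLinearMap - LinearMap.id))) with h0 | h0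
    · rw [Submodule.finrank_eq_zero, LinearMap.range_eq_bot] at h0
      have hw := LinearMap.congr_fun hB v
      rw [LinearMap.sub_apply, LinearEquiv.coe_coe, LinearMap.id_apply, hg, add_sub_cancel_left, h0] at hw
      have h : lmap d LinearMap.id (0 : V₂ →ₗ[F] V₂) v = 0 := by simp [lmap]
      rw [h, smul_eq_zero] at hw
      exact hw.elim hv hz
    · have := Nat.le_mul_of_pos_right (Module.finrank F V₁) h0
      omega
  · push Not at hsc
    obtain ⟨e, he⟩ := hsc
    obtain ⟨p, hp1, hp0⟩ := d.exists_sep (w := a e) (u := e) (fun hmem => by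
      obtain ⟨k, hk⟩ := Submodule.mem_span_singleton.1 hmem
      exact he k hk.symm) (fun h0 => he 0 (by rw [h0, map_zero, smul_zero]))
    -- the moved copy of the second factor is a line
    have hle : LinearMap.range c.toLinearMap ≤ Submodule.span F {d.C p z} := by
      rintro _ ⟨x, rfl⟩
      have h := congrArg (d.C p) (hg (d.t e x))
      rw [hac, d.tens_t, d.C_t, hp1, one_smul, map_add, d.C_t, hp0, zero_smul, zero_add, map_smul] at h
      rw [LinearEquiv.coe_coe, h]
      exact Submodule.smul_mem _ _ (Submodule.mem_span_singleton_self _)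
    have h1 := Submodule.finrank_mono hle
    rw [LinearMap.range_eq_top.2 c.surjective, finrank_top] at h1
    have h3 := finrank_span_le_card (R := F) ({d.C p z} : Set V₂)
    simp at h3
    omega

end TS

end H49
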