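import Cfsg.Agent.H49.TensStab

/-!
A conjugate of a root element which is a product comes from a product; pairings.
-/

set_option autoImplicit false
set_option linter.unusedSectionVars false

namespace H49

namespace TS

open scoped TensorProduct

variable {F : Type*} [Field F] [Fintype F]
  {V₁ : Type*} [AddCommGroup V₁] [Module F V₁] [FiniteDimensional F V₁]
  {V₂ : Type*} [AddCommGroup V₂] [Module F V₂] [FiniteDimensional F V₂]
  {V : Type*} [AddCommGroup V] [Module F V] [FiniteDimensional F V]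
  {d : TS F V₁ V₂ V} {H : Subgroup (V ≃ₗ[F] V)}

/-- The product of two linear maps. -/
noncomputable def lmap (d : TS F V₁ V₂ V) (A : V₁ →ₗ[F] V₁) (C : V₂ →ₗ[F] V₂) : V →ₗ[F] V :=
  d.Φ.toLinearMap ∘ₗ TensorProduct.map A C ∘ₗ d.Φ.symm.toLinearMap

theorem lmap_t (A : V₁ →ₗ[F] V₁) (C : V₂ →ₗ[F] V₂) (e : V₁) (x : V₂) :
    lmap d A C (d.t e x) = d.t (A e) (C x) := by simp [lmap, t_apply]

theorem C_lmap (C : V₂ →ₗ[F] V₂) (a : V₁) (v : V) :
    d.C a (lmap d LinearMap.id C v) = C (d.C a v) := by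
  have : d.C a ∘ₗ lmap d LinearMap.id C = C ∘ₗ d.C a := d.hom_ext fun e x => by
    show d.C a (lmap d LinearMap.id C (d.t e x)) = C (d.C a (d.t e x))
    rw [lmap_t, d.C_t, d.C_t, map_smul]
    rfl
  exact LinearMap.congr_fun this v

theorem finrank_range_lmap (A : V₁ →ₗ[F] V₁) (C : V₂ →ₗ[F] V₂) :
    Module.finrank F (LinearMap.range (lmap d A C)) =
      Module.finrank F (LinearMap.range A) * Module.finrank F (LinearMap.range C) := by
  have h : LinearMap.range (lmap d A C) = LinearMap.range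
      (d.Φ.toLinearMap ∘ₗ TensorProduct.map (LinearMap.range A).subtype (LinearMap.range C).subtype) := by
    have e : lmap d A C =
        (d.Φ.toLinearMap ∘ₗ TensorProduct.map (LinearMap.range A).subtype (LinearMap.range C).subtype) ∘ₗ
          (TensorProduct.map A.rangeRestrict C.rangeRestrict ∘ₗ d.Φ.symm.toLinearMap) := by
      refine d.hom_ext fun x y => ?_
      simp [lmap, t_apply]
    rw [e, LinearMap.range_comp_of_range_eq_top]
    rw [LinearMap.range_eq_top]
    exact (TensorProduct.map_surjective A.surjective_rangeRestrict C.surjective_rangeRestrict).comp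
      d.Φ.symm.surjective
  rw [h, LinearMap.finrank_range_of_inj, Module.finrank_tensorProduct]
  exact d.Φ.injective.comp (TensorProduct.map_injective_of_flat_flat _ _ (Submodule.injective_subtype _)
    (Submodule.injective_subtype _))

include d in
/-- A map preserving every line is a scalar. -/
theorem exists_scalar {a : V₁ ≃ₗ[F] V₁} (h : ∀ e, ∃ k : F, a e = k • e) : ∃ k : F, ∀ e, a e = k • e := by
  by_cases h0 : ∀ e : V₁, e = 0
  · exact ⟨1, fun e => by rw [h0 e, map_zero, smul_zero]⟩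
  push Not at h0
  obtain ⟨e₀, he₀⟩ := h0
  obtain ⟨k, hk⟩ := h e₀
  refine ⟨k, fun e => ?_⟩
  by_cases he : e ∈ Submodule.span F {e₀}
  · obtain ⟨s, rfl⟩ := Submodule.mem_span_singleton.1 he
    rw [map_smul, hk, smul_smul, smul_smul, mul_comm]
  obtain ⟨l, hl1, hl0⟩ := d.exists_sep he he₀
  obtain ⟨k', hk'⟩ := h e
  obtain ⟨s, hs⟩ := h (e + e₀)
  rw [map_add, hk, hk'] at hs
  have e1 := congrArg (fun z => d.ω z l) hs
  simp [hl1, hl0] at e1
  rw [hk', e1]
  rw [e1, smul_add, add_right_inj] at hs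
  rw [smul_left_injective F he₀ hs]

/-- A product fixing a column has trivial second factor. -/
theorem tens_fix (hO : d.Over H) {v : V₁} (hv : v ≠ 0) {a : V₁ ≃ₗ[F] V₁} {c : V₂ ≃ₗ[F] V₂}
    (h : ∀ y, d.tens a c (d.t v y) = d.t v y) : ∃ a', d.tens a c = d.tens a' 1 := by
  obtain ⟨l, hl⟩ := d.exists_ω_eq_one hv
  have hav : ∀ y, d.ω (a v) l • c y = y := fun y => by
    have := congrArg (d.C l) (h y)
    rwa [d.tens_t, d.C_t, d.C_t, hl, one_smul] at this
  obtain ⟨κ, hκ⟩ : ∃ κ, κ = d.ω (a v) l := ⟨_, rfl⟩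
  simp only [← hκ] at hav
  have hκ0 : κ ≠ 0 := fun e => by
    obtain ⟨z₀, hz₀⟩ := exists_pos hO
    exact hz₀ (by rw [← hav z₀, e, zero_smul])
  refine ⟨a * LinearEquiv.smulOfUnit (Units.mk0 κ⁻¹ (inv_ne_zero hκ0)), d.equiv_ext fun e x => ?_⟩
  rw [d.tens_t, d.tens_t]
  show d.t (a e) (c x) = d.t (a (κ⁻¹ • e)) x
  rw [map_smul, map_smul, LinearMap.smul_apply, ← map_smul]
  congr 1
  conv_rhs => rw [← hav x, smul_smul, inv_mul_cancel₀ hκ0, one_smul]

/-- The pairing of an element on a column. -/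
noncomputable def N (d : TS F V₁ V₂ V) (u : V₁) (g : V ≃ₗ[F] V) : V₂ →ₗ[F] V₂ :=
  d.C u ∘ₗ g.toLinearMap ∘ₗ d.t u

/-- The self-adjoint pairing. -/
noncomputable def S (d : TS F V₁ V₂ V) (u : V₁) (g : V ≃ₗ[F] V) : V₂ →ₗ[F] V₂ := N d u g ∘ₗ N d u g⁻¹

theorem β_N (u : V₁) (g : V ≃ₗ[F] V) (x y : V₂) : d.β (N d u g x) y = d.f (g (d.t u x)) (d.t u y) :=
  d.β_C u _ y

theorem N_inv {g : V ≃ₗ[F] V} (hg : d.Isom g) (u : V₁) (x y : V₂) :
    d.β (N d u g⁻¹ x) y = -d.β x (N d u g y) := by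
  rw [β_N, d.β_symm x, β_N, d.f_swap (g _)]
  show d.f (g.symm (d.t u x)) _ = _
  rw [hg.f_inv, neg_neg]

theorem N_tens (u : V₁) (a : V₁ ≃ₗ[F] V₁) (c : V₂ ≃ₗ[F] V₂) (x : V₂) :
    N d u (d.tens a c) x = d.ω (a u) u • c x := by
  show d.C u (d.tens a c (d.t u x)) = _
  rw [d.tens_t, d.C_t]

theorem S_tens {g : V ≃ₗ[F] V} (hg : d.IsTens g) (u : V₁) : ∃ s : F, ∀ x, S d u g x = s • x := by
  obtain ⟨a, c, rfl⟩ := hg
  refine ⟨d.ω (a u) u * d.ω (a⁻¹ u) u, fun x => ?_⟩
  show N d u (d.tens a c) (N d u (d.tens a c)⁻¹ x) = _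
  rw [d.tens_inv, N_tens, N_tens, map_smul, smul_smul]
  show _ • c (c.symm x) = _
  rw [c.apply_symm_apply]

theorem N_conj (u : V₁) (g : V ≃ₗ[F] V) : N d u (g * d.rt u 1 * g⁻¹) = S d u g := by
  refine LinearMap.ext fun x => ?_
  show d.C u ((g * d.rt u 1 * g⁻¹) (d.t u x)) = d.C u (g (d.t u (d.C u (g.symm (d.t u x)))))
  rw [conj_rt_apply, map_add, d.C_t, d.ω_alt, zero_smul, zero_add]

theorem conj_rt_inv (u : V₁) (g : V ≃ₗ[F] V) :
    (g * d.rt u 1 * g⁻¹)⁻¹ = g * d.rt u (-1) * g⁻¹ := by rw [conj_inv, d.rt_inv]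

theorem N_conj_neg (u : V₁) (g : V ≃ₗ[F] V) :
    N d u (g * d.rt u 1 * g⁻¹)⁻¹ = -S d u g := by
  refine LinearMap.ext fun x => ?_
  rw [conj_rt_inv]
  show d.C u (g (d.rt u (-1) (g.symm (d.t u x)))) = -(d.C u (g (d.t u (d.C u (g.symm (d.t u x))))))
  rw [d.rt_apply, map_add, map_smul, g.apply_symm_apply, map_add, d.C_t, d.ω_alt, zero_smul, zero_add,
    map_smul, neg_one_smul]

theorem S_conj (u : V₁) (g : V ≃ₗ[F] V) :
    S d u (g * d.rt u 1 * g⁻¹) = -(S d u g ∘ₗ S d u g) := by
  show N d u _ ∘ₗ N d u _ = _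
  rw [N_conj, N_conj_neg]
  exact LinearMap.ext fun x => by rw [LinearMap.comp_apply, LinearMap.neg_apply, map_neg]; rfl

theorem S_symm {g : V ≃ₗ[F] V} (hg : d.Isom g) (u : V₁) (x y : V₂) :
    d.β (S d u g x) y = d.β x (S d u g y) := by
  have h : ∀ x y, d.β (S d u g x) y = -d.β (N d u g⁻¹ x) (N d u g⁻¹ y) := by
    intro x y
    show d.β (N d u g (N d u g⁻¹ x)) y = _
    rw [d.β_symm _ (N d u g⁻¹ y), N_inv hg u y, neg_neg, d.β_symm y]
  rw [h, d.β_symm x, h, d.β_symm (N d u g⁻¹ y)]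

section

variable (hO : d.Over H) (hS : d.Small H)
include hO hS

/-- If the conjugate of a root element is a product then so is the conjugating element. -/
theorem tens_of_conj {g : V ≃ₗ[F] V} (hg : g ∈ H) {u : V₁} (hu : u ≠ 0)
    (hb : d.IsTens (g * d.rt u 1 * g⁻¹)) : d.IsTens g := by
  have h2 := hO.two
  obtain ⟨v, huv⟩ := d.exists_ω_eq_one hu
  have hvu : d.ω v u = -1 := by rw [d.ω_swap, huv]
  obtain ⟨x₀, hx₀⟩ := exists_pos hO
  obtain ⟨a, c, hac⟩ := hb
  set b := g * d.rt u 1 * g⁻¹ with hbdef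
  have hbH : b ∈ H := mul_mem (mul_mem hg (hO.rt_mem u 1)) (inv_mem hg)
  have happ : ∀ w, b w = w + g (d.t u (d.C u (g.symm w))) := conj_rt_apply u
  -- the image of `b - 1` is the moved column
  have hrange : LinearMap.range (b.toLinearMap - LinearMap.id) = (d.W u).map g.toLinearMap := by
    refine le_antisymm ?_ ?_
    · rintro _ ⟨w, rfl⟩
      exact ⟨_, d.t_mem_W u (d.C u (g.symm w)), by simp [happ]⟩
    · rintro _ ⟨_, ⟨x, rfl⟩, rfl⟩
      refine ⟨g (d.t v (-x)), ?_⟩
      show b (g (d.t v (-x))) - g (d.t v (-x)) = g (d.t u x)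
      rw [happ, g.symm_apply_apply, d.C_t, hvu, neg_smul, one_smul, neg_neg, add_sub_cancel_left]
  by_cases hsc : ∀ e, ∃ k : F, a e = k • e
  swap
  · -- the second factor is scalar
    push Not at hsc
    obtain ⟨e, he⟩ := hsc
    have he0 : e ≠ 0 := fun h0 => he 0 (by rw [h0, map_zero, smul_zero])
    obtain ⟨l, hl1, hl0⟩ := d.exists_sep (fun hmem => by
      obtain ⟨k, hk⟩ := Submodule.mem_span_singleton.1 hmem
      exact he k hk.symm) he0
    obtain ⟨κ, hκ⟩ : ∃ κ, κ = d.ω (a (a e)) l := ⟨_, rfl⟩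
    have hquad : ∀ x, κ • c x = (2 : F) • x := by
      intro y
      obtain ⟨x, rfl⟩ := c.surjective y
      have h1 : b (b (d.t e x)) + d.t e x = (2 : F) • b (d.t e x) := by
        set w := d.t e x
        have hz : d.C u (g.symm (g (d.t u (d.C u (g.symm w))))) = 0 := by
          rw [g.symm_apply_apply, d.C_t, d.ω_alt, zero_smul]
        rw [happ w, map_add, happ (g (d.t u _)), hz, map_zero, map_zero, add_zero, happ w, two_smul]
        abel
      have h3 := congrArg (d.C l) h1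
      simp only [hac, d.tens_t, map_add, map_smul, d.C_t, hl1, hl0, ← hκ, zero_smul, add_zero, one_smul] at h3
      exact h3
    have hκ0 : κ ≠ 0 := fun h0 => by
      have := hquad x₀
      rw [h0, zero_smul, eq_comm, smul_eq_zero] at this
      exact hx₀ (this.resolve_left h2)
    have hcs : ∀ x, c x = (κ⁻¹ * 2) • x := fun x => by
      rw [mul_smul, ← hquad, smul_smul, inv_mul_cancel₀ hκ0, one_smul]
    have hk : (κ⁻¹ * 2 : F) ≠ 0 := mul_ne_zero (inv_ne_zero hκ0) h2
    have hb' : b = d.tens (a * LinearEquiv.smulOfUnit (Units.mk0 _ hk)) 1 := d.equiv_ext fun e' x => by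
      rw [hac, d.tens_t, d.tens_t, hcs]
      show d.t (a e') ((κ⁻¹ * 2) • x) = d.t (a ((κ⁻¹ * 2) • e')) x
      rw [map_smul, map_smul, map_smul, LinearMap.smul_apply]
    obtain ⟨p, -, hp⟩ := point_of_tens hO hb' (X := (d.W u).map g.toLinearMap) (finrank_image hO hu)
      (fun w => hrange ▸ ⟨w, rfl⟩) (conj_rt_ne hO hu)
    exact tens_of_point hO hS hg hu (u' := p) fun x => hp ▸ ⟨_, d.t_mem_W u x, rfl⟩
  -- the first factor is scalar
  exfalso
  obtain ⟨k, hk⟩ := exists_scalar (d := d) hsc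
  have hk0 : k ≠ 0 := fun h0 => hu (a.injective (by rw [hk, h0, zero_smul, map_zero]))
  set c' := c.trans (LinearEquiv.smulOfUnit (Units.mk0 k hk0)) with hc'
  have hbc : ∀ e x, b (d.t e x) = d.t e (c' x) := fun e x => by
    rw [hac, d.tens_t, hk, map_smul, LinearMap.smul_apply, ← map_smul]; rfl
  have hciso : ∀ x y, d.β (c' x) (c' y) = d.β x y := fun x y => by
    have := hO.isom b hbH (d.t u x) (d.t v y)
    rwa [hbc, hbc, d.f_t, d.f_t, huv, one_mul, one_mul] at this
  set Nc : V₂ →ₗ[F] V₂ := c'.toLinearMap - LinearMap.id with hNc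
  set P := LinearMap.range Nc with hP
  have hbL : b.toLinearMap - LinearMap.id = lmap d LinearMap.id Nc := d.hom_ext fun e x => by
    show b (d.t e x) - d.t e x = _
    rw [hbc, lmap_t, hNc, LinearMap.sub_apply, map_sub]
    rfl
  have hgW : (d.W u).map g.toLinearMap = LinearMap.range (lmap d LinearMap.id Nc) := by rw [← hrange, hbL]
  have hiso : ∀ p ∈ P, ∀ q ∈ P, d.β p q = 0 := by
    rintro _ ⟨x, rfl⟩ _ ⟨y, rfl⟩
    obtain ⟨_, ⟨x', rfl⟩, hx⟩ : lmap d LinearMap.id Nc (d.t u x) ∈ (d.W u).map g.toLinearMap := hgW ▸ ⟨_, rfl⟩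
    obtain ⟨_, ⟨y', rfl⟩, hy⟩ : lmap d LinearMap.id Nc (d.t v y) ∈ (d.W u).map g.toLinearMap := hgW ▸ ⟨_, rfl⟩
    have := hO.isom g hg (d.t u x') (d.t u y')
    rw [LinearEquiv.coe_coe] at hx hy
    rw [hx, hy, lmap_t, lmap_t, d.f_t, d.f_t, d.ω_alt, zero_mul] at this
    simpa [huv] using this
  have hr : Module.finrank F V₁ * Module.finrank F P = Module.finrank F V₂ := by
    rw [← finrank_image hO hu (g := g), hgW, finrank_range_lmap, LinearMap.range_id, finrank_top]
  have hn₁ := hO.pos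
  have hn₂ := hO.three
  have hr1 : Module.finrank F P ≠ 1 := by
    intro h1
    obtain ⟨⟨p, hp⟩, hp0, hgen⟩ := finrank_eq_one_iff'.1 h1
    have hp0' : p ≠ 0 := fun e => hp0 (Subtype.ext e)
    have hall : ∀ x, ∃ s : F, Nc x = s • p := fun x => by
      obtain ⟨s, hs⟩ := hgen ⟨Nc x, ⟨x, rfl⟩⟩
      exact ⟨s, by have := congrArg Subtype.val hs; simpa using this.symm⟩
    have hprod : ∀ x, Nc x = 0 ∨ d.β x p = 0 := by
      intro x
      obtain ⟨s, hs⟩ := hall x
      have := hciso x x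
      rw [show c' x = x + Nc x by rw [hNc, LinearMap.sub_apply]; simp, hs] at this
      simp [hiso p hp p hp, d.β_symm p x] at this
      rcases eq_or_ne s 0 with rfl | hs0
      · exact Or.inl (by rw [hs, zero_smul])
      · exact Or.inr ((mul_eq_zero.1 (show 2 * (s * d.β x p) = 0 by linear_combination this)).resolve_left h2
          |> mul_eq_zero.1 |>.resolve_left hs0)
    obtain ⟨x₁, hx₁⟩ := hp
    have hx₁0 : Nc x₁ ≠ 0 := hx₁ ▸ hp0'
    obtain ⟨x₂, hx₂⟩ : ∃ x, d.β x p ≠ 0 := by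
      by_contra hcon
      simp only [not_exists, not_not] at hcon
      exact hp0' (d.β_eq_zero fun y => by rw [d.β_symm]; exact hcon y)
    have e1 := (hprod x₁).resolve_left hx₁0
    have e2 := (hprod x₂).resolve_right hx₂
    rcases hprod (x₁ + x₂) with h | h
    · exact hx₁0 (by simpa [e2] using h)
    · exact hx₂ (by simpa [e1] using h)
  have hr0 : Module.finrank F P ≠ 0 := fun h0 => by rw [h0, mul_zero] at hr; omega
  obtain ⟨p, hpP, hp0⟩ : ∃ p ∈ P, p ≠ 0 := by
    refine Submodule.exists_mem_ne_zero_of_ne_bot fun e => hr0 ?_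
    rw [e, finrank_bot]
  obtain ⟨p₀, hp₀⟩ := id hpP
  -- a second vector
  obtain ⟨z, hzP, hzp, hzout⟩ : ∃ z, (∀ q ∈ P, d.β q z = 0) ∧ z ∉ Submodule.span F {p} ∧
      (Module.finrank F P = 2 → z ∉ P) := by
    by_cases h2P : Module.finrank F P = 2
    · have horth : LinearMap.BilinForm.orthogonal d.β P ≠ ⊥ ∧
          ¬ LinearMap.BilinForm.orthogonal d.β P ≤ P := by
        have h5 := LinearMap.BilinForm.finrank_orthogonal d.β_nd P
        have hbig := hO.big
        have hn1 : 4 ≤ Module.finrank F V₁ := by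
          by_contra hlt
          obtain ⟨j, hj⟩ := d.even_finrank
          have hj1 : Module.finrank F V₁ = 2 := by omega
          rw [h2P, hj1] at hr
          rw [hj1, ← hr] at hbig
          omega
        rw [h2P] at hr h5
        refine ⟨fun e => ?_, fun hle => ?_⟩
        · rw [e, finrank_bot] at h5; omega
        · have := Submodule.finrank_mono hle
          omega
      obtain ⟨z, hz, hzP⟩ := SetLike.not_le_iff_exists.1 horth.2
      exact ⟨z, fun q hq => hz q hq, fun hmem => hzP ((Submodule.span_singleton_le_iff_mem _ _).2 hpP hmem),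
        fun _ => hzP⟩
    · obtain ⟨z, hz, hzp⟩ : ∃ z ∈ P, z ∉ Submodule.span F {p} := by
        refine SetLike.not_le_iff_exists.1 fun hle => ?_
        have := Submodule.finrank_mono hle
        rw [finrank_span_singleton hp0] at this
        omega
      exact ⟨z, fun q hq => hiso q hq z hz, hzp, fun h => absurd h h2P⟩
  have hpp : d.β p p = 0 := hiso p hpP p hpP
  have hpz : d.β p z = 0 := hzP p hpP
  set E := d.eich h2 hpp hpz with hE
  set y := d.tens 1 E with hy
  have hyH : y ∈ H := hO.left_mem E (d.eich_isom h2 hpp hpz)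
  set Ne : V₂ →ₗ[F] V₂ := E.toLinearMap - LinearMap.id with hNe
  have hNe' : ∀ x, Ne x = d.β x p • z - d.β x z • p - (d.β z z / 2 * d.β x p) • p := fun x => by
    rw [hNe, LinearMap.sub_apply, LinearEquiv.coe_coe, hE, d.eich_apply, LinearMap.id_apply]
    abel
  have hyL : y.toLinearMap - LinearMap.id = lmap d LinearMap.id Ne := d.hom_ext fun e x => by
    show y (d.t e x) - d.t e x = _
    rw [hy, d.tens_t, lmap_t, hNe, LinearMap.sub_apply, map_sub]
    rfl
  obtain ⟨x₁, hx₁p, hx₁z⟩ : ∃ x, d.β x p = 0 ∧ d.β x z = 1 := by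
    obtain ⟨w, hw⟩ : ∃ w, d.β w p = 1 := by
      obtain ⟨w, hw⟩ : ∃ w, d.β w p ≠ 0 := by
        by_contra hcon
        simp only [not_exists, not_not] at hcon
        exact hp0 (d.β_eq_zero fun y => by rw [d.β_symm]; exact hcon y)
      exact ⟨(d.β w p)⁻¹ • w, by rw [map_smul, LinearMap.smul_apply, smul_eq_mul, inv_mul_cancel₀ hw]⟩
    by_contra hcon
    simp only [not_exists, not_and] at hcon
    refine hzp (Submodule.mem_span_singleton.2 ⟨d.β w z, (sub_eq_zero.1 (d.β_eq_zero fun q => ?_)).symm⟩)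
    by_contra hq
    set x := q - d.β q p • w
    have h1 : d.β x p = 0 := by simp [x, hw]
    have h3 : d.β x z ≠ 0 := fun h => hq (by
      simp [x] at h
      rw [map_sub, LinearMap.sub_apply, map_smul, LinearMap.smul_apply, d.β_symm z q, d.β_symm p q, smul_eq_mul]
      linear_combination h)
    exact hcon ((d.β x z)⁻¹ • x) (by simp [h1]) (by simp [h3])
  have hrkE : LinearMap.range Ne = Submodule.span F {p, z} := by
    refine le_antisymm ?_ (Submodule.span_le.2 ?_)
    · rintro _ ⟨x, rfl⟩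
      rw [hNe']
      refine sub_mem (sub_mem ?_ ?_) ?_ <;> refine Submodule.smul_mem _ _ (Submodule.subset_span ?_) <;> simp
    · have hp' : p ∈ LinearMap.range Ne := ⟨-x₁, by rw [hNe']; simp [hx₁p, hx₁z]⟩
      rintro q (rfl | rfl)
      · exact hp'
      · obtain ⟨w, hw⟩ : ∃ w, d.β w p = 1 := by
          obtain ⟨w, hw⟩ : ∃ w, d.β w p ≠ 0 := by
            by_contra hcon
            simp only [not_exists, not_not] at hcon
            exact hp0 (d.β_eq_zero fun y => by rw [d.β_symm]; exact hcon y)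
          exact ⟨(d.β w p)⁻¹ • w, by rw [map_smul, LinearMap.smul_apply, smul_eq_mul, inv_mul_cancel₀ hw]⟩
        have : Ne w + (d.β w q + d.β q q / 2) • p = q := by rw [hNe', hw]; module
        exact this ▸ add_mem ⟨w, rfl⟩ (Submodule.smul_mem _ _ hp')
  have hrkE2 : Module.finrank F (LinearMap.range Ne) = 2 := by
    rw [hrkE]
    have hli : LinearIndependent F ![p, z] := (LinearIndependent.pair_iff' hp0).2 fun s hs =>
      hzp (Submodule.mem_span_singleton.2 ⟨s, hs⟩)
    have := finrank_span_eq_card hli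
    rw [show ({p, z} : Set V₂) = Set.range ![p, z] by ext x; simp [or_comm, eq_comm]]
    simpa using this
  have hzNe : z ∈ LinearMap.range Ne := by rw [hrkE]; exact Submodule.subset_span (by simp)
  -- `y` fixes the moved column
  have hfixW : ∀ x, y (g (d.t u x)) = g (d.t u x) := by
    intro x
    obtain ⟨w, hw⟩ : g (d.t u x) ∈ LinearMap.range (lmap d LinearMap.id Nc) := hgW ▸ ⟨_, d.t_mem_W u x, rfl⟩
    refine d.ext_C fun e => ?_
    rw [hy, C_tens_left, ← hw, C_lmap]
    obtain ⟨m, hm⟩ : ∃ m, m = Nc (d.C e w) := ⟨_, rfl⟩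
    rw [← hm, hE, d.eich_apply, hiso m (hm ▸ ⟨_, rfl⟩) p hpP, hzP m (hm ▸ ⟨_, rfl⟩)]
    simp
  set y' := g⁻¹ * y * g with hy'
  have hy'H : y' ∈ H := mul_mem (mul_mem (inv_mem hg) hyH) hg
  have hy'fix : ∀ x, y' (d.t u x) = d.t u x := fun x => by
    show g.symm (y (g (d.t u x))) = _
    rw [hfixW, g.symm_apply_apply]
  obtain ⟨a₁, c₁, hac₁⟩ := tens_of_point hO hS hy'H hu (u' := u) fun x => by rw [hy'fix]; exact d.t_mem_W u x
  obtain ⟨a', ha'⟩ := tens_fix hO hu (a := a₁) (c := c₁) fun x => by rw [← hac₁, hy'fix]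
  rw [← hac₁] at ha'
  set A : V₁ →ₗ[F] V₁ := a'.toLinearMap - LinearMap.id with hA
  have hy'L : y'.toLinearMap - LinearMap.id = lmap d A LinearMap.id := d.hom_ext fun e x => by
    show y' (d.t e x) - d.t e x = _
    rw [ha', d.tens_t, lmap_t, hA, LinearMap.sub_apply, map_sub, LinearMap.sub_apply]
    rfl
  have hconj : ∀ w, y (g w) - g w = g (y' w - w) := fun w => by
    rw [map_sub]
    show _ = g (g.symm (y (g w))) - g w
    rw [g.apply_symm_apply]
  have himg : LinearMap.range (lmap d LinearMap.id Ne) = (LinearMap.range (lmap d A LinearMap.id)).map g.toLinearMap := by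
    rw [← hyL, ← hy'L, ← LinearMap.range_comp]
    refine le_antisymm ?_ ?_
    · rintro _ ⟨w, rfl⟩
      obtain ⟨w', rfl⟩ := g.surjective w
      exact ⟨w', (hconj w').symm⟩
    · rintro _ ⟨w, rfl⟩
      exact ⟨g w, hconj w⟩
  have hcount := congrArg (fun X : Submodule F V => Module.finrank F X) himg
  simp only [LinearEquiv.finrank_map_eq, finrank_range_lmap, hrkE2] at hcount
  rw [LinearMap.finrank_range_of_inj (f := (LinearMap.id : V₁ →ₗ[F] V₁)) Function.injective_id,
    LinearMap.finrank_range_of_inj (f := (LinearMap.id : V₂ →ₗ[F] V₂)) Function.injective_id] at hcount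
  rw [← hr, mul_comm (Module.finrank F (LinearMap.range A)), mul_assoc] at hcount
  have hkr : 2 = Module.finrank F P * Module.finrank F (LinearMap.range A) :=
    Nat.eq_of_mul_eq_mul_left (by omega) hcount
  have hP2 : Module.finrank F P = 2 := by
    rcases Nat.lt_or_ge (Module.finrank F P) 3 with h | h
    · omega
    · exfalso
      rcases Nat.eq_zero_or_pos (Module.finrank F (LinearMap.range A)) with h0 | h0
      · rw [h0, mul_zero] at hkr; omega
      · have := Nat.le_mul_of_pos_right (Module.finrank F P) h0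
        omega
  have hA1 : Module.finrank F (LinearMap.range A) = 1 := by rw [hP2] at hkr; omega
  -- the middle is fixed
  have hmid : ∀ e, d.ω u e = 0 → A e ∈ Submodule.span F {u} := by
    intro e he
    have hmem : y' (d.t e x₀) - d.t e x₀ ∈ d.W u := by
      set w := g (d.t e x₀) with hw
      have hperp : ∀ l q, q ∈ P → d.β (d.C l w) q = 0 := by
        rintro l _ ⟨q, rfl⟩
        obtain ⟨_, ⟨x', rfl⟩, hx'⟩ : lmap d LinearMap.id Nc (d.t l q) ∈ (d.W u).map g.toLinearMap := hgW ▸ ⟨_, rfl⟩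
        rw [lmap_t] at hx'
        rw [d.β_C, show d.t l (Nc q) = g (d.t u x') from hx'.symm, hw, hO.isom g hg, d.f_t,
          d.ω_eq_zero_comm he, zero_mul]
      have hwmem : y w - w ∈ (d.W u).map g.toLinearMap := by
        rw [hgW]
        refine ⟨lmap d LinearMap.id (-(d.β.flip z).smulRight p₀) w, d.ext_C fun l => ?_⟩
        rw [C_lmap, C_lmap, map_sub, hy, C_tens_left, hE, d.eich_apply, hperp l p hpP, LinearMap.neg_apply,
          LinearMap.smulRight_apply, map_neg, map_smul, hp₀, zero_smul, mul_zero, zero_smul, add_zero, sub_zero,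
          sub_sub_cancel_left]
        rfl
      obtain ⟨w', hw', hwe⟩ := hwmem
      rw [hw, hconj, LinearEquiv.coe_coe, EmbeddingLike.apply_eq_iff_eq] at hwe
      exact hwe ▸ hw'
    obtain ⟨x', hx'⟩ := hmem
    rw [ha', d.tens_t] at hx'
    by_contra hnot
    obtain ⟨l, hl1, hl0⟩ := d.exists_sep hnot hu
    have := congrArg (d.C l) hx'
    rw [d.C_t, hl0, zero_smul, map_sub, d.C_t, d.C_t] at this
    change (0 : V₂) = d.ω (a' e) l • x₀ - d.ω e l • x₀ at this
    rw [hA, LinearMap.sub_apply, map_sub, LinearMap.sub_apply, LinearEquiv.coe_coe, LinearMap.id_apply] at hl1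
    rw [← sub_smul, hl1, one_smul] at this
    exact hx₀ this.symm
  have hAle : LinearMap.range A ≤ Submodule.span F {u} := by
    by_cases hex : ∀ e, d.ω u e = 0 → A e = 0
    · rintro _ ⟨e, rfl⟩
      by_contra hnot
      obtain ⟨l, hl1, hl0⟩ := d.exists_sep hnot hu
      have hAv : A e = d.ω u e • A v := by
        have := hex (e - d.ω u e • v) (by rw [map_sub, map_smul, huv, smul_eq_mul, mul_one, sub_self])
        rwa [map_sub, map_smul, sub_eq_zero] at this
      have h4 := hO.isom y' hy'H (d.t l x₀)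
      obtain ⟨x₂, hx₂⟩ : ∃ x, d.β x₀ x ≠ 0 := by
        by_contra hcon
        simp only [not_exists, not_not] at hcon
        exact hx₀ (d.β_eq_zero hcon)
      have h5 := h4 (d.t e x₂)
      have hal : a' l = l := by
        have := hex l hl0
        rwa [hA, LinearMap.sub_apply, sub_eq_zero] at this
      rw [ha', d.tens_t, d.tens_t, d.f_t, d.f_t, hal, show a' e = e + A e by rw [hA, LinearMap.sub_apply]; simp,
        map_add, show (1 : V₂ ≃ₗ[F] V₂) x₀ = x₀ from rfl, show (1 : V₂ ≃ₗ[F] V₂) x₂ = x₂ from rfl, add_mul,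
        add_eq_left, d.ω_swap, hl1, neg_mul, one_mul, neg_eq_zero] at h5
      exact hx₂ h5
    · push Not at hex
      obtain ⟨e, he, hAe⟩ := hex
      have : LinearMap.range A = Submodule.span F {A e} :=
        (Submodule.eq_of_le_of_finrank_eq ((Submodule.span_singleton_le_iff_mem _ _).2 (LinearMap.mem_range_self A e))
          (by rw [finrank_span_singleton hAe, hA1])).symm
      rw [this]
      exact (Submodule.span_singleton_le_iff_mem _ _).2 (hmid e he)
  -- hence the second vector lies in `P`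
  refine hzout hP2 ?_
  obtain ⟨x₃, hx₃⟩ := hzNe
  have hmem : y (d.t v x₃) - d.t v x₃ ∈ LinearMap.range (lmap d LinearMap.id Nc) := by
    rw [← hgW]
    obtain ⟨w, hw⟩ : ∃ w, g w = d.t v x₃ := g.surjective _
    rw [← hw, hconj]
    refine ⟨_, ?_, rfl⟩
    have hle : ∀ w, lmap d A LinearMap.id w ∈ d.W u := by
      have : ∀ e x, lmap d A LinearMap.id (d.t e x) ∈ d.W u := fun e x => by
        obtain ⟨s, hs⟩ := Submodule.mem_span_singleton.1 (hAle ⟨e, rfl⟩)
        rw [lmap_t, ← hs, map_smul, LinearMap.smul_apply]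
        exact Submodule.smul_mem _ _ (d.t_mem_W u x)
      intro w
      obtain ⟨q, rfl⟩ := d.Φ.surjective w
      induction q using TensorProduct.induction_on with
      | zero => simp
      | tmul e x => exact this e x
      | add q q' hq hq' => rw [map_add, map_add]; exact add_mem hq hq'
    have := LinearMap.congr_fun hy'L w
    rw [LinearMap.sub_apply] at this
    exact this ▸ hle w
  obtain ⟨w, hw⟩ := hmem
  have h6 := congrArg (d.C u) hw
  rw [C_lmap, hy, d.tens_t, map_sub, d.C_t, d.C_t, show (1 : V₁ ≃ₗ[F] V₁) v = v from rfl, ← smul_sub] at h6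
  change Nc (d.C u w) = d.ω v u • (E x₃ - x₃) at h6
  rw [hvu, show E x₃ - x₃ = z from hx₃] at h6
  exact ⟨-d.C u w, by rw [map_neg, h6, neg_smul, one_smul, neg_neg]⟩

/-- An element with zero pairing is a product. -/
theorem tens_of_N {g : V ≃ₗ[F] V} (hg : g ∈ H) {u : V₁} (hu : u ≠ 0) (h : N d u g = 0) : d.IsTens g :=
  tens_of_orth hO hS hg hu hu fun x y => by rw [← β_N, h]; simp

/-- An element with zero self-adjoint pairing is a product. -/
theorem tens_of_S {g : V ≃ₗ[F] V} (hg : g ∈ H) {u : V₁} (hu : u ≠ 0) (h : S d u g = 0) : d.IsTens g :=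
  tens_of_conj hO hS hg hu (tens_of_N hO hS (mul_mem (mul_mem hg (hO.rt_mem u 1)) (inv_mem hg)) hu
    (by rw [N_conj, h]))

end

end TS

end H49
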