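import Cfsg.Agent.H49.TensBig

/-!
Small overgroups: stabilisers of columns and quadratic product elements.
-/

set_option autoImplicit false
set_option linter.unusedSectionVars false

namespace H49

namespace TS

open scoped TensorProduct

variable {F : Type*} [Field F] [Fintype F]
  {V₁ : Type*} [AddCommGroup V₁] [Module F V₁] [FiniteDimensional F V₁]
  {V₂ : Type*} [AddCommGroup V₂] [Module F V₂] [FiniteDimensional F V₂]
  {V : Type*} [AddCommGroup V] [Module F V] [FiniteDimensional F V]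
  {d : TS F V₁ V₂ V} {H : Subgroup (V ≃ₗ[F] V)}

/-- The unipotent radical of the stabiliser of a column. -/
def InU (d : TS F V₁ V₂ V) (H : Subgroup (V ≃ₗ[F] V)) (u : V₁) (y : V ≃ₗ[F] V) : Prop :=
  y ∈ H ∧ (∀ x, y (d.t u x) = d.t u x) ∧ ∀ z, d.C u z = 0 → y z - z ∈ d.W u

theorem C_W_self {u : V₁} {w : V} (hw : w ∈ d.W u) : d.C u w = 0 := C_W d hw (d.ω_alt u)

theorem InU.C_move (hO : d.Over H) {u : V₁} {y : V ≃ₗ[F] V} (hy : InU d H u y) (v : V) :
    d.C u (y v - v) = 0 := by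
  refine d.β_eq_zero fun x => ?_
  rw [d.β_C, map_sub, LinearMap.sub_apply]
  conv_lhs => rw [← hy.2.1 x, hO.isom y hy.1, hy.2.1 x]
  rw [sub_self]

theorem InU.fix_W {u : V₁} {y : V ≃ₗ[F] V} (hy : InU d H u y) {w : V} (hw : w ∈ d.W u) : y w = w := by
  obtain ⟨x, rfl⟩ := hw
  exact hy.2.1 x

theorem InU.one (d : TS F V₁ V₂ V) (H : Subgroup (V ≃ₗ[F] V)) (u : V₁) : InU d H u 1 :=
  ⟨one_mem H, fun _ => rfl, fun z _ => by rw [show (1 : V ≃ₗ[F] V) z = z from rfl, sub_self]; exact zero_mem _⟩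

theorem InU.mul (hO : d.Over H) {u : V₁} {y y' : V ≃ₗ[F] V} (hy : InU d H u y) (hy' : InU d H u y') :
    InU d H u (y * y') := by
  refine ⟨mul_mem hy.1 hy'.1, fun x => ?_, fun z hz => ?_⟩
  · show y (y' _) = _
    rw [hy'.2.1, hy.2.1]
  · show y (y' z) - z ∈ _
    have e : y (y' z) - z = (y' z - z) + (y z - z) := by
      rw [show y (y' z) = y z + y (y' z - z) by rw [← map_add, add_sub_cancel], hy.fix_W (hy'.2.2 z hz)]
      abel
    rw [e]
    exact add_mem (hy'.2.2 z hz) (hy.2.2 z hz)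

theorem InU.inv (hO : d.Over H) {u : V₁} {y : V ≃ₗ[F] V} (hy : InU d H u y) : InU d H u y⁻¹ := by
  refine ⟨inv_mem hy.1, fun x => y.injective ?_, fun z hz => ?_⟩
  · show y (y.symm _) = _
    rw [y.apply_symm_apply, hy.2.1]
  · show y.symm z - z ∈ _
    have e : y.symm z - z = -(y z - z) := by
      refine y.injective ?_
      rw [map_sub, y.apply_symm_apply, map_neg, hy.fix_W (hy.2.2 z hz), neg_sub]
    rw [e]
    exact neg_mem (hy.2.2 z hz)

theorem InU.conj (hO : d.Over H) {u : V₁} {y : V ≃ₗ[F] V} (hy : InU d H u y) {g : V ≃ₗ[F] V} (hg : g ∈ H)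
    (hgW : ∀ x, g (d.t u x) ∈ d.W u) : InU d H u (g * y * g⁻¹) := by
  have hmap : ∀ w ∈ d.W u, g.symm w ∈ d.W u := by
    intro w hw
    have hle : (d.W u).map g.toLinearMap ≤ d.W u := by
      rintro _ ⟨_, ⟨x, rfl⟩, rfl⟩
      exact hgW x
    have heq := Submodule.eq_of_le_of_finrank_eq hle (g.finrank_map_eq (d.W u))
    obtain ⟨w', hw', rfl⟩ := heq.ge hw
    rw [LinearEquiv.coe_coe, g.symm_apply_apply]
    exact hw'
  refine ⟨mul_mem (mul_mem hg hy.1) (inv_mem hg), fun x => ?_, fun z hz => ?_⟩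
  · show g (y (g.symm (d.t u x))) = _
    rw [hy.fix_W (hmap _ (d.t_mem_W u x)), g.apply_symm_apply]
  · show g (y (g.symm z)) - z ∈ _
    have hz' : d.C u (g.symm z) = 0 := d.β_eq_zero fun x => by
      obtain ⟨x', hx'⟩ := hgW x
      rw [d.β_C, (hO.isom g hg).f_inv, ← hx', ← d.β_C, hz, map_zero, LinearMap.zero_apply]
    obtain ⟨x, hx⟩ := hy.2.2 _ hz'
    rw [show y (g.symm z) = g.symm z + d.t u x by rw [hx, add_sub_cancel], map_add, g.apply_symm_apply,
      add_sub_cancel_left]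
    exact hgW x

theorem rt_inU (hO : d.Over H) {u e : V₁} (he : d.ω u e = 0) (c : F) :
    ∀ x, d.rt e c (d.t u x) ∈ d.W u := fun x => by
  rw [d.rt_apply, d.C_t, he, zero_smul, map_zero, smul_zero, add_zero]
  exact d.t_mem_W u x

theorem sg_inU (hO : d.Over H) {u w : V₁} (h : d.ω u w = 0) : InU d H u (d.sg h) := by
  refine ⟨hO.sg_mem h, fun x => ?_, fun z hz => ?_⟩
  · rw [d.sg_apply, d.C_t, d.C_t, d.ω_alt, h, zero_smul, map_zero, map_zero, add_zero, add_zero]
  · rw [d.sg_apply, hz, map_zero, add_zero, add_sub_cancel_left]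
    exact d.t_mem_W u _

theorem exists_pos (hO : d.Over H) : ∃ x : V₂, x ≠ 0 :=
  Module.finrank_pos_iff_exists_ne_zero.1 (lt_of_lt_of_le (by norm_num) hO.three)

theorem conj_rt_apply {g : V ≃ₗ[F] V} (u : V₁) (v : V) :
    (g * d.rt u 1 * g⁻¹) v = v + g (d.t u (d.C u (g.symm v))) := by
  show g (d.rt u 1 (g.symm v)) = _
  rw [d.rt_apply, one_smul, map_add, g.apply_symm_apply]

section

variable (hO : d.Over H) (hS : d.Small H)
include hO hS

/-- The symmetrised pairing of two radical elements is a scalar. -/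
theorem InU.pairing {u v : V₁} (hu : u ≠ 0) (huv : d.ω u v = 1) {y y' : V ≃ₗ[F] V} (hy : InU d H u y)
    (hy' : InU d H u y') : ∃ s : F, ∀ x x',
      d.f (y (d.t v x) - d.t v x) (y' (d.t v x') - d.t v x') -
        d.f (y' (d.t v x) - d.t v x) (y (d.t v x') - d.t v x') = s * d.β x x' := by
  have hvu : d.ω v u = -1 := by rw [d.ω_swap, huv]
  let m : V₂ →ₗ[F] V := (y.toLinearMap - LinearMap.id) ∘ₗ d.t v
  let m' : V₂ →ₗ[F] V := (y'.toLinearMap - LinearMap.id) ∘ₗ d.t v
  have hm : ∀ x, m x = y (d.t v x) - d.t v x := fun x => rfl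
  have hm' : ∀ x, m' x = y' (d.t v x) - d.t v x := fun x => rfl
  have hCm : ∀ x, d.C u (m x) = 0 := fun x => hy.C_move hO _
  have hCm' : ∀ x, d.C u (m' x) = 0 := fun x => hy'.C_move hO _
  -- the commutator
  let S : V₂ →ₗ[F] V := (y.toLinearMap - LinearMap.id) ∘ₗ m' - (y'.toLinearMap - LinearMap.id) ∘ₗ m
  have hSW : ∀ x, S x ∈ d.W u := fun x => sub_mem (hy.2.2 _ (hCm' x)) (hy'.2.2 _ (hCm x))
  have hcomm : ∀ z, d.C u z = 0 → y (y' z) = y' (y z) := fun z hz => by
    obtain ⟨a, ha⟩ := hy.2.2 z hz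
    obtain ⟨b, hb⟩ := hy'.2.2 z hz
    rw [show y' z = z + d.t u b by rw [hb, add_sub_cancel], show y z = z + d.t u a by rw [ha, add_sub_cancel],
      map_add, map_add, hy.2.1, hy'.2.1, show y' z = z + d.t u b by rw [hb, add_sub_cancel],
      show y z = z + d.t u a by rw [ha, add_sub_cancel]]
    abel
  set q := y * y' * (y' * y)⁻¹ with hq
  have hqH : q ∈ H := mul_mem (mul_mem hy.1 hy'.1) (inv_mem (mul_mem hy'.1 hy.1))
  have hqU : InU d H u q := (hy.mul hO hy').mul hO ((hy'.mul hO hy).inv hO)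
  have hqfix : ∀ z, d.C u z = 0 → q z = z := by
    intro z hz
    have hw : d.C u ((y' * y).symm z) = 0 := by
      have := ((hy'.mul hO hy).inv hO).C_move hO z
      rwa [map_sub, hz, sub_zero] at this
    show y (y' ((y' * y).symm z)) = z
    rw [hcomm _ hw]
    exact (y' * y).apply_symm_apply z
  have hqv : ∀ x, q (d.t v x) = d.t v x + S x := by
    intro x
    set w := y' (y (d.t v x)) with hwdef
    have hqw : q w = y (y' (d.t v x)) := by
      show y (y' ((y' * y).symm (y' (y (d.t v x))))) = _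
      rw [show (y' * y).symm (y' (y (d.t v x))) = d.t v x from (y' * y).symm_apply_apply _]
    have hwz : d.C u (w - d.t v x) = 0 := (hy'.mul hO hy).C_move hO (d.t v x)
    have e := hqfix _ hwz
    rw [map_sub, hqw, sub_eq_iff_eq_add] at e
    have e1 : y (y' (d.t v x)) = d.t v x + m x + (m' x + (y (m' x) - m' x)) := by
      rw [show y' (d.t v x) = d.t v x + m' x by rw [hm', add_sub_cancel], map_add, hm]
      abel
    have e2 : w = d.t v x + m' x + (m x + (y' (m x) - m x)) := by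
      rw [hwdef, show y (d.t v x) = d.t v x + m x by rw [hm, add_sub_cancel], map_add, hm']
      abel
    rw [e1, e2] at e
    show _ = d.t v x + ((y (m' x) - m' x) - (y' (m x) - m x))
    rw [← sub_eq_iff_eq_add'] at e
    rw [← e]
    abel
  -- the shape
  have hInQ : d.InQ H u (-(d.C v ∘ₗ S)) → ∃ s : F, ∀ x x', d.f (S x) (d.t v x') = s * d.β x x' := by
    intro h
    obtain ⟨s, hs⟩ := hS u hu _ h
    refine ⟨-s, fun x x' => ?_⟩
    obtain ⟨a, ha⟩ := hSW x
    have := hs x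
    rw [LinearMap.neg_apply, LinearMap.comp_apply, ← ha, d.C_t, huv, one_smul] at this
    rw [← ha, d.f_t, huv, one_mul, show a = -(s • x) by rw [← this, neg_neg], map_neg, map_smul,
      LinearMap.neg_apply, LinearMap.smul_apply, smul_eq_mul, neg_mul]
  obtain ⟨s, hs⟩ := hInQ ⟨q, hqH, fun w => by
    have hz : d.C u (w + d.t v (d.C u w)) = 0 := by rw [map_add, d.C_t, hvu, neg_smul, one_smul, add_neg_cancel]
    have e := hqfix _ hz
    rw [map_add, hqv] at e
    obtain ⟨a, ha⟩ := hSW (d.C u w)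
    rw [LinearMap.neg_apply, LinearMap.comp_apply, map_neg, ← ha, d.C_t, huv, one_smul]
    rw [← ha] at e
    linear_combination (norm := abel) e⟩
  refine ⟨s, fun x x' => ?_⟩
  rw [← hs]
  -- the radical component against the middle one
  have key : ∀ (y : V ≃ₗ[F] V), InU d H u y → ∀ z, d.C u z = 0 → ∀ x,
      d.f (y z - z) (d.t v x) = -d.f z (y (d.t v x) - d.t v x) := by
    intro y hy z hz x
    obtain ⟨a, ha⟩ := hy.2.2 z hz
    have h0 := hO.isom y hy.1 z (d.t v x)
    have h1 : d.f (y z - z) (y (d.t v x) - d.t v x) = 0 := by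
      rw [← ha, d.f_swap, ← d.β_C, hy.C_move hO, map_zero, LinearMap.zero_apply, neg_zero]
    simp only [map_sub, LinearMap.sub_apply] at h1 ⊢
    linear_combination h0 - h1
  show _ = d.f ((y (m' x) - m' x) - (y' (m x) - m x)) (d.t v x')
  conv_rhs => rw [LinearMap.map_sub₂, key y hy _ (hCm' x), key y' hy' _ (hCm x), hm, hm']
  ring

/-- Radical elements act on the first factor only. -/
theorem InU.exists_tens {u : V₁} (hu : u ≠ 0) {y : V ≃ₗ[F] V} (hy : InU d H u y) :
    ∃ a, y = d.tens a 1 := by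
  obtain ⟨v, huv⟩ := d.exists_ω_eq_one hu
  have hvu : d.ω v u = -1 := by rw [d.ω_swap, huv]
  have h2 := hO.two
  obtain ⟨z₀, hz₀⟩ := exists_pos hO
  obtain ⟨z₁, hz₁⟩ : ∃ z₁, d.β z₀ z₁ = 1 := by
    obtain ⟨y, hy⟩ : ∃ y, d.β z₀ y ≠ 0 := by
      by_contra hcon
      simp only [not_exists, not_not] at hcon
      exact hz₀ (d.β_eq_zero hcon)
    exact ⟨(d.β z₀ y)⁻¹ • y, by rw [map_smul, smul_eq_mul, inv_mul_cancel₀ hy]⟩
  -- the middle components
  let K : (V ≃ₗ[F] V) → V₁ → V₂ → V₂ := fun y w x => d.C w (y (d.t v x) - d.t v x)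
  have hKmul : ∀ {y y'}, InU d H u y → InU d H u y' → ∀ w, d.ω u w = 0 → ∀ x,
      K (y * y') w x = K y w x + K y' w x := by
    intro y y' hy hy' w hw x
    show d.C w (y (y' (d.t v x)) - d.t v x) = _
    have e : y (y' (d.t v x)) - d.t v x = (y (d.t v x) - d.t v x) + (y' (d.t v x) - d.t v x) +
        (y (y' (d.t v x) - d.t v x) - (y' (d.t v x) - d.t v x)) := by
      rw [map_sub]; abel
    rw [e, map_add, map_add, C_W d (hy.2.2 _ (hy'.C_move hO _)) hw, add_zero]
  have hKinv : ∀ {y}, InU d H u y → ∀ w, d.ω u w = 0 → ∀ x, K y⁻¹ w x = -K y w x := by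
    intro y hy w hw x
    have h := hKmul hy (hy.inv hO) w hw x
    rw [mul_inv_cancel] at h
    have h1 : K 1 w x = 0 := by simp [K]
    rw [h1] at h
    exact (neg_eq_of_add_eq_zero_right h.symm).symm
  -- symmetric parts are scalars
  have hsym : ∀ {y}, InU d H u y → ∀ w, d.ω u w = 0 → ∀ x x',
      d.β (K y w x) x' + d.β x (K y w x') =
        (d.β (K y w z₀) z₁ + d.β z₀ (K y w z₁)) * d.β x x' := by
    intro y hy w hw
    obtain ⟨s, hs⟩ := InU.pairing hO hS hu huv hy (sg_inU hO hw)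
    have key : ∀ x x', s * d.β x x' = -(d.β (K y w x) x' + d.β x (K y w x')) := by
      intro x x'
      rw [← hs x x', d.sg_apply, d.sg_apply, d.C_t, d.C_t, d.C_t, d.C_t, hvu]
      simp only [add_sub_cancel_left, add_assoc, map_add, map_smul, LinearMap.add_apply, LinearMap.smul_apply,
        neg_smul, one_smul, map_neg, LinearMap.neg_apply]
      rw [← d.β_C u, hy.C_move hO, ← d.β_C w, d.f_swap (d.t u x), ← d.β_C u, hy.C_move hO, d.f_swap (d.t w x),
        ← d.β_C w]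
      simp only [map_zero, LinearMap.zero_apply, smul_zero, neg_zero, mul_zero, zero_add, d.β_symm x, K]
      ring
    intro x x'
    have h1 := key z₀ z₁
    rw [hz₁, mul_one] at h1
    linear_combination key x x' - (d.β x x') * h1
  -- elements with skew components have none
  have pure : ∀ {y}, InU d H u y → (∀ w, d.ω u w = 0 → ∀ x x', d.β (K y w x) x' + d.β x (K y w x') = 0) →
      ∀ w, d.ω u w = 0 → ∀ x, K y w x = 0 := by
    intro y hy hskew e he
    let Kl : V₂ →ₗ[F] V₂ := d.C e ∘ₗ (y.toLinearMap - LinearMap.id) ∘ₗ d.t v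
    suffices hKl : Kl = 0 from fun x => LinearMap.congr_fun hKl x
    by_cases hes : e ∈ Submodule.span F {u}
    · obtain ⟨k, rfl⟩ := Submodule.mem_span_singleton.1 hes
      refine LinearMap.ext fun x => ?_
      show d.C (k • u) (y (d.t v x) - d.t v x) = 0
      rw [d.C_smul, hy.C_move hO, smul_zero]
    obtain ⟨e₂, he₂e, he₂⟩ := d.exists_sep hes hu
    -- conjugation by root elements
    have mk : ∀ e, d.ω u e = 0 → ∀ {y}, InU d H u y → ∀ w, d.ω u w = 0 → ∀ x,
        K (d.rt e 1 * y * (d.rt e 1)⁻¹ * y⁻¹) w x = d.ω e w • K y e x := by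
      intro e he y hy w hw x
      have hc := hy.conj hO (hO.rt_mem e 1) (rt_inU hO he 1)
      rw [hKmul hc (hy.inv hO) w hw, hKinv hy w hw]
      suffices h : K (d.rt e 1 * y * (d.rt e 1)⁻¹) w x = K y w x + d.ω e w • K y e x by rw [h]; abel
      show d.C w (d.rt e 1 (y ((d.rt e 1)⁻¹ (d.t v x))) - d.t v x) = _
      rw [d.rt_inv, d.rt_apply e (-1), d.C_t, map_add, map_smul, map_add, map_smul, d.rt_apply e 1, d.rt_apply e 1,
        map_smul]
      obtain ⟨a, ha⟩ := hy.2.2 (d.t e x) (by rw [d.C_t, d.ω_eq_zero_comm he, zero_smul])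
      have e1 : y (d.t v x) = d.t v x + (y (d.t v x) - d.t v x) := by rw [add_sub_cancel]
      rw [map_smul y, show y (d.t e x) = d.t e x + d.t u a by rw [ha, add_sub_cancel], e1]
      simp only [map_add, map_smul, map_sub, d.C_t, d.ω_alt, he, d.ω_eq_zero_comm he, hw, zero_smul,
        smul_zero, add_zero, zero_add, one_smul, K]
      module
    have hy₂ : InU d H u (d.rt e 1 * y * (d.rt e 1)⁻¹ * y⁻¹) :=
      (hy.conj hO (hO.rt_mem e 1) (rt_inU hO he 1)).mul hO (hy.inv hO)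
    set y₂ := d.rt e 1 * y * (d.rt e 1)⁻¹ * y⁻¹ with hy₂def
    have K2 := mk e he hy
    rw [← hy₂def] at K2
    have hy₃ : InU d H u (d.rt e₂ 1 * y₂ * (d.rt e₂ 1)⁻¹ * y₂⁻¹) :=
      (hy₂.conj hO (hO.rt_mem e₂ 1) (rt_inU hO he₂ 1)).mul hO (hy₂.inv hO)
    set y₃ := d.rt e₂ 1 * y₂ * (d.rt e₂ 1)⁻¹ * y₂⁻¹ with hy₃def
    have K3 := mk e₂ he₂ hy₂
    rw [← hy₃def] at K3
    refine d.eq_zero_of_aniso h2 _ fun a ha => ?_
    -- reflected differences
    have mk' : ∀ {y}, InU d H u y → InU d H u (y * (d.tens 1 (d.refl ha) * y * (d.tens 1 (d.refl ha))⁻¹)⁻¹) ∧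
        ∀ w, d.ω u w = 0 → ∀ x, K (y * (d.tens 1 (d.refl ha) * y * (d.tens 1 (d.refl ha))⁻¹)⁻¹) w x =
          K y w x - d.refl ha (K y w ((d.refl ha).symm x)) := by
      intro y hy
      have hc := hy.conj hO (hO.left_mem _ (d.refl_isom ha)) (g := d.tens 1 (d.refl ha))
        (fun x => by rw [d.tens_t]; exact d.t_mem_W u _)
      refine ⟨hy.mul hO (hc.inv hO), fun w hw x => ?_⟩
      rw [hKmul hy (hc.inv hO) w hw, hKinv hc w hw, ← sub_eq_add_neg]
      congr 1
      show d.C w (d.tens 1 (d.refl ha) (y ((d.tens 1 (d.refl ha))⁻¹ (d.t v x))) - d.t v x) = _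
      rw [d.tens_inv, d.tens_t]
      show d.C w (d.tens 1 (d.refl ha) (y (d.t v ((d.refl ha).symm x))) - d.t v x) = _
      have ex : d.tens 1 (d.refl ha) (d.t v ((d.refl ha).symm x)) = d.t v x := by
        rw [d.tens_t, LinearEquiv.apply_symm_apply]; rfl
      conv_lhs => rw [← ex, ← map_sub, C_tens_left]
    obtain ⟨hy₄, K4⟩ := mk' hy₂
    obtain ⟨hy₅, K5⟩ := mk' hy₃
    set y₄ := y₂ * (d.tens 1 (d.refl ha) * y₂ * (d.tens 1 (d.refl ha))⁻¹)⁻¹
    set y₅ := y₃ * (d.tens 1 (d.refl ha) * y₃ * (d.tens 1 (d.refl ha))⁻¹)⁻¹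
    let D : V₂ → V₂ := fun x => Kl x - d.refl ha (Kl ((d.refl ha).symm x))
    have hK4 : ∀ w, d.ω u w = 0 → ∀ x, K y₄ w x = d.ω e w • D x := fun w hw x => by
      rw [K4 w hw, K2 w hw, K2 w hw, map_smul, ← smul_sub]; rfl
    have hK5 : ∀ w, d.ω u w = 0 → ∀ x, K y₅ w x = d.ω e₂ w • D x := fun w hw x => by
      rw [K5 w hw, K3 w hw, K3 w hw, K2 e₂ he₂, K2 e₂ he₂, he₂e, one_smul, one_smul, map_smul, ← smul_sub]; rfl
    obtain ⟨s, hs⟩ := InU.pairing hO hS hu huv hy₄ hy₅
    have hDD : ∀ x x', 2 * d.β (D x) (D x') = s * d.β x x' := by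
      have hmem : ∀ (y : V ≃ₗ[F] V) (e : V₁), (∀ w, d.ω u w = 0 → ∀ x, K y w x = d.ω e w • D x) → ∀ x,
          ∃ a, y (d.t v x) - d.t v x = d.t e (D x) + d.t u a := by
        intro y e hK x
        obtain ⟨a, ha⟩ := d.mem_W hu (v := y (d.t v x) - d.t v x - d.t e (D x)) fun w hw => by
          rw [map_sub, d.C_t, ← hK w hw, sub_self]
        exact ⟨a, by rw [ha, add_sub_cancel]⟩
      intro x x'
      obtain ⟨a4, h4⟩ := hmem y₄ e hK4 x
      obtain ⟨a4', h4'⟩ := hmem y₄ e hK4 x'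
      obtain ⟨a5, h5⟩ := hmem y₅ e₂ hK5 x
      obtain ⟨a5', h5'⟩ := hmem y₅ e₂ hK5 x'
      rw [← hs x x', h4, h4', h5, h5']
      simp [d.f_t, d.ω_alt, he, d.ω_eq_zero_comm he, he₂, d.ω_eq_zero_comm he₂, he₂e,
        show d.ω e₂ e = -1 by rw [d.ω_swap, he₂e]]
      ring
    -- the difference is a skew map of rank two
    set b := Kl a with hb
    have hskewKl : ∀ x x', d.β (Kl x) x' + d.β x (Kl x') = 0 := hskew e he
    have hba : d.β b a = 0 := by
      have := hskewKl a a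
      rw [d.β_symm a, ← two_mul] at this
      exact (mul_eq_zero.1 this).resolve_left h2
    have hD : ∀ x, D x = (2 / d.β a a) • (d.β x a • b - d.β x b • a) := by
      intro x
      obtain ⟨y, rfl⟩ := (d.refl ha).surjective x
      have hKa : d.β (Kl y) a = -d.β y b := by linear_combination hskewKl y a
      show Kl (d.refl ha y) - d.refl ha (Kl ((d.refl ha).symm (d.refl ha y))) = _
      rw [LinearEquiv.symm_apply_apply]
      simp only [d.refl_apply, map_sub, map_smul, LinearMap.sub_apply, LinearMap.smul_apply, smul_eq_mul, ← hb,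
        hKa, d.β_symm a b, hba]
      match_scalars <;> field_simp <;> ring
    by_contra hb0
    obtain ⟨x₀, hx₀, hx₀0⟩ : ∃ x ∈ (⊤ : Submodule F V₂) ⊓ d.orth₂ {a} ⊓ d.orth₂ {b}, x ≠ 0 := by
      refine Submodule.exists_mem_ne_zero_of_ne_bot fun h0 => ?_
      have e1 := d.finrank_inf_orth₂ ⊤ a
      have e2 := d.finrank_inf_orth₂ (⊤ ⊓ d.orth₂ {a}) b
      rw [finrank_top] at e1
      rw [h0, finrank_bot] at e2
      have := hO.three
      omega
    have hs0 : s = 0 := by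
      obtain ⟨x', hx'⟩ : ∃ x', d.β x₀ x' ≠ 0 := by
        by_contra hcon
        simp only [not_exists, not_not] at hcon
        exact hx₀0 (d.β_eq_zero hcon)
      have := hDD x₀ x'
      rw [hD x₀, hx₀.1.2 a rfl, hx₀.2 b rfl] at this
      simp at this
      exact this.resolve_right hx'
    have hDD0 : ∀ x, d.β (D x) (D x) = 0 := fun x => by
      have := hDD x x
      rw [hs0, zero_mul] at this
      exact (mul_eq_zero.1 this).resolve_left h2
    have hbb : d.β b b = 0 := by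
      have := hDD0 a
      rw [hD] at this
      simp [d.β_symm a b, hba, ha, h2] at this
      exact this
    obtain ⟨x₁, hx₁⟩ : ∃ x, d.β x b ≠ 0 := by
      by_contra hcon
      simp only [not_exists, not_not] at hcon
      exact hb0 (d.β_eq_zero fun y => by rw [d.β_symm]; exact hcon y)
    have := hDD0 x₁
    rw [hD] at this
    simp [d.β_symm a b, hba, hbb, ha, h2, hx₁] at this
  -- remove the symmetric part
  let φ : V₁ →ₗ[F] F :=
    { toFun := fun w => (d.β (K y w z₀) z₁ + d.β z₀ (K y w z₁)) / 2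
      map_add' := fun w w' => by simp [K, d.C_add]; ring
      map_smul' := fun k w => by simp [K, d.C_smul]; ring }
  set w₀ := (d.ω.toDual d.ω_nd).symm φ with hw₀
  have hw₀' : ∀ w, d.ω w₀ w = φ w := fun w => LinearMap.BilinForm.apply_toDual_symm_apply (hB := d.ω_nd) φ w
  have hw₀u : d.ω u w₀ = 0 := d.ω_eq_zero_comm (by
    rw [hw₀']
    show (d.β (K y u z₀) z₁ + d.β z₀ (K y u z₁)) / 2 = 0
    simp only [K]
    rw [hy.C_move hO, hy.C_move hO]
    simp)
  have hsg := sg_inU hO hw₀u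
  have hKsg : ∀ w, d.ω u w = 0 → ∀ x, K (d.sg hw₀u) w x = -φ w • x := fun w hw x => by
    show d.C w (d.sg hw₀u (d.t v x) - d.t v x) = _
    rw [d.sg_apply, add_assoc, add_sub_cancel_left, map_add, d.C_t, hw, zero_smul, zero_add]
    rw [d.C_t, d.C_t, hw₀', hvu, smul_smul]
    simp
  have hy₁ := hy.mul hO hsg
  have hK1 : ∀ w, d.ω u w = 0 → ∀ x, K (y * d.sg hw₀u) w x = 0 := by
    refine pure hy₁ fun w hw x x' => ?_
    rw [hKmul hy hsg w hw, hKmul hy hsg w hw, hKsg w hw, hKsg w hw]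
    have := hsym hy w hw x x'
    simp [φ]
    field_simp
    linear_combination 2 * this
  -- what is left fixes the orthogonal of the column
  set y₁ := y * d.sg hw₀u
  have hfix : ∀ z, d.C u z = 0 → y₁ z = z := by
    intro z hz
    obtain ⟨a, ha⟩ := hy₁.2.2 z hz
    have ha0 : a = 0 := by
      refine d.β_eq_zero fun x => ?_
      obtain ⟨b, hb⟩ := d.mem_W hu (v := y₁ (d.t v x) - d.t v x) fun w hw => hK1 w hw x
      have h0 := hO.isom y₁ hy₁.1 z (d.t v x)
      rw [show y₁ z = z + d.t u a by rw [ha, add_sub_cancel],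
        show y₁ (d.t v x) = d.t v x + d.t u b by rw [hb, add_sub_cancel]] at h0
      simp [d.f_t, d.ω_alt, huv, ← d.β_C, hz] at h0
      exact h0
    rw [← sub_eq_zero, ← ha, ha0, map_zero]
  let S : V₂ →ₗ[F] V₂ := -(d.C v ∘ₗ (y₁.toLinearMap - LinearMap.id) ∘ₗ d.t v)
  obtain ⟨s, hs⟩ := hS u hu S ⟨y₁, hy₁.1, fun w => by
    have hz : d.C u (w + d.t v (d.C u w)) = 0 := by rw [map_add, d.C_t, hvu, neg_smul, one_smul, add_neg_cancel]
    have e := hfix _ hz
    obtain ⟨b, hb⟩ := d.mem_W hu (v := y₁ (d.t v (d.C u w)) - d.t v (d.C u w)) fun w' hw' => hK1 w' hw' _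
    show y₁ w = w + d.t u (-(d.C v (y₁ (d.t v (d.C u w)) - d.t v (d.C u w))))
    rw [← hb, d.C_t, huv, one_smul, map_neg]
    rw [map_add, show y₁ (d.t v (d.C u w)) = d.t v (d.C u w) + d.t u b by rw [hb, add_sub_cancel]] at e
    linear_combination (norm := abel) e⟩
  have hy₁eq : y₁ = d.rt u s := by
    refine LinearEquiv.ext fun w => ?_
    have hz : d.C u (w + d.t v (d.C u w)) = 0 := by rw [map_add, d.C_t, hvu, neg_smul, one_smul, add_neg_cancel]
    have e := hfix _ hz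
    obtain ⟨b, hb⟩ := d.mem_W hu (v := y₁ (d.t v (d.C u w)) - d.t v (d.C u w)) fun w' hw' => hK1 w' hw' _
    have hsb := hs (d.C u w)
    rw [show S (d.C u w) = -(d.C v (y₁ (d.t v (d.C u w)) - d.t v (d.C u w))) from rfl, ← hb, d.C_t, huv,
      one_smul] at hsb
    rw [map_add, show y₁ (d.t v (d.C u w)) = d.t v (d.C u w) + d.t u b by rw [hb, add_sub_cancel]] at e
    rw [d.rt_apply, ← map_smul, ← hsb, map_neg]
    linear_combination (norm := abel) e
  refine ⟨d.tv u s * (d.sgA hw₀u)⁻¹, ?_⟩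
  have : y = d.rt u s * (d.sg hw₀u)⁻¹ := by
    rw [← hy₁eq]; simp [y₁]
  rw [this, rt, sg, d.tens_inv, d.tens_mul, inv_one, mul_one]

omit hS in
/-- The image of a product element with trivial second factor, if small, is a column. -/
theorem point_of_tens {b : V ≃ₗ[F] V} {a : V₁ ≃ₗ[F] V₁} (hb : b = d.tens a 1) {X : Submodule F V}
    (hX : Module.finrank F X = Module.finrank F V₂) (hle : ∀ v, b v - v ∈ X) (hne : b ≠ 1) :
    ∃ p, p ≠ 0 ∧ X = d.W p := by
  obtain ⟨e, he⟩ : ∃ e, a e ≠ e := by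
    by_contra hcon
    simp only [not_exists, not_not] at hcon
    exact hne (by rw [hb, show a = 1 from LinearEquiv.ext hcon, d.tens_one])
  refine ⟨a e - e, sub_ne_zero.2 he, (Submodule.eq_of_le_of_finrank_eq ?_ ?_).symm⟩
  · rintro _ ⟨x, rfl⟩
    have h := hle (d.t e x)
    rw [hb, d.tens_t] at h
    rw [map_sub, LinearMap.sub_apply]
    exact h
  · rw [d.finrank_W (sub_ne_zero.2 he), hX]

omit hS in
/-- The image of a column under an isometry. -/
theorem finrank_image {g : V ≃ₗ[F] V} {u : V₁} (hu : u ≠ 0) :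
    Module.finrank F ((d.W u).map g.toLinearMap) = Module.finrank F V₂ := by
  rw [g.finrank_map_eq, d.finrank_W hu]

omit hS in
theorem conj_rt_ne {g : V ≃ₗ[F] V} {u : V₁} (hu : u ≠ 0) : g * d.rt u 1 * g⁻¹ ≠ 1 := by
  intro h
  obtain ⟨v, huv⟩ := d.exists_ω_eq_one hu
  obtain ⟨z₀, hz₀⟩ := exists_pos hO
  have := LinearEquiv.congr_fun h (g (d.t v z₀))
  rw [conj_rt_apply, g.symm_apply_apply, show (1 : V ≃ₗ[F] V) (g (d.t v z₀)) = g (d.t v z₀) from rfl,
    add_eq_left, g.map_eq_zero_iff, d.C_t, d.ω_swap, huv, neg_smul, one_smul] at this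
  exact hz₀ (neg_eq_zero.1 (d.t_injective hu (this.trans (map_zero (d.t u)).symm)))

/-- Elements fixing a column are products: the other columns go to columns. -/
theorem point_of_stab {g : V ≃ₗ[F] V} (hg : g ∈ H) {u : V₁} (hu : u ≠ 0) (hgW : ∀ x, g (d.t u x) ∈ d.W u)
    {w : V₁} (hw0 : w ≠ 0) (huw : d.ω u w = 0) : ∃ p, ∀ x, g (d.t w x) ∈ d.W p := by
  obtain ⟨v, huv⟩ := d.exists_ω_eq_one hu
  have hvu : d.ω v u = -1 := by rw [d.ω_swap, huv]
  have hg' := hO.isom g hg
  let A : V₂ →ₗ[F] V₂ := d.C v ∘ₗ g.toLinearMap ∘ₗ d.t u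
  have hA : ∀ x, g (d.t u x) = d.t u (A x) := fun x => by
    obtain ⟨y, hy⟩ := hgW x
    show _ = d.t u (d.C v (g (d.t u x)))
    rw [← hy, d.C_t, huv, one_smul]
  have hAinj : Function.Injective A := fun x y hxy => d.t_injective hu (g.injective (by rw [hA, hA, hxy]))
  let A' : V₂ →ₗ[F] V₂ := -(d.C u ∘ₗ g.symm.toLinearMap ∘ₗ d.t v)
  have hA' : ∀ z, d.C u (g.symm z) = A' (d.C u z) := by
    intro z
    refine d.β_ext fun x => ?_
    show _ = d.β (-(d.C u (g.symm (d.t v (d.C u z))))) x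
    rw [map_neg, LinearMap.neg_apply, d.β_C, d.β_C, hg'.f_inv, hg'.f_inv, hA, d.f_t, hvu, ← d.β_C]
    ring
  have hadj : ∀ z x, d.β (A' z) x = d.β z (A x) := fun z x => by
    show d.β (-(d.C u (g.symm (d.t v z)))) x = _
    rw [map_neg, LinearMap.neg_apply, d.β_C, hg'.f_inv, hA, d.f_t, hvu]
    ring
  obtain ⟨ρ, hρ⟩ := hS u hu (A ∘ₗ A') ⟨g * d.rt u 1 * g⁻¹, mul_mem (mul_mem hg (hO.rt_mem u 1)) (inv_mem hg),
    fun z => by rw [conj_rt_apply, hA', hA]; rfl⟩
  have hρ' : ∀ x, A (A' x) = ρ • x := hρ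
  have hA'inj : Function.Injective A' := (injective_iff_map_eq_zero A').2 fun z hz => by
    refine d.β_eq_zero fun y => ?_
    obtain ⟨x, rfl⟩ := LinearMap.injective_iff_surjective.1 hAinj y
    rw [← hadj, hz, map_zero, LinearMap.zero_apply]
  have hρ0 : ρ ≠ 0 := fun e => by
    obtain ⟨z₀, hz₀⟩ := exists_pos hO
    have := hρ' z₀
    rw [e, zero_smul] at this
    exact hz₀ (hA'inj ((hAinj (this.trans (map_zero A).symm)).trans (map_zero A').symm))
  have hA'surj := LinearMap.injective_iff_surjective.1 hA'inj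
  -- the Siegel element
  obtain ⟨a, hy⟩ := InU.exists_tens hO hS hu ((sg_inU hO huw).conj hO hg hgW)
  set φ := v - a v with hφ
  have hgw : ∀ z, g (d.t w (A' z)) - d.t φ z ∈ d.W u := by
    intro z
    have h := LinearEquiv.congr_fun hy (d.t v z)
    rw [d.tens_t] at h
    change g (d.sg huw (g.symm (d.t v z))) = d.t (a v) z at h
    rw [d.sg_apply, hA', d.C_t, hvu, map_add, map_add, g.apply_symm_apply, hA] at h
    simp only [neg_smul, one_smul, map_neg] at h
    refine ⟨A (d.C w (g.symm (d.t v z))), ?_⟩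
    rw [hφ, map_sub, LinearMap.sub_apply, ← h]
    abel
  have huφ : d.ω u φ = 0 := by
    obtain ⟨z₀, hz₀⟩ := exists_pos hO
    obtain ⟨k, hk⟩ := hgw z₀
    have h0 : d.C u (g (d.t w (A' z₀))) = 0 := d.β_eq_zero fun x => by
      obtain ⟨x', rfl⟩ := LinearMap.injective_iff_surjective.1 hAinj x
      rw [d.β_C, ← hA, hg', d.f_t, d.ω_eq_zero_comm huw, zero_mul]
    have := congrArg (d.C u) hk
    rw [d.C_t, d.ω_alt, zero_smul, map_sub, h0, zero_sub, d.C_t, eq_comm, neg_eq_zero, smul_eq_zero] at this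
    exact d.ω_eq_zero_comm (this.resolve_right hz₀)
  -- the conjugated root element
  set b := g * d.rt w 1 * g⁻¹ with hb
  have hbH : b ∈ H := mul_mem (mul_mem hg (hO.rt_mem w 1)) (inv_mem hg)
  have hbz : ∀ z, d.C u z = 0 → b z - z - (ρ⁻¹ • d.t φ (d.C φ z)) ∈ d.W u := by
    intro z hz
    rw [hb, conj_rt_apply, add_sub_cancel_left]
    obtain ⟨k, hk⟩ := hA'surj (d.C w (g.symm z))
    have hkk : k = ρ⁻¹ • d.C φ z := by
      refine d.β_ext fun x => ?_
      rw [show k = ρ⁻¹ • A (A' k) by rw [hρ', smul_smul, inv_mul_cancel₀ hρ0, one_smul], hk, map_smul,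
        LinearMap.smul_apply, map_smul, LinearMap.smul_apply]
      congr 1
      rw [d.β_symm (A _), ← hadj, d.β_symm, d.β_C, hg'.f_inv]
      obtain ⟨q, hq⟩ := hgw x
      rw [show g (d.t w (A' x)) = d.t φ x + d.t u q by rw [hq, add_sub_cancel], map_add, ← d.β_C φ,
        ← d.β_C u, hz, map_zero, LinearMap.zero_apply, add_zero]
    rw [← map_smul, ← hkk, ← hk]
    exact hgw k
  have hrtU : ∀ x, d.rt φ (-ρ⁻¹) (d.t u x) = d.t u x := fun x => by
    rw [d.rt_apply, d.C_t, huφ, zero_smul, map_zero, smul_zero, add_zero]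
  have hbU : InU d H u (d.rt φ (-ρ⁻¹) * b) := by
    refine ⟨mul_mem (hO.rt_mem φ _) hbH, fun x => ?_, fun z hz => ?_⟩
    · show d.rt φ _ (b (d.t u x)) = _
      have h0 : d.C w (g.symm (d.t u x)) = 0 := d.β_eq_zero fun y => by
        obtain ⟨y', rfl⟩ := hA'surj y
        obtain ⟨q, hq⟩ := hgw y'
        rw [d.β_C, hg'.f_inv, show g (d.t w (A' y')) = d.t φ y' + d.t u q by rw [hq, add_sub_cancel],
          map_add, d.f_t, d.f_t, d.ω_alt, huφ, zero_mul, zero_mul, add_zero]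
      rw [hb, conj_rt_apply, h0, map_zero, map_zero, add_zero, hrtU]
    · show d.rt φ _ (b z) - z ∈ _
      obtain ⟨q, hq⟩ := hbz z hz
      rw [show b z = z + ρ⁻¹ • d.t φ (d.C φ z) + d.t u q by rw [hq]; abel, map_add, hrtU, d.rt_apply]
      simp only [map_add, map_smul, d.C_t, d.ω_alt, zero_smul, smul_zero, add_zero]
      convert d.t_mem_W u q using 1
      module
  obtain ⟨a', ha'⟩ := InU.exists_tens hO hS hu hbU
  have hbeq : b = d.tens (d.tv φ ρ⁻¹ * a') 1 := by
    have : b = (d.rt φ (-ρ⁻¹))⁻¹ * (d.rt φ (-ρ⁻¹) * b) := by group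
    rw [this, ha', d.rt_inv, neg_neg, rt, d.tens_mul, mul_one]
  obtain ⟨p, -, hp⟩ := point_of_tens hO hbeq (X := (d.W w).map g.toLinearMap)
    (finrank_image hO hw0) (fun z => by
      rw [hb, conj_rt_apply, add_sub_cancel_left]
      exact ⟨_, d.t_mem_W w _, rfl⟩) (conj_rt_ne hO hw0)
  exact ⟨p, fun x => hp ▸ ⟨_, d.t_mem_W w x, rfl⟩⟩

/-- Elements sending one column to a column are products. -/
theorem tens_of_point {g : V ≃ₗ[F] V} (hg : g ∈ H) {u u' : V₁} (hu : u ≠ 0)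
    (hgW : ∀ x, g (d.t u x) ∈ d.W u') : d.IsTens g := by
  have ne_point : ∀ {g : V ≃ₗ[F] V} {u u' : V₁}, u ≠ 0 → (∀ x, g (d.t u x) ∈ d.W u') → u' ≠ 0 := by
    intro g u u' hu h h0
    obtain ⟨z₀, hz₀⟩ := exists_pos hO
    obtain ⟨y, hy⟩ := h z₀
    rw [h0, map_zero, LinearMap.zero_apply, eq_comm, g.map_eq_zero_iff] at hy
    exact hz₀ (d.t_injective hu (hy.trans (map_zero (d.t u)).symm))
  -- reduce to a stabiliser
  obtain ⟨m, hm, hmu⟩ := hO.exists_move (ne_point hu hgW) hu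
  have hmW : ∀ x, (d.tens m 1 * g) (d.t u x) ∈ d.W u := fun x => by
    obtain ⟨y, hy⟩ := hgW x
    show d.tens m 1 (g (d.t u x)) ∈ _
    rw [← hy, d.tens_t, hmu]
    exact d.t_mem_W u _
  suffices h : d.IsTens (d.tens m 1 * g) by
    have := IsTens.mul (IsTens.inv (d := d) ⟨m, 1, rfl⟩) h
    rwa [inv_mul_cancel_left] at this
  have hmgH : d.tens m 1 * g ∈ H := mul_mem (hO.right_mem m hm) hg
  generalize d.tens m 1 * g = k at hmW hmgH
  obtain ⟨v, huv⟩ := d.exists_ω_eq_one hu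
  have hvu : d.ω v u = -1 := by rw [d.ω_swap, huv]
  by_cases hn : Module.finrank F V₁ = 2
  · -- two dimensions
    have hspan : ∀ w, w = d.ω w v • u + d.ω u w • v := by
      have hli : LinearIndependent F ![u, v] := LinearIndependent.pair_iff.2 fun s t hst => by
        have h1 := congrArg (d.ω u) hst
        have h2 := congrArg (fun z => d.ω z v) hst
        simp [d.ω_alt, huv] at h1 h2
        exact ⟨h2, h1⟩
      intro w
      have htop := hli.span_eq_top_of_card_eq_finrank' (by simp [hn])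
      rw [Matrix.range_cons, Matrix.range_cons, Matrix.range_empty, Set.union_empty, Set.singleton_union] at htop
      obtain ⟨s, t, rfl⟩ := Submodule.mem_span_pair.1 (htop ▸ (Submodule.mem_top : w ∈ ⊤))
      simp [d.ω_alt, huv]
    have hker : ∀ z, d.C u z = 0 → z ∈ d.W u := fun z hz => d.mem_W hu fun w hw => by
      rw [hspan w, hw, zero_smul, add_zero, d.C_smul, hz, smul_zero]
    have hk' := hO.isom k hmgH
    let A : V₂ →ₗ[F] V₂ := d.C v ∘ₗ k.toLinearMap ∘ₗ d.t u
    have hA : ∀ x, k (d.t u x) = d.t u (A x) := fun x => by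
      obtain ⟨y, hy⟩ := hmW x
      show _ = d.t u (d.C v (k (d.t u x)))
      rw [← hy, d.C_t, huv, one_smul]
    have hAinj : Function.Injective A := fun x y hxy => d.t_injective hu (k.injective (by rw [hA, hA, hxy]))
    let A' : V₂ →ₗ[F] V₂ := -(d.C u ∘ₗ k.symm.toLinearMap ∘ₗ d.t v)
    have hA' : ∀ z, d.C u (k.symm z) = A' (d.C u z) := by
      intro z
      refine d.β_ext fun x => ?_
      show _ = d.β (-(d.C u (k.symm (d.t v (d.C u z))))) x
      rw [map_neg, LinearMap.neg_apply, d.β_C, d.β_C, hk'.f_inv, hk'.f_inv, hA, d.f_t, hvu, ← d.β_C]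
      ring
    have hadj : ∀ z x, d.β (A' z) x = d.β z (A x) := fun z x => by
      show d.β (-(d.C u (k.symm (d.t v z)))) x = _
      rw [map_neg, LinearMap.neg_apply, d.β_C, hk'.f_inv, hA, d.f_t, hvu]
      ring
    obtain ⟨ρ, hρ⟩ := hS u hu (A ∘ₗ A') ⟨k * d.rt u 1 * k⁻¹,
      mul_mem (mul_mem hmgH (hO.rt_mem u 1)) (inv_mem hmgH), fun z => by rw [conj_rt_apply, hA', hA]; rfl⟩
    let c := LinearEquiv.ofInjectiveEndo A hAinj
    have hc : ∀ x, c x = A x := fun x => rfl
    have hcc : ∀ x y, d.β (c x) (c y) = ρ * d.β x y := by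
      intro x y
      obtain ⟨x', hx'⟩ : ∃ x', A' x' = x := by
        refine LinearMap.injective_iff_surjective.1 ((injective_iff_map_eq_zero A').2 fun z hz => ?_) x
        refine d.β_eq_zero fun y => ?_
        obtain ⟨x, rfl⟩ := LinearMap.injective_iff_surjective.1 hAinj y
        rw [← hadj, hz, map_zero, LinearMap.zero_apply]
      rw [hc, hc, ← hx', show A (A' x') = ρ • x' from hρ x', map_smul, LinearMap.smul_apply, smul_eq_mul,
        ← hadj]
    have hρ0 : ρ ≠ 0 := fun e => by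
      obtain ⟨z₀, hz₀⟩ := exists_pos hO
      refine hz₀ (d.β_eq_zero fun y => ?_)
      have := hcc (c.symm z₀) (c.symm y)
      rwa [c.apply_symm_apply, c.apply_symm_apply, e, zero_mul] at this
    let a₀ : V₁ ≃ₗ[F] V₁ :=
      LinearEquiv.ofLinearMap (LinearMap.id + ((ρ⁻¹ - 1) • d.ω u).smulRight v)
        (LinearMap.id + ((ρ - 1) • d.ω u).smulRight v)
        (by
          ext w
          simp [huv]
          match_scalars <;> field_simp <;> ring)
        (by
          ext w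
          simp [huv]
          match_scalars <;> field_simp <;> ring)
    have ha₀ : ∀ x y, d.ω (a₀ x) (a₀ y) = ρ⁻¹ * d.ω x y := by
      intro x y
      show d.ω (x + ((ρ⁻¹ - 1) * d.ω u x) • v) (y + ((ρ⁻¹ - 1) * d.ω u y) • v) = _
      conv_lhs => rw [hspan x, hspan y]
      conv_rhs => rw [hspan x, hspan y]
      simp [d.ω_alt, huv, hvu]
      ring
    have htI : d.Isom (d.tens a₀ c) := d.tens_isom (inv_mul_cancel₀ hρ0) ha₀ hcc
    have htH := hO.tens _ ⟨_, _, rfl⟩ htI
    set q := (d.tens a₀ c)⁻¹ * k with hq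
    have hqH : q ∈ H := mul_mem (inv_mem htH) hmgH
    have hqu : ∀ x, q (d.t u x) = d.t u x := fun x => by
      show (d.tens a₀ c).symm (k (d.t u x)) = _
      have e : a₀ u = u := by
        show u + ((ρ⁻¹ - 1) * d.ω u u) • v = u
        rw [d.ω_alt, mul_zero, zero_smul, add_zero]
      rw [LinearEquiv.symm_apply_eq, d.tens_t, hA, hc, e]
    obtain ⟨a, ha⟩ := InU.exists_tens hO hS hu (y := q) ⟨hqH, hqu, fun z hz => by
      obtain ⟨x, rfl⟩ := hker z hz
      rw [hqu, sub_self]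
      exact zero_mem _⟩
    have : k = d.tens a₀ c * q := by rw [hq, mul_inv_cancel_left]
    rw [this, ha]
    exact IsTens.mul ⟨_, _, rfl⟩ ⟨_, _, rfl⟩
  have hn4 : 4 ≤ Module.finrank F V₁ := by
    obtain ⟨j, hj⟩ := d.even_finrank
    have := hO.pos
    omega
  -- every column goes to a column
  refine d.isTens_of_points (by omega) (by have := hO.three; omega) fun w hw => ?_
  by_cases huw : d.ω u w = 0
  · exact point_of_stab hO hS hmgH hu hmW hw huw
  obtain ⟨z, hz, hz0⟩ : ∃ z, z ∈ LinearMap.ker (d.ω u) ⊓ LinearMap.ker (d.ω w) ∧ z ≠ 0 := by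
    refine Submodule.exists_mem_ne_zero_of_ne_bot fun h0 => ?_
    have h1 := Submodule.finrank_sup_add_finrank_inf_eq (LinearMap.ker (d.ω u)) (LinearMap.ker (d.ω w))
    have h2 := Submodule.finrank_le (LinearMap.ker (d.ω u) ⊔ LinearMap.ker (d.ω w))
    have h3 := LinearMap.finrank_range_add_finrank_ker (d.ω u)
    have h4 := LinearMap.finrank_range_add_finrank_ker (d.ω w)
    have h5 := Submodule.finrank_le (LinearMap.range (d.ω u))
    have h6 := Submodule.finrank_le (LinearMap.range (d.ω w))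
    rw [Module.finrank_self] at h5 h6
    rw [h0, finrank_bot] at h1
    omega
  obtain ⟨p, hp⟩ := point_of_stab hO hS hmgH hu hmW hz0 hz.1
  obtain ⟨m', hm', hm'p⟩ := hO.exists_move (ne_point hz0 hp) hz0
  obtain ⟨p', hp'⟩ := point_of_stab hO hS (g := d.tens m' 1 * k) (mul_mem (hO.right_mem m' hm') hmgH) hz0
    (fun x => by
      obtain ⟨y, hy⟩ := hp x
      show d.tens m' 1 (k (d.t z x)) ∈ _
      rw [← hy, d.tens_t, hm'p]
      exact d.t_mem_W z _) hw (d.ω_eq_zero_comm hz.2)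
  refine ⟨m'⁻¹ p', fun x => ?_⟩
  obtain ⟨y, hy⟩ := hp' x
  change d.t p' y = d.tens m' 1 (k (d.t w x)) at hy
  refine ⟨y, (d.tens m' 1).injective ?_⟩
  rw [d.tens_t, ← hy]
  show d.t (m' (m'.symm p')) y = _
  rw [m'.apply_symm_apply]

/-- Elements sending a column into the orthogonal of a column are products. -/
theorem tens_of_orth {h : V ≃ₗ[F] V} (hh : h ∈ H) {u v : V₁} (hu : u ≠ 0) (hv : v ≠ 0)
    (horth : ∀ x y, d.f (h (d.t u x)) (d.t v y) = 0) : d.IsTens h := by
  set b := h * d.rt u 1 * h⁻¹ with hb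
  have hfix : ∀ y, b (d.t v y) = d.t v y := fun y => by
    have h0 : d.C u (h.symm (d.t v y)) = 0 := d.β_eq_zero fun x => by
      rw [d.β_C, (hO.isom h hh).f_inv, d.f_swap, horth, neg_zero]
    rw [hb, conj_rt_apply, h0, map_zero, map_zero, add_zero]
  obtain ⟨a, c, hac⟩ := tens_of_point hO hS (mul_mem (mul_mem hh (hO.rt_mem u 1)) (inv_mem hh)) hv
    (u' := v) (fun x => by rw [← hb, hfix]; exact d.t_mem_W v x)
  rw [← hb] at hac
  obtain ⟨l, hl⟩ := d.exists_ω_eq_one hv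
  have hav : ∀ y, d.ω (a v) l • c y = y := fun y => by
    have := congrArg (d.C l) (hfix y)
    rwa [hac, d.tens_t, d.C_t, d.C_t, hl, one_smul] at this
  set κ := d.ω (a v) l with hκ
  have hκ0 : κ ≠ 0 := fun e => by
    obtain ⟨z₀, hz₀⟩ := exists_pos hO
    exact hz₀ (by rw [← hav z₀, e, zero_smul])
  have hsc : b = d.tens (a * (LinearEquiv.smulOfUnit (Units.mk0 κ⁻¹ (inv_ne_zero hκ0)))) 1 :=
    d.equiv_ext fun e x => by
      rw [hac, d.tens_t, d.tens_t]
      show d.t (a e) (c x) = d.t (a (κ⁻¹ • e)) x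
      rw [map_smul, map_smul, LinearMap.smul_apply, ← map_smul]
      congr 1
      conv_rhs => rw [← hav x, smul_smul, inv_mul_cancel₀ hκ0, one_smul]
  obtain ⟨p, -, hp⟩ := point_of_tens hO hsc (X := (d.W u).map h.toLinearMap) (finrank_image hO hu)
    (fun z => by rw [hb, conj_rt_apply, add_sub_cancel_left]; exact ⟨_, d.t_mem_W u _, rfl⟩) (conj_rt_ne hO hu)
  exact tens_of_point hO hS hh hu (u' := p) fun x => hp ▸ ⟨_, d.t_mem_W u x, rfl⟩

end

end TS

end H49
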