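import Cfsg.Agent.H49.TensQuad
import Cfsg.Agent.H49.TensDickson

/-!
The eigenvalues of a self-adjoint pairing of least rank.
-/

set_option autoImplicit false
set_option linter.unusedSectionVars false

namespace H49

namespace TS

open Polynomial
open scoped MatrixGroups

variable {F : Type*} [Field F] [Fintype F]
  {V₁ : Type*} [AddCommGroup V₁] [Module F V₁] [FiniteDimensional F V₁]
  {V₂ : Type*} [AddCommGroup V₂] [Module F V₂] [FiniteDimensional F V₂]
  {V : Type*} [AddCommGroup V] [Module F V] [FiniteDimensional F V]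
  {d : TS F V₁ V₂ V} {H : Subgroup (V ≃ₗ[F] V)}

/-- The rank of a linear map. -/
noncomputable def rk (K : V₂ →ₗ[F] V₂) : ℕ := Module.finrank F (LinearMap.range K)

/-- Outside the products all self-adjoint pairings have rank at least `r`. -/
structure Least (d : TS F V₁ V₂ V) (H : Subgroup (V ≃ₗ[F] V)) (r : ℕ) : Prop where
  le : ∀ g ∈ H, ¬ d.IsTens g → ∀ u, u ≠ 0 → r ≤ rk (S d u g)
  le_top : r ≤ Module.finrank F V₂
  pos : 0 < r

/-- A self-adjoint pairing of least rank. -/
structure Att (d : TS F V₁ V₂ V) (H : Subgroup (V ≃ₗ[F] V)) (r : ℕ) (u : V₁) (g : V ≃ₗ[F] V) : Prop where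
  mem : g ∈ H
  ntens : ¬ d.IsTens g
  ne : u ≠ 0
  rank : rk (S d u g) = r

/-- The moved column, as a map. -/
noncomputable def τ (d : TS F V₁ V₂ V) (u : V₁) (g : V ≃ₗ[F] V) : V₂ →ₗ[F] V :=
  g.toLinearMap ∘ₗ d.t u ∘ₗ N d u g⁻¹

theorem C_τ (u : V₁) (g : V ≃ₗ[F] V) (x : V₂) : d.C u (τ d u g x) = S d u g x := rfl

theorem conj_rt_c (u : V₁) (g : V ≃ₗ[F] V) (c : F) (v : V) :
    (g * d.rt u c * g⁻¹) v = v + c • g (d.t u (d.C u (g.symm v))) := by
  show g (d.rt u c (g.symm v)) = _
  rw [d.rt_apply, map_add, map_smul, g.apply_symm_apply]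

theorem conj_rt_t (u : V₁) (g : V ≃ₗ[F] V) (c : F) (x : V₂) :
    (g * d.rt u c * g⁻¹) (d.t u x) = d.t u x + c • τ d u g x := conj_rt_c u g c _

theorem conj_rt_τ (u : V₁) (g : V ≃ₗ[F] V) (c : F) (x : V₂) :
    (g * d.rt u c * g⁻¹) (τ d u g x) = τ d u g x := by
  rw [conj_rt_c, show g.symm (τ d u g x) = d.t u (N d u g⁻¹ x) from g.symm_apply_apply _, d.C_t, d.ω_alt,
    zero_smul, map_zero, map_zero, smul_zero, add_zero]

theorem rt_t (u : V₁) (c : F) (x : V₂) : d.rt u c (d.t u x) = d.t u x := by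
  rw [d.rt_apply, d.C_t, d.ω_alt, zero_smul, map_zero, smul_zero, add_zero]

theorem rt_τ (u : V₁) (g : V ≃ₗ[F] V) (c : F) (x : V₂) :
    d.rt u c (τ d u g x) = τ d u g x + c • d.t u (S d u g x) := by
  rw [d.rt_apply, C_τ]

theorem rk_comp_le (A B : V₂ →ₗ[F] V₂) : rk (A ∘ₗ B) ≤ rk A :=
  Submodule.finrank_mono (LinearMap.range_comp_le_range B A)

theorem rk_neg (A : V₂ →ₗ[F] V₂) : rk (-A) = rk A := by rw [rk, rk, LinearMap.range_neg]

section

variable (hO : d.Over H) (hS : d.Small H) {r : ℕ} (hm : Least d H r)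
include hO hS hm

theorem Least.low {g : V ≃ₗ[F] V} (hg : g ∈ H) {u : V₁} (hu : u ≠ 0) (h : rk (N d u g) < r) :
    d.IsTens g ∧ N d u g = 0 := by
  have ht : d.IsTens g := by
    by_contra hn
    have h1 := hm.le g hg hn u hu
    have h2 : rk (S d u g) ≤ rk (N d u g) := rk_comp_le _ _
    omega
  refine ⟨ht, ?_⟩
  obtain ⟨a, c, rfl⟩ := ht
  rcases eq_or_ne (d.ω (a u) u) 0 with h0 | h0
  · exact LinearMap.ext fun x => by rw [N_tens, h0, zero_smul]; rfl
  · exfalso
    have htop : LinearMap.range (N d u (d.tens a c)) = ⊤ := by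
      refine LinearMap.range_eq_top.2 fun y => ⟨c.symm ((d.ω (a u) u)⁻¹ • y), ?_⟩
      rw [N_tens, c.apply_symm_apply, smul_smul, mul_inv_cancel₀ h0, one_smul]
    rw [rk, htop, finrank_top] at h
    have := hm.le_top
    omega

section

variable {u : V₁} {g : V ≃ₗ[F] V} (ha : Att d H r u g)
include ha

theorem Att.conj_mem : g * d.rt u 1 * g⁻¹ ∈ H :=
  mul_mem (mul_mem ha.mem (hO.rt_mem u 1)) (inv_mem ha.mem)

theorem Att.conj : Att d H r u (g * d.rt u 1 * g⁻¹) ∧
    S d u (g * d.rt u 1 * g⁻¹) = -(S d u g ∘ₗ S d u g) := by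
  have hb : ¬ d.IsTens (g * d.rt u 1 * g⁻¹) := fun h => ha.ntens (tens_of_conj hO hS ha.mem ha.ne h)
  refine ⟨⟨Att.conj_mem hO hS hm ha, hb, ha.ne, le_antisymm ?_ (hm.le _ (Att.conj_mem hO hS hm ha) hb u ha.ne)⟩,
    S_conj u g⟩
  rw [S_conj, rk_neg]
  exact (rk_comp_le _ _).trans ha.rank.le

theorem Att.range_sq : LinearMap.range (S d u g ∘ₗ S d u g) = LinearMap.range (S d u g) := by
  refine Submodule.eq_of_le_of_finrank_eq (LinearMap.range_comp_le_range _ _) ?_
  have h := (Att.conj hO hS hm ha).1.rank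
  rw [(Att.conj hO hS hm ha).2, rk_neg] at h
  exact h.trans ha.rank.symm

theorem Att.ker_sq {x : V₂} (h : S d u g (S d u g x) = 0) : S d u g x = 0 := by
  set A := S d u g
  have h1 := LinearMap.finrank_range_add_finrank_ker A
  have h2 := LinearMap.finrank_range_add_finrank_ker (A ∘ₗ A)
  have h3 : Module.finrank F (LinearMap.range (A ∘ₗ A)) = Module.finrank F (LinearMap.range A) := by
    rw [Att.range_sq hO hS hm ha]
  have hk : LinearMap.ker A = LinearMap.ker (A ∘ₗ A) :=
    Submodule.eq_of_le_of_finrank_eq (fun y hy => by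
      rw [LinearMap.mem_ker] at hy ⊢
      rw [LinearMap.comp_apply, hy, map_zero]) (by omega)
  have : x ∈ LinearMap.ker (A ∘ₗ A) := LinearMap.mem_ker.2 h
  rwa [← hk, LinearMap.mem_ker] at this

theorem Att.eq_zero {y : V₂} (hy : y ∈ LinearMap.range (S d u g)) (h : S d u g y = 0) : y = 0 := by
  obtain ⟨x, rfl⟩ := hy
  exact Att.ker_sq hO hS hm ha h

theorem Att.nondeg {y : V₂} (hy : y ∈ LinearMap.range (S d u g))
    (h : ∀ z ∈ LinearMap.range (S d u g), d.β y z = 0) : y = 0 := by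
  refine Att.eq_zero hO hS hm ha hy (d.β_eq_zero fun z => ?_)
  rw [S_symm (hO.isom g ha.mem)]
  exact h _ ⟨z, rfl⟩

/-- Evaluations commute with the pairing. -/
theorem Att.aeval_comm (P : F[X]) (x : V₂) :
    aeval (S d u g : Module.End F V₂) P (S d u g x) = S d u g (aeval (S d u g : Module.End F V₂) P x) := by
  have h : aeval (S d u g : Module.End F V₂) (P * X) = aeval (S d u g : Module.End F V₂) (X * P) := by
    rw [mul_comm]
  rw [map_mul, map_mul, aeval_X] at h
  exact LinearMap.congr_fun h x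

theorem Att.aeval_mem (P : F[X]) {y : V₂} (hy : y ∈ LinearMap.range (S d u g)) :
    aeval (S d u g : Module.End F V₂) P y ∈ LinearMap.range (S d u g) := by
  obtain ⟨x, rfl⟩ := hy
  exact ⟨_, (Att.aeval_comm hO hS hm ha P x).symm⟩

theorem Att.aeval_symm (P : F[X]) (x y : V₂) :
    d.β (aeval (S d u g : Module.End F V₂) P x) y = d.β x (aeval (S d u g : Module.End F V₂) P y) := by
  induction P using Polynomial.induction_on generalizing x y with
  | C a => simp
  | add P Q hP hQ => simp [hP, hQ]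
  | monomial n a h =>
    have e : Polynomial.C a * X ^ (n + 1) = (Polynomial.C a * X ^ n) * X := by ring
    rw [e]
    conv_lhs => rw [map_mul, aeval_X, Module.End.mul_apply, h]
    conv_rhs => rw [mul_comm, map_mul, aeval_X, Module.End.mul_apply]
    exact S_symm (hO.isom g ha.mem) u _ _

/-- A polynomial killing a vector of the range lowers the rank. -/
theorem Att.rk_lt (P : F[X]) {x : V₂} (hx : x ∈ LinearMap.range (S d u g)) (hx0 : x ≠ 0)
    (h : aeval (S d u g : Module.End F V₂) P x = 0) :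
    rk (S d u g ∘ₗ aeval (S d u g : Module.End F V₂) P) < r := by
  set A := S d u g
  set Q : V₂ →ₗ[F] V₂ := aeval (A : Module.End F V₂) P
  set R := LinearMap.range A
  have hle : LinearMap.range (A ∘ₗ Q) ≤ LinearMap.range (Q ∘ₗ R.subtype) := by
    rintro _ ⟨y, rfl⟩
    exact ⟨⟨A y, y, rfl⟩, Att.aeval_comm hO hS hm ha P y⟩
  have h1 := LinearMap.finrank_range_add_finrank_ker (Q ∘ₗ R.subtype)
  have h2 : 0 < Module.finrank F (LinearMap.ker (Q ∘ₗ R.subtype)) :=
    Module.finrank_pos_iff_exists_ne_zero.2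
      ⟨⟨⟨x, hx⟩, LinearMap.mem_ker.2 h⟩, fun e => hx0 (congrArg (fun z => ((z : R) : V₂)) (congrArg Subtype.val e))⟩
  have h3 := Submodule.finrank_mono hle
  have h4 : Module.finrank F R = r := ha.rank
  rw [rk]
  omega

/-- The word on the moved column. -/
def Word (d : TS F V₁ V₂ V) (H : Subgroup (V ≃ₗ[F] V)) (u : V₁) (g : V ≃ₗ[F] V) (y : V ≃ₗ[F] V)
    (P : Matrix (Fin 2) (Fin 2) F[X]) : Prop :=
  y ∈ H ∧ (∀ x, y (d.t u x) = d.t u (aeval (S d u g : Module.End F V₂) (P 0 0) x) +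
      τ d u g (aeval (S d u g : Module.End F V₂) (P 1 0) x)) ∧
    ∀ x, y (τ d u g x) = d.t u (aeval (S d u g : Module.End F V₂) (P 0 1) x) +
      τ d u g (aeval (S d u g : Module.End F V₂) (P 1 1) x)

theorem Att.word_lower (c : F) : Word d H u g (g * d.rt u c * g⁻¹) !![1, 0; Polynomial.C c, 1] :=
  ⟨mul_mem (mul_mem ha.mem (hO.rt_mem u c)) (inv_mem ha.mem), fun x => by rw [conj_rt_t]; simp,
    fun x => by rw [conj_rt_τ]; simp⟩

theorem Att.word_upper (c : F) : Word d H u g (d.rt u c) !![1, Polynomial.C c * X; 0, 1] :=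
  ⟨hO.rt_mem u c, fun x => by simp [rt_t], fun x => by simp [rt_τ, add_comm]⟩

theorem Att.word_mul {y y' : V ≃ₗ[F] V} {P Q : Matrix (Fin 2) (Fin 2) F[X]} (h : Word d H u g y P)
    (h' : Word d H u g y' Q) : Word d H u g (y * y') (P * Q) := by
  refine ⟨mul_mem h.1 h'.1, fun x => ?_, fun x => ?_⟩ <;> show y (y' _) = _
  · rw [h'.2.1, map_add, h.2.1, h.2.2]
    simp [Matrix.mul_apply, Fin.sum_univ_two]
    abel
  · rw [h'.2.2, map_add, h.2.1, h.2.2]
    simp [Matrix.mul_apply, Fin.sum_univ_two]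
    abel

/-- A rational eigenvalue is the only one. -/
theorem Att.of_eigen {x : V₂} (hx0 : x ≠ 0) {l : F} (hl : l ≠ 0) (hx : S d u g x = l • x) :
    ∀ z, S d u g (S d u g z) = l • S d u g z := by
  have hw := Att.word_mul hO hS hm ha
    (Att.word_mul hO hS hm ha (Att.word_lower hO hS hm ha 1) (Att.word_upper hO hS hm ha (-2 / l)))
    (Att.word_lower hO hS hm ha 1)
  set y := g * d.rt u 1 * g⁻¹ * d.rt u (-2 / l) * (g * d.rt u 1 * g⁻¹)
  set P : F[X] := Polynomial.C (-2 / l) * X + Polynomial.C 2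
  have hN : N d u y = S d u g ∘ₗ aeval (S d u g : Module.End F V₂) P := by
    refine LinearMap.ext fun z => ?_
    show d.C u (y (d.t u z)) = _
    rw [hw.2.1, map_add, d.C_t, d.ω_alt, zero_smul, zero_add, C_τ, LinearMap.comp_apply]
    simp [P, Matrix.mul_apply, Fin.sum_univ_two]
    module
  have hxR : x ∈ LinearMap.range (S d u g) := ⟨l⁻¹ • x, by rw [map_smul, hx, smul_smul, inv_mul_cancel₀ hl, one_smul]⟩
  have hlow := (hm.low hO hS hw.1 ha.ne (by
    rw [hN]
    refine Att.rk_lt hO hS hm ha P hxR hx0 ?_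
    simp [P, hx, smul_smul]
    rw [mul_div_cancel₀ _ hl]; module)).2
  intro z
  have := LinearMap.congr_fun hlow z
  rw [hN] at this
  simp [P] at this
  have h2 := hO.two
  linear_combination (norm := skip) (-l / 2) • this
  match_scalars <;> field_simp <;> ring

/-- An irreducible factor with kernel in the range. -/
theorem Att.exists_irreducible : ∃ π : F[X], Irreducible π ∧
    ∃ x ∈ LinearMap.range (S d u g), x ≠ 0 ∧ aeval (S d u g : Module.End F V₂) π x = 0 := by
  set A : Module.End F V₂ := S d u g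
  obtain ⟨x, hx, hx0⟩ : ∃ x ∈ LinearMap.range (S d u g), x ≠ 0 := by
    refine Submodule.exists_mem_ne_zero_of_ne_bot fun e => ?_
    have h := ha.rank
    rw [rk, e, finrank_bot] at h
    have := hm.pos
    omega
  have key : ∀ P : F[X], P ≠ 0 → ∀ x ∈ LinearMap.range (S d u g), x ≠ 0 → aeval A P x = 0 →
      ∃ π : F[X], Irreducible π ∧ ∃ x ∈ LinearMap.range (S d u g), x ≠ 0 ∧ aeval A π x = 0 := by
    intro P
    induction P using UniqueFactorizationMonoid.induction_on_prime with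
    | h₁ => exact fun h => absurd rfl h
    | h₂ P hP =>
      intro _ x _ hx0 hPx
      exfalso
      obtain ⟨Q, hQ⟩ := hP.exists_left_inv
      have := congrArg (fun T : F[X] => aeval A T x) hQ
      rw [map_mul, Module.End.mul_apply, hPx, map_zero, map_one, Module.End.one_apply] at this
      exact hx0 this.symm
    | h₃ P p hP hp ih =>
      intro _ x hx hx0 hPx
      rw [map_mul, Module.End.mul_apply] at hPx
      by_cases h : aeval A P x = 0
      · exact ih hP x hx hx0 h
      · exact ⟨p, hp.irreducible, _, Att.aeval_mem hO hS hm ha P hx, h, hPx⟩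
  exact key _ (minpoly.ne_zero (Algebra.IsIntegral.isIntegral A)) x hx hx0 (by rw [minpoly.aeval]; rfl)

/-- A factor of degree at least two exists only for three elements, with square minus one. -/
theorem Att.of_irreducible {π : F[X]} (hπ : Irreducible π) (hdeg : 2 ≤ π.natDegree) {x : V₂}
    (hx : x ∈ LinearMap.range (S d u g)) (hx0 : x ≠ 0) (hπx : aeval (S d u g : Module.End F V₂) π x = 0) :
    Fintype.card F = 3 ∧ S d u g (S d u g x) = -x := by
  set A : Module.End F V₂ := S d u g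
  haveI : Fact (Irreducible π) := ⟨hπ⟩
  haveI : Module.Finite F (AdjoinRoot π) := (AdjoinRoot.powerBasis hπ.ne_zero).finite
  haveI : Finite (AdjoinRoot π) := Module.finite_of_finite F
  haveI : Fintype (AdjoinRoot π) := Fintype.ofFinite _
  have hdvd : ∀ P : F[X], aeval A P x = 0 → π ∣ P := by
    intro P hP
    by_contra h
    obtain ⟨a, b, hab⟩ := (hπ.coprime_iff_not_dvd).2 h
    have := congrArg (fun T : F[X] => aeval A T x) hab
    simp [hπx, hP] at this
    exact hx0 this.symm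
  have hlam : AdjoinRoot.root π ∉ (algebraMap F (AdjoinRoot π)).range := by
    rintro ⟨c, hc⟩
    have h1 : AdjoinRoot.mk π (X - Polynomial.C c) = 0 := by
      rw [map_sub, AdjoinRoot.mk_X, AdjoinRoot.mk_C, ← hc, AdjoinRoot.algebraMap_eq, sub_self]
    have := Polynomial.natDegree_le_of_dvd (AdjoinRoot.mk_eq_zero.1 h1) (X_sub_C_ne_zero c)
    rw [natDegree_X_sub_C] at this
    omega
  let G : Subgroup SL(2, AdjoinRoot π) :=
    { carrier := {m | ∃ y P, Word d H u g y P ∧ P.map (AdjoinRoot.mk π) = (m : Matrix (Fin 2) (Fin 2) _)}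
      one_mem' := ⟨1, 1, ⟨one_mem H, fun x => by simp, fun x => by simp⟩, by simp⟩
      mul_mem' := fun {m m'} ⟨y, P, hy, hP⟩ ⟨y', Q, hy', hQ⟩ =>
        ⟨y * y', P * Q, Att.word_mul hO hS hm ha hy hy', by
          rw [Matrix.map_mul, hP, hQ, Matrix.SpecialLinearGroup.coe_mul]⟩
      inv_mem' := fun {m} ⟨y, P, hy, hP⟩ => by
        have hpow : ∀ k : ℕ, ∃ y' Q, Word d H u g y' Q ∧
            Q.map (AdjoinRoot.mk π) = ((m ^ k : SL(2, AdjoinRoot π)) : Matrix (Fin 2) (Fin 2) _) := by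
          intro k
          induction k with
          | zero => exact ⟨1, 1, ⟨one_mem H, fun x => by simp, fun x => by simp⟩, by simp⟩
          | succ k ih =>
            obtain ⟨y', Q, hy', hQ⟩ := ih
            exact ⟨_, _, Att.word_mul hO hS hm ha hy' hy, by
              rw [Matrix.map_mul, hP, hQ, pow_succ, Matrix.SpecialLinearGroup.coe_mul]⟩
        have hn := orderOf_pos m
        have : m⁻¹ = m ^ (orderOf m - 1) := by
          refine inv_eq_of_mul_eq_one_right ?_
          rw [← pow_succ', Nat.sub_add_cancel hn, pow_orderOf_eq_one]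
        rw [this]
        exact hpow _ }
  have hL : ∀ c : F, H37.lower2 (algebraMap F (AdjoinRoot π) c) ∈ G := fun c =>
    ⟨_, _, Att.word_lower hO hS hm ha c, by
      ext i j; fin_cases i <;> fin_cases j <;> simp [H37.lower2, AdjoinRoot.algebraMap_eq]⟩
  have hU : ∀ c : F, H37.upper2 (algebraMap F (AdjoinRoot π) c * AdjoinRoot.root π) ∈ G := fun c =>
    ⟨_, _, Att.word_upper hO hS hm ha c, by
      ext i j; fin_cases i <;> fin_cases j <;> simp [H37.upper2, AdjoinRoot.algebraMap_eq]⟩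
  rcases exists_torus hO.two hlam G hU hL with ⟨m, ⟨y, P, hy, hP⟩, h10, h00⟩ | ⟨hcard, hsq⟩
  · exfalso
    rw [← hP] at h10 h00
    rw [Matrix.map_apply, AdjoinRoot.mk_eq_zero] at h10
    obtain ⟨K, hK⟩ := h10
    have hNy : N d u y = S d u g ∘ₗ aeval A (P 1 0) := LinearMap.ext fun z => by
      show d.C u (y (d.t u z)) = _
      rw [hy.2.1, map_add, d.C_t, d.ω_alt, zero_smul, zero_add, C_τ]
      rfl
    obtain ⟨ht, h0⟩ := hm.low hO hS hy.1 ha.ne (by
      rw [hNy]
      refine Att.rk_lt hO hS hm ha _ hx hx0 ?_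
      rw [hK, mul_comm, map_mul, Module.End.mul_apply, hπx, map_zero])
    rw [hNy] at h0
    have hR : ∀ z ∈ LinearMap.range (S d u g), aeval A (P 1 0) z = 0 := fun z hz =>
      Att.eq_zero hO hS hm ha (Att.aeval_mem hO hS hm ha _ hz) (LinearMap.congr_fun h0 z)
    obtain ⟨a, c, hac⟩ := ht
    have happ : ∀ z ∈ LinearMap.range (S d u g), d.t (a u) (c z) = d.t u (aeval A (P 0 0) z) := fun z hz => by
      rw [← d.tens_t, ← hac, hy.2.1, hR z hz, map_zero, add_zero]
    obtain ⟨k, hk⟩ : ∃ k : F, a u = k • u := by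
      by_contra hcon
      obtain ⟨l, hl1, hl0⟩ := d.exists_sep (w := a u) (u := u) (fun hmem => by
        obtain ⟨k, hk⟩ := Submodule.mem_span_singleton.1 hmem
        exact hcon ⟨k, hk.symm⟩) ha.ne
      have := congrArg (d.C l) (happ x hx)
      rw [d.C_t, d.C_t, hl1, hl0, one_smul, zero_smul, c.map_eq_zero_iff] at this
      exact hx0 this
    have hkc : ∀ z ∈ LinearMap.range (S d u g), k • c z = aeval A (P 0 0) z := fun z hz => by
      have := happ z hz
      rw [hk, map_smul, LinearMap.smul_apply, ← map_smul] at this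
      exact d.t_injective ha.ne this
    obtain ⟨e, he⟩ := d.exists_ω_eq_one ha.ne
    have hsim : ∀ z z', d.ω (a u) (a e) * d.β (c z) (c z') = d.β z z' := fun z z' => by
      have := hO.isom y hy.1 (d.t u z) (d.t e z')
      rwa [hac, d.tens_t, d.tens_t, d.f_t, d.f_t, he, one_mul] at this
    have hμ : d.ω (a u) (a e) ≠ 0 := fun h => hx0 (d.β_eq_zero fun z => by rw [← hsim, h, zero_mul])
    set κ := k * k / d.ω (a u) (a e) with hκ
    have hQ : π ∣ P 0 0 * P 0 0 - Polynomial.C κ := by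
      refine hdvd _ (Att.nondeg hO hS hm ha (Att.aeval_mem hO hS hm ha _ hx) fun z hz => ?_)
      rw [map_sub, map_mul, aeval_C, LinearMap.sub_apply, Module.End.mul_apply, map_sub, LinearMap.sub_apply,
        Att.aeval_symm hO hS hm ha, ← hkc x hx, ← hkc z hz, Module.algebraMap_end_apply]
      simp only [map_smul, LinearMap.smul_apply, smul_eq_mul, hκ]
      field_simp
      linear_combination (k * k) * hsim x z
    refine h00 ⟨κ, ?_⟩
    have := AdjoinRoot.mk_eq_zero.2 hQ
    rw [map_sub, map_mul, AdjoinRoot.mk_C, sub_eq_zero] at this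
    rw [Matrix.map_apply, sq, this, AdjoinRoot.algebraMap_eq]
  · refine ⟨hcard, ?_⟩
    have h1 : AdjoinRoot.mk π (X * X + 1) = 0 := by
      rw [map_add, map_mul, AdjoinRoot.mk_X, map_one, ← sq, hsq, neg_add_cancel]
    obtain ⟨K, hK⟩ := AdjoinRoot.mk_eq_zero.1 h1
    have := congrArg (fun T : F[X] => aeval A T x) hK
    rw [map_add, map_mul, aeval_X, map_one, mul_comm π K, map_mul] at this
    simp only [LinearMap.add_apply, Module.End.mul_apply, Module.End.one_apply, hπx, map_zero] at this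
    exact eq_neg_of_add_eq_zero_left this

theorem Att.of_factor {π : F[X]} (hπ : Irreducible π) {x : V₂} (hx : x ∈ LinearMap.range (S d u g))
    (hx0 : x ≠ 0) (hπx : aeval (S d u g : Module.End F V₂) π x = 0) :
    (∃ l : F, l ≠ 0 ∧ ∀ z, S d u g (S d u g z) = l • S d u g z) ∨
      (Fintype.card F = 3 ∧ S d u g (S d u g x) = -x) := by
  by_cases hdeg : 2 ≤ π.natDegree
  · exact Or.inr (Att.of_irreducible hO hS hm ha hπ hdeg hx hx0 hπx)
  left
  have h1 : π.natDegree = 1 := by
    have := hπ.natDegree_pos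
    omega
  rw [eq_X_add_C_of_natDegree_le_one h1.le] at hπx
  have hc : π.coeff 1 ≠ 0 := fun e => by
    have := leadingCoeff_ne_zero.2 hπ.ne_zero
    rw [leadingCoeff, h1] at this
    exact this e
  simp [Module.algebraMap_end_apply] at hπx
  have hx' : S d u g x = (-π.coeff 0 / π.coeff 1) • x := by
    rw [eq_neg_of_add_eq_zero_left hπx |> fun e => (eq_inv_smul_iff₀ hc).2 e, smul_neg, smul_smul, neg_div,
      neg_smul, div_eq_inv_mul]
  refine ⟨_, ?_, Att.of_eigen hO hS hm ha hx0 ?_ hx'⟩ <;>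
  · intro h
    rw [h, zero_smul] at hx'
    exact hx0 (Att.eq_zero hO hS hm ha hx hx')

/-- The possible values of a pairing of least rank. -/
theorem Att.value : (∃ l : F, l ≠ 0 ∧ ∀ z, S d u g (S d u g z) = l • S d u g z) ∨
    (Fintype.card F = 3 ∧ ∀ z, S d u g (S d u g (S d u g z)) = -S d u g z) := by
  obtain ⟨π, hπ, x, hx, hx0, hπx⟩ := Att.exists_irreducible hO hS hm ha
  rcases Att.of_factor hO hS hm ha hπ hx hx0 hπx with h | ⟨hcard, hsq⟩
  · exact Or.inl h
  refine Or.inr ⟨hcard, fun z => ?_⟩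
  obtain ⟨hb, hSb⟩ := Att.conj hO hS hm ha
  have h1 : S d u (g * d.rt u 1 * g⁻¹) x = (1 : F) • x := by rw [hSb, LinearMap.neg_apply, LinearMap.comp_apply, hsq, neg_neg, one_smul]
  have h := Att.of_eigen hO hS hm hb hx0 one_ne_zero h1 z
  simp only [hSb, LinearMap.neg_apply, LinearMap.comp_apply, map_neg, neg_neg, one_smul] at h
  refine eq_neg_of_add_eq_zero_left (Att.eq_zero hO hS hm ha (add_mem ⟨_, rfl⟩ ⟨z, rfl⟩) ?_)
  rw [map_add, h, neg_add_cancel]

/-- The conjugated root element has a scalar pairing. -/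
theorem Att.conj_value : ∃ l : F, l ≠ 0 ∧
    ∀ z, S d u (g * d.rt u 1 * g⁻¹) (S d u (g * d.rt u 1 * g⁻¹) z) = l • S d u (g * d.rt u 1 * g⁻¹) z := by
  obtain ⟨hb, hSb⟩ := Att.conj hO hS hm ha
  obtain ⟨π, hπ, x, hx, hx0, hπx⟩ := Att.exists_irreducible hO hS hm ha
  rcases Att.of_factor hO hS hm ha hπ hx hx0 hπx with ⟨l, hl, hscal⟩ | ⟨hcard, hsq⟩
  · refine ⟨-(l * l), neg_ne_zero.2 (mul_ne_zero hl hl), fun z => ?_⟩
    simp only [hSb, LinearMap.neg_apply, LinearMap.comp_apply, map_neg, hscal, map_smul]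
    module
  · exact ⟨1, one_ne_zero, Att.of_eigen hO hS hm hb hx0 one_ne_zero
      (by rw [hSb, LinearMap.neg_apply, LinearMap.comp_apply, hsq, neg_neg, one_smul])⟩

end

end

end TS

end H49
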