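import Cfsg.Agent.H49.TensBase

/-!
The orthogonal factor: reflections, transvection-like isometries and universality.
-/

set_option autoImplicit false
set_option linter.unusedSectionVars false

namespace H49

namespace TS

variable {F : Type*} [Field F]
  {V₁ : Type*} [AddCommGroup V₁] [Module F V₁] [FiniteDimensional F V₁]
  {V₂ : Type*} [AddCommGroup V₂] [Module F V₂] [FiniteDimensional F V₂]
  {V : Type*} [AddCommGroup V] [Module F V] [FiniteDimensional F V]
  (d : TS F V₁ V₂ V)

/-- The orthogonal of `S` in the second factor. -/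
def orth₂ (S : Set V₂) : Submodule F V₂ where
  carrier := {x | ∀ s ∈ S, d.β x s = 0}
  zero_mem' := fun s _ => by rw [map_zero, LinearMap.zero_apply]
  add_mem' := fun hx hy s hs => by rw [map_add, LinearMap.add_apply, hx s hs, hy s hs, add_zero]
  smul_mem' := fun k x hx s hs => by rw [map_smul, LinearMap.smul_apply, hx s hs, smul_zero]

theorem mem_orth₂ {S : Set V₂} {x : V₂} : x ∈ d.orth₂ S ↔ ∀ s ∈ S, d.β x s = 0 := Iff.rfl

theorem finrank_inf_orth₂ (U : Submodule F V₂) (a : V₂) :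
    Module.finrank F U ≤ Module.finrank F ↥(U ⊓ d.orth₂ {a}) + 1 := by
  let φ : U →ₗ[F] F := (d.β.flip a).comp U.subtype
  have h1 := LinearMap.finrank_range_add_finrank_ker φ
  have h2 := Submodule.finrank_le (LinearMap.range φ)
  rw [Module.finrank_self] at h2
  have h3 : Module.finrank F (LinearMap.ker φ) ≤ Module.finrank F ↥(U ⊓ d.orth₂ {a}) := by
    rw [(Submodule.equivMapOfInjective U.subtype U.subtype_injective (LinearMap.ker φ)).finrank_eq]
    refine Submodule.finrank_mono ?_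
    rintro _ ⟨x, hx, rfl⟩
    exact ⟨x.2, fun s hs => by rw [Set.mem_singleton_iff.1 hs]; exact hx⟩
  omega

/-- The reflection in `a`. -/
noncomputable def refl {a : V₂} (ha : d.β a a ≠ 0) : V₂ ≃ₗ[F] V₂ :=
  LinearEquiv.ofInvolutive (LinearMap.id - ((2 / d.β a a) • d.β.flip a).smulRight a) fun x => by
    simp
    field_simp
    module

theorem refl_apply {a : V₂} (ha : d.β a a ≠ 0) (x : V₂) :
    d.refl ha x = x - (2 / d.β a a * d.β x a) • a := rfl

theorem refl_isom {a : V₂} (ha : d.β a a ≠ 0) (x y : V₂) :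
    d.β (d.refl ha x) (d.refl ha y) = 1 * d.β x y := by
  simp only [d.refl_apply, map_sub, LinearMap.sub_apply, map_smul, LinearMap.smul_apply, smul_eq_mul,
    d.β_symm a y]
  field_simp
  ring

theorem refl_self {a : V₂} (ha : d.β a a ≠ 0) : d.refl ha a = -a := by
  rw [d.refl_apply, div_mul_cancel₀ _ ha]
  module

theorem refl_orth {a : V₂} (ha : d.β a a ≠ 0) {x : V₂} (hx : d.β x a = 0) : d.refl ha x = x := by
  rw [d.refl_apply, hx, mul_zero, zero_smul, sub_zero]

/-- The map `x ↦ x + β(x,p) z - β(x,z) p - ½ β(z,z) β(x,p) p`. -/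
noncomputable def eichFun (p z : V₂) : V₂ →ₗ[F] V₂ :=
  LinearMap.id + (d.β.flip p).smulRight z - (d.β.flip z).smulRight p -
    ((d.β z z / 2) • d.β.flip p).smulRight p

theorem eichFun_apply (p z x : V₂) :
    d.eichFun p z x = x + d.β x p • z - d.β x z • p - (d.β z z / 2 * d.β x p) • p := rfl

theorem eichFun_comp (h2 : (2 : F) ≠ 0) {p z : V₂} (hp : d.β p p = 0) (hpz : d.β p z = 0) (x : V₂) :
    d.eichFun p (-z) (d.eichFun p z x) = x := by
  have hzp : d.β z p = 0 := by rw [d.β_symm, hpz]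
  simp only [d.eichFun_apply, map_add, map_sub, LinearMap.add_apply, LinearMap.sub_apply, map_smul,
    LinearMap.smul_apply, smul_eq_mul, map_neg, LinearMap.neg_apply, hp, hpz, hzp, mul_zero, add_zero,
    sub_zero, neg_neg, neg_zero]
  match_scalars <;> field_simp <;> ring

/-- The isometry of a singular `p` and an orthogonal `z`. -/
noncomputable def eich (h2 : (2 : F) ≠ 0) {p z : V₂} (hp : d.β p p = 0) (hpz : d.β p z = 0) : V₂ ≃ₗ[F] V₂ :=
  LinearEquiv.ofLinearMap (d.eichFun p z) (d.eichFun p (-z))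
    (LinearMap.ext fun x => by
      simpa using d.eichFun_comp h2 hp (z := -z) (by rw [map_neg, hpz, neg_zero]) x)
    (LinearMap.ext fun x => d.eichFun_comp h2 hp hpz x)

theorem eich_apply (h2 : (2 : F) ≠ 0) {p z : V₂} (hp : d.β p p = 0) (hpz : d.β p z = 0) (x : V₂) :
    d.eich h2 hp hpz x = x + d.β x p • z - d.β x z • p - (d.β z z / 2 * d.β x p) • p := rfl

theorem eich_isom (h2 : (2 : F) ≠ 0) {p z : V₂} (hp : d.β p p = 0) (hpz : d.β p z = 0) (x y : V₂) :
    d.β (d.eich h2 hp hpz x) (d.eich h2 hp hpz y) = 1 * d.β x y := by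
  have hzp : d.β z p = 0 := by rw [d.β_symm, hpz]
  simp only [d.eich_apply, map_add, map_sub, LinearMap.add_apply, LinearMap.sub_apply, map_smul,
    LinearMap.smul_apply, smul_eq_mul, hp, hpz, hzp, mul_zero, add_zero, sub_zero, d.β_symm p y, d.β_symm z y]
  field_simp
  ring

/-- A subspace on which the form is not zero has an anisotropic vector. -/
theorem exists_aniso (h2 : (2 : F) ≠ 0) {U : Submodule F V₂} {x y : V₂} (hx : x ∈ U) (hy : y ∈ U)
    (h : d.β x y ≠ 0) : ∃ a ∈ U, d.β a a ≠ 0 := by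
  by_contra hcon
  simp only [not_exists, not_and, not_not] at hcon
  have := hcon _ (U.add_mem hx hy)
  simp only [map_add, LinearMap.add_apply, hcon x hx, hcon y hy, d.β_symm y x, zero_add, add_zero, ← two_mul] at this
  exact h ((mul_eq_zero.1 this).resolve_left h2)

variable [Fintype F]

omit [FiniteDimensional F V₁] [FiniteDimensional F V₂] in
theorem exists_sum_two (h2 : (2 : F) ≠ 0) {a b : F} (ha : a ≠ 0) (hb : b ≠ 0) (c : F) :
    ∃ t s : F, a * t ^ 2 + b * s ^ 2 = c := by
  classical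
  have hodd : Fintype.card F % 2 = 1 := by
    refine FiniteField.odd_card_of_char_ne_two fun h => h2 ?_
    haveI : CharP F 2 := h ▸ ringChar.charP F
    exact_mod_cast CharP.cast_eq_zero F 2
  obtain ⟨t, s, h⟩ := FiniteField.exists_root_sum_quadratic
    (f := Polynomial.C a * Polynomial.X ^ 2) (g := Polynomial.C b * Polynomial.X ^ 2 - Polynomial.C c)
    (Polynomial.degree_C_mul_X_pow 2 ha)
    (by rw [Polynomial.degree_sub_C (by rw [Polynomial.degree_C_mul_X_pow 2 hb]; norm_num),
      Polynomial.degree_C_mul_X_pow 2 hb]; rfl)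
    hodd
  refine ⟨t, s, ?_⟩
  simp at h
  linear_combination h

/-- A subspace of dimension at least three has a non-zero isotropic vector. -/
theorem exists_iso (h2 : (2 : F) ≠ 0) {U : Submodule F V₂} (hU : 3 ≤ Module.finrank F U) :
    ∃ x ∈ U, x ≠ 0 ∧ d.β x x = 0 := by
  by_contra hcon
  simp only [not_exists, not_and] at hcon
  have pick : ∀ U' : Submodule F V₂, 1 ≤ Module.finrank F U' → ∃ x ∈ U', x ≠ 0 := fun U' h => by
    refine Submodule.exists_mem_ne_zero_of_ne_bot fun e => ?_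
    rw [e, finrank_bot] at h
    omega
  obtain ⟨x, hx, hx0⟩ := pick U (by omega)
  have h1 := d.finrank_inf_orth₂ U x
  obtain ⟨y, hy, hy0⟩ := pick (U ⊓ d.orth₂ {x}) (by omega)
  have h3 := d.finrank_inf_orth₂ (U ⊓ d.orth₂ {x}) y
  obtain ⟨z, hz, hz0⟩ := pick (U ⊓ d.orth₂ {x} ⊓ d.orth₂ {y}) (by omega)
  have hxy : d.β y x = 0 := hy.2 x rfl
  have hzx : d.β z x = 0 := hz.1.2 x rfl
  have hzy : d.β z y = 0 := hz.2 y rfl
  obtain ⟨t, s, hts⟩ := exists_sum_two h2 (hcon x hx hx0) (hcon y hy.1 hy0) (-d.β z z)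
  refine hcon (t • x + s • y + z) (U.add_mem (U.add_mem (U.smul_mem _ hx) (U.smul_mem _ hy.1)) hz.1.1) ?_ ?_
  · intro h0
    have := congrArg (d.β z) h0
    simp only [map_add, map_smul, hzx, hzy, smul_zero, zero_add, map_zero] at this
    exact hcon z hz.1.1 hz0 this
  · simp only [map_add, LinearMap.add_apply, map_smul, LinearMap.smul_apply, smul_eq_mul, hzx, hzy,
      hxy, d.β_symm x y, d.β_symm x z, d.β_symm y z, mul_zero, add_zero, zero_add]
    linear_combination hts

/-- A non-degenerate subspace of dimension at least two represents every value. -/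
theorem exists_value (h2 : (2 : F) ≠ 0) {U : Submodule F V₂} (hU : 2 ≤ Module.finrank F U)
    (hnd : ∀ x ∈ U, (∀ y ∈ U, d.β x y = 0) → x = 0) (c : F) : ∃ x ∈ U, d.β x x = c := by
  obtain ⟨x₀, hx₀, hx₀0⟩ : ∃ x ∈ U, x ≠ 0 := by
    refine Submodule.exists_mem_ne_zero_of_ne_bot fun e => ?_
    rw [e, finrank_bot] at hU
    omega
  obtain ⟨a, ha, haa⟩ : ∃ a ∈ U, d.β a a ≠ 0 := by
    obtain ⟨y, hy, hxy⟩ : ∃ y ∈ U, d.β x₀ y ≠ 0 := by
      by_contra hcon
      simp only [not_exists, not_and, not_not] at hcon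
      exact hx₀0 (hnd x₀ hx₀ hcon)
    exact d.exists_aniso h2 hx₀ hy hxy
  obtain ⟨b, hb, hba, hbb⟩ : ∃ b ∈ U, d.β b a = 0 ∧ d.β b b ≠ 0 := by
    have h1 := d.finrank_inf_orth₂ U a
    obtain ⟨y, hy, hy0⟩ : ∃ y ∈ U ⊓ d.orth₂ {a}, y ≠ 0 := by
      refine Submodule.exists_mem_ne_zero_of_ne_bot fun e => ?_
      rw [e, finrank_bot] at h1
      omega
    obtain ⟨z, hz, hyz⟩ : ∃ z ∈ U, d.β y z ≠ 0 := by
      by_contra hcon
      simp only [not_exists, not_and, not_not] at hcon
      exact hy0 (hnd y hy.1 hcon)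
    have hz' : z - (d.β z a / d.β a a) • a ∈ U ⊓ d.orth₂ {a} := ⟨U.sub_mem hz (U.smul_mem _ ha), fun s hs => by
      rw [Set.mem_singleton_iff.1 hs, map_sub, LinearMap.sub_apply, map_smul, LinearMap.smul_apply, smul_eq_mul,
        div_mul_cancel₀ _ haa, sub_self]⟩
    obtain ⟨b, hb, hbb⟩ := d.exists_aniso h2 hy hz' (by
      rw [map_sub, map_smul, hy.2 a rfl, smul_zero, sub_zero]; exact hyz)
    exact ⟨b, hb.1, hb.2 a rfl, hbb⟩
  obtain ⟨t, s, hts⟩ := exists_sum_two h2 haa hbb c
  refine ⟨t • a + s • b, U.add_mem (U.smul_mem _ ha) (U.smul_mem _ hb), ?_⟩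
  simp only [map_add, LinearMap.add_apply, map_smul, LinearMap.smul_apply, smul_eq_mul, hba, d.β_symm a b,
    mul_zero, add_zero, zero_add]
  linear_combination hts

include d in
/-- A linear map killing every anisotropic vector is zero. -/
theorem eq_zero_of_aniso (h2 : (2 : F) ≠ 0) (K : V₂ →ₗ[F] V₂) (h : ∀ a, d.β a a ≠ 0 → K a = 0) : K = 0 := by
  refine LinearMap.ext fun x => ?_
  by_cases hx : d.β x x = 0
  · by_cases hx0 : x = 0
    · simp [hx0]
    obtain ⟨y, hy⟩ : ∃ y, d.β x y ≠ 0 := by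
      by_contra hcon
      simp only [not_exists, not_not] at hcon
      exact hx0 (d.β_eq_zero hcon)
    obtain ⟨a, -, ha⟩ := d.exists_aniso h2 (U := ⊤) (x := x) (y := y) trivial trivial hy
    -- two anisotropic translates of `x`
    by_cases hxa : d.β x a = 0
    · have h1 := h (x + a) (by simpa [hx, hxa, d.β_symm a x] using ha)
      rw [map_add, h a ha, add_zero] at h1
      exact h1
    · have hk : ∀ k : F, d.β a a + 2 * k * d.β x a = d.β (k • x + a) (k • x + a) := fun k => by
        simp [hx, d.β_symm a x]; ring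
      obtain ⟨k, hk0, hk1⟩ : ∃ k : F, k ≠ 0 ∧ d.β a a + 2 * k * d.β x a ≠ 0 := by
        by_contra hcon
        simp only [not_exists, not_and, not_not] at hcon
        have e1 := hcon 1 one_ne_zero
        have e2 := hcon (-1) (neg_ne_zero.2 one_ne_zero)
        exact hxa ((mul_eq_zero.1 (show (2 * 2) * d.β x a = 0 by linear_combination e1 - e2)).resolve_left
          (mul_ne_zero h2 h2))
      have h1 := h (k • x + a) (by rw [← hk]; exact hk1)
      rw [map_add, h a ha, add_zero, map_smul] at h1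
      exact (smul_eq_zero.1 h1).resolve_left hk0
  · exact h x hx

end TS

end H49
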