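import Mathlib

/-!
Alternating forms with a nilpotent `X` such that `1 + X` is an isometry, in characteristic two.
-/

set_option autoImplicit false
set_option linter.unusedSectionVars false

namespace H49.Unip2

open Finset

variable {F : Type*} [Field F] [CharP F 2] {V : Type*} [AddCommGroup V] [Module F V]
  {f : LinearMap.BilinForm F V} {X : Module.End F V}

/-- The basic setting. -/
structure UF (f : LinearMap.BilinForm F V) (X : Module.End F V) : Prop where
  alt : ∀ x, f x x = 0
  rel : ∀ x y, f (X x) (X y) = f (X x) y + f x (X y)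

/-- The values on translates of two vectors. -/
def D (f : LinearMap.BilinForm F V) (X : Module.End F V) (v w : V) (i l : ℕ) : F :=
  f ((X ^ i) v) ((X ^ l) w)

/-- The quadratic functions. -/
def ph (f : LinearMap.BilinForm F V) (X : Module.End F V) (j : ℕ) (v : V) : F := D f X v v (j + 1) j

theorem pow_ge_zero {v : V} {N : ℕ} (hv : (X ^ N) v = 0) {i : ℕ} (hi : N ≤ i) : (X ^ i) v = 0 := by
  rw [← Nat.sub_add_cancel hi, pow_add, Module.End.mul_apply, hv, map_zero]

theorem pow_pow_apply (X : Module.End F V) (i e : ℕ) (v : V) : (X ^ i) ((X ^ e) v) = (X ^ (i + e)) v := by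
  rw [pow_add, Module.End.mul_apply]

section D

variable (h : UF f X)

theorem D_pow_left (v w : V) (i e l : ℕ) : D f X ((X ^ e) v) w i l = D f X v w (i + e) l := by
  rw [D, D, pow_pow_apply]

theorem D_pow_right (v w : V) (i e l : ℕ) : D f X v ((X ^ e) w) i l = D f X v w i (l + e) := by
  rw [D, D, pow_pow_apply]

theorem D_smul_left (c : F) (v w : V) (i l : ℕ) : D f X (c • v) w i l = c * D f X v w i l := by
  simp [D]

theorem D_smul_right (c : F) (v w : V) (i l : ℕ) : D f X v (c • w) i l = c * D f X v w i l := by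
  simp [D]

theorem D_add_left (v v' w : V) (i l : ℕ) : D f X (v + v') w i l = D f X v w i l + D f X v' w i l := by
  simp [D]

theorem D_add_right (v w w' : V) (i l : ℕ) : D f X v (w + w') i l = D f X v w i l + D f X v w' i l := by
  simp [D]

include h

theorem UF.symm (x y : V) : f x y = f y x := by
  have := h.alt (x + y)
  simp only [map_add, LinearMap.add_apply, h.alt, zero_add, add_zero] at this
  exact (CharTwo.add_eq_zero.1 this).symm

theorem D_swap (v w : V) (i l : ℕ) : D f X v w i l = D f X w v l i := h.symm _ _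

theorem D_self (v : V) (i : ℕ) : D f X v v i i = 0 := h.alt _

theorem D_rec (v w : V) (i l : ℕ) :
    D f X v w (i + 1) (l + 1) = D f X v w (i + 1) l + D f X v w i (l + 1) := by
  simp only [D, pow_succ', Module.End.mul_apply]
  exact h.rel _ _

theorem D_succ_right (v w : V) (i l : ℕ) :
    D f X v w i (l + 1) = D f X v w (i + 1) (l + 1) + D f X v w (i + 1) l := by
  rw [D_rec h, add_comm (D f X v w (i + 1) l), add_assoc, CharTwo.add_self_eq_zero, add_zero]

theorem D_zero {v : V} {N : ℕ} (hv : (X ^ N) v = 0) (w : V) :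
    ∀ l i, N ≤ i + l → D f X v w i l = 0 := by
  intro l
  induction l with
  | zero => intro i hi; rw [D, pow_ge_zero hv (show N ≤ i by omega), map_zero, LinearMap.zero_apply]
  | succ l ih =>
    have : ∀ d i, N ≤ i + d → N ≤ i + (l + 1) → D f X v w i (l + 1) = 0 := by
      intro d
      induction d with
      | zero => intro i hi _; rw [D, pow_ge_zero hv (show N ≤ i by omega), map_zero, LinearMap.zero_apply]
      | succ d ihd =>
        intro i hi hil
        rw [D_succ_right h, ihd (i + 1) (by omega) (by omega), ih (i + 1) (by omega), add_zero]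
    exact fun i hi => this N i (by omega) hi

theorem D_zero' {w : V} {N : ℕ} (hw : (X ^ N) w = 0) (v : V) (i l : ℕ) (hil : N ≤ i + l) :
    D f X v w i l = 0 := by
  rw [D_swap h]; exact D_zero h hw v i l (by omega)

theorem D_top {v : V} {n : ℕ} (hv : (X ^ (n + 1)) v = 0) (w : V) :
    ∀ l i, i + l = n → D f X v w i l = D f X v w n 0 := by
  intro l
  induction l with
  | zero => intro i hi; rw [← hi, add_zero]
  | succ l ih =>
    intro i hi
    rw [D_succ_right h, D_zero h hv w (l + 1) (i + 1) (by omega), zero_add, ih (i + 1) (by omega)]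

theorem D_ext {v w v' w' : V} {N : ℕ} (hv : (X ^ N) v = 0) {X' : Module.End F V} (hX : X' = X)
    (hv' : (X ^ N) v' = 0) (h0 : ∀ i, D f X v w i 0 = D f X v' w' i 0) :
    ∀ l i, D f X v w i l = D f X' v' w' i l := by
  subst hX
  intro l
  induction l with
  | zero => exact h0
  | succ l ih =>
    have : ∀ d i, N ≤ i + d → D f X' v w i (l + 1) = D f X' v' w' i (l + 1) := by
      intro d
      induction d with
      | zero =>
        intro i hi
        rw [D_zero h hv w _ _ (by omega), D_zero h hv' w' _ _ (by omega)]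
      | succ d ihd =>
        intro i hi
        rw [D_succ_right h v w, D_succ_right h v' w', ihd (i + 1) (by omega), ih (i + 1)]
    exact fun i => this N i (by omega)

theorem ph_eq_zero {v : V} {N : ℕ} (hv : (X ^ N) v = 0) {j : ℕ} (hj : N ≤ 2 * j + 1) : ph f X j v = 0 :=
  D_zero h hv v _ _ (by omega)

theorem ph_add (j : ℕ) (v w : V) :
    ph f X j (v + w) = ph f X j v + ph f X j w + D f X v w (j + 1) (j + 1) := by
  simp only [ph, D_add_left, D_add_right]
  rw [D_rec h v w j j, D_swap h w v (j + 1) j]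
  ring

end D

theorem ph_smul (j : ℕ) (c : F) (v : V) : ph f X j (c • v) = c ^ 2 * ph f X j v := by
  simp [ph, D, sq, mul_assoc]

theorem ph_pow (j e : ℕ) (v : V) : ph f X j ((X ^ e) v) = ph f X (j + e) v := by
  rw [ph, ph, D_pow_left, D_pow_right, add_right_comm]

section Gen

/-- A family all of whose members have order `n + 1`, with non-singular top values. -/
structure Gen (f : LinearMap.BilinForm F V) (X : Module.End F V) (n : ℕ) {r : ℕ} (g : Fin r → V) : Prop where
  kill : ∀ a, (X ^ (n + 1)) (g a) = 0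
  top : ∀ c : Fin r → F, (∀ d, ∑ a, c a * D f X (g a) (g d) n 0 = 0) → c = 0

/-- The translates. -/
def fam (X : Module.End F V) (n : ℕ) {r : ℕ} (g : Fin r → V) (p : Fin r × Fin (n + 1)) : V :=
  (X ^ (p.2 : ℕ)) (g p.1)

/-- Their span. -/
def Sp (X : Module.End F V) (n : ℕ) {r : ℕ} (g : Fin r → V) : Submodule F V :=
  Submodule.span F (Set.range (fam X n g))

variable {n r : ℕ} {g : Fin r → V}

theorem gen_mem (a : Fin r) : g a ∈ Sp X n g :=
  Submodule.subset_span ⟨(a, 0), by simp [fam]⟩

theorem Gen.pow_mem (hg : Gen f X n g) (a : Fin r) (i : ℕ) : (X ^ i) (g a) ∈ Sp X n g := by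
  by_cases hi : i < n + 1
  · exact Submodule.subset_span ⟨(a, ⟨i, hi⟩), rfl⟩
  · rw [pow_ge_zero (hg.kill a) (by omega)]; exact zero_mem _

theorem Gen.map_mem (hg : Gen f X n g) : ∀ x ∈ Sp X n g, X x ∈ Sp X n g := by
  intro x hx
  induction hx using Submodule.span_induction with
  | mem x hx =>
    obtain ⟨p, rfl⟩ := hx
    rw [fam, ← Module.End.mul_apply, ← pow_succ']
    exact hg.pow_mem _ _
  | zero => rw [map_zero]; exact zero_mem _
  | add x y _ _ hx hy => rw [map_add]; exact add_mem hx hy
  | smul c x _ hx => rw [map_smul]; exact Submodule.smul_mem _ c hx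

theorem Gen.gram_indep (h : UF f X) (hg : Gen f X n g) (a : Fin r × Fin (n + 1) → F)
    (ha : ∀ p, f (∑ q, a q • fam X n g q) (fam X n g p) = 0) : a = 0 := by
  suffices ∀ i : ℕ, ∀ c (hi : i < n + 1), a (c, ⟨i, hi⟩) = 0 by
    funext p; exact this p.2 p.1 p.2.2
  intro i
  induction i using Nat.strong_induction_on with
  | _ i ih =>
    intro c hi
    refine congrFun (hg.top (fun c => a (c, ⟨i, hi⟩)) fun d => ?_) c
    have h0 := ha (d, ⟨n - i, by omega⟩)
    simp only [map_sum, map_smul, LinearMap.sum_apply, LinearMap.smul_apply, smul_eq_mul] at h0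
    rw [Fintype.sum_prod_type] at h0
    rw [← h0]
    refine Finset.sum_congr rfl fun b _ => ?_
    rw [Finset.sum_eq_single ⟨i, hi⟩]
    · show a (b, ⟨i, hi⟩) * D f X (g b) (g d) n 0 = a (b, ⟨i, hi⟩) * D f X (g b) (g d) i (n - i)
      rw [D_top h (hg.kill b) (g d) (n - i) i (by omega)]
    · rintro ⟨l, hl⟩ - hne
      rcases Nat.lt_or_ge l i with hli | hli
      · rw [ih l hli b hl, zero_mul]
      · have : i < l := lt_of_le_of_ne hli fun e => hne (Fin.ext e.symm)
        show a (b, ⟨l, hl⟩) * D f X (g b) (g d) l (n - i) = 0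
        rw [D_zero h (hg.kill b) (g d) (n - i) l (by omega), mul_zero]
    · simp

theorem Gen.indep (h : UF f X) (hg : Gen f X n g) : LinearIndependent F (fam X n g) :=
  Fintype.linearIndependent_iff.2 fun a ha => congrFun (hg.gram_indep h a fun p => by
    rw [ha, map_zero, LinearMap.zero_apply])

theorem Gen.finrank_eq (h : UF f X) (hg : Gen f X n g) : Module.finrank F (Sp X n g) = r * (n + 1) := by
  rw [Sp, finrank_span_eq_card (hg.indep h)]
  simp

/-- Non-degeneracy on a subspace. -/
def Nd (f : LinearMap.BilinForm F V) (W : Submodule F V) : Prop :=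
  ∀ x ∈ W, (∀ y ∈ W, f x y = 0) → x = 0

theorem Gen.nd (h : UF f X) (hg : Gen f X n g) : Nd f (Sp X n g) := by
  intro x hx hxy
  obtain ⟨a, rfl⟩ := (Submodule.mem_span_range_iff_exists_fun F).1 hx
  rw [hg.gram_indep h a fun p => hxy _ (Submodule.subset_span ⟨p, rfl⟩)]
  simp

theorem sp_le {W : Submodule F V} (hW : ∀ x ∈ W, X x ∈ W) (hg : ∀ a, g a ∈ W) : Sp X n g ≤ W := by
  refine Submodule.span_le.2 ?_
  rintro _ ⟨⟨a, ⟨i, hi⟩⟩, rfl⟩
  show (X ^ i) (g a) ∈ W
  clear hi
  induction i with
  | zero => exact hg a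
  | succ i ih => rw [pow_succ', Module.End.mul_apply]; exact hW _ ih

end Gen

section Split

variable [FiniteDimensional F V]

/-- The vectors orthogonal to `S` inside `W`. -/
def cpl (f : LinearMap.BilinForm F V) (S W : Submodule F V) : Submodule F V := W ⊓ f.orthogonal S

theorem mem_cpl {S W : Submodule F V} {x : V} : x ∈ cpl f S W ↔ x ∈ W ∧ ∀ p ∈ S, f p x = 0 :=
  Iff.rfl

theorem cpl_inv (h : UF f X) {S W : Submodule F V} (hS : ∀ x ∈ S, X x ∈ S) (hW : ∀ x ∈ W, X x ∈ W)
    {K : ℕ} (hK : ∀ x ∈ S, (X ^ K) x = 0) : ∀ x ∈ cpl f S W, X x ∈ cpl f S W := by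
  intro x hx
  rw [mem_cpl] at hx ⊢
  refine ⟨hW x hx.1, fun p hp => ?_⟩
  have hpow : ∀ i, (X ^ i) p ∈ S := fun i => by
    induction i with
    | zero => exact hp
    | succ i ih => rw [pow_succ', Module.End.mul_apply]; exact hS _ ih
  have : ∀ d i, K ≤ i + d → f ((X ^ i) p) (X x) = 0 := by
    intro d
    induction d with
    | zero => intro i hi; rw [pow_ge_zero (hK p hp) (show K ≤ i by omega), map_zero, LinearMap.zero_apply]
    | succ d ih =>
      intro i hi
      have h1 := h.rel ((X ^ i) p) x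
      rw [← Module.End.mul_apply, ← pow_succ', ih (i + 1) (by omega), hx.2 _ (hpow _), zero_add] at h1
      exact h1.symm
  simpa using this K 0 (by omega)

theorem split (h : UF f X) {S W : Submodule F V} (hS : Nd f S) (hSW : S ≤ W) :
    S ⊔ cpl f S W = W ∧ Disjoint S (cpl f S W) ∧ (Nd f W → Nd f (cpl f S W)) := by
  have hrefl : f.IsRefl := fun x y e => by rw [h.symm, e]
  have hc := LinearMap.BilinForm.isCompl_orthogonal_of_restrict_nondegenerate (B := f) (W := S) hrefl
    ⟨fun x hx => Subtype.ext (hS x x.2 fun y hy => hx ⟨y, hy⟩),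
      fun x hx => Subtype.ext (hS x x.2 fun y hy => (h.symm _ _).trans (hx ⟨y, hy⟩))⟩
  refine ⟨?_, hc.disjoint.mono_right inf_le_right, fun hW x hx hxy => hW x hx.1 fun y hy => ?_⟩
  · rw [cpl, inf_comm, ← sup_inf_assoc_of_le _ hSW, hc.sup_eq_top, top_inf_eq]
  · have hy' : y ∈ S ⊔ cpl f S W := by
      rw [cpl, inf_comm, ← sup_inf_assoc_of_le _ hSW, hc.sup_eq_top, top_inf_eq]; exact hy
    obtain ⟨p, hp, z, hz, rfl⟩ := Submodule.mem_sup.1 hy'
    rw [map_add, hxy z hz, h.symm, (mem_cpl.1 hx).2 p hp, add_zero]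

end Split

end H49.Unip2
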