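import Cfsg.Agent.H49.Unip2Norm

/-!
The standard blocks and their construction.
-/

set_option autoImplicit false
set_option linter.unusedSectionVars false

namespace H49.Unip2

variable {F : Type*} [Field F] [CharP F 2] {V : Type*} [AddCommGroup V] [Module F V]
  {f : LinearMap.BilinForm F V} {X : Module.End F V} {dl : F}

/-- Block types: cyclic of size `2k + 2`, or a pair of size `n + 1`, each with a bit. -/
inductive Blk
  | cy (k : ℕ) (ε : Bool)
  | pr (n : ℕ) (ε : Bool)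
  deriving DecidableEq

/-- The size of the Jordan blocks, less one. -/
def Blk.top : Blk → ℕ
  | .cy k _ => 2 * k + 1
  | .pr n _ => n

/-- The number of Jordan blocks. -/
def Blk.cnt : Blk → ℕ
  | .cy _ _ => 1
  | .pr _ _ => 2

/-- The dimension. -/
def Blk.dim (B : Blk) : ℕ := B.cnt * (B.top + 1)

/-- The values prescribed for a cyclic block. -/
def tV (dl : F) (k : ℕ) (ε : Bool) (j : ℕ) : F :=
  if j = k then 1 else if j + 1 = k ∧ ε = true then dl else 0

/-- The values prescribed for a member of a pair. -/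
def tW (x : F) (n : ℕ) (ε : Bool) (j : ℕ) : F :=
  if ε = true ∧ 2 * j + 2 = n then x else 0

/-- `g` are standard generators of a cyclic block. -/
structure RV (dl : F) (f : LinearMap.BilinForm F V) (X : Module.End F V) (k : ℕ) (ε : Bool) (v : V) : Prop where
  kill : (X ^ (2 * k + 2)) v = 0
  val : ∀ j, ph f X j v = tV dl k ε j

/-- Standard generators of a pair. -/
structure RW (dl : F) (f : LinearMap.BilinForm F V) (X : Module.End F V) (n : ℕ) (ε : Bool) (v w : V) : Prop where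
  killv : (X ^ (n + 1)) v = 0
  killw : (X ^ (n + 1)) w = 0
  pair : ∀ i, D f X v w i 0 = if i = n then 1 else 0
  valv : ∀ j, ph f X j v = tW 1 n ε j
  valw : ∀ j, ph f X j w = tW dl n ε j

/-- `S` is a block of type `B`. -/
def IsBlk (dl : F) (f : LinearMap.BilinForm F V) (X : Module.End F V) : Blk → Submodule F V → Prop
  | .cy k ε, S => (ε = true → 1 ≤ k) ∧ ∃ v, RV dl f X k ε v ∧ S = Sp X (2 * k + 1) ![v]
  | .pr n ε, S => (ε = true → Even n ∧ 2 ≤ n) ∧ ∃ v w, RW dl f X n ε v w ∧ S = Sp X n ![v, w]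

theorem RV.gen (h : UF f X) {k : ℕ} {ε : Bool} {v : V} (hv : RV dl f X k ε v) : Gen f X (2 * k + 1) ![v] := by
  refine ⟨fun a => ?_, fun c hc => funext fun a => ?_⟩
  · fin_cases a; exact hv.kill
  · have h0 := hc 0
    have h1 : D f X v v (2 * k + 1) 0 = 1 := by
      rw [← D_top h hv.kill v k (k + 1) (by omega)]
      exact (hv.val k).trans (by simp [tV])
    simp [h1] at h0
    fin_cases a
    simpa using h0

theorem RW.top_self (h : UF f X) {n : ℕ} {v : V} (hv : (X ^ (n + 1)) v = 0)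
    (h0 : ∀ x, 2 * x + 1 = n → ph f X x v = 0) : D f X v v n 0 = 0 := by
  obtain ⟨r, hr | hr⟩ := Nat.even_or_odd' n
  · rw [← D_top h hv v r r (by omega), D_self h]
  · rw [← D_top h hv v r (r + 1) (by omega)]
    exact h0 r hr.symm

theorem RW.gen (h : UF f X) {n : ℕ} {ε : Bool} {v w : V} (hr : RW dl f X n ε v w) : Gen f X n ![v, w] := by
  have hvw : D f X v w n 0 = 1 := by rw [hr.pair, if_pos rfl]
  have hwv : D f X w v n 0 = 1 := by rw [D_swap h, D_top h hr.killv w n 0 (by omega), hvw]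
  have hz : ∀ x, 2 * x + 1 = n → ∀ y : F, tW y n ε x = 0 := fun x hx y => if_neg fun hh => by omega
  have hvv := RW.top_self h hr.killv fun x hx => by rw [hr.valv, hz x hx]
  have hww := RW.top_self h hr.killw fun x hx => by rw [hr.valw, hz x hx]
  refine ⟨fun a => ?_, fun c hc => funext fun a => ?_⟩
  · fin_cases a
    · exact hr.killv
    · exact hr.killw
  · have h0 := hc 0
    have h1 := hc 1
    simp [Fin.sum_univ_two, hvw, hwv, hvv, hww] at h0 h1
    fin_cases a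
    · simpa using h1
    · simpa using h0

theorem IsBlk.gen (h : UF f X) {B : Blk} {S : Submodule F V} (hB : IsBlk dl f X B S) :
    ∃ g : Fin B.cnt → V, Gen f X B.top g ∧ S = Sp X B.top g := by
  cases B with
  | cy k ε => obtain ⟨-, v, hv, hS⟩ := hB; exact ⟨![v], hv.gen h, hS⟩
  | pr n ε => obtain ⟨-, v, w, hv, hS⟩ := hB; exact ⟨![v, w], hv.gen h, hS⟩

section Exists

variable (h : UF f X) {W : Submodule F V} (hW : ∀ x ∈ W, X x ∈ W)

include h hW

theorem cy_of_top (hd : Scal dl) {k : ℕ} {v : V} (hvW : v ∈ W) (hv : (X ^ (2 * k + 2)) v = 0)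
    (ε : Bool) (hε : ε = true → 1 ≤ k) (h1 : ph f X k v = 1)
    (h2 : ∀ j, j + 1 = k → ph f X j v = if ε = true then dl else 0) :
    ∃ S ≤ W, IsBlk dl f X (.cy k ε) S := by
  obtain ⟨v', hv'W, hv'0, hv'j⟩ := clear_single h hW hvW hv h1
  refine ⟨_, sp_le hW (fun a => by fin_cases a; exact hv'W), hε, v', ⟨hv'0, fun j => ?_⟩, rfl⟩
  rw [hv'j, tV]
  rcases lt_trichotomy j k with hlt | heq | hgt
  · rw [if_neg (show ¬ j = k by omega)]
    by_cases hj : j + 1 = k
    · rw [if_neg (by omega), h2 j hj]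
      simp [hj]
    · rw [if_pos (by omega), if_neg (fun hh => hj hh.1)]
  · subst heq
    rw [if_neg (by omega), if_pos rfl, h1]
  · rw [if_neg (by omega), if_neg (by omega), if_neg (fun hh => by omega)]
    exact ph_eq_zero h hv (by omega)

theorem exists_cy (hd : Scal dl) {k : ℕ} {v : V} (hvW : v ∈ W) (hv : (X ^ (2 * k + 2)) v = 0)
    (hne : ph f X k v ≠ 0) : ∃ ε, ∃ S ≤ W, IsBlk dl f X (.cy k ε) S := by
  obtain ⟨b, hb⟩ := hd.sqrt (ph f X k v)
  have hb0 : b ≠ 0 := fun e => hne (by rw [← hb, e, mul_zero])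
  obtain ⟨u, hu⟩ : ∃ u, u = b⁻¹ • v := ⟨_, rfl⟩
  have hu0 : (X ^ (2 * k + 2)) u = 0 := by rw [hu, map_smul, hv, smul_zero]
  have hu1 : ph f X k u = 1 := by rw [hu, ph_smul, ← hb]; field_simp
  have huW : u ∈ W := hu ▸ W.smul_mem _ hvW
  rcases Nat.eq_zero_or_pos k with rfl | hk
  · exact ⟨false, cy_of_top h hW hd huW hu0 false (by simp) hu1 fun j hj => by omega⟩
  obtain ⟨j, rfl⟩ : ∃ j, k = j + 1 := ⟨k - 1, by omega⟩
  have hk' : ∀ t : F, ph f X j (u + t • (X ^ 1) u) = ph f X j u + (t * t + t) ∧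
      ph f X (j + 1) (u + t • (X ^ 1) u) = 1 := fun t => by
    constructor
    · rw [ph_add h, ph_smul, ph_pow, D_smul_right, D_pow_right, hu1,
        D_swap h u u (j + 1) (j + 1 + 1)]
      show ph f X j u + t ^ 2 * 1 + t * ph f X (j + 1) u = _
      rw [hu1]
      ring
    · rw [ph_add h, ph_smul, ph_pow, D_smul_right, D_pow_right, hu1,
        ph_eq_zero h hu0 (show 2 * (j + 1) + 2 ≤ 2 * (j + 1 + 1) + 1 by omega), D_zero h hu0 u _ _ (by omega)]
      simp
  have hmem : ∀ t : F, u + t • (X ^ 1) u ∈ W := fun t =>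
    add_mem huW (W.smul_mem _ (by rw [pow_one]; exact hW u huW))
  have hkill : ∀ t : F, (X ^ (2 * (j + 1) + 2)) (u + t • (X ^ 1) u) = 0 := fun t => by
    rw [map_add, map_smul, hu0, pow_pow_apply, pow_ge_zero hu0 (by omega), smul_zero, add_zero]
  rcases hd.coset (ph f X j u) with ⟨t, ht⟩ | ⟨t, ht⟩
  · refine ⟨false, cy_of_top h hW hd (hmem t) (hkill t) false (by simp) (hk' t).2 fun x hx => ?_⟩
    obtain rfl : x = j := by omega
    rw [(hk' t).1, ht, CharTwo.add_self_eq_zero]; simp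
  · refine ⟨true, cy_of_top h hW hd (hmem t) (hkill t) true (fun _ => by omega) (hk' t).2 fun x hx => ?_⟩
    obtain rfl : x = j := by omega
    rw [(hk' t).1, ht, ← add_assoc, CharTwo.add_self_eq_zero, zero_add]; simp

theorem pr_of_top {n : ℕ} {v w : V} (hvW : v ∈ W) (hwW : w ∈ W) (hv : (X ^ (n + 1)) v = 0)
    (hw : (X ^ (n + 1)) w = 0) (h1 : D f X v w n 0 = 1) (ε : Bool) (hε : ε = true → Even n ∧ 2 ≤ n)
    (h2v : ∀ x, (2 * x + 1 = n ∨ 2 * x + 2 = n) → ph f X x v = tW 1 n ε x)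
    (h2w : ∀ x, (2 * x + 1 = n ∨ 2 * x + 2 = n) → ph f X x w = tW dl n ε x) :
    ∃ S ≤ W, IsBlk dl f X (.pr n ε) S := by
  have hz : ∀ x, 2 * x + 1 = n → ∀ y : F, tW y n ε x = 0 := fun x hx y => if_neg fun hh => by omega
  obtain ⟨a, haW, ha0, hap, haj⟩ := norm_pairing h hW hvW hv h1
  obtain ⟨b, hbW, hb0, hbp, hbj⟩ := clear_pair h hW haW hwW ha0 hw (by rw [hap, if_pos rfl])
    (fun x hx => by rw [h2w x (Or.inl hx), hz x hx])
  have hbw : D f X b w n 0 = 1 := by rw [hbp, hap, if_pos rfl]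
  have hbt : ∀ x, 2 * x + 1 = n → ph f X x b = 0 := fun x hx => by
    rw [hbj, if_neg (by omega), haj x (by omega), h2v x (Or.inl hx), hz x hx]
  obtain ⟨c, hcW, hc0, hcp, hcj⟩ := clear_pair h hW hwW hbW hw hb0
    (by rw [D_swap h, D_top h hb0 w n 0 (by omega), hbw]) hbt
  refine ⟨_, sp_le hW (fun i => by fin_cases i; exacts [hbW, hcW]), hε, b, c, ⟨hb0, hc0, fun i => ?_,
    fun j => ?_, fun j => ?_⟩, rfl⟩
  · rw [D_swap h, D_ext h hc0 rfl hw hcp i 0, ← D_swap h, hbp, hap]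
  all_goals
    rcases lt_or_ge (2 * j + 2) n with hlt | hge
    · have hz0 : ∀ y : F, tW y n ε j = 0 := fun y => if_neg fun hh => by omega
      rw [hz0]
      first
        | rw [hbj, if_pos (show 2 * j + 3 ≤ n by omega)]
        | rw [hcj, if_pos (show 2 * j + 3 ≤ n by omega)]
  · rw [hbj, if_neg (by omega), haj j hge]
    by_cases hn : 2 * j + 1 = n ∨ 2 * j + 2 = n
    · exact h2v j hn
    · rw [ph_eq_zero h hv (by omega), tW, if_neg fun hh => by omega]
  · rw [hcj, if_neg (by omega)]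
    by_cases hn : 2 * j + 1 = n ∨ 2 * j + 2 = n
    · exact h2w j hn
    · rw [ph_eq_zero h hw (by omega), tW, if_neg fun hh => by omega]

theorem pr_zero {n : ℕ} {v w : V} (hvW : v ∈ W) (hwW : w ∈ W) (hv : (X ^ (n + 1)) v = 0)
    (hw : (X ^ (n + 1)) w = 0) (hne : D f X v w n 0 ≠ 0)
    (h1 : ∀ x, 2 * x + 1 = n → ph f X x v = 0 ∧ ph f X x w = 0)
    (h2 : ∀ x, 2 * x + 2 = n → ph f X x v = 0) : ∃ S ≤ W, IsBlk dl f X (.pr n false) S := by
  obtain ⟨w₁, hw₁⟩ : ∃ w₁, w₁ = (D f X v w n 0)⁻¹ • w := ⟨_, rfl⟩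
  have hw10 : (X ^ (n + 1)) w₁ = 0 := by rw [hw₁, map_smul, hw, smul_zero]
  have h1' : D f X v w₁ n 0 = 1 := by rw [hw₁, D_smul_right, inv_mul_cancel₀ hne]
  have hw1W : w₁ ∈ W := hw₁ ▸ W.smul_mem _ hwW
  have hw11 : ∀ x, 2 * x + 1 = n → ph f X x w₁ = 0 := fun x hx => by rw [hw₁, ph_smul, (h1 x hx).2, mul_zero]
  obtain ⟨r, hr | hr⟩ := Nat.even_or_odd' n
  · rcases r with _ | r
    · exact pr_of_top h hW hvW hw1W hv hw10 h1' false (by simp) (fun x hx => by omega) fun x hx => by omega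
    · set z := ph f X r w₁ with hz
      have hvv : D f X v v n 0 = 0 := RW.top_self h hv fun x hx => by omega
      refine pr_of_top h hW hvW (add_mem hw1W (W.smul_mem z hvW)) hv
        (by rw [map_add, map_smul, hw10, hv, smul_zero, add_zero])
        (by rw [D_add_right, D_smul_right, hvv, mul_zero, add_zero, h1']) false (by simp) (fun x hx => ?_) fun x hx => ?_
      · rw [h2 x (by omega)]; simp [tW]
      · obtain rfl : x = r := by omega
        rw [ph_add h, ph_smul, h2 x (by omega), D_smul_right, D_swap h, D_top h hv w₁ _ _ (by omega), h1', hz]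
        simp [tW, CharTwo.add_self_eq_zero]
  · refine pr_of_top h hW hvW hw1W hv hw10 h1' false (by simp) (fun x hx => ?_) fun x hx => ?_
    · rw [(h1 x (by omega)).1]; simp [tW]
    · rw [hw11 x (by omega)]; simp [tW]

theorem exists_pr (hd : Scal dl) {n : ℕ} {v w : V} (hvW : v ∈ W) (hwW : w ∈ W) (hv : (X ^ (n + 1)) v = 0)
    (hw : (X ^ (n + 1)) w = 0) (hne : D f X v w n 0 ≠ 0)
    (h1 : ∀ x, 2 * x + 1 = n → ph f X x v = 0 ∧ ph f X x w = 0) :
    ∃ ε, ∃ S ≤ W, IsBlk dl f X (.pr n ε) S := by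
  by_cases hn : ∃ r, 2 * r + 2 = n ∧ ph f X r v ≠ 0
  swap
  · push Not at hn
    exact ⟨false, pr_zero h hW hvW hwW hv hw hne h1 fun x hx => hn x hx⟩
  obtain ⟨r, hr, hq⟩ := hn
  obtain ⟨b, hb⟩ := hd.sqrt (ph f X r v)
  have hb0 : b ≠ 0 := fun e => hq (by rw [← hb, e, mul_zero])
  obtain ⟨v₁, hv₁⟩ : ∃ v₁, v₁ = b⁻¹ • v := ⟨_, rfl⟩
  have hv10 : (X ^ (n + 1)) v₁ = 0 := by rw [hv₁, map_smul, hv, smul_zero]
  have hv1W : v₁ ∈ W := hv₁ ▸ W.smul_mem _ hvW
  have hv1q : ph f X r v₁ = 1 := by rw [hv₁, ph_smul, ← hb]; field_simp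
  obtain ⟨w₁, hw₁⟩ : ∃ w₁, w₁ = (D f X v₁ w n 0)⁻¹ • w := ⟨_, rfl⟩
  have hne1 : D f X v₁ w n 0 ≠ 0 := by rw [hv₁, D_smul_left]; exact mul_ne_zero (inv_ne_zero hb0) hne
  have hw10 : (X ^ (n + 1)) w₁ = 0 := by rw [hw₁, map_smul, hw, smul_zero]
  have hw1W : w₁ ∈ W := hw₁ ▸ W.smul_mem _ hwW
  have h1' : D f X v₁ w₁ n 0 = 1 := by rw [hw₁, D_smul_right, inv_mul_cancel₀ hne1]
  have hvv : D f X v₁ v₁ n 0 = 0 := RW.top_self h hv10 fun x hx => by omega
  have hq' : ∀ t, ph f X r (w₁ + t • v₁) = ph f X r w₁ + (t * t + t) := fun t => by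
    rw [ph_add h, ph_smul, hv1q, D_smul_right, D_swap h, D_top h hv10 w₁ _ _ (by omega), h1']
    ring
  have hkill : ∀ t : F, (X ^ (n + 1)) (w₁ + t • v₁) = 0 := fun t => by
    rw [map_add, map_smul, hw10, hv10, smul_zero, add_zero]
  have hmem : ∀ t : F, w₁ + t • v₁ ∈ W := fun t => add_mem hw1W (W.smul_mem t hv1W)
  have htop : ∀ t : F, D f X v₁ (w₁ + t • v₁) n 0 = 1 := fun t => by
    rw [D_add_right, D_smul_right, hvv, mul_zero, add_zero, h1']
  rcases hd.coset (ph f X r w₁) with ⟨t, ht⟩ | ⟨t, ht⟩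
  · refine ⟨false, pr_zero h hW (hmem t) hv1W (hkill t) hv10 ?_ (fun x hx => by omega) fun x hx => ?_⟩
    · rw [D_swap h, D_top h hv10 _ _ _ (by omega), htop]; exact one_ne_zero
    · obtain rfl : x = r := by omega
      rw [hq', ht, CharTwo.add_self_eq_zero]
  · refine ⟨true, pr_of_top h hW hv1W (hmem t) hv10 (hkill t) (htop t) true
      (fun _ => ⟨⟨r + 1, by omega⟩, by omega⟩) (fun x hx => ?_) fun x hx => ?_⟩
    · obtain rfl : x = r := by omega
      rw [hv1q]; simp [tW, hr]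
    · obtain rfl : x = r := by omega
      rw [hq', ht, ← add_assoc, CharTwo.add_self_eq_zero, zero_add]; simp [tW, hr]

end Exists

end H49.Unip2
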