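import Cfsg.Agent.H49.Unip2Block
import Cfsg.Agent.H49.SpPieces

/-!
Decompositions into blocks.
-/

set_option autoImplicit false
set_option linter.unusedSectionVars false

namespace H49.Unip2

open Submodule

variable {F : Type*} [Field F] [CharP F 2] {V : Type*} [AddCommGroup V] [Module F V] [FiniteDimensional F V]
  {f : LinearMap.BilinForm F V} {X : Module.End F V} {dl : F}

/-- Two subspaces are orthogonal. -/
def Orth (f : LinearMap.BilinForm F V) (S W : Submodule F V) : Prop := ∀ p ∈ S, ∀ x ∈ W, f p x = 0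

/-- `W` is an orthogonal sum of blocks of the types `M`. -/
inductive Dec (P : Blk → Submodule F V → Prop) (f : LinearMap.BilinForm F V) :
    Submodule F V → Multiset Blk → Prop
  | nil : Dec P f ⊥ 0
  | cons {B : Blk} {S W : Submodule F V} {M : Multiset Blk} :
      P B S → Dec P f W M → Orth f S W → Dec P f (S ⊔ W) (B ::ₘ M)

/-- `S` is spanned by the translates of generators of the size and number of `B`. -/
def HasGen (f : LinearMap.BilinForm F V) (X : Module.End F V) (B : Blk) (S : Submodule F V) : Prop :=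
  ∃ g : Fin B.cnt → V, Gen f X B.top g ∧ S = Sp X B.top g

/-- A kind of blocks. -/
structure Kind (f : LinearMap.BilinForm F V) (X : Module.End F V) (P : Blk → Submodule F V → Prop) : Prop where
  gen : ∀ {B S}, P B S → HasGen f X B S
  find : ∀ W : Submodule F V, (∀ x ∈ W, X x ∈ W) → Nd f W → W ≠ ⊥ → ∃ B, ∃ S ≤ W, P B S

/-- The dimension of the image of `X ^ m`. -/
noncomputable def img (X : Module.End F V) (m : ℕ) (W : Submodule F V) : ℕ :=
  Module.finrank F (W.map (X ^ m))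

/-- The same for types. -/
def Blk.img (B : Blk) (m : ℕ) : ℕ := B.cnt * (B.top + 1 - m)

/-- The same for lists of types. -/
def imgM (M : Multiset Blk) (m : ℕ) : ℕ := (M.map fun B => B.img m).sum

variable (h : UF f X)

include h

theorem Gen.img_eq {n r : ℕ} {g : Fin r → V} (hg : Gen f X n g) (m : ℕ) :
    img X m (Sp X n g) = r * (n + 1 - m) := by
  classical
  let q : Fin r × Fin (n + 1 - m) → Fin r × Fin (n + 1) := fun p =>
    (p.1, ⟨(p.2 : ℕ) + m, by have := p.2.2; omega⟩)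
  have hq : Function.Injective q := fun a b e => by
    simp only [q, Prod.mk.injEq, Fin.mk.injEq, add_left_inj, Fin.val_inj] at e
    exact Prod.ext e.1 e.2
  have hspan : (Sp X n g).map (X ^ m) = span F (Set.range (fam X n g ∘ q)) := by
    rw [Sp, Submodule.map_span, ← Set.range_comp]
    refine le_antisymm (span_le.2 ?_) (span_le.2 ?_)
    · rintro _ ⟨⟨a, i⟩, rfl⟩
      show (X ^ m) ((X ^ (i : ℕ)) (g a)) ∈ _
      rw [pow_pow_apply]
      by_cases hi : m + (i : ℕ) < n + 1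
      · refine subset_span ⟨(a, ⟨i, by omega⟩), ?_⟩
        show (X ^ ((i : ℕ) + m)) (g a) = _
        rw [add_comm]
      · rw [pow_ge_zero (hg.kill a) (by omega)]; exact zero_mem _
    · rintro _ ⟨⟨a, i⟩, rfl⟩
      refine subset_span ⟨(a, ⟨i, by have := i.2; omega⟩), ?_⟩
      show (X ^ m) ((X ^ (i : ℕ)) (g a)) = (X ^ ((i : ℕ) + m)) (g a)
      rw [pow_pow_apply, add_comm]
  rw [img, hspan, finrank_span_eq_card ((hg.indep h).comp q hq)]
  simp

theorem HasGen.img_eq {B : Blk} {S : Submodule F V} (hB : HasGen f X B S) (m : ℕ) :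
    img X m S = B.img m := by
  obtain ⟨g, hg, rfl⟩ := hB
  exact hg.img_eq h m

theorem HasGen.nd {B : Blk} {S : Submodule F V} (hB : HasGen f X B S) : Nd f S := by
  obtain ⟨g, hg, rfl⟩ := hB
  exact hg.nd h

theorem HasGen.inv {B : Blk} {S : Submodule F V} (hB : HasGen f X B S) : ∀ x ∈ S, X x ∈ S := by
  obtain ⟨g, hg, rfl⟩ := hB
  exact hg.map_mem

theorem HasGen.kill {B : Blk} {S : Submodule F V} (hB : HasGen f X B S) :
    ∀ x ∈ S, (X ^ (B.top + 1)) x = 0 := by
  obtain ⟨g, hg, rfl⟩ := hB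
  intro x hx
  have : Sp X B.top g ≤ LinearMap.ker (X ^ (B.top + 1)) := span_le.2 (by
    rintro _ ⟨⟨a, i⟩, rfl⟩
    show (X ^ (B.top + 1)) ((X ^ (i : ℕ)) (g a)) = 0
    rw [pow_pow_apply, pow_ge_zero (hg.kill a) (by omega)])
  exact this hx

theorem orth_disjoint {S W : Submodule F V} (hS : Nd f S) (ho : Orth f S W) : Disjoint S W :=
  disjoint_def.2 fun x hxS hxW => hS x hxS fun y hy => by rw [h.symm]; exact ho y hy x hxW

theorem sup_inv {S W : Submodule F V} (hS : ∀ x ∈ S, X x ∈ S) (hW : ∀ x ∈ W, X x ∈ W) :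
    ∀ x ∈ S ⊔ W, X x ∈ S ⊔ W := fun x hx => by
  obtain ⟨p, hp, z, hz, rfl⟩ := mem_sup.1 hx
  rw [map_add]
  exact add_mem (mem_sup_left (hS p hp)) (mem_sup_right (hW z hz))

theorem sup_nd {S W : Submodule F V} (hS : Nd f S) (hW : Nd f W) (ho : Orth f S W) : Nd f (S ⊔ W) := by
  intro x hx hxy
  obtain ⟨p, hp, z, hz, rfl⟩ := mem_sup.1 hx
  have hp0 : p = 0 := hS p hp fun y hy => by
    have := hxy y (mem_sup_left hy)
    rwa [map_add, LinearMap.add_apply, h.symm z y, ho y hy z hz, add_zero] at this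
  subst hp0
  rw [zero_add] at hxy ⊢
  exact hW z hz fun y hy => hxy y (mem_sup_right hy)

theorem img_sup {S W : Submodule F V} (hS : ∀ x ∈ S, X x ∈ S) (hW : ∀ x ∈ W, X x ∈ W) (hd : Disjoint S W)
    (m : ℕ) : img X m (S ⊔ W) = img X m S + img X m W := by
  have hle : ∀ {U : Submodule F V}, (∀ x ∈ U, X x ∈ U) → U.map (X ^ m) ≤ U := by
    intro U hU
    rintro _ ⟨x, hx, rfl⟩
    induction m with
    | zero => exact hx
    | succ m ih => rw [pow_succ', Module.End.mul_apply]; exact hU _ ih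
  have h1 := Submodule.finrank_sup_add_finrank_inf_eq (S.map (X ^ m)) (W.map (X ^ m))
  rw [disjoint_iff.1 (hd.mono (hle hS) (hle hW)), finrank_bot, add_zero] at h1
  rw [img, img, img, Submodule.map_sup, h1]

variable {P : Blk → Submodule F V → Prop}

theorem Dec.facts (hP : ∀ {B S}, P B S → HasGen f X B S) {W : Submodule F V} {M : Multiset Blk}
    (hd : Dec P f W M) :
    (∀ x ∈ W, X x ∈ W) ∧ Nd f W ∧ ∀ m, img X m W = imgM M m := by
  induction hd with
  | nil =>
    refine ⟨fun x hx => ?_, fun x hx _ => by simpa using hx, fun m => ?_⟩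
    · rw [mem_bot] at hx ⊢; rw [hx, map_zero]
    · simp [img, imgM]
  | @cons B S W M hB _ ho ih =>
    obtain ⟨h1, h2, h3⟩ := ih
    refine ⟨sup_inv h ((hP hB).inv h) h1, sup_nd h ((hP hB).nd h) h2 ho, fun m => ?_⟩
    rw [img_sup h ((hP hB).inv h) h1 (orth_disjoint h ((hP hB).nd h) ho), (hP hB).img_eq h, h3, imgM, imgM, Multiset.map_cons,
      Multiset.sum_cons]

theorem Dec.union {W₁ W₂ : Submodule F V} {M₁ M₂ : Multiset Blk} (h1 : Dec P f W₁ M₁) (h2 : Dec P f W₂ M₂)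
    (ho : Orth f W₁ W₂) : Dec P f (W₁ ⊔ W₂) (M₁ + M₂) := by
  induction h1 with
  | nil => rwa [bot_sup_eq, zero_add]
  | @cons B S W M hB hd hSW ih =>
    rw [sup_assoc, Multiset.cons_add]
    refine Dec.cons hB (ih fun p hp x hx => ho p (mem_sup_right hp) x hx) fun p hp x hx => ?_
    obtain ⟨a, ha, b, hb, rfl⟩ := mem_sup.1 hx
    rw [map_add, hSW p hp a ha, ho p (mem_sup_left hp) b hb, add_zero]

theorem Dec.extract {W : Submodule F V} {M : Multiset Blk} (hd : Dec P f W M) :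
    ∀ (B : Blk) (M' : Multiset Blk), M = B ::ₘ M' →
      ∃ S W', P B S ∧ Dec P f W' M' ∧ Orth f S W' ∧ S ⊔ W' = W := by
  induction hd with
  | nil => intro B M' e; exact absurd e (Multiset.zero_ne_cons)
  | @cons B₀ S W M hB hd hSW ih =>
    intro B M' e
    rcases Multiset.cons_eq_cons.1 e with ⟨rfl, rfl⟩ | ⟨-, cs, rfl, rfl⟩
    · exact ⟨S, W, hB, hd, hSW, rfl⟩
    obtain ⟨S', W', hB', hd', ho', rfl⟩ := ih B cs rfl
    refine ⟨S', S ⊔ W', hB', hd'.cons hB fun p hp x hx => hSW p hp x (mem_sup_right hx), fun p hp x hx => ?_,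
      sup_left_comm _ _ _⟩
    obtain ⟨a, ha, b, hb, rfl⟩ := mem_sup.1 hx
    rw [map_add, h.symm, hSW a ha p (mem_sup_left hp), ho' p hp b hb, add_zero]

theorem Dec.extract_add : ∀ {W : Submodule F V} (M₁ M₂ : Multiset Blk), Dec P f W (M₁ + M₂) →
    ∃ W₁ W₂, Dec P f W₁ M₁ ∧ Dec P f W₂ M₂ ∧ Orth f W₁ W₂ ∧ W₁ ⊔ W₂ = W := by
  intro W M₁
  induction M₁ using Multiset.induction generalizing W with
  | empty =>
    intro M₂ hd
    rw [zero_add] at hd
    exact ⟨⊥, W, Dec.nil, hd, fun p hp x _ => by rw [(mem_bot F).1 hp, map_zero, LinearMap.zero_apply], bot_sup_eq _⟩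
  | cons B M₁ ih =>
    intro M₂ hd
    rw [Multiset.cons_add] at hd
    obtain ⟨S, W', hB, hd', ho, rfl⟩ := hd.extract h B _ rfl
    obtain ⟨W₁, W₂, h1, h2, ho', rfl⟩ := ih M₂ hd'
    refine ⟨S ⊔ W₁, W₂, h1.cons hB fun p hp x hx => ho p hp x (mem_sup_left hx), h2, fun p hp x hx => ?_,
      sup_assoc _ _ _⟩
    obtain ⟨a, ha, b, hb, rfl⟩ := mem_sup.1 hp
    rw [map_add, LinearMap.add_apply, ho a ha x (mem_sup_right hx), ho' b hb x hx, add_zero]

variable (hP : Kind f X P)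

include hP

/-- Every invariant non-degenerate subspace is a sum of blocks. -/
theorem exists_dec : ∀ (D : ℕ) (W : Submodule F V), Module.finrank F W ≤ D → (∀ x ∈ W, X x ∈ W) → Nd f W →
    ∃ M, Dec P f W M := by
  intro D
  induction D with
  | zero =>
    intro W hD _ _
    rw [Submodule.finrank_eq_zero.1 (Nat.le_zero.1 hD)]
    exact ⟨0, Dec.nil⟩
  | succ D ih =>
    intro W hD hW hnd
    rcases eq_or_ne W ⊥ with rfl | hW0
    · exact ⟨0, Dec.nil⟩
    obtain ⟨B, S, hSW, hB⟩ := hP.find W hW hnd hW0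
    have hB' := hP.gen hB
    obtain ⟨hsup, hdisj, hndc⟩ := split h (hB'.nd h) hSW
    have hpos : 0 < Module.finrank F S := by
      have := hB'.img_eq h 0
      rw [img, pow_zero, Module.End.one_eq_id, Submodule.map_id] at this
      rw [this]
      cases B <;> simp [Blk.img, Blk.cnt, Blk.top]
    have hlt : Module.finrank F (cpl f S W) ≤ D := by
      have := Submodule.finrank_sup_add_finrank_inf_eq S (cpl f S W)
      rw [hsup, disjoint_iff.1 hdisj, finrank_bot, add_zero] at this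
      omega
    obtain ⟨M, hM⟩ := ih _ hlt (cpl_inv h (hB'.inv h) hW (hB'.kill h)) (hndc hnd)
    exact ⟨B ::ₘ M, hsup ▸ hM.cons hB fun p hp z hz => (mem_cpl.1 hz).2 p hp⟩

/-- Replacing a block inside a sum. -/
theorem replace_block {W : Submodule F V} {Ps : Multiset Blk} (hd : Dec P f W Ps) {B : Blk}
    (hB : ∃ S ≤ W, P B S) :
    ∃ M, Dec P f W (B ::ₘ M) ∧ ∀ m, imgM Ps m = B.img m + imgM M m := by
  obtain ⟨S, hSW, hB⟩ := hB
  have hB' := hP.gen hB
  obtain ⟨hinv, hnd, himg⟩ := hd.facts h hP.gen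
  obtain ⟨hsup, -, hndc⟩ := split h (hB'.nd h) hSW
  obtain ⟨M, hM⟩ := exists_dec h hP _ _ le_rfl (cpl_inv h (hB'.inv h) hinv (hB'.kill h)) (hndc hnd)
  have hD : Dec P f W (B ::ₘ M) := hsup ▸ hM.cons hB fun p hp z hz => (mem_cpl.1 hz).2 p hp
  refine ⟨M, hD, fun m => ?_⟩
  rw [← himg m, (hD.facts h hP.gen).2.2 m, imgM, Multiset.map_cons, Multiset.sum_cons, imgM]

omit hP

theorem IsBlk.hasGen {B : Blk} {S : Submodule F V} (hB : IsBlk dl f X B S) : HasGen f X B S := hB.gen h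

/-- The standard kind. -/
theorem isBlk_kind (hd : Scal dl) {K : ℕ} (hK : ∀ x, (X ^ K) x = 0) : Kind f X (IsBlk dl f X) := by
  refine ⟨fun hB => hB.hasGen h, fun W hW hnd hW0 => ?_⟩
  classical
  have hex : ∃ n, ∀ x ∈ W, (X ^ (n + 1)) x = 0 :=
    ⟨K, fun x _ => pow_ge_zero (hK x) (Nat.le_succ K)⟩
  set n := Nat.find hex with hn
  have hkill : ∀ x ∈ W, (X ^ (n + 1)) x = 0 := Nat.find_spec hex
  obtain ⟨x, hx, hxn⟩ : ∃ x ∈ W, (X ^ n) x ≠ 0 := by
    by_contra hne
    push Not at hne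
    rcases Nat.eq_zero_or_pos n with h0 | hpos
    · exact hW0 (eq_bot_iff.2 fun x hx => (mem_bot F).2 (by simpa [h0] using hne x hx))
    · obtain ⟨m, hm⟩ : ∃ m, n = m + 1 := ⟨n - 1, by omega⟩
      exact Nat.find_min hex (show m < n by omega) (hm ▸ hne)
  have hpm : ∀ i, (X ^ i) x ∈ W := fun i => by
    induction i with
    | zero => exact hx
    | succ i ih => rw [pow_succ', Module.End.mul_apply]; exact hW _ ih
  obtain ⟨y, hy, hxy⟩ : ∃ y ∈ W, f ((X ^ n) x) y ≠ 0 := by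
    by_contra hne
    push Not at hne
    exact hxn (hnd _ (hpm n) hne)
  by_cases hc : ∃ k, n = 2 * k + 1 ∧ ∃ v ∈ W, ph f X k v ≠ 0
  · obtain ⟨k, hk, v, hv, hne⟩ := hc
    obtain ⟨ε, S, h1, h2⟩ := exists_cy h hW hd hv (by
      have := hkill v hv; rw [hk] at this; exact this) hne
    exact ⟨_, S, h1, h2⟩
  · push Not at hc
    obtain ⟨ε, S, h1, h2⟩ := exists_pr h hW hd hx hy (hkill x hx) (hkill y hy)
      (by simpa [Unip2.D] using hxy) fun k hk => ⟨hc k hk.symm x hx, hc k hk.symm y hy⟩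
    exact ⟨_, S, h1, h2⟩

end H49.Unip2
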