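import Cfsg.Agent.H49.Unip2Rel

/-!
Equal types give isometric unipotent elements in characteristic two.
-/

set_option autoImplicit false
set_option linter.unusedSectionVars false

namespace H49.Unip2

open Submodule

universe u v

variable {F : Type*} [Field F] [CharP F 2]
  {V : Type u} [AddCommGroup V] [Module F V] [FiniteDimensional F V]
  {V' : Type v} [AddCommGroup V'] [Module F V'] [FiniteDimensional F V']
  {f : LinearMap.BilinForm F V} {X : Module.End F V} {f' : LinearMap.BilinForm F V'} {X' : Module.End F V'} {dl : F}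

/-- Two subspaces with matching bases. -/
def Match (f : LinearMap.BilinForm F V) (X : Module.End F V) (f' : LinearMap.BilinForm F V') (X' : Module.End F V')
    (Qv : V → F) (Qv' : V' → F) (W : Submodule F V) (W' : Submodule F V') : Prop :=
  ∃ (ι : Type) (_ : Fintype ι) (e : ι → V) (e' : ι → V') (o : ι → Option ι),
    LinearIndependent F e ∧ LinearIndependent F e' ∧ span F (Set.range e) = W ∧ span F (Set.range e') = W' ∧
      (∀ i, X (e i) = (o i).elim 0 e) ∧ (∀ i, X' (e' i) = (o i).elim 0 e') ∧
      (∀ i, Qv (e i) = Qv' (e' i)) ∧ ∀ i j, f (e i) (e j) = f' (e' i) (e' j)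

variable (h : UF f X) (h' : UF f' X')

include h h'

theorem D_det {v w : V} {v' w' : V'} {N : ℕ} (hv : (X ^ N) v = 0) (hv' : (X' ^ N) v' = 0)
    (h0 : ∀ i, D f X v w i 0 = D f' X' v' w' i 0) : ∀ l i, D f X v w i l = D f' X' v' w' i l := by
  intro l
  induction l with
  | zero => exact h0
  | succ l ih =>
    have : ∀ d i, N ≤ i + d → D f X v w i (l + 1) = D f' X' v' w' i (l + 1) := by
      intro d
      induction d with
      | zero => intro i hi; rw [D_zero h hv w _ _ (by omega), D_zero h' hv' w' _ _ (by omega)]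
      | succ d ihd =>
        intro i hi
        rw [D_succ_right h v w, D_succ_right h' v' w', ihd (i + 1) (by omega), ih (i + 1)]
    exact fun i => this N i (by omega)

theorem D_self_det {v : V} {v' : V'} (hp : ∀ j, ph f X j v = ph f' X' j v') :
    ∀ i l, D f X v v i l = D f' X' v' v' i l := by
  have key : ∀ d i, D f X v v (i + d) i = D f' X' v' v' (i + d) i ∧
      D f X v v (i + d + 1) i = D f' X' v' v' (i + d + 1) i := by
    intro d
    induction d with
    | zero => intro i; exact ⟨by rw [add_zero, D_self h, D_self h'], hp i⟩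
    | succ d ih =>
      intro i
      refine ⟨(ih i).2, ?_⟩
      have a := D_rec h v v (i + d + 1) i
      have a' := D_rec h' v' v' (i + d + 1) i
      have b1 : D f X v v (i + d + 1 + 1) (i + 1) = D f' X' v' v' (i + d + 1 + 1) (i + 1) := by
        have := (ih (i + 1)).2
        rwa [show i + 1 + d + 1 = i + d + 1 + 1 by omega] at this
      have b2 : D f X v v (i + d + 1) (i + 1) = D f' X' v' v' (i + d + 1) (i + 1) := by
        have := (ih (i + 1)).1
        rwa [show i + 1 + d = i + d + 1 by omega] at this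
      show D f X v v (i + (d + 1) + 1) i = D f' X' v' v' (i + (d + 1) + 1) i
      rw [show i + (d + 1) + 1 = i + d + 1 + 1 by omega]
      rw [a, a', b2] at b1
      exact add_right_cancel b1
  intro i l
  rcases Nat.le_total l i with hle | hle
  · obtain ⟨d, rfl⟩ := Nat.le.dest hle; exact (key d l).1
  · obtain ⟨d, rfl⟩ := Nat.le.dest hle; rw [D_swap h, D_swap h']; exact (key d i).1

theorem match_gen {n r : ℕ} {g : Fin r → V} {g' : Fin r → V'} (hg : Gen f X n g) (hg' : Gen f' X' n g')
    (hD : ∀ a c i l, D f X (g a) (g c) i l = D f' X' (g' a) (g' c) i l) {Qv : V → F} {Qv' : V' → F}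
    (hQ : ∀ p, Qv (fam X n g p) = Qv' (fam X' n g' p)) :
    Match f X f' X' Qv Qv' (Sp X n g) (Sp X' n g') := by
  refine ⟨Fin r × Fin (n + 1), inferInstance, fam X n g, fam X' n g',
    fun p => if hp : (p.2 : ℕ) < n then some (p.1, ⟨(p.2 : ℕ) + 1, by omega⟩) else none,
    hg.indep h, hg'.indep h', rfl, rfl, fun p => ?_, fun p => ?_, hQ, fun p q => hD _ _ _ _⟩
  all_goals
    simp only [fam]
    rw [← Module.End.mul_apply, ← pow_succ']
    split_ifs with hp
    · rfl
    · have : (p.2 : ℕ) + 1 = n + 1 := by omega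
      rw [this]
      first
        | exact hg.kill _
        | exact hg'.kill _

theorem match_blk {B : Blk} {S : Submodule F V} {S' : Submodule F V'} (hS : IsBlk dl f X B S)
    (hS' : IsBlk dl f' X' B S') : Match f X f' X' (fun _ => 0) (fun _ => 0) S S' := by
  cases B with
  | cy k ε =>
    obtain ⟨-, v, hv, rfl⟩ := hS
    obtain ⟨-, v', hv', rfl⟩ := hS'
    refine match_gen h h' (hv.gen h) (hv'.gen h') (fun a c i l => ?_) fun _ => rfl
    fin_cases a; fin_cases c
    exact D_self_det h h' (v := v) (v' := v') (fun j => by rw [hv.val, hv'.val]) i l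
  | pr n ε =>
    obtain ⟨-, v, w, hr, rfl⟩ := hS
    obtain ⟨-, v', w', hr', rfl⟩ := hS'
    refine match_gen h h' (hr.gen h) (hr'.gen h') (fun a c i l => ?_) fun _ => rfl
    have hvw : ∀ i l, D f X v w i l = D f' X' v' w' i l := fun i l =>
      D_det h h' hr.killv hr'.killv (fun i => by rw [hr.pair, hr'.pair]) l i
    fin_cases a <;> fin_cases c
    · exact D_self_det h h' (v := v) (v' := v') (fun j => by rw [hr.valv, hr'.valv]) i l
    · exact hvw i l
    · show D f X w v i l = D f' X' w' v' i l
      rw [D_swap h, D_swap h']; exact hvw l i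
    · exact D_self_det h h' (v := w) (v' := w') (fun j => by rw [hr.valw, hr'.valw]) i l

section Generic

variable {P : Blk → Submodule F V → Prop} {P' : Blk → Submodule F V' → Prop} {Qv : V → F} {Qv' : V' → F}
  (hP : ∀ {B S}, P B S → HasGen f X B S) (hP' : ∀ {B S}, P' B S → HasGen f' X' B S)
  (hm : ∀ {B S S'}, P B S → P' B S' → Match f X f' X' Qv Qv' S S')

include hP hP' hm

theorem match_dec {W : Submodule F V} {M : Multiset Blk} (hW : Dec P f W M) :
    ∀ {W' : Submodule F V'}, Dec P' f' W' M → Match f X f' X' Qv Qv' W W' := by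
  induction hW with
  | nil =>
    intro W' hW'
    have : W' = ⊥ := by
      have h0 := (hW'.facts h' hP').2.2 0
      simp [img, imgM, Module.End.one_eq_id] at h0
      exact h0
    subst this
    exact ⟨PEmpty.{1}, inferInstance, PEmpty.elim, PEmpty.elim, PEmpty.elim, linearIndependent_empty_type,
      linearIndependent_empty_type, by simp, by simp, fun i => i.elim, fun i => i.elim, fun i => i.elim, fun i => i.elim⟩
  | @cons B S W M hB hd ho ih =>
    intro W'' hW''
    obtain ⟨S', W', hB', hd', ho', rfl⟩ := hW''.extract h' B M rfl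
    obtain ⟨ι, _, e, e', o, he, he', hs, hs', hX, hX', hQ, hG⟩ := hm hB hB'
    obtain ⟨κ, _, c, c', p, hc, hc', hcs, hcs', hcX, hcX', hcQ, hcG⟩ := ih hd'
    have hes : ∀ i, e i ∈ S := fun i => hs ▸ subset_span ⟨i, rfl⟩
    have hes' : ∀ i, e' i ∈ S' := fun i => hs' ▸ subset_span ⟨i, rfl⟩
    have hcs2 : ∀ i, c i ∈ W := fun i => hcs ▸ subset_span ⟨i, rfl⟩
    have hcs2' : ∀ i, c' i ∈ W' := fun i => hcs' ▸ subset_span ⟨i, rfl⟩
    refine ⟨ι ⊕ κ, inferInstance, Sum.elim e c, Sum.elim e' c',
      Sum.elim (fun i => (o i).map Sum.inl) (fun i => (p i).map Sum.inr),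
      he.sum_type hc (by rw [hs, hcs]; exact orth_disjoint h ((hP hB).nd h) ho),
      he'.sum_type hc' (by rw [hs', hcs']; exact orth_disjoint h' ((hP' hB').nd h') ho'),
      by rw [Set.Sum.elim_range, span_union, hs, hcs], by rw [Set.Sum.elim_range, span_union, hs', hcs'],
      ?_, ?_, ?_, ?_⟩
    · rintro (i | i)
      · simp only [Sum.elim_inl]; rw [hX]; cases o i <;> rfl
      · simp only [Sum.elim_inr]; rw [hcX]; cases p i <;> rfl
    · rintro (i | i)
      · simp only [Sum.elim_inl]; rw [hX']; cases o i <;> rfl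
      · simp only [Sum.elim_inr]; rw [hcX']; cases p i <;> rfl
    · rintro (i | i)
      · exact hQ i
      · exact hcQ i
    · rintro (i | i) (j | j) <;> simp only [Sum.elim_inl, Sum.elim_inr]
      · exact hG i j
      · rw [ho _ (hes i) _ (hcs2 j), ho' _ (hes' i) _ (hcs2' j)]
      · rw [h.symm, ho _ (hes j) _ (hcs2 i), h'.symm, ho' _ (hes' j) _ (hcs2' i)]
      · exact hcG i j

theorem equiv_of_dec {M : Multiset Blk} (hW : Dec P f ⊤ M) (hW' : Dec P' f' ⊤ M) :
    ∃ φ : V ≃ₗ[F] V', (∀ x y, f' (φ x) (φ y) = f x y) ∧ (∀ x, φ (X x) = X' (φ x)) ∧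
      ∃ (ι : Type) (_ : Fintype ι) (e : Module.Basis ι F V), ∀ i, Qv' (φ (e i)) = Qv (e i) := by
  obtain ⟨ι, _, e, e', o, he, he', hs, hs', hX, hX', hQ, hG⟩ := match_dec h h' hP hP' hm hW hW'
  let b := Module.Basis.mk he hs.ge
  let b' := Module.Basis.mk he' hs'.ge
  have hφ : ∀ i, b.equiv b' (Equiv.refl ι) (e i) = e' i := fun i => by
    conv_lhs => rw [← Module.Basis.mk_apply he hs.ge i]
    rw [Module.Basis.equiv_apply, Equiv.refl_apply, Module.Basis.mk_apply]
  refine ⟨b.equiv b' (Equiv.refl ι), fun x y => ?_, fun x => ?_, ι, inferInstance, b, fun i => by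
    rw [Module.Basis.mk_apply, hφ, hQ]⟩
  · have : f'.compl₁₂ (b.equiv b' (Equiv.refl ι)).toLinearMap (b.equiv b' (Equiv.refl ι)).toLinearMap = f := by
      refine LinearMap.ext_basis b b fun i j => ?_
      simp only [LinearMap.compl₁₂_apply, LinearEquiv.coe_coe, b, Module.Basis.mk_apply]
      rw [hφ, hφ, hG]
    conv_rhs => rw [← this]
    rfl
  · have : (b.equiv b' (Equiv.refl ι)).toLinearMap.comp X = X'.comp (b.equiv b' (Equiv.refl ι)).toLinearMap := by
      refine b.ext fun i => ?_
      simp only [LinearMap.comp_apply, LinearEquiv.coe_coe, b, Module.Basis.mk_apply]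
      rw [hφ, hX, hX']
      cases o i with
      | none => exact map_zero _
      | some j => exact hφ j
    exact LinearMap.congr_fun this x

end Generic

theorem isoT_of_dec {T : Module.End F V} {T' : Module.End F V'} (hT : T = 1 + X) (hT' : T' = 1 + X')
    {M : Multiset Blk} (hW : Dec (IsBlk dl f X) f ⊤ M) (hW' : Dec (IsBlk dl f' X') f' ⊤ M) :
    SpPieces.IsoT f T f' T' := by
  obtain ⟨φ, h1, h2, -⟩ := equiv_of_dec h h' (P := IsBlk dl f X) (P' := IsBlk dl f' X') (Qv := fun _ => (0 : F)) (Qv' := fun _ => (0 : F))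
    (fun hB => hB.hasGen h) (fun hB => hB.hasGen h') (fun hS hS' => match_blk h h' hS hS') hW hW'
  refine ⟨φ, h1, fun x => ?_⟩
  rw [hT, hT', LinearMap.add_apply, LinearMap.add_apply, Module.End.one_apply, Module.End.one_apply, map_add, h2]

end H49.Unip2
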