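import Cfsg.Agent.H49.Unip2Base

/-!
Normal generators of the blocks of a unipotent isometry in characteristic two.
-/

set_option autoImplicit false
set_option linter.unusedSectionVars false

namespace H49.Unip2

open Finset

variable {F : Type*} [Field F] [CharP F 2] {V : Type*} [AddCommGroup V] [Module F V]
  {f : LinearMap.BilinForm F V} {X : Module.End F V}

/-- Facts about the scalars: square roots, and a representative `dl` of the non-zero Artin-Schreier coset. -/
structure Scal (dl : F) : Prop where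
  sqrt : ∀ a : F, ∃ b, b * b = a
  not_as : ∀ t : F, t * t + t ≠ dl
  coset : ∀ d : F, (∃ t, t * t + t = d) ∨ ∃ t, t * t + t = d + dl

theorem exists_scal [Finite F] : ∃ dl : F, Scal dl := by
  classical
  haveI := Fintype.ofFinite F
  let φ : F → F := fun t => t * t + t
  have hadd : ∀ s t, φ (s + t) = φ s + φ t := fun s t => by
    show (s + t) * (s + t) + (s + t) = s * s + s + (t * t + t)
    rw [← sq, CharTwo.add_sq, sq, sq]; ring
  have h01 : φ 1 = φ 0 := by
    show (1 : F) * 1 + 1 = 0 * 0 + 0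
    rw [one_mul, CharTwo.add_self_eq_zero, zero_mul, add_zero]
  have hns : ¬ Function.Surjective φ := fun hs => one_ne_zero (Finite.injective_iff_surjective.2 hs h01)
  obtain ⟨dl, hdl⟩ := not_forall.1 hns
  have hdl' : ∀ t, φ t ≠ dl := fun t ht => hdl ⟨t, ht⟩
  refine ⟨dl, fun a => ?_, hdl', ?_⟩
  · obtain ⟨b, hb⟩ := FiniteField.isSquare_of_char_two (F := F) (ringChar.eq F 2) a
    exact ⟨b, hb.symm⟩
  -- the two translates of the image fill the field
  set I := Finset.univ.image φ with hI
  have hfib : ∀ c ∈ I, (Finset.univ.filter fun t => φ t = c).card ≤ 2 := by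
    intro c hc
    obtain ⟨t, -, rfl⟩ := Finset.mem_image.1 hc
    refine (Finset.card_le_card (t := {t, t + 1}) fun s hs => ?_).trans Finset.card_le_two
    have e : φ (s + t) = 0 := by rw [hadd, (Finset.mem_filter.1 hs).2, CharTwo.add_self_eq_zero]
    have e' : (s + t) * (s + t + 1) = 0 := by rw [← e]; show _ = (s + t) * (s + t) + (s + t); ring
    rw [Finset.mem_insert, Finset.mem_singleton]
    rcases mul_eq_zero.1 e' with h | h
    · exact Or.inl (CharTwo.add_eq_zero.1 h)
    · exact Or.inr (CharTwo.add_eq_zero.1 (by rw [← add_assoc]; exact h))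
  have hcard : Fintype.card F ≤ 2 * I.card := by
    rw [← Finset.card_univ]
    exact Finset.card_le_mul_card_image _ 2 hfib
  have hdisj : Disjoint I (I.image (· + dl)) := Finset.disjoint_left.2 fun c hc hc' => by
    obtain ⟨t, -, rfl⟩ := Finset.mem_image.1 hc
    obtain ⟨c', hc', e⟩ := Finset.mem_image.1 hc'
    obtain ⟨t', -, rfl⟩ := Finset.mem_image.1 hc'
    exact hdl' (t' + t) (by rw [hadd, ← e, ← add_assoc, CharTwo.add_self_eq_zero, zero_add])
  have huniv : I ∪ I.image (· + dl) = Finset.univ := by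
    refine Finset.eq_univ_of_card _ (le_antisymm (Finset.card_le_univ _) ?_)
    rw [Finset.card_union_of_disjoint hdisj, Finset.card_image_of_injective _ (add_left_injective dl)]
    omega
  intro d
  have hd := huniv.symm ▸ Finset.mem_univ d
  rcases Finset.mem_union.1 hd with hd | hd
  · obtain ⟨t, -, e⟩ := Finset.mem_image.1 hd; exact Or.inl ⟨t, e⟩
  · obtain ⟨c, hc, e⟩ := Finset.mem_image.1 hd
    obtain ⟨t, -, rfl⟩ := Finset.mem_image.1 hc
    exact Or.inr ⟨t, by rw [← e, add_assoc, CharTwo.add_self_eq_zero, add_zero]⟩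

variable (h : UF f X)

include h

/-- Solving for a pairing function. -/
theorem solve {n : ℕ} {v w : V} {S : Submodule F V} (hS : ∀ x ∈ S, X x ∈ S) (hvS : v ∈ S)
    (hv : (X ^ (n + 1)) v = 0) (htop : D f X v w n 0 = 1) (t : ℕ → F) :
    ∃ u ∈ S, (X ^ (n + 1)) u = 0 ∧ ∀ i ≤ n, D f X u w i 0 = t i := by
  have hmem : ∀ i, (X ^ i) v ∈ S := fun i => by
    induction i with
    | zero => exact hvS
    | succ i ih => rw [pow_succ', Module.End.mul_apply]; exact hS _ ih
  suffices ∀ m, ∃ u ∈ S, (X ^ (n + 1)) u = 0 ∧ ∀ i ≤ n, n < i + m → D f X u w i 0 = t i by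
    obtain ⟨u, h1, h2, h3⟩ := this (n + 1)
    exact ⟨u, h1, h2, fun i hi => h3 i hi (by omega)⟩
  intro m
  induction m with
  | zero => exact ⟨0, zero_mem _, map_zero _, fun i hi hi' => by omega⟩
  | succ m ih =>
    obtain ⟨u, hu, hu0, hu1⟩ := ih
    by_cases hm : m ≤ n
    · refine ⟨u + (t (n - m) + D f X u w (n - m) 0) • (X ^ m) v, add_mem hu (Submodule.smul_mem _ _ (hmem _)), ?_, ?_⟩
      · rw [map_add, map_smul, hu0, pow_pow_apply, pow_ge_zero hv (by omega), smul_zero, add_zero]
      · intro i hi hi'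
        rw [D_add_left, D_smul_left, D_pow_left]
        rcases Nat.lt_or_ge n (i + m) with hlt | hle
        · rw [D_zero h hv w 0 (i + m) (by omega), mul_zero, add_zero, hu1 i hi hlt]
        · obtain rfl : i = n - m := by omega
          rw [show n - m + m = n by omega, htop, mul_one, add_comm (t (n - m)), ← add_assoc,
            CharTwo.add_self_eq_zero, zero_add]
    · exact ⟨u, hu, hu0, fun i hi hi' => hu1 i hi (by omega)⟩

/-- Normalising the pairing. -/
theorem norm_pairing {n : ℕ} {v w : V} {S : Submodule F V} (hS : ∀ x ∈ S, X x ∈ S) (hvS : v ∈ S)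
    (hv : (X ^ (n + 1)) v = 0) (hvw : D f X v w n 0 = 1) :
    ∃ v' ∈ S, (X ^ (n + 1)) v' = 0 ∧ (∀ i, D f X v' w i 0 = if i = n then 1 else 0) ∧
      ∀ j, n ≤ 2 * j + 2 → ph f X j v' = ph f X j v := by
  obtain ⟨u, hu, hu0, hu1⟩ := solve h hS hvS hv hvw
    (fun i => if i = 0 then 0 else D f X v w (i - 1) 0 + if i = n + 1 then 1 else 0)
  have e : X u = (X ^ 1) u := by rw [pow_one]
  have hk : (X ^ (n + 1)) (v + X u) = 0 := by
    rw [e, map_add, hv, zero_add, pow_pow_apply, pow_ge_zero hu0 (by omega)]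
  refine ⟨v + X u, add_mem hvS (hS _ hu), hk, fun i => ?_, fun j hj => ?_⟩
  · rw [D_add_left, e, D_pow_left]
    rcases Nat.lt_trichotomy i n with hlt | heq | hgt
    · rw [hu1 (i + 1) (by omega), if_neg (by omega), if_neg (by omega), add_tsub_cancel_right, if_neg (by omega),
        add_zero, CharTwo.add_self_eq_zero]
    · subst heq
      rw [D_zero h hu0 w 0 (i + 1) (by omega), add_zero, hvw, if_pos rfl]
    · rw [D_zero h hv w 0 i (by omega), D_zero h hu0 w 0 (i + 1) (by omega), if_neg (by omega), add_zero]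
  · rw [e, ph_add h, ph_pow, D_pow_right, ph_eq_zero h hu0 (by omega),
      D_zero h hv u _ _ (by omega), add_zero, add_zero]

/-- Clearing the low values of a member of a pair, the pairing being fixed. -/
theorem clear_pair {n : ℕ} {v w : V} {S : Submodule F V} (hS : ∀ x ∈ S, X x ∈ S) (hvS : v ∈ S) (hwS : w ∈ S)
    (hv : (X ^ (n + 1)) v = 0) (hw : (X ^ (n + 1)) w = 0) (hvw : D f X v w n 0 = 1)
    (hwt : ∀ x, 2 * x + 1 = n → ph f X x w = 0) :
    ∃ v' ∈ S, (X ^ (n + 1)) v' = 0 ∧ (∀ i, D f X v' w i 0 = D f X v w i 0) ∧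
      ∀ j, ph f X j v' = if 2 * j + 3 ≤ n then 0 else ph f X j v := by
  suffices ∀ m, ∃ v' ∈ S, (X ^ (n + 1)) v' = 0 ∧ (∀ i, D f X v' w i 0 = D f X v w i 0) ∧
      (∀ j, n < 2 * j + 3 → ph f X j v' = ph f X j v) ∧
      ∀ j, n ≤ j + m → 2 * j + 3 ≤ n → ph f X j v' = 0 by
    obtain ⟨v', h1, h2, h3, h4, h5⟩ := this n
    refine ⟨v', h1, h2, h3, fun j => ?_⟩
    split_ifs with hj
    · exact h5 j (by omega) hj
    · exact h4 j (by omega)
  intro m
  induction m with
  | zero => exact ⟨v, hvS, hv, fun i => rfl, fun j _ => rfl, fun j hj hj' => by omega⟩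
  | succ m ih =>
    obtain ⟨u, huS, hu0, hup, huh, huj⟩ := ih
    set j := n - (m + 1) with hj
    have hb : 2 * j + 3 ≤ n → ∃ u' ∈ S, (X ^ (n + 1)) u' = 0 ∧ (∀ i, D f X u' w i 0 = D f X u w i 0) ∧
        ph f X j u' = 0 ∧ ∀ x, j < x → ph f X x u' = ph f X x u := by
      intro hjn
      set e := n - 2 - 2 * j with he
      set z := ph f X j u with hz
      have hun : D f X u w n 0 = 1 := by rw [hup, hvw]
      obtain ⟨c, hcS, hc0, hc1⟩ := solve h hS huS hu0 hun
        (fun i => if i = 0 then 0 else z * D f X w w (i - 1) 0)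
      have hmem : ∀ x ∈ S, ∀ i, (X ^ i) x ∈ S := fun x hx i => by
        induction i with
        | zero => exact hx
        | succ i ih => rw [pow_succ', Module.End.mul_apply]; exact hS _ ih
      have htopw : ∀ i, n ≤ i → D f X w w i 0 = 0 := by
        intro i hi
        rcases Nat.lt_or_ge n i with hlt | hge
        · exact D_zero h hw w 0 i (by omega)
        · have hin : i = n := by omega
          rw [hin]
          obtain ⟨r, hr | hr⟩ := Nat.even_or_odd' n
          · rw [← D_top h hw w r r (by omega), D_self h]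
          · rw [← D_top h hw w r (r + 1) (by omega)]
            exact hwt r hr.symm
      refine ⟨u + (z • (X ^ e) w + (X ^ (e + 1)) c),
        add_mem huS (add_mem (Submodule.smul_mem _ _ (hmem w hwS e)) (hmem c hcS _)), ?_, fun i => ?_, ?_, fun x hx => ?_⟩
      · simp only [map_add, map_smul, hu0, pow_pow_apply]
        rw [pow_ge_zero hw (by omega), pow_ge_zero hc0 (by omega)]
        simp
      · rw [D_add_left, D_add_left, D_smul_left, D_pow_left, D_pow_left]
        rcases Nat.lt_or_ge n (i + (e + 1)) with hlt | hge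
        · rw [D_zero h hc0 w 0 (i + (e + 1)) (by omega), htopw (i + e) (by omega), mul_zero, add_zero, add_zero]
        · rw [hc1 _ hge, if_neg (by omega), show i + (e + 1) - 1 = i + e by omega, CharTwo.add_self_eq_zero, add_zero]
      all_goals
        rw [ph_add h, ph_add h, ph_smul, ph_pow, ph_pow, D_add_right, D_smul_right, D_pow_right, D_pow_right,
          D_smul_left, D_pow_left, D_pow_right]
      · have h1 : ph f X (j + e) w = 0 := by
          rcases Nat.lt_or_ge n (2 * (j + e) + 1) with hlt | hge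
          · exact ph_eq_zero h hw (by omega)
          · exact hwt _ (by omega)
        rw [h1, ph_eq_zero h hc0 (show n + 1 ≤ 2 * (j + (e + 1)) + 1 by omega), D_zero h hw c _ _ (by omega),
          D_zero h hu0 c _ _ (by omega), D_top h hu0 w _ _ (by omega), hun, hz]
        simp [CharTwo.add_self_eq_zero]
      · rw [ph_eq_zero h hw (show n + 1 ≤ 2 * (x + e) + 1 by omega), ph_eq_zero h hc0 (show n + 1 ≤ 2 * (x + (e + 1)) + 1 by omega),
          D_zero h hw c _ _ (by omega), D_zero h hu0 c _ _ (by omega), D_zero h hu0 w _ _ (by omega)]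
        simp
    by_cases hjn : 2 * j + 3 ≤ n ∧ m + 1 ≤ n
    · obtain ⟨u', hu'S, hu'0, hu'p, hu'j, hu'x⟩ := hb hjn.1
      refine ⟨u', hu'S, hu'0, fun i => (hu'p i).trans (hup i), fun x hx => ?_, fun x hx hx2 => ?_⟩
      · rw [hu'x x (by omega), huh x hx]
      · rcases Nat.lt_or_ge j x with hlt | hge
        · rw [hu'x x hlt, huj x (by omega) hx2]
        · obtain rfl : x = j := by omega
          exact hu'j
    · refine ⟨u, huS, hu0, hup, huh, fun x hx hx2 => ?_⟩
      exact huj x (by omega) hx2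

/-- Clearing the low values of a single generator. -/
theorem clear_single {k : ℕ} {v : V} {S : Submodule F V} (hS : ∀ x ∈ S, X x ∈ S) (hvS : v ∈ S)
    (hv : (X ^ (2 * k + 2)) v = 0) (hvt : ph f X k v = 1) :
    ∃ v' ∈ S, (X ^ (2 * k + 2)) v' = 0 ∧ ∀ j, ph f X j v' = if j + 2 ≤ k then 0 else ph f X j v := by
  suffices ∀ m, ∃ v' ∈ S, (X ^ (2 * k + 2)) v' = 0 ∧ (∀ j, k < j + 2 → ph f X j v' = ph f X j v) ∧
      ∀ j, k ≤ j + m → j + 2 ≤ k → ph f X j v' = 0 by
    obtain ⟨v', h1, h2, h4, h5⟩ := this k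
    refine ⟨v', h1, h2, fun j => ?_⟩
    split_ifs with hj
    · exact h5 j (by omega) hj
    · exact h4 j (by omega)
  intro m
  induction m with
  | zero => exact ⟨v, hvS, hv, fun j _ => rfl, fun j hj hj' => by omega⟩
  | succ m ih =>
    obtain ⟨u, huS, hu0, huh, huj⟩ := ih
    set j := k - (m + 1) with hj
    by_cases hjk : j + 2 ≤ k ∧ m + 1 ≤ k
    · have hut : D f X u u (2 * k + 1) 0 = 1 := by
        rw [← D_top h hu0 u k (k + 1) (by omega)]
        show ph f X k u = 1
        rw [huh k (by omega), hvt]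
      set e := 2 * k - 1 - 2 * j with he
      set z := ph f X j u with hz
      have hmem : ∀ i, (X ^ i) u ∈ S := fun i => by
        induction i with
        | zero => exact huS
        | succ i ih => rw [pow_succ', Module.End.mul_apply]; exact hS _ ih
      have hex : ∀ x, ph f X x (u + z • (X ^ e) u) =
          ph f X x u + z ^ 2 * ph f X (x + e) u + z * D f X u u (x + 1) (x + 1 + e) := fun x => by
        rw [ph_add h, ph_smul, ph_pow, D_smul_right, D_pow_right]
      refine ⟨u + z • (X ^ e) u, add_mem huS (Submodule.smul_mem _ _ (hmem e)), ?_, fun x hx => ?_, fun x hx hx2 => ?_⟩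
      · rw [map_add, map_smul, hu0, pow_pow_apply, pow_ge_zero hu0 (by omega), smul_zero, add_zero]
      · rw [hex, huh x hx, ph_eq_zero h hu0 (show 2 * k + 2 ≤ 2 * (x + e) + 1 by omega),
          D_zero h hu0 u _ _ (by omega), mul_zero, mul_zero, add_zero, add_zero]
      · rw [hex, ph_eq_zero h hu0 (show 2 * k + 2 ≤ 2 * (x + e) + 1 by omega), mul_zero, add_zero]
        rcases Nat.lt_or_ge j x with hlt | hge
        · rw [D_zero h hu0 u _ _ (by omega), mul_zero, add_zero, huj x (by omega) hx2]
        · obtain rfl : x = j := by omega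
          rw [D_top h hu0 u _ _ (by omega), hut, mul_one, hz, CharTwo.add_self_eq_zero]
    · exact ⟨u, huS, hu0, huh, fun x hx hx2 => huj x (by omega) hx2⟩

end H49.Unip2
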