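import Cfsg.Agent.H49.Unip2Dec

/-!
Rewriting a decomposition into a canonical one.
-/

set_option autoImplicit false
set_option linter.unusedSectionVars false

namespace H49.Unip2

open Submodule

/-- First measure: cyclic blocks. -/
def Blk.m1 : Blk → ℕ
  | .cy _ _ => 1
  | .pr _ _ => 0

/-- Second measure: pairs with a bit. -/
def Blk.m2 : Blk → ℕ
  | .pr _ true => 1
  | _ => 0

/-- Third measure: sizes of cyclic blocks with a bit. -/
def Blk.m3 : Blk → ℕ
  | .cy k true => k + 1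
  | _ => 0

/-- The measure of a list of types. -/
def meas (M : Multiset Blk) : ℕ ×ₗ (ℕ ×ₗ ℕ) :=
  toLex ((M.map Blk.m1).sum, toLex ((M.map Blk.m2).sum, (M.map Blk.m3).sum))

theorem meas_add_lt {P P' : Multiset Blk} (R : Multiset Blk) (h : meas P' < meas P) :
    meas (P' + R) < meas (P + R) := by
  simp only [meas, Prod.Lex.toLex_lt_toLex, Prod.Lex.toLex_le_toLex, Multiset.map_add, Multiset.sum_add] at h ⊢
  omega

/-- No further rewriting applies; with `o` bits are allowed on the smallest blocks. -/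
structure Canon (o : Bool) (M : Multiset Blk) : Prop where
  two : ∀ k, M.count (.cy k true) + M.count (.cy k false) ≤ 2
  cbit : ∀ k, M.count (.cy k true) ≤ 1
  pbit : ∀ n, M.count (.pr n true) ≤ 1
  padj : ∀ n, Blk.pr n true ∈ M → ∀ k ε, (2 * k + 2 = n ∨ n = 2 * k) → Blk.cy k ε ∉ M
  cadj : ∀ k, Blk.cy (k + 1) true ∈ M → ∀ ε, Blk.cy k ε ∉ M
  cok : o = false → ∀ k, Blk.cy k true ∈ M → 1 ≤ k
  pev : ∀ n, Blk.pr n true ∈ M → Even n
  pok : o = false → ∀ n, Blk.pr n true ∈ M → 2 ≤ n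

variable {F : Type*} [Field F] [CharP F 2] {V : Type*} [AddCommGroup V] [Module F V] [FiniteDimensional F V]
  {f : LinearMap.BilinForm F V} {X : Module.End F V} {dl : F}

theorem imgM_zero_eq {M : Multiset Blk} (h : imgM M 0 = 0) : M = 0 := by
  induction M using Multiset.induction with
  | empty => rfl
  | cons B M _ =>
    exfalso
    simp only [imgM, Multiset.map_cons, Multiset.sum_cons] at h
    have : 0 < B.img 0 := by cases B <;> simp [Blk.img, Blk.cnt]
    omega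

theorem imgM_cons (B : Blk) (M : Multiset Blk) (m : ℕ) : imgM (B ::ₘ M) m = B.img m + imgM M m := by
  simp [imgM]

theorem exists_mem_img {M : Multiset Blk} {m : ℕ} (h : imgM M m ≠ 0) :
    ∃ B R, M = B ::ₘ R ∧ m ≤ B.top := by
  obtain ⟨B, hB, hne⟩ : ∃ B ∈ M, B.img m ≠ 0 := by
    by_contra hh
    push Not at hh
    refine h (Multiset.sum_eq_zero fun x hx => ?_)
    obtain ⟨B, hB, rfl⟩ := Multiset.mem_map.1 hx
    exact hh B hB
  obtain ⟨R, hR⟩ := Multiset.exists_cons_of_mem hB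
  exact ⟨B, R, hR, by by_contra hlt; exact hne (by rw [Blk.img, show B.top + 1 - m = 0 by omega, mul_zero])⟩

theorem single_cy {M : Multiset Blk} {k : ℕ} (h0 : imgM M 0 = 2 * k + 2) (h1 : imgM M (2 * k + 1) ≠ 0) :
    ∃ ε, M = {Blk.cy k ε} := by
  obtain ⟨B, R, rfl, hB⟩ := exists_mem_img h1
  simp only [imgM_cons] at h0
  cases B with
  | cy k' ε =>
    simp only [Blk.img, Blk.cnt, Blk.top] at h0 hB
    obtain rfl : k' = k := by omega
    exact ⟨ε, by rw [imgM_zero_eq (M := R) (by omega)]; rfl⟩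
  | pr n ε =>
    simp only [Blk.img, Blk.cnt, Blk.top] at h0 hB
    omega

theorem single_pr {M : Multiset Blk} {n : ℕ} (hn : Even n) (h0 : imgM M 0 = 2 * (n + 1)) (h1 : imgM M n ≠ 0)
    (h2 : imgM M (n + 1) = 0) : ∃ ε, M = {Blk.pr n ε} := by
  obtain ⟨B, R, rfl, hB⟩ := exists_mem_img h1
  simp only [imgM_cons] at h0 h2
  obtain ⟨r, rfl⟩ := hn
  cases B with
  | cy k ε =>
    simp only [Blk.img, Blk.cnt, Blk.top] at h2 hB
    omega
  | pr n' ε =>
    simp only [Blk.img, Blk.cnt, Blk.top] at h0 h2 hB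
    obtain rfl : n' = r + r := by omega
    exact ⟨ε, by rw [imgM_zero_eq (M := R) (by omega)]; rfl⟩

variable (h : UF f X)

include h

theorem two_parts {W : Submodule F V} {a b : Blk} (hW : Dec (IsBlk dl f X) f W (a ::ₘ {b})) :
    ∃ Sa Sb, IsBlk dl f X a Sa ∧ IsBlk dl f X b Sb ∧ Sa ≤ W ∧ Sb ≤ W ∧
      ∀ x ∈ Sa, ∀ y ∈ Sb, ∀ i l, D f X x y i l = 0 := by
  obtain ⟨Sa, W', hA, hW', ho, rfl⟩ := hW.extract h a _ rfl
  obtain ⟨Sb, W'', hB, -, -, rfl⟩ := hW'.extract h b 0 rfl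
  refine ⟨Sa, Sb, hA, hB, le_sup_left, le_sup_left.trans le_sup_right, fun x hx y hy i l => ?_⟩
  have hp : ∀ {U : Submodule F V}, (∀ x ∈ U, X x ∈ U) → ∀ z ∈ U, ∀ i, (X ^ i) z ∈ U := by
    intro U hU z hz i
    induction i with
    | zero => exact hz
    | succ i ih => rw [pow_succ', Module.End.mul_apply]; exact hU _ ih
  exact ho _ (hp ((hA.hasGen h).inv h) x hx i) _ (mem_sup_left (hp ((hB.hasGen h).inv h) y hy l))

variable (hd : Scal dl) {K : ℕ} (hK : ∀ x, (X ^ K) x = 0)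

include hd hK

theorem three_cy_blk {W : Submodule F V} {k : ℕ} {a b c : Bool}
    (hW : Dec (IsBlk dl f X) f W (Blk.cy k a ::ₘ Blk.cy k b ::ₘ {Blk.cy k c})) :
    ∃ S ≤ W, IsBlk dl f X (Blk.pr (2 * k + 1) false) S := by
  obtain ⟨S₁, W', hS₁, hW', ho, hsup⟩ := hW.extract h _ _ rfl
  obtain ⟨S₂, S₃, hS₂, hS₃, h2W, h3W, h23⟩ := two_parts h hW'
  have i1 := (hS₁.hasGen h).inv h
  have i2 := (hW'.facts h fun hB => hB.hasGen h).1
  obtain ⟨-, v₁, hv₁, rfl⟩ := hS₁
  obtain ⟨-, v₂, hv₂, rfl⟩ := hS₂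
  obtain ⟨-, v₃, hv₃, rfl⟩ := hS₃
  have m1 : v₁ ∈ Sp X (2 * k + 1) ![v₁] := gen_mem (g := ![v₁]) 0
  have m2 : v₂ ∈ Sp X (2 * k + 1) ![v₂] := gen_mem (g := ![v₂]) 0
  have m3 : v₃ ∈ Sp X (2 * k + 1) ![v₃] := gen_mem (g := ![v₃]) 0
  have hp : ∀ {U : Submodule F V}, (∀ x ∈ U, X x ∈ U) → ∀ z ∈ U, ∀ i, (X ^ i) z ∈ U := by
    intro U hU z hz i
    induction i with
    | zero => exact hz
    | succ i ih => rw [pow_succ', Module.End.mul_apply]; exact hU _ ih
  have d12 : ∀ i l, D f X v₁ v₂ i l = 0 := fun i l => ho _ (hp i1 _ m1 i) _ (hp i2 _ (h2W m2) l)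
  have d13 : ∀ i l, D f X v₁ v₃ i l = 0 := fun i l => ho _ (hp i1 _ m1 i) _ (hp i2 _ (h3W m3) l)
  have d23 := h23 _ m2 _ m3
  have e : ∀ {v : V} {ε : Bool}, RV dl f X k ε v → ph f X k v = 1 := fun hv => by rw [hv.val, tV, if_pos rfl]
  have top2 : D f X v₂ v₂ (2 * k + 1) 0 = 1 := by
    rw [← D_top h hv₂.kill v₂ k (k + 1) (by omega)]; exact e hv₂
  have hWi := (hW.facts h fun hB => hB.hasGen h).1
  have w1 : v₁ ∈ W := hsup ▸ mem_sup_left m1
  have w2 : v₂ ∈ W := hsup ▸ mem_sup_right (h2W m2)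
  have w3 : v₃ ∈ W := hsup ▸ mem_sup_right (h3W m3)
  exact
    (pr_zero h hWi (add_mem w1 w2) (add_mem w2 w3)
      (by rw [map_add, hv₁.kill, hv₂.kill, add_zero]) (by rw [map_add, hv₂.kill, hv₃.kill, add_zero])
      (by rw [D_add_left, D_add_right, D_add_right, d12, d13, d23, top2]; simp)
      (fun x hx => by
        obtain rfl : x = k := by omega
        rw [ph_add h, ph_add h, d12, d23, e hv₁, e hv₂, e hv₃, CharTwo.add_self_eq_zero, add_zero]
        exact ⟨rfl, rfl⟩)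
      fun x hx => by omega)

theorem two_cy_blk {W : Submodule F V} {k : ℕ} (hW : Dec (IsBlk dl f X) f W (Blk.cy k true ::ₘ {Blk.cy k true})) :
    ∃ S ≤ W, IsBlk dl f X (Blk.cy k false) S := by
  obtain ⟨S₁, S₂, hS₁, hS₂, h1W, h2W, h12⟩ := two_parts h hW
  obtain ⟨hk, v, hv, rfl⟩ := hS₁
  obtain ⟨-, z, hz, rfl⟩ := hS₂
  obtain ⟨j, rfl⟩ : ∃ j, k = j + 1 := ⟨k - 1, by have := hk rfl; omega⟩
  have mv := gen_mem (X := X) (n := 2 * (j + 1) + 1) (g := ![v]) 0
  have mz := gen_mem (X := X) (n := 2 * (j + 1) + 1) (g := ![z]) 0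
  have hd0 := h12 _ mv _ mz
  obtain ⟨b, hb⟩ := hd.sqrt dl
  have hWi := (hW.facts h fun hB => hB.hasGen h).1
  have hex : ∀ x, ph f X x (v + b • (X ^ 1) z) = ph f X x v + dl * ph f X (x + 1) z := fun x => by
    rw [ph_add h, ph_smul, ph_pow, D_smul_right, D_pow_right, show D f X v z (x + 1) (x + 1 + 1) = 0 from hd0 _ _,
      mul_zero, add_zero, sq, hb]
  exact
    (cy_of_top h hWi hd (v := v + b • (X ^ 1) z)
      (add_mem (h1W mv) (W.smul_mem _ (by rw [pow_one]; exact hWi _ (h2W mz))))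
      (by rw [map_add, map_smul, hv.kill, pow_pow_apply, pow_ge_zero hz.kill (by omega), smul_zero, add_zero])
      false (by simp)
      (by rw [hex, hv.val, hz.val]; simp [tV, show ¬ (j + 1 + 1 = j) by omega]) fun x hx => by
        obtain rfl : x = j := by omega
        rw [hex, hv.val, hz.val]; simp [tV, CharTwo.add_self_eq_zero])

theorem two_pr_blk {W : Submodule F V} {n : ℕ} (hW : Dec (IsBlk dl f X) f W (Blk.pr n true ::ₘ {Blk.pr n true})) :
    ∃ S ≤ W, IsBlk dl f X (Blk.pr n false) S := by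
  obtain ⟨S₁, S₂, hS₁, hS₂, h1W, h2W, h12⟩ := two_parts h hW
  obtain ⟨hn, v, w, hr, rfl⟩ := hS₁
  obtain ⟨-, v', w', hr', rfl⟩ := hS₂
  obtain ⟨⟨r, rfl⟩, hn2⟩ := hn rfl
  have mv := gen_mem (X := X) (n := r + r) (g := ![v, w]) 0
  have mw := gen_mem (X := X) (n := r + r) (g := ![v, w]) 1
  have mv' := gen_mem (X := X) (n := r + r) (g := ![v', w']) 0
  have hWi := (hW.facts h fun hB => hB.hasGen h).1
  exact
    (pr_zero h hWi (v := v + v') (w := w) (add_mem (h1W mv) (h2W mv')) (h1W mw)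
      (by rw [map_add, hr.killv, hr'.killv, add_zero]) hr.killw
      (by rw [D_add_left, hr.pair, if_pos rfl, D_swap h v' w, show D f X w v' 0 (r + r) = 0 from h12 _ mw _ mv' _ _,
            add_zero]; exact one_ne_zero)
      (fun x hx => by omega)
      fun x hx => by
        rw [ph_add h, show D f X v v' (x + 1) (x + 1) = 0 from h12 _ mv _ mv' _ _, hr.valv, hr'.valv,
          CharTwo.add_self_eq_zero, add_zero])

theorem pr_cy_blk {W : Submodule F V} {n k : ℕ} {a : Bool} (hnk : 2 * k + 2 = n ∨ n = 2 * k)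
    (hW : Dec (IsBlk dl f X) f W (Blk.pr n true ::ₘ {Blk.cy k a})) :
    ∃ S ≤ W, IsBlk dl f X (Blk.pr n false) S := by
  obtain ⟨S₁, S₂, hS₁, hS₂, h1W, h2W, h12⟩ := two_parts h hW
  obtain ⟨hn, v, w, hr, rfl⟩ := hS₁
  obtain ⟨-, z, hz, rfl⟩ := hS₂
  have hn2 := (hn rfl).2
  have mv := gen_mem (X := X) (n := n) (g := ![v, w]) 0
  have mw := gen_mem (X := X) (n := n) (g := ![v, w]) 1
  have mz := gen_mem (X := X) (n := 2 * k + 1) (g := ![z]) 0
  have hWi := (hW.facts h fun hB => hB.hasGen h).1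
  -- the shift making the top of `z` meet the middle of `v`
  obtain ⟨e, he⟩ : ∃ e, e = if n = 2 * k then 1 else 0 := ⟨_, rfl⟩
  have hmem : (X ^ e) z ∈ W := by
    rcases (show e = 0 ∨ e = 1 by split_ifs at he <;> omega) with rfl | rfl
    · exact h2W mz
    · rw [pow_one]; exact hWi _ (h2W mz)
  exact
    (pr_zero h hWi (v := v + (X ^ e) z) (w := w) (add_mem (h1W mv) hmem) (h1W mw)
      (by rw [map_add, hr.killv, pow_pow_apply, pow_ge_zero hz.kill (by split_ifs at he <;> omega), add_zero])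
      hr.killw
      (by rw [D_add_left, D_pow_left, hr.pair, if_pos rfl, D_swap h z w,
            show D f X w z 0 (n + e) = 0 from h12 _ mw _ mz _ _, add_zero]; exact one_ne_zero)
      (fun x hx => by obtain ⟨r, hr'⟩ := (hn rfl).1; omega)
      fun x hx => by
        rw [ph_add h, ph_pow, D_pow_right, show D f X v z (x + 1) (x + 1 + e) = 0 from h12 _ mv _ mz _ _, hr.valv,
          hz.val, tW, if_pos ⟨rfl, hx⟩, tV, if_pos (by split_ifs at he <;> omega), CharTwo.add_self_eq_zero,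
          add_zero])

theorem cy_cy_blk {W : Submodule F V} {k : ℕ} {a : Bool} (hW : Dec (IsBlk dl f X) f W (Blk.cy (k + 1) true ::ₘ {Blk.cy k a})) :
    ∃ S ≤ W, IsBlk dl f X (Blk.cy (k + 1) false) S := by
  obtain ⟨S₁, S₂, hS₁, hS₂, h1W, h2W, h12⟩ := two_parts h hW
  obtain ⟨-, v, hv, rfl⟩ := hS₁
  obtain ⟨-, z, hz, rfl⟩ := hS₂
  have mv := gen_mem (X := X) (n := 2 * (k + 1) + 1) (g := ![v]) 0
  have mz := gen_mem (X := X) (n := 2 * k + 1) (g := ![z]) 0
  obtain ⟨b, hb⟩ := hd.sqrt dl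
  have hWi := (hW.facts h fun hB => hB.hasGen h).1
  have hex : ∀ x, ph f X x (v + b • z) = ph f X x v + dl * ph f X x z := fun x => by
    rw [ph_add h, ph_smul, D_smul_right, show D f X v z (x + 1) (x + 1) = 0 from h12 _ mv _ mz _ _, mul_zero,
      add_zero, sq, hb]
  exact
    (cy_of_top h hWi hd (v := v + b • z) (add_mem (h1W mv) (W.smul_mem _ (h2W mz)))
      (by rw [map_add, map_smul, hv.kill, pow_ge_zero hz.kill (by omega), smul_zero, add_zero])
      false (by simp)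
      (by rw [hex, hv.val, hz.val]; simp [tV, show ¬ (k + 1 + 1 = k) by omega]) fun x hx => by
        obtain rfl : x = k := by omega
        rw [hex, hv.val, hz.val]; simp [tV, CharTwo.add_self_eq_zero])

omit hd hK

section Fin

variable {P : Blk → Submodule F V → Prop} (hP : Kind f X P)

include hP

theorem three_cy {W : Submodule F V} {k : ℕ} {a b c : Bool}
    (hW : Dec P f W (Blk.cy k a ::ₘ Blk.cy k b ::ₘ {Blk.cy k c})) (hB : ∃ S ≤ W, P (Blk.pr (2 * k + 1) false) S) :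
    ∃ P', Dec P f W P' ∧ meas P' < meas (Blk.cy k a ::ₘ Blk.cy k b ::ₘ {Blk.cy k c}) := by
  obtain ⟨M, hM, himg⟩ := replace_block h hP hW hB
  obtain ⟨ε, rfl⟩ := single_cy (M := M) (k := k)
    (by have := himg 0; simp [imgM, Blk.img, Blk.cnt, Blk.top] at this ⊢; omega)
    (by have := himg (2 * k + 1); simp [imgM, Blk.img, Blk.cnt, Blk.top] at this ⊢; omega)
  exact ⟨_, hM, by simp [meas, Prod.Lex.toLex_lt_toLex, Blk.m1]⟩

theorem two_cy {W : Submodule F V} {k : ℕ} (hW : Dec P f W (Blk.cy k true ::ₘ {Blk.cy k true}))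
    (hB : ∃ S ≤ W, P (Blk.cy k false) S) :
    ∃ P', Dec P f W P' ∧ meas P' < meas (Blk.cy k true ::ₘ {Blk.cy k true}) := by
  obtain ⟨M, hM, himg⟩ := replace_block h hP hW hB
  obtain ⟨ε, rfl⟩ := single_cy (M := M) (k := k)
    (by have := himg 0; simp [imgM, Blk.img, Blk.cnt, Blk.top] at this ⊢; omega)
    (by have := himg (2 * k + 1); simp [imgM, Blk.img, Blk.cnt, Blk.top] at this ⊢; omega)
  exact ⟨_, hM, by cases ε <;> simp [meas, Prod.Lex.toLex_lt_toLex, Blk.m1, Blk.m2, Blk.m3]⟩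

theorem two_pr {W : Submodule F V} {n : ℕ} (hn : Even n) (hW : Dec P f W (Blk.pr n true ::ₘ {Blk.pr n true}))
    (hB : ∃ S ≤ W, P (Blk.pr n false) S) :
    ∃ P', Dec P f W P' ∧ meas P' < meas (Blk.pr n true ::ₘ {Blk.pr n true}) := by
  obtain ⟨M, hM, himg⟩ := replace_block h hP hW hB
  obtain ⟨ε, rfl⟩ := single_pr (M := M) hn
    (by have := himg 0; simp [imgM, Blk.img, Blk.cnt, Blk.top] at this ⊢; omega)
    (by have := himg n; simp [imgM, Blk.img, Blk.cnt, Blk.top] at this ⊢; omega)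
    (by have := himg (n + 1); simp [imgM, Blk.img, Blk.cnt, Blk.top] at this ⊢; omega)
  exact ⟨_, hM, by cases ε <;> simp [meas, Prod.Lex.toLex_lt_toLex, Blk.m1, Blk.m2]⟩

theorem pr_cy {W : Submodule F V} {n k : ℕ} {a : Bool} (hnk : 2 * k + 2 = n ∨ n = 2 * k)
    (hW : Dec P f W (Blk.pr n true ::ₘ {Blk.cy k a})) (hB : ∃ S ≤ W, P (Blk.pr n false) S) :
    ∃ P', Dec P f W P' ∧ meas P' < meas (Blk.pr n true ::ₘ {Blk.cy k a}) := by
  obtain ⟨M, hM, himg⟩ := replace_block h hP hW hB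
  obtain ⟨ε, rfl⟩ := single_cy (M := M) (k := k)
    (by have := himg 0; simp [imgM, Blk.img, Blk.cnt, Blk.top] at this ⊢; omega)
    (by have := himg (2 * k + 1); simp [imgM, Blk.img, Blk.cnt, Blk.top] at this ⊢; omega)
  exact ⟨_, hM, by cases ε <;> cases a <;> simp [meas, Prod.Lex.toLex_lt_toLex, Blk.m1, Blk.m2]⟩

theorem cy_cy {W : Submodule F V} {k : ℕ} {a : Bool} (hW : Dec P f W (Blk.cy (k + 1) true ::ₘ {Blk.cy k a}))
    (hB : ∃ S ≤ W, P (Blk.cy (k + 1) false) S) :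
    ∃ P', Dec P f W P' ∧ meas P' < meas (Blk.cy (k + 1) true ::ₘ {Blk.cy k a}) := by
  obtain ⟨M, hM, himg⟩ := replace_block h hP hW hB
  obtain ⟨ε, rfl⟩ := single_cy (M := M) (k := k)
    (by have := himg 0; simp [imgM, Blk.img, Blk.cnt, Blk.top] at this ⊢; omega)
    (by have := himg (2 * k + 1); simp [imgM, Blk.img, Blk.cnt, Blk.top] at this ⊢; omega)
  exact ⟨_, hM, by cases ε <;> cases a <;> simp [meas, Prod.Lex.toLex_lt_toLex, Blk.m1, Blk.m2, Blk.m3]⟩

/-- A list of types is canonical once the five rewritings are available. -/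
theorem exists_canon_of (o : Bool)
    (hok : ∀ {W M}, Dec P f W M → (o = false → ∀ k, Blk.cy k true ∈ M → 1 ≤ k) ∧
      (∀ n, Blk.pr n true ∈ M → Even n) ∧ (o = false → ∀ n, Blk.pr n true ∈ M → 2 ≤ n))
    (b1 : ∀ W k a b c, Dec P f W (Blk.cy k a ::ₘ Blk.cy k b ::ₘ {Blk.cy k c}) →
      ∃ S ≤ W, P (Blk.pr (2 * k + 1) false) S)
    (b2 : ∀ W k, Dec P f W (Blk.cy k true ::ₘ {Blk.cy k true}) → ∃ S ≤ W, P (Blk.cy k false) S)
    (b3 : ∀ W n, Dec P f W (Blk.pr n true ::ₘ {Blk.pr n true}) → ∃ S ≤ W, P (Blk.pr n false) S)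
    (b4 : ∀ W n k a, (2 * k + 2 = n ∨ n = 2 * k) → Dec P f W (Blk.pr n true ::ₘ {Blk.cy k a}) →
      ∃ S ≤ W, P (Blk.pr n false) S)
    (b5 : ∀ W k a, Dec P f W (Blk.cy (k + 1) true ::ₘ {Blk.cy k a}) → ∃ S ≤ W, P (Blk.cy (k + 1) false) S)
    {W : Submodule F V} {M : Multiset Blk} (hW : Dec P f W M) :
    ∃ M', Dec P f W M' ∧ Canon o M' := by
  classical
  induction hm : meas M using WellFoundedLT.induction generalizing M with
  | _ m ih =>
  subst hm
  have step : ∀ Ps, Ps ≤ M → (∀ W₀, Dec P f W₀ Ps → ∃ P', Dec P f W₀ P' ∧ meas P' < meas Ps) →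
      ∃ M', Dec P f W M' ∧ Canon o M' := by
    intro Ps hPM hPs
    obtain ⟨R, rfl⟩ := Multiset.le_iff_exists_add.1 hPM
    obtain ⟨W₁, W₂, h1, h2, ho, rfl⟩ := Dec.extract_add h Ps R hW
    obtain ⟨P', hP', hlt⟩ := hPs W₁ h1
    exact ih _ (meas_add_lt R hlt) (Dec.union h hP' h2 ho) rfl
  by_cases c1 : ∃ k, 3 ≤ M.count (.cy k true) + M.count (.cy k false)
  · obtain ⟨k, hk⟩ := c1
    have ht := Nat.lt_or_ge (M.count (.cy k true)) 3
    obtain ⟨a, b, c, hle⟩ : ∃ a b c, Blk.cy k a ::ₘ Blk.cy k b ::ₘ {Blk.cy k c} ≤ M := by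
      rcases Nat.lt_or_ge (M.count (.cy k true)) 1 with h0 | h0
      · refine ⟨false, false, false, Multiset.le_iff_count.2 fun B => ?_⟩
        simp only [Multiset.count_cons, Multiset.count_singleton]
        split_ifs with h1 <;> simp_all
      rcases Nat.lt_or_ge (M.count (.cy k true)) 2 with h0' | h0'
      · refine ⟨true, false, false, Multiset.le_iff_count.2 fun B => ?_⟩
        simp only [Multiset.count_cons, Multiset.count_singleton]
        split_ifs with h1 h2 <;> simp_all <;> omega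
      rcases ht with h0'' | h0''
      · refine ⟨true, true, false, Multiset.le_iff_count.2 fun B => ?_⟩
        simp only [Multiset.count_cons, Multiset.count_singleton]
        split_ifs with h1 h2 <;> simp_all <;> omega
      · refine ⟨true, true, true, Multiset.le_iff_count.2 fun B => ?_⟩
        simp only [Multiset.count_cons, Multiset.count_singleton]
        split_ifs with h1 <;> simp_all
    exact step _ hle fun W₀ h0 => three_cy h hP h0 (b1 _ _ _ _ _ h0)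
  push Not at c1
  have hpair : ∀ B, 2 ≤ M.count B → B ::ₘ {B} ≤ M := fun B hB => Multiset.le_iff_count.2 fun C => by
    simp only [Multiset.count_cons, Multiset.count_singleton]
    split_ifs with h1 <;> simp_all
  have hmix : ∀ B C, B ≠ C → B ∈ M → C ∈ M → B ::ₘ {C} ≤ M := fun B C hne hB hC =>
    (Multiset.le_iff_subset (by simp [hne])).2 fun x hx => by
      rcases Multiset.mem_cons.1 hx with rfl | hx
      · exact hB
      · rw [Multiset.mem_singleton.1 hx]; exact hC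
  by_cases c2 : ∃ k, 2 ≤ M.count (.cy k true)
  · obtain ⟨k, hk⟩ := c2
    exact step _ (hpair _ hk) fun W₀ h0 => two_cy h hP h0 (b2 _ _ h0)
  push Not at c2
  by_cases c3 : ∃ n, 2 ≤ M.count (.pr n true)
  · obtain ⟨n, hn⟩ := c3
    exact step _ (hpair _ hn) fun W₀ h0 => two_pr h hP ((hok h0).2.1 n (Multiset.mem_cons_self _ _)) h0 (b3 _ _ h0)
  push Not at c3
  by_cases c4 : ∃ n k ε, Blk.pr n true ∈ M ∧ (2 * k + 2 = n ∨ n = 2 * k) ∧ Blk.cy k ε ∈ M
  · obtain ⟨n, k, ε, hn, hnk, hk⟩ := c4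
    exact step _ (hmix _ _ (by simp) hn hk) fun W₀ h0 => pr_cy h hP hnk h0 (b4 _ _ _ _ hnk h0)
  by_cases c5 : ∃ k ε, Blk.cy (k + 1) true ∈ M ∧ Blk.cy k ε ∈ M
  · obtain ⟨k, ε, hk, hk'⟩ := c5
    exact step _ (hmix _ _ (by simp) hk hk') fun W₀ h0 => cy_cy h hP h0 (b5 _ _ _ h0)
  exact ⟨M, hW, ⟨fun k => Nat.lt_succ_iff.1 (c1 k), fun k => Nat.lt_succ_iff.1 (c2 k),
    fun n => Nat.lt_succ_iff.1 (c3 n), fun n hn k ε hnk hk => c4 ⟨n, k, ε, hn, hnk, hk⟩,
    fun k hk ε hk' => c5 ⟨k, ε, hk, hk'⟩, (hok hW).1, (hok hW).2.1, (hok hW).2.2⟩⟩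

end Fin

theorem Dec.ok {W : Submodule F V} {M : Multiset Blk} (hW : Dec (IsBlk dl f X) f W M) :
    (∀ k, Blk.cy k true ∈ M → 1 ≤ k) ∧ ∀ n, Blk.pr n true ∈ M → Even n ∧ 2 ≤ n := by
  induction hW with
  | nil => simp
  | @cons B S W M hB _ _ ih =>
    refine ⟨fun k hk => ?_, fun n hn => ?_⟩
    · rcases Multiset.mem_cons.1 hk with rfl | hk
      · exact hB.1 rfl
      · exact ih.1 k hk
    · rcases Multiset.mem_cons.1 hn with rfl | hn
      · exact hB.1 rfl
      · exact ih.2 n hn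

include hd hK

/-- Every sum of blocks has a canonical list of types. -/
theorem exists_canon {W : Submodule F V} {M : Multiset Blk} (hW : Dec (IsBlk dl f X) f W M) :
    ∃ M', Dec (IsBlk dl f X) f W M' ∧ Canon false M' :=
  exists_canon_of h (isBlk_kind h hd hK) false
    (fun hW => ⟨fun _ => (hW.ok h).1, fun n hn => ((hW.ok h).2 n hn).1, fun _ n hn => ((hW.ok h).2 n hn).2⟩)
    (fun _ _ _ _ _ h0 => three_cy_blk h hd hK h0) (fun _ _ h0 => two_cy_blk h hd hK h0)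
    (fun _ _ h0 => two_pr_blk h hd hK h0) (fun _ _ _ _ hnk h0 => pr_cy_blk h hd hK hnk h0)
    (fun _ _ _ h0 => cy_cy_blk h hd hK h0) hW

end H49.Unip2
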