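import Cfsg.Agent.H49.ShortRoot

/-!
Overgroups of the unitary group inside the symplectic group, odd characteristic.
-/

set_option autoImplicit false

namespace H49

open Matrix
open H48 (sf tv)

variable {m : ℕ} {F : Type*} [Field F]

local notation "V" => (Fin m ⊕ Fin m → F)
local notation "Sp" => Matrix.symplecticGroup (Fin m) F

/-- A transvection as a product of four along orthogonal vectors. -/
theorem tv_split {y e : Fin m ⊕ Fin m → F} (hye : sf y e = 0) (d : F) :
    tv e (2 * d) = tv (y + (-(1 : F)) • e) d * tv y (-d) * (tv (y + (-(-1 : F)) • e) d * tv y (-d)) := by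
  refine H48.sp_ext fun w => ?_
  simp only [mul_smul, H48.tv_smul, map_add, LinearMap.add_apply, map_smul, LinearMap.smul_apply, smul_eq_mul,
    H48.sf_self, hye, H48.sf_eq_zero_comm hye, mul_zero, add_zero]
  module

/-- A skew complex structure with non-square square. -/
structure SkewStr (L : (Fin m ⊕ Fin m → F) →ₗ[F] (Fin m ⊕ Fin m → F)) (ν : F) : Prop where
  skew : ∀ x y, sf (L x) y = - sf x (L y)
  sq : ∀ x, L (L x) = ν • x
  nonsq : ¬ IsSquare ν
  two : (2 : F) ≠ 0
  big : 5 ≤ m

/-- The root element of the unitary group attached to an isotropic vector. -/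
def aroot (L : (Fin m ⊕ Fin m → F) →ₗ[F] (Fin m ⊕ Fin m → F)) (ν : F) (v : Fin m ⊕ Fin m → F) (t : F) :
    Matrix.symplecticGroup (Fin m) F :=
  tv (L v) t * tv v (-(ν * t))

namespace SkewStr

variable {L : (Fin m ⊕ Fin m → F) →ₗ[F] (Fin m ⊕ Fin m → F)} {ν : F} (d : SkewStr L ν)
include d

theorem nu_ne : ν ≠ 0 := fun e => d.nonsq ⟨0, by rw [e, mul_zero]⟩

theorem sf_LL (x y : V) : sf (L x) (L y) = -(ν * sf x y) := by
  rw [d.skew, d.sq, map_smul, smul_eq_mul]

theorem sf_L_comm (x y : V) : sf (L x) y = sf (L y) x := by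
  rw [d.skew, H48.sf_swap (L y) x, neg_neg]

theorem aroot_smul {v : V} (hv : sf (L v) v = 0) (t : F) (w : V) :
    aroot L ν v t • w = w + (t * sf w (L v)) • L v - (ν * t * sf w v) • v := by
  simp only [aroot, mul_smul, H48.tv_smul, map_add, LinearMap.add_apply, map_smul, LinearMap.smul_apply,
    smul_eq_mul, H48.sf_eq_zero_comm hv, mul_zero, add_zero]
  module

theorem aroot_comm {v : V} (hv : sf (L v) v = 0) (t : F) (w : V) :
    aroot L ν v t • L w = L (aroot L ν v t • w) := by
  rw [d.aroot_smul hv, d.aroot_smul hv]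
  simp only [map_add, map_sub, map_smul, d.sq, d.sf_LL, d.skew w v, smul_smul]
  module

/-- Adjoining `w` and `L w` to an invariant subspace. -/
theorem not_mem_sup {W : Submodule F V} (hW : ∀ u ∈ W, L u ∈ W) {w : V} (hw : w ∉ W) :
    w ∉ W ⊔ Submodule.span F {L w} := by
  intro h
  obtain ⟨s, hs, u, hu, hsu⟩ := Submodule.mem_sup.1 h
  obtain ⟨t, rfl⟩ := Submodule.mem_span_singleton.1 hu
  have h1 : L w = L s + (t * ν) • w := by
    conv_lhs => rw [← hsu]
    rw [map_add, map_smul, d.sq, smul_smul]
  have h2 : (1 - t * t * ν) • w = s + t • L s := by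
    rw [h1, smul_add, smul_smul, ← mul_assoc] at hsu
    conv_lhs => rw [sub_smul, one_smul]; arg 1; rw [← hsu]
    abel
  have hne : (1 - t * t * ν) ≠ 0 := by
    intro e
    have ht : t ≠ 0 := fun e0 => one_ne_zero (α := F) (by simpa [e0] using e)
    exact d.nonsq ⟨t⁻¹, by field_simp; linear_combination -e⟩
  exact hw ((W.smul_mem_iff hne).1 (h2 ▸ W.add_mem hs (W.smul_mem _ (hW s hs))))

/-- Orthogonal to a pair. -/
theorem perp_L {W : Submodule F V} (hW : ∀ u ∈ W, L u ∈ W) {u : V} (hu : ∀ x ∈ W, sf x u = 0) :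
    ∀ x ∈ W, sf x (L u) = 0 := fun x hx => by
  have := d.skew x u
  rw [hu _ (hW x hx)] at this
  simpa using this.symm

theorem finrank_pair (x y : V) : Module.finrank F (Submodule.span F ({x, y} : Set V)) ≤ 2 := by
  classical
  refine le_trans (finrank_span_le_card _) ?_
  simp only [Set.toFinset_insert, Set.toFinset_singleton]
  exact Finset.card_le_two

/-- The L-invariant plane of a vector. -/
theorem span_invariant (x : V) : ∀ u ∈ Submodule.span F ({x, L x} : Set V), L u ∈ Submodule.span F ({x, L x} : Set V) := by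
  intro u hu
  obtain ⟨a, b, rfl⟩ := Submodule.mem_span_pair.1 hu
  exact Submodule.mem_span_pair.2 ⟨b * ν, a, by rw [map_add, map_smul, map_smul, d.sq, smul_smul]; abel⟩

theorem sup_invariant {W W' : Submodule F V} (h : ∀ u ∈ W, L u ∈ W) (h' : ∀ u ∈ W', L u ∈ W') :
    ∀ u ∈ W ⊔ W', L u ∈ W ⊔ W' := by
  intro u hu
  obtain ⟨a, ha, b, hb, rfl⟩ := Submodule.mem_sup.1 hu
  rw [map_add]
  exact add_mem (Submodule.mem_sup_left (h a ha)) (Submodule.mem_sup_right (h' b hb))

/-- Isotropic vectors with prescribed values. -/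
theorem exists_isotropic [Fintype F] {W : Submodule F V} (hW : ∀ u ∈ W, L u ∈ W)
    (hdim : Module.finrank F W ≤ 4) {w : V} (hw : w ∉ W) (p r : F)
    (hgen : 6 ≤ m ∨ Module.finrank F W < 4 ∨ (∃ x ∈ W, sf x w ≠ 0) ∨ ∃ x ∈ W, ∃ y ∈ W, sf x y ≠ 0) :
    ∃ a, sf (L a) a = 0 ∧ (∀ x ∈ W, sf x a = 0) ∧ sf w a = p ∧ sf (L w) a = r := by
  classical
  obtain ⟨z, hzW, hzw⟩ := H48.exists_sep (d.not_mem_sup hW hw)
  set z₁ := (sf w z)⁻¹ • z
  have h1 : ∀ x ∈ W, sf x z₁ = 0 := fun x hx => by simp [z₁, hzW x (Submodule.mem_sup_left hx)]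
  have h1w : sf w z₁ = 1 := by simp [z₁, hzw]
  have h1L : sf (L w) z₁ = 0 := by
    simp [z₁, hzW _ (Submodule.mem_sup_right (Submodule.mem_span_singleton_self _))]
  set a₀ := p • z₁ + (-(r / ν)) • L z₁
  have h2 : sf w (L z₁) = 0 := by
    have := d.skew w z₁
    rw [h1L] at this
    simpa using this.symm
  have ha₀ : ∀ x ∈ W, sf x a₀ = 0 := fun x hx => by simp [a₀, h1 x hx, d.perp_L hW h1 x hx]
  have ha₀w : sf w a₀ = p := by simp [a₀, h1w, h2]
  have ha₀L : sf (L w) a₀ = r := by
    simp [a₀, h1L, d.sf_LL, h1w]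
    field_simp [d.nu_ne]
  clear_value a₀
  -- the orthogonal of the enlarged subspace is not totally isotropic
  let W' := W ⊔ Submodule.span F ({w, L w} : Set V)
  have hW' : ∀ u ∈ W', L u ∈ W' := d.sup_invariant hW (d.span_invariant w)
  have hW'dim : Module.finrank F W' ≤ 6 :=
    (Submodule.finrank_add_le_finrank_add_finrank _ _).trans (by have := d.finrank_pair w (L w); omega)
  let B : LinearMap.BilinForm F V := H48.sf
  have hB : B.Nondegenerate :=
    ⟨fun x hx => H48.eq_zero_of_sf hx, fun y hy => H48.eq_zero_of_sf fun x => H48.sf_eq_zero_comm (hy x)⟩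
  have hfr : Module.finrank F V = 2 * m := by
    rw [Module.finrank_pi, Fintype.card_sum, Fintype.card_fin, two_mul]
  let U := B.orthogonal W'
  have hU : ∀ u, u ∈ U ↔ ∀ x ∈ W', sf x u = 0 := fun u => Iff.rfl
  have hUL : ∀ u ∈ U, L u ∈ U := fun u hu => (hU _).2 (d.perp_L hW' ((hU u).1 hu))
  by_cases hQa : sf (L a₀) a₀ = 0
  · exact ⟨a₀, hQa, ha₀, ha₀w, ha₀L⟩
  by_cases hex : ∃ u ∈ U, sf (L u) u ≠ 0
  swap
  · -- the form vanishes on the orthogonal subspace
    simp only [not_exists, not_and, not_not] at hex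
    have hperp : ∀ u ∈ U, ∀ x ∈ W', sf x u = 0 := fun u hu => (hU u).1 hu
    by_cases hlin : ∃ u ∈ U, sf (L a₀) u ≠ 0
    · obtain ⟨u, hu, hau⟩ := hlin
      have h2 := d.two
      set c := -(sf (L a₀) a₀) / (2 * sf (L a₀) u) with hc
      have hcu := U.smul_mem c hu
      refine ⟨a₀ + c • u, ?_, fun x hx => ?_, ?_, ?_⟩
      · simp only [map_add, map_smul, LinearMap.add_apply, LinearMap.smul_apply, smul_eq_mul,
          d.sf_L_comm u a₀, hex u hu, mul_zero, add_zero]
        rw [hc]
        field_simp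
        ring
      · rw [map_add, ha₀ x hx, hperp _ hcu x (Submodule.mem_sup_left hx), add_zero]
      · rw [map_add, ha₀w, hperp _ hcu w
          (Submodule.mem_sup_right (Submodule.subset_span (Set.mem_insert _ _))), add_zero]
      · rw [map_add, ha₀L, hperp _ hcu _
          (Submodule.mem_sup_right (Submodule.subset_span (Set.mem_insert_of_mem _ rfl))), add_zero]
    exfalso
    simp only [not_exists, not_and, not_not] at hlin
    have hB0 : ∀ x ∈ U, ∀ y ∈ U, sf (L x) y = 0 := by
      intro x hx y hy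
      have := hex _ (U.add_mem hx hy)
      rw [map_add, map_add, map_add, LinearMap.add_apply, LinearMap.add_apply, hex x hx, hex y hy,
        d.sf_L_comm y x] at this
      have e : (2 : F) * sf (L x) y = 0 := by linear_combination this
      exact (mul_eq_zero.1 e).resolve_left d.two
    have hB00 : ∀ x ∈ U, ∀ y ∈ U, sf x y = 0 := by
      intro x hx y hy
      have := hB0 _ (hUL x hx) y hy
      rw [d.sq, map_smul, LinearMap.smul_apply, smul_eq_mul] at this
      exact (mul_eq_zero.1 this).resolve_left d.nu_ne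
    have hrefl : B.IsRefl := fun x y e => H48.sf_eq_zero_comm e
    have hUU : B.orthogonal U = W' := LinearMap.BilinForm.orthogonal_orthogonal hB hrefl W'
    have haW' : L a₀ ∈ W' := by
      rw [← hUU]
      exact fun u hu => H48.sf_eq_zero_comm (hlin u hu)
    have haW'' : a₀ ∈ W' := by
      have := hW' _ haW'
      rw [d.sq] at this
      exact (W'.smul_mem_iff d.nu_ne).1 this
    have hUW' : U ≤ W' := by
      rw [← hUU]
      exact fun u hu y hy => hB00 y hy u hu
    set P := Submodule.span F ({a₀, L a₀} : Set V)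
    have hPW' : P ≤ W' := by
      rw [Submodule.span_le, Set.insert_subset_iff, Set.singleton_subset_iff]
      exact ⟨haW'', haW'⟩
    have hUa : ∀ u ∈ U, sf u a₀ = 0 ∧ sf u (L a₀) = 0 := fun u hu =>
      ⟨H48.sf_eq_zero_comm (hperp u hu _ haW''), H48.sf_eq_zero_comm (hlin u hu)⟩
    have hQa' : sf a₀ (L a₀) ≠ 0 := fun e => hQa (H48.sf_eq_zero_comm e)
    have hdisj : ∀ u ∈ U, ∀ α β : F, u = α • a₀ + β • L a₀ → α = 0 ∧ β = 0 := by
      intro u hu α β e
      obtain ⟨h1, h2⟩ := hUa u hu
      rw [e, map_add, map_smul, map_smul, LinearMap.add_apply, LinearMap.smul_apply, LinearMap.smul_apply,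
        smul_eq_mul, smul_eq_mul, H48.sf_self, mul_zero, zero_add] at h1
      rw [e, map_add, map_smul, map_smul, LinearMap.add_apply, LinearMap.smul_apply, LinearMap.smul_apply,
        smul_eq_mul, smul_eq_mul, H48.sf_self, mul_zero, add_zero] at h2
      exact ⟨(mul_eq_zero.1 h2).resolve_right hQa', (mul_eq_zero.1 h1).resolve_right hQa⟩
    have hPU : Disjoint U P := by
      rw [Submodule.disjoint_def]
      intro u hu hP
      obtain ⟨α, β, e⟩ := Submodule.mem_span_pair.1 hP
      obtain ⟨hα, hβ⟩ := hdisj u hu α β e.symm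
      rw [← e, hα, hβ, zero_smul, zero_smul, add_zero]
    have hP2 : Module.finrank F P = 2 := by
      have hli : LinearIndependent F ![a₀, L a₀] := LinearIndependent.pair_iff.2 fun α β e =>
        hdisj 0 U.zero_mem α β e.symm
      have := finrank_span_eq_card hli
      rw [Matrix.range_cons, Matrix.range_cons, Matrix.range_empty, Set.union_empty, Set.singleton_union,
        Fintype.card_fin] at this
      exact this
    have hsum := Submodule.finrank_sup_add_finrank_inf_eq U P
    rw [hPU.eq_bot, finrank_bot, add_zero, hP2] at hsum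
    have hle := Submodule.finrank_mono (sup_le hUW' hPW')
    have hUf : Module.finrank F U = 2 * m - Module.finrank F W' := by
      rw [LinearMap.BilinForm.finrank_orthogonal hB, hfr]
    have hsup : Module.finrank F W' ≤ Module.finrank F W + 2 :=
      (Submodule.finrank_add_le_finrank_add_finrank _ _).trans (by have := d.finrank_pair w (L w); omega)
    have := d.big
    have heq : U ⊔ P = W' := Submodule.eq_of_le_of_finrank_eq (sup_le hUW' hPW') (by omega)
    have hWU : ∀ x ∈ W, x ∈ U := by
      intro x hx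
      obtain ⟨u, hu, q, hq, e⟩ := Submodule.mem_sup.1 (heq ▸ Submodule.mem_sup_left hx : x ∈ U ⊔ P)
      obtain ⟨α, β, eq⟩ := Submodule.mem_span_pair.1 hq
      have h1 := ha₀ x hx
      have h2 := d.perp_L hW ha₀ x hx
      obtain ⟨k1, k2⟩ := hUa u hu
      rw [← e, ← eq, map_add, LinearMap.add_apply, k1, map_add, map_smul, map_smul, LinearMap.add_apply,
        LinearMap.smul_apply, LinearMap.smul_apply, smul_eq_mul, smul_eq_mul, H48.sf_self, mul_zero, zero_add,
        zero_add] at h1
      rw [← e, ← eq, map_add, LinearMap.add_apply, k2, map_add, map_smul, map_smul, LinearMap.add_apply,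
        LinearMap.smul_apply, LinearMap.smul_apply, smul_eq_mul, smul_eq_mul, H48.sf_self, mul_zero, zero_add,
        add_zero] at h2
      rw [← e, ← eq, (mul_eq_zero.1 h2).resolve_right hQa', (mul_eq_zero.1 h1).resolve_right hQa, zero_smul,
        zero_smul, add_zero, add_zero]
      exact hu
    rcases hgen with h6 | h4 | ⟨x, hx, hne⟩ | ⟨x, hx, y, hy, hne⟩
    · omega
    · omega
    · exact hne (H48.sf_eq_zero_comm (hperp x (hWU x hx) w
        (Submodule.mem_sup_right (Submodule.subset_span (Set.mem_insert _ _)))))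
    · exact hne (hB00 x (hWU x hx) y (hWU y hy))
  obtain ⟨u, hu, hQu⟩ := hex
  -- complete the square
  open Polynomial in
  obtain ⟨s, t, hst⟩ := FiniteField.exists_root_sum_quadratic
    (f := C (sf (L u) u) * X ^ 2 + C (2 * sf (L a₀) u) * X)
    (g := C (-(ν * sf (L u) u)) * X ^ 2 + C (2 * sf (L a₀) (L u)) * X + C (sf (L a₀) a₀))
    (by
      rw [show C (sf (L u) u) * X ^ 2 + C (2 * sf (L a₀) u) * X =
        C (sf (L u) u) * X ^ 2 + C (2 * sf (L a₀) u) * X + C 0 by simp]
      exact degree_quadratic hQu)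
    (degree_quadratic (neg_ne_zero.2 (mul_ne_zero d.nu_ne hQu)))
    (FiniteField.odd_card_of_char_ne_two (fun h => d.two (by
      haveI := ringChar.of_eq h
      exact CharP.cast_eq_zero F 2)))
  simp only [Polynomial.eval_add, Polynomial.eval_mul, Polynomial.eval_C, Polynomial.eval_pow,
    Polynomial.eval_X] at hst
  have hLu := hUL u hu
  refine ⟨a₀ + s • u + t • L u, ?_, fun x hx => ?_, ?_, ?_⟩
  · have e1 := d.sf_L_comm u a₀
    have e2 := d.sf_L_comm (L u) a₀
    have e3 : sf (L (L u)) (L u) = -(ν * sf (L u) u) := by rw [d.sf_LL]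
    have e4 : sf (L u) (L u) = 0 := H48.sf_self _
    have e5 : sf (L (L u)) u = 0 := by rw [d.sf_L_comm, H48.sf_self]
    simp only [map_add, map_smul, LinearMap.add_apply, LinearMap.smul_apply, smul_eq_mul, e1, e2, e3, e4, e5]
    linear_combination hst
  · have hx' : x ∈ W' := Submodule.mem_sup_left hx
    simp [ha₀ x hx, (hU u).1 hu x hx', (hU _).1 hLu x hx']
  · have hx' : w ∈ W' := Submodule.mem_sup_right (Submodule.subset_span (Set.mem_insert _ _))
    simp [ha₀w, (hU u).1 hu w hx', (hU _).1 hLu w hx']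
  · have hx' : L w ∈ W' := Submodule.mem_sup_right (Submodule.subset_span (Set.mem_insert_of_mem _ rfl))
    simp [ha₀L, (hU u).1 hu _ hx', (hU _).1 hLu _ hx']

/-- Isotropic vectors orthogonal to a small invariant subspace, outside it. -/
theorem exists_isotropic_perp [Fintype F] {W : Submodule F V} (hW : ∀ u ∈ W, L u ∈ W)
    (hdim : Module.finrank F W ≤ 4)
    (hgen : 6 ≤ m ∨ Module.finrank F W < 4 ∨ ∃ x ∈ W, ∃ y ∈ W, sf x y ≠ 0) :
    ∃ a, sf (L a) a = 0 ∧ (∀ x ∈ W, sf x a = 0) ∧ a ∉ W := by
  let B : LinearMap.BilinForm F V := H48.sf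
  have hB : B.Nondegenerate :=
    ⟨fun x hx => H48.eq_zero_of_sf hx, fun y hy => H48.eq_zero_of_sf fun x => H48.sf_eq_zero_comm (hy x)⟩
  obtain ⟨z, hz, hzW⟩ : ∃ z ∈ B.orthogonal W, z ∉ W := by
    by_contra hcon
    simp only [not_exists, not_and, not_not] at hcon
    have := Submodule.finrank_mono (show B.orthogonal W ≤ W from hcon)
    rw [LinearMap.BilinForm.finrank_orthogonal hB, Module.finrank_pi, Fintype.card_sum, Fintype.card_fin] at this
    have := d.big
    omega
  obtain ⟨a, ha, haW, haz, -⟩ := d.exists_isotropic hW hdim hzW 1 0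
    (by rcases hgen with h | h | h; exacts [Or.inl h, Or.inr (Or.inl h), Or.inr (Or.inr (Or.inr h))])
  exact ⟨a, ha, haW, fun h => one_ne_zero (α := F) (by rw [← haz]; exact H48.sf_eq_zero_comm (hz a h))⟩

variable {K : Subgroup (Matrix.symplecticGroup (Fin m) F)}
  (hK : ∀ g : Matrix.symplecticGroup (Fin m) F, (∀ w, g • L w = L (g • w)) → g ∈ K)
include hK

theorem aroot_mem {v : V} (hv : sf (L v) v = 0) (t : F) : aroot L ν v t ∈ K :=
  hK _ (d.aroot_comm hv t)

theorem isotropic_L {v : V} (hv : sf (L v) v = 0) : sf (L (L v)) (L v) = 0 := by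
  rw [d.sf_LL, hv, mul_zero, neg_zero]

/-- A pair of transvection groups off its own plane gives transvection centres. -/
theorem main [Fintype F] {x y e : V} (hP : ∀ c : F, tv y c * tv x (-(ν * c)) ∈ K)
    (he : sf (L e) e = 0) (hx : sf x e = 0) (hxL : sf (L x) e = 0) (hy : sf y e = 0) (hyL : sf (L y) e = 0)
    (hne : y ∉ Submodule.span F ({x, L x} : Set V) ⊔ Submodule.span F ({e, L e} : Set V))
    (hgen : x = 0 ∨ e = x ∨ sf (L x) x ≠ 0 ∨ sf x y ≠ 0 ∨ sf (L x) y ≠ 0) :
    IsCtr K (L e) := by
  set W := Submodule.span F ({x, L x} : Set V) ⊔ Submodule.span F ({e, L e} : Set V) with hWdef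
  have hW : ∀ u ∈ W, L u ∈ W := d.sup_invariant (d.span_invariant x) (d.span_invariant e)
  have hWdim : Module.finrank F W ≤ 4 :=
    (Submodule.finrank_add_le_finrank_add_finrank _ _).trans
      (by have := d.finrank_pair x (L x); have := d.finrank_pair e (L e); omega)
  have hgen' : 6 ≤ m ∨ Module.finrank F W < 4 ∨ (∃ u ∈ W, sf u y ≠ 0) ∨ ∃ u ∈ W, ∃ u' ∈ W, sf u u' ≠ 0 := by
    have hx1 : x ∈ W := Submodule.mem_sup_left (Submodule.subset_span (Set.mem_insert _ _))
    have hx2 : L x ∈ W := hW x hx1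
    have hpair := d.finrank_pair x (L x)
    rcases hgen with rfl | rfl | h | h | h
    · refine Or.inr (Or.inl ?_)
      have : Submodule.span F ({(0 : V), L 0} : Set V) = ⊥ := by simp
      rw [hWdef, this, bot_sup_eq]
      have := d.finrank_pair e (L e)
      omega
    · refine Or.inr (Or.inl ?_)
      rw [hWdef, sup_idem]
      omega
    · exact Or.inr (Or.inr (Or.inr ⟨L x, hx2, x, hx1, h⟩))
    · exact Or.inr (Or.inr (Or.inl ⟨x, hx1, h⟩))
    · exact Or.inr (Or.inr (Or.inl ⟨L x, hx2, h⟩))
  obtain ⟨a, ha, haW, hay, hayL⟩ := d.exists_isotropic hW hWdim hne 0 (-1) hgen'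
  have hax : sf x a = 0 := haW x (Submodule.mem_sup_left (Submodule.subset_span (Set.mem_insert _ _)))
  have haxL : sf (L x) a = 0 :=
    haW _ (Submodule.mem_sup_left (Submodule.subset_span (Set.mem_insert_of_mem _ rfl)))
  have hae : sf e a = 0 := haW e (Submodule.mem_sup_right (Submodule.subset_span (Set.mem_insert _ _)))
  have haeL : sf (L e) a = 0 :=
    haW _ (Submodule.mem_sup_right (Submodule.subset_span (Set.mem_insert_of_mem _ rfl)))
  set b := a + e with hb
  have hbQ : sf (L b) b = 0 := by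
    simp only [hb, map_add, LinearMap.add_apply, ha, he, haeL, d.sf_L_comm a e, add_zero]
  have eA : ∀ w, sf w (L a) = - sf (L w) a := fun w => by rw [d.skew, neg_neg]
  have eB : ∀ w, sf w (L b) = - sf (L w) b := fun w => by rw [d.skew, neg_neg]
  have hbx : sf x b = 0 := by rw [hb, map_add, hax, hx, add_zero]
  have hbxL : sf (L x) b = 0 := by rw [hb, map_add, haxL, hxL, add_zero]
  have hby : sf y b = 0 := by rw [hb, map_add, hay, hy, add_zero]
  have hbyL : sf (L y) b = -1 := by rw [hb, map_add, hayL, hyL, add_zero]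
  have hba : sf (L b) a = 0 := by simp only [hb, map_add, LinearMap.add_apply, ha, haeL, add_zero]
  have hab : sf b a = 0 := by rw [hb, map_add, LinearMap.add_apply, H48.sf_self, hae, add_zero]
  have hh : ∀ t : F, aroot L ν a t • aroot L ν b (-t) • x = x ∧
      (aroot L ν a t * aroot L ν b (-t)) • y = y + (-t) • L e := by
    intro t
    constructor
    · rw [d.aroot_smul hbQ, eB, hbx, hbxL]
      simp only [neg_zero, mul_zero, zero_smul, add_zero, sub_zero]
      rw [d.aroot_smul ha, eA, hax, haxL]
      simp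
    · rw [mul_smul, d.aroot_smul hbQ, eB, hby, hbyL, d.aroot_smul ha]
      simp only [eA, map_add, map_sub, map_smul, LinearMap.add_apply, LinearMap.sub_apply, LinearMap.smul_apply,
        smul_eq_mul, hay, hayL, hab, hba, d.sf_LL, d.sq, neg_neg, mul_zero, neg_zero, sub_zero, add_zero,
        mul_one, zero_smul]
      rw [hb, map_add]
      module
  have hmove : ∀ t c : F, tv (y + (-t) • L e) c * tv y (-c) ∈ K := by
    intro t c
    set h := aroot L ν a t * aroot L ν b (-t)
    have hm : h ∈ K := mul_mem (d.aroot_mem hK ha t) (d.aroot_mem hK hbQ (-t))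
    have h1 := mul_mem (mul_mem (mul_mem hm (hP c)) (inv_mem hm)) (inv_mem (hP c))
    have hxh : h • x = x := by
      have := (hh t).1
      rwa [← mul_smul] at this
    have e1 : h * (tv y c * tv x (-(ν * c))) * h⁻¹ = (h * tv y c * h⁻¹) * (h * tv x (-(ν * c)) * h⁻¹) := by group
    rw [e1, H48.tv_conj, H48.tv_conj, hxh, (hh t).2, _root_.mul_inv_rev, H48.tv_inv y c, mul_assoc,
      mul_inv_cancel_left] at h1
    exact h1
  intro c
  have hye : sf y (L e) = 0 := by
    have := d.skew y e
    rw [hyL] at this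
    simpa using this.symm
  have h2 := d.two
  rw [show c = 2 * (c / 2) from (mul_div_cancel₀ c h2).symm, tv_split hye]
  exact mul_mem (hmove 1 (c / 2)) (hmove (-1) (c / 2))

/-- From a centre to orthogonal isotropic vectors. -/
theorem ctr_step [Fintype F] {z e : V} (hz : IsCtr K z) (he : sf (L e) e = 0) (h1 : sf z e = 0)
    (h2 : sf (L z) e = 0) (hne : z ∉ Submodule.span F ({e, L e} : Set V)) : IsCtr K e := by
  have h3 : IsCtr K (L (L e)) := by
    refine d.main hK (x := 0) (y := z) (fun c => by simpa using hz c) (d.isotropic_L hK he) (by simp) (by simp)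
      ?_ ?_ ?_ (Or.inl rfl)
    · have := d.skew z e
      rw [h2] at this
      simpa using this.symm
    · rw [d.sf_LL, h1, mul_zero, neg_zero]
    · intro hmem
      apply hne
      obtain ⟨u, hu, v, hv, huv⟩ := Submodule.mem_sup.1 hmem
      obtain ⟨a, b, rfl⟩ := Submodule.mem_span_pair.1 hu
      obtain ⟨a', b', rfl⟩ := Submodule.mem_span_pair.1 hv
      refine Submodule.mem_span_pair.2 ⟨b' * ν, a', ?_⟩
      rw [← huv, map_zero, smul_zero, smul_zero, zero_add, zero_add, d.sq, smul_smul, add_comm]
  rw [d.sq] at h3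
  have := h3.smul_vec ν⁻¹
  rwa [smul_smul, inv_mul_cancel₀ d.nu_ne, one_smul] at this

/-- A centre reaches an isotropic vector through an orthogonal one. -/
theorem ctr_via [Fintype F] {z c e : V} (hz : IsCtr K z) (hz0 : z ≠ 0) (hc : sf (L c) c = 0) (hc0 : c ≠ 0)
    (he : sf (L e) e = 0)
    (heW : ∀ u ∈ Submodule.span F ({z, L z} : Set V) ⊔ Submodule.span F ({c, L c} : Set V), sf u e = 0)
    (heN : e ∉ Submodule.span F ({z, L z} : Set V) ⊔ Submodule.span F ({c, L c} : Set V)) : IsCtr K c := by
  set W := Submodule.span F ({z, L z} : Set V) ⊔ Submodule.span F ({c, L c} : Set V)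
  have hW : ∀ u ∈ W, L u ∈ W := d.sup_invariant (d.span_invariant z) (d.span_invariant c)
  have hz1 : z ∈ W := Submodule.mem_sup_left (Submodule.subset_span (Set.mem_insert _ _))
  have hz2 : L z ∈ W := hW z hz1
  have hc1 : c ∈ W := Submodule.mem_sup_right (Submodule.subset_span (Set.mem_insert _ _))
  have hc2 : L c ∈ W := hW c hc1
  have hout : ∀ u ∈ W, u ≠ 0 → u ∉ Submodule.span F ({e, L e} : Set V) := by
    intro u hu hu0 hmem
    obtain ⟨a, b, rfl⟩ := Submodule.mem_span_pair.1 hmem
    have h1 : (a * a - b * b * ν) • e = a • (a • e + b • L e) - b • L (a • e + b • L e) := by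
      rw [map_add, map_smul, map_smul, d.sq]
      module
    have hne : a * a - b * b * ν ≠ 0 := by
      intro e0
      rcases eq_or_ne b 0 with rfl | hb
      · apply hu0
        rw [zero_mul, zero_mul, sub_zero, mul_self_eq_zero] at e0
        rw [e0, zero_smul, zero_smul, add_zero]
      · exact d.nonsq ⟨a / b, by field_simp; linear_combination -e0⟩
    exact heN ((W.smul_mem_iff hne).1 (h1 ▸ W.sub_mem (W.smul_mem _ hu) (W.smul_mem _ (hW _ hu))))
  have h1 := d.ctr_step hK hz he (heW z hz1) (heW _ hz2) (hout z hz1 hz0)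
  refine d.ctr_step hK h1 hc (H48.sf_eq_zero_comm (heW c hc1)) ?_ fun hmem => heN ?_
  · rw [d.skew, H48.sf_eq_zero_comm (heW _ hc2), neg_zero]
  · obtain ⟨a, b, hab⟩ := Submodule.mem_span_pair.1 hmem
    rw [← hab]
    exact W.add_mem (W.smul_mem _ hc1) (W.smul_mem _ hc2)

/-- A centre gives all isotropic vectors. -/
theorem ctr_isotropic [Fintype F] {z : V} (hz : IsCtr K z) (hz0 : z ≠ 0) (c : V) (hc : sf (L c) c = 0) :
    IsCtr K c := by
  by_cases hc0 : c = 0
  · subst hc0
    intro t
    rw [H48.tv_zero_left]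
    exact one_mem _
  set W := Submodule.span F ({z, L z} : Set V) ⊔ Submodule.span F ({c, L c} : Set V)
  have hW : ∀ u ∈ W, L u ∈ W := d.sup_invariant (d.span_invariant z) (d.span_invariant c)
  by_cases hpar : z ∈ Submodule.span F ({c, L c} : Set V)
  · have hWle : W ≤ Submodule.span F ({c, L c} : Set V) := by
      refine sup_le ?_ le_rfl
      rw [Submodule.span_le, Set.insert_subset_iff, Set.singleton_subset_iff]
      exact ⟨hpar, d.span_invariant c z hpar⟩
    obtain ⟨e, he, heW, heN⟩ := d.exists_isotropic_perp hW ((Submodule.finrank_add_le_finrank_add_finrank _ _).trans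
      (by have := d.finrank_pair z (L z); have := d.finrank_pair c (L c); omega))
      (Or.inr (Or.inl (by
        have := Submodule.finrank_mono hWle
        have := d.finrank_pair c (L c)
        omega)))
    exact d.ctr_via hK hz hz0 hc hc0 he heW heN
  by_cases hgen : ∃ x ∈ W, ∃ y ∈ W, sf x y ≠ 0
  swap
  · simp only [not_exists, not_and, not_not] at hgen
    have hz1 : z ∈ W := Submodule.mem_sup_left (Submodule.subset_span (Set.mem_insert _ _))
    have hc1 : c ∈ W := Submodule.mem_sup_right (Submodule.subset_span (Set.mem_insert _ _))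
    exact d.ctr_step hK hz hc (hgen z hz1 c hc1) (hgen _ (hW z hz1) c hc1) hpar
  obtain ⟨e, he, heW, heN⟩ := d.exists_isotropic_perp hW ((Submodule.finrank_add_le_finrank_add_finrank _ _).trans
    (by have := d.finrank_pair z (L z); have := d.finrank_pair c (L c); omega)) (Or.inr (Or.inr hgen))
  exact d.ctr_via hK hz hz0 hc hc0 he heW heN

omit hK in
/-- Every vector is a sum of two non-orthogonal isotropic vectors, up to scalars. -/
theorem exists_split [Fintype F] (v : V) (hv : sf (L v) v ≠ 0) :
    ∃ a, sf (L a) a = 0 ∧ sf (L (v - a)) (v - a) = 0 ∧ sf a (v - a) ≠ 0 := by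
  have hv0 : v ∉ (⊥ : Submodule F V) := fun e => hv (by rw [(Submodule.mem_bot F).1 e]; simp)
  obtain ⟨a, ha, -, hav, haL⟩ := d.exists_isotropic (W := ⊥) (fun u hu => by simp_all) (by simp) hv0
    1 (sf (L v) v / 2) (Or.inr (Or.inl (by simp)))
  refine ⟨a, ha, ?_, ?_⟩
  · rw [map_sub, map_sub, map_sub, LinearMap.sub_apply, LinearMap.sub_apply, ha, d.sf_L_comm a v, haL]
    have := d.two
    field_simp
    ring
  · rw [map_sub, H48.sf_self, sub_zero, H48.sf_swap v a, hav]
    simp

theorem all_ctr [Fintype F] {z : V} (hz : IsCtr K z) (hz0 : z ≠ 0) : K = ⊤ := by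
  refine eq_top_of_ctr K fun v => ?_
  by_cases hv : sf (L v) v = 0
  · exact d.ctr_isotropic hK hz hz0 v hv
  obtain ⟨a, ha, hva, hne⟩ := d.exists_split v hv
  have := (d.ctr_isotropic hK hz hz0 a ha).add_smul_of_ne (d.ctr_isotropic hK hz hz0 _ hva) hne 1
  rwa [one_smul, add_sub_cancel] at this

/-- The overgroups. -/
theorem eq_top_of_moves [Fintype F] {g : Sp} (hg : g ∈ K)
    (hmove : ¬ ((∀ w, g • L w = L (g • w)) ∨ ∀ w, g • L w = - L (g • w))) : K = ⊤ := by
  by_cases hline : ∀ v, sf (L v) v = 0 → g • L v ∈ Submodule.span F ({g • v, L (g • v)} : Set V)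
  swap
  · simp only [not_forall] at hline
    obtain ⟨v, hv, hnot⟩ := hline
    set x := g • v
    set y := g • L v
    have hP : ∀ c : F, tv y c * tv x (-(ν * c)) ∈ K := fun c => by
      have h : g * (tv (L v) c * tv v (-(ν * c))) * g⁻¹ = tv y c * tv x (-(ν * c)) := by
        rw [← H48.tv_conj, ← H48.tv_conj]; group
      rw [← h]
      exact mul_mem (mul_mem hg (d.aroot_mem hK hv c)) (inv_mem hg)
    set W := Submodule.span F ({x, L x} : Set V) ⊔ Submodule.span F ({y, L y} : Set V)
    have hW : ∀ u ∈ W, L u ∈ W := d.sup_invariant (d.span_invariant x) (d.span_invariant y)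
    have hx1 : x ∈ W := Submodule.mem_sup_left (Submodule.subset_span (Set.mem_insert _ _))
    have hy1 : y ∈ W := Submodule.mem_sup_right (Submodule.subset_span (Set.mem_insert _ _))
    have hx0 : L x ≠ 0 := fun e0 => by
      have h0 : ν • x = 0 := by rw [← d.sq, e0, map_zero]
      rw [smul_eq_zero] at h0
      have hv0 : v = 0 := (smul_eq_zero_iff_eq g).1 (h0.resolve_left d.nu_ne)
      apply hnot
      rw [show y = 0 from by show g • L v = 0; rw [hv0, map_zero, smul_zero]]
      exact Submodule.zero_mem _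
    by_cases hiso : sf (L x) x = 0 ∧ sf x y = 0 ∧ sf (L x) y = 0
    · obtain ⟨hxx, hxy, hLxy⟩ := hiso
      refine d.all_ctr hK (d.main hK hP hxx (H48.sf_self x) hxx (H48.sf_eq_zero_comm hxy) ?_ ?_ (Or.inr (Or.inl rfl))) hx0
      · rw [d.sf_L_comm]
        exact hLxy
      · rw [sup_idem]
        exact hnot
    obtain ⟨e, he, heW, heN⟩ := d.exists_isotropic_perp hW ((Submodule.finrank_add_le_finrank_add_finrank _ _).trans
      (by have := d.finrank_pair x (L x); have := d.finrank_pair y (L y); omega)) (Or.inr (Or.inr (by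
        by_contra hcon
        simp only [not_exists, not_and, not_not] at hcon
        exact hiso ⟨hcon _ (hW x hx1) x hx1, hcon x hx1 y hy1, hcon _ (hW x hx1) y hy1⟩)))
    have hctr := d.main hK hP he (heW x hx1) (heW _ (hW x hx1)) (heW y hy1) (heW _ (hW y hy1)) (fun hmem => by
      obtain ⟨u, hu, w, hw, huw⟩ := Submodule.mem_sup.1 hmem
      obtain ⟨a, b, hab⟩ := Submodule.mem_span_pair.1 hw
      have hwW : w ∈ W := by
        rw [show w = y - u by rw [← huw, add_sub_cancel_left]]
        exact W.sub_mem hy1 (Submodule.mem_sup_left hu)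
      have hwne : w ≠ 0 := fun e0 => hnot (by rw [← huw, e0, add_zero]; exact hu)
      have h1 : (a * a - b * b * ν) • e = a • w - b • L w := by
        rw [← hab, map_add, map_smul, map_smul, d.sq]
        module
      have hne : a * a - b * b * ν ≠ 0 := by
        intro e0
        rcases eq_or_ne b 0 with rfl | hb
        · apply hwne
          rw [zero_mul, zero_mul, sub_zero, mul_self_eq_zero] at e0
          rw [← hab, e0, zero_smul, zero_smul, add_zero]
        · exact d.nonsq ⟨a / b, by field_simp; linear_combination -e0⟩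
      exact heN ((W.smul_mem_iff hne).1 (h1 ▸ W.sub_mem (W.smul_mem _ hwW) (W.smul_mem _ (hW _ hwW)))))
      (by
        by_cases h1 : sf (L x) x = 0
        · by_cases h2 : sf x y = 0
          · exact Or.inr (Or.inr (Or.inr (Or.inr fun h3 => hiso ⟨h1, h2, h3⟩)))
          · exact Or.inr (Or.inr (Or.inr (Or.inl h2)))
        · exact Or.inr (Or.inr (Or.inl h1)))
    refine d.all_ctr hK hctr fun e0 => heN ?_
    have : ν • e = 0 := by rw [← d.sq, e0, map_zero]
    rw [(smul_eq_zero.1 this).resolve_left d.nu_ne]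
    exact W.zero_mem
  exfalso
  apply hmove
  -- the conjugate structure fixes every isotropic line
  let A : V →ₗ[F] V := (DistribMulAction.toLinearEquiv F V g⁻¹).toLinearMap ∘ₗ L ∘ₗ
    (DistribMulAction.toLinearEquiv F V g).toLinearMap
  have hA : ∀ v, g • A v = L (g • v) := fun v => smul_inv_smul g _
  have hAA : ∀ v, A (A v) = ν • v := fun v => by
    have : g • A (A v) = g • (ν • v) := by rw [hA, hA, d.sq, smul_comm]
    exact (smul_left_cancel_iff g).1 this
  have hAv : ∀ v, sf (L v) v = 0 → v ≠ 0 → ∃ a b : F, A v = a • v + b • L v := by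
    intro v hv hv0
    obtain ⟨p, q, hpq⟩ := Submodule.mem_span_pair.1 (hline v hv)
    have e : L v = p • v + q • A v := by
      apply (smul_left_cancel_iff g).1
      rw [← hpq, smul_add, smul_comm g p, smul_comm g q, hA]
    have hq : q ≠ 0 := fun e0 => by
      rw [e0, zero_smul, add_zero] at e
      have h := congrArg L e
      rw [d.sq, map_smul, e, smul_smul] at h
      exact d.nonsq ⟨p, smul_left_injective F hv0 h⟩
    refine ⟨-(p / q), q⁻¹, ?_⟩
    rw [e]
    match_scalars <;> field_simp <;> ring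
  choose! af bf hAv using hAv
  -- the coefficients agree on orthogonal independent isotropic vectors
  have hpair : ∀ v w, sf (L v) v = 0 → v ≠ 0 → sf (L w) w = 0 → sf (L v) w = 0 →
      w ∉ Submodule.span F ({v, L v} : Set V) → af v = af w ∧ bf v = bf w := by
    intro v w hv hv0 hw hvw hnot
    have hw0 : w ≠ 0 := fun e => hnot (by rw [e]; exact Submodule.zero_mem _)
    have hsum : sf (L (v + w)) (v + w) = 0 := by
      simp [hv, hw, hvw, d.sf_L_comm w v]
    have hsum0 : v + w ≠ 0 := fun e => hnot (by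
      rw [eq_neg_of_add_eq_zero_right e]; exact Submodule.neg_mem _ (Submodule.subset_span (Set.mem_insert _ _)))
    have e := hAv (v + w) hsum hsum0
    rw [map_add, hAv v hv hv0, hAv w hw hw0, map_add] at e
    set a := af (v + w)
    set b := bf (v + w)
    have e1 : (af w - a) • w + (bf w - b) • L w = (a - af v) • v + (b - bf v) • L v := by
      linear_combination (norm := module) e
    have key : ∀ p q : F, p • w + q • L w ∈ Submodule.span F ({v, L v} : Set V) → p = 0 ∧ q = 0 := by
      intro p q hpq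
      by_contra hne
      have h1 : (p * p - q * q * ν) • w = p • (p • w + q • L w) - q • L (p • w + q • L w) := by
        rw [map_add, map_smul, map_smul, d.sq]
        module
      have hne' : p * p - q * q * ν ≠ 0 := by
        intro e0
        rcases eq_or_ne q 0 with rfl | hq
        · rw [zero_mul, zero_mul, sub_zero, mul_self_eq_zero] at e0
          exact hne ⟨e0, rfl⟩
        · exact d.nonsq ⟨p / q, by field_simp; linear_combination -e0⟩
      exact hnot (((Submodule.span F ({v, L v} : Set V)).smul_mem_iff hne').1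
        (h1 ▸ Submodule.sub_mem _ (Submodule.smul_mem _ _ hpq) (Submodule.smul_mem _ _ (d.span_invariant v _ hpq))))
    obtain ⟨k1, k2⟩ := key (af w - a) (bf w - b) (by
      rw [e1]; exact Submodule.mem_span_pair.2 ⟨_, _, rfl⟩)
    rw [k1, k2, zero_smul, zero_smul, add_zero] at e1
    have key' : ∀ p q : F, p • v + q • L v = 0 → p = 0 ∧ q = 0 := by
      intro p q hpq
      by_contra hne
      have h1 : (p * p - q * q * ν) • v = p • (p • v + q • L v) - q • L (p • v + q • L v) := by
        rw [map_add, map_smul, map_smul, d.sq]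
        module
      rw [hpq, map_zero, smul_zero, smul_zero, sub_zero, smul_eq_zero] at h1
      have h2 := h1.resolve_right hv0
      rcases eq_or_ne q 0 with rfl | hq
      · rw [zero_mul, zero_mul, sub_zero, mul_self_eq_zero] at h2
        exact hne ⟨h2, rfl⟩
      · exact d.nonsq ⟨p / q, by field_simp; linear_combination -h2⟩
    obtain ⟨k3, k4⟩ := key' _ _ e1.symm
    exact ⟨(sub_eq_zero.1 k3).symm.trans (sub_eq_zero.1 k1).symm, (sub_eq_zero.1 k4).symm.trans (sub_eq_zero.1 k2).symm⟩
  obtain ⟨v₀, hv₀, -, hv₀0⟩ := d.exists_isotropic_perp (W := ⊥) (fun u hu => by simp_all) (by simp)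
    (Or.inr (Or.inl (by simp)))
  rw [Submodule.mem_bot] at hv₀0
  have hall : ∀ w, sf (L w) w = 0 → A w = af v₀ • w + bf v₀ • L w := by
    intro w hw
    rcases eq_or_ne w 0 with rfl | hw0
    · simp
    set W := Submodule.span F ({v₀, L v₀} : Set V) ⊔ Submodule.span F ({w, L w} : Set V)
    have hW : ∀ u ∈ W, L u ∈ W := d.sup_invariant (d.span_invariant v₀) (d.span_invariant w)
    by_cases hortho : w ∉ Submodule.span F ({v₀, L v₀} : Set V) ∧ sf (L v₀) w = 0
    · obtain ⟨e1, e2⟩ := hpair v₀ w hv₀ hv₀0 hw hortho.2 hortho.1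
      rw [hAv w hw hw0, e1, e2]
    obtain ⟨u, hu, huW, huN⟩ := d.exists_isotropic_perp hW ((Submodule.finrank_add_le_finrank_add_finrank _ _).trans
      (by have := d.finrank_pair v₀ (L v₀); have := d.finrank_pair w (L w); omega)) (by
        by_cases hin : w ∈ Submodule.span F ({v₀, L v₀} : Set V)
        · refine Or.inr (Or.inl ?_)
          have hle : W ≤ Submodule.span F ({v₀, L v₀} : Set V) := by
            refine sup_le le_rfl ?_
            rw [Submodule.span_le, Set.insert_subset_iff, Set.singleton_subset_iff]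
            exact ⟨hin, d.span_invariant v₀ w hin⟩
          have := Submodule.finrank_mono hle
          have := d.finrank_pair v₀ (L v₀)
          omega
        · exact Or.inr (Or.inr ⟨L v₀, hW _ (Submodule.mem_sup_left (Submodule.subset_span (Set.mem_insert _ _))),
            w, Submodule.mem_sup_right (Submodule.subset_span (Set.mem_insert _ _)), fun e => hortho ⟨hin, e⟩⟩))
    have h1 := hpair v₀ u hv₀ hv₀0 hu
      (huW _ (hW _ (Submodule.mem_sup_left (Submodule.subset_span (Set.mem_insert _ _)))))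
      (fun h => huN (Submodule.mem_sup_left h))
    have h2 := hpair w u hw hw0 hu
      (huW _ (hW _ (Submodule.mem_sup_right (Submodule.subset_span (Set.mem_insert _ _)))))
      (fun h => huN (Submodule.mem_sup_right h))
    rw [hAv w hw hw0, h1.1, h1.2, h2.1, h2.2]
  have hAall : ∀ w, A w = af v₀ • w + bf v₀ • L w := by
    intro w
    by_cases hw : sf (L w) w = 0
    · exact hall w hw
    obtain ⟨a, ha, hwa, -⟩ := d.exists_split w hw
    have : w = a + (w - a) := (add_sub_cancel a w).symm
    rw [this, map_add, hall a ha, hall _ hwa, map_add]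
    module
  set α := af v₀
  set β := bf v₀
  -- A squared
  have hsq := hAA v₀
  rw [hAall, hAall, map_add, map_smul, map_smul, d.sq] at hsq
  have hv₀L : L v₀ ∉ Submodule.span F {v₀} := fun h => by
    obtain ⟨p, hp⟩ := Submodule.mem_span_singleton.1 h
    have h' := congrArg L hp
    rw [map_smul, d.sq, ← hp, smul_smul] at h'
    exact d.nonsq ⟨p, (smul_left_injective F hv₀0 h').symm⟩
  have h2ab : (2 * α * β) • L v₀ = (ν - α * α - β * β * ν) • v₀ := by
    linear_combination (norm := module) hsq
  have hab : 2 * α * β = 0 := by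
    by_contra hne
    exact hv₀L ((Submodule.smul_mem_iff _ hne).1
      (h2ab ▸ Submodule.smul_mem _ _ (Submodule.mem_span_singleton_self _)))
  rw [hab, zero_smul, eq_comm, smul_eq_zero] at h2ab
  have hnu := h2ab.resolve_right hv₀0
  rcases mul_eq_zero.1 hab with h | hβ
  swap
  · rw [hβ, mul_zero, zero_mul, sub_zero] at hnu
    exact absurd ⟨α, sub_eq_zero.1 hnu⟩ d.nonsq
  have hα : α = 0 := (mul_eq_zero.1 h).resolve_left d.two
  have hβ2 : β * β = 1 := by
    rw [hα] at hnu
    have : (β * β - 1) * ν = 0 := by linear_combination -hnu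
    exact sub_eq_zero.1 ((mul_eq_zero.1 this).resolve_right d.nu_ne)
  have hfin : ∀ w, L (g • w) = β • (g • L w) := fun w => by
    rw [← hA, hAall, hα, zero_smul, zero_add, smul_comm]
  rcases mul_self_eq_one_iff.1 hβ2 with e | e
  · exact Or.inl fun w => by rw [hfin, e, one_smul]
  · exact Or.inr fun w => by rw [hfin, e, neg_one_smul, neg_neg]

end SkewStr

end H49
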